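import Mathlib
import Cfsg.Agent.H9.PermLemmas

/-! A simplicity criterion from the sizes of the suborbits. -/

set_option autoImplicit false

namespace H10

open Finset MulAction H9

theorem ncard_invariant {X K : Type*} [DecidableEq K] {Ω : Set X} (hΩ : Ω.Finite) (κ : X → K)
    (I : Finset K) (n : K → ℕ) (hI : ∀ y ∈ Ω, κ y ∈ I)
    (hn : ∀ i ∈ I, {y | y ∈ Ω ∧ κ y = i}.ncard = n i) {Y : Set X} (hY : Y ⊆ Ω)
    (hcl : ∀ y ∈ Y, ∀ z ∈ Ω, κ y = κ z → z ∈ Y) :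
    ∃ S ⊆ I, Y.ncard = ∑ i ∈ S, n i ∧ ∀ y ∈ Ω, (y ∈ Y ↔ κ y ∈ S) := by
  classical
  have hYf : Y.Finite := hΩ.subset hY
  have hS : hYf.toFinset.image κ ⊆ I := by
    intro i hi
    obtain ⟨y, hy, rfl⟩ := mem_image.1 hi
    exact hI y (hY (hYf.mem_toFinset.1 hy))
  refine ⟨_, hS, ?_, fun y hy => ⟨fun h => mem_image.2 ⟨y, hYf.mem_toFinset.2 h, rfl⟩, fun h => ?_⟩⟩
  · rw [Set.ncard_eq_toFinset_card Y hYf, card_eq_sum_card_image κ]
    apply sum_congr rfl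
    intro i hi
    rw [← hn i (hS hi), ← Set.ncard_coe_finset]
    obtain ⟨y, hy, rfl⟩ := mem_image.1 hi
    congr 1
    ext z
    simp only [coe_filter, Set.Finite.mem_toFinset, Set.mem_ofPred_eq]
    exact ⟨fun h => ⟨hY h.1, h.2⟩, fun h => ⟨hcl y (hYf.mem_toFinset.1 hy) z h.1 h.2.symm, h.2⟩⟩
  · obtain ⟨z, hz, e⟩ := mem_image.1 h
    exact hcl z (hYf.mem_toFinset.1 hz) y hy e

theorem dvd_card_pow_eq_one {N : Type*} [Group N] [Finite N] {p : ℕ} (hp : p.Prime)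
    (h : p ∣ Nat.card N) : p ∣ Nat.card {x : N // x ^ p = 1} := by
  classical
  have := Fact.mk hp
  have := Fintype.ofFinite N
  obtain ⟨z, hz⟩ := exists_prime_orderOf_dvd_card' (G := N) p h
  have hzp : z ^ p = 1 := hz ▸ pow_orderOf_eq_one z
  let f : Function.End {x : N // x ^ p = 1} := fun x => ⟨z * x * z⁻¹, by
    rw [conj_pow, x.2]; simp⟩
  have hf : ∀ k x, ((f ^ k) x : N) = z ^ k * x * (z ^ k)⁻¹ := by
    intro k
    induction k with
    | zero => intro x; simp; rfl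
    | succ k ih =>
      intro x
      rw [pow_succ']
      change z * ((f ^ k) x : N) * z⁻¹ = _
      rw [ih, pow_succ']; group
  have h1 := Equiv.Perm.card_fixedPoints_modEq (f := f) (p := p) (n := 1) (by
    funext x
    apply Subtype.ext
    rw [pow_one, hf, hzp]; simp; rfl)
  have hc : ∀ x : f.fixedPoints, Commute z x.1.1 := fun x => by
    have : z * x.1.1 * z⁻¹ = x.1.1 := congrArg Subtype.val x.2
    exact mul_inv_eq_iff_eq_mul.1 this
  let g : Function.End f.fixedPoints := fun x => ⟨⟨z * x.1.1, by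
    rw [(hc x).mul_pow, hzp, x.1.2, one_mul]⟩, Subtype.ext (by
      change z * (z * x.1.1) * z⁻¹ = z * x.1.1
      rw [mul_assoc, (hc x).eq, mul_inv_cancel_right]
      exact (hc x).eq)⟩
  have hg : ∀ k x, ((g ^ k) x).1.1 = z ^ k * x.1.1 := by
    intro k
    induction k with
    | zero => intro x; simp; rfl
    | succ k ih =>
      intro x
      rw [pow_succ']
      change z * ((g ^ k) x).1.1 = _
      rw [ih, pow_succ', mul_assoc]
  have h2 := Equiv.Perm.card_fixedPoints_modEq (f := g) (p := p) (n := 1) (by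
    funext x
    apply Subtype.ext
    apply Subtype.ext
    rw [pow_one, hg, hzp, one_mul]; rfl)
  have h3 : Fintype.card g.fixedPoints = 0 := by
    rw [Fintype.card_eq_zero_iff]
    refine ⟨fun x => ?_⟩
    have : z * x.1.1.1 = x.1.1.1 := congrArg (fun y => y.1.1) x.2
    rw [mul_eq_right] at this
    rw [this, orderOf_one] at hz
    exact hp.ne_one hz.symm
  rw [h3] at h2
  rw [Nat.card_eq_fintype_card]
  exact (Nat.modEq_zero_iff_dvd).1 (h1.trans h2)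

theorem odd_card_pow_eq_one {N : Type*} [Group N] [Finite N] {p : ℕ} (hp : p % 2 = 1) :
    Nat.card {x : N // x ^ p = 1} % 2 = 1 := by
  classical
  have := Fintype.ofFinite N
  let f : Function.End {x : N // x ^ p = 1} := fun x => ⟨x⁻¹, by rw [inv_pow, x.2, inv_one]⟩
  have h1 := Equiv.Perm.card_fixedPoints_modEq (f := f) (p := 2) (n := 1) (by
    funext x
    apply Subtype.ext
    exact inv_inv x.1)
  have h3 : Fintype.card f.fixedPoints = 1 := by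
    rw [Fintype.card_eq_one_iff]
    refine ⟨⟨⟨1, one_pow p⟩, Subtype.ext inv_one⟩, fun x => Subtype.ext (Subtype.ext ?_)⟩
    have e : x.1.1⁻¹ = x.1.1 := congrArg Subtype.val x.2
    have e2 : x.1.1 ^ 2 = 1 := by rw [pow_two]; nth_rewrite 1 [← e]; exact inv_mul_cancel _
    have e3 : x.1.1 ^ (2 * (p / 2) + p % 2) = 1 := by rw [Nat.div_add_mod]; exact x.1.2
    rw [hp, pow_add, pow_mul, e2, one_pow, one_mul, pow_one] at e3
    exact e3
  rw [h3] at h1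
  rw [Nat.card_eq_fintype_card]
  exact h1

section

variable {G X K : Type*} [Group G] [Finite G] [MulAction G X] [DecidableEq K]

/-- a transitive set with a base point, divided into the orbits of the stabiliser. -/
structure Classes (G : Type*) {X K : Type*} [Group G] [MulAction G X] (Ω : Set X) (x : X)
    (κ : X → K) (I : Finset K) (n : K → ℕ) : Prop where
  mem : x ∈ Ω
  inv : ∀ g : G, ∀ y ∈ Ω, g • y ∈ Ω
  tr : ∀ y ∈ Ω, ∃ g : G, g • x = y
  hI : ∀ y ∈ Ω, κ y ∈ I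
  hn : ∀ i ∈ I, {y | y ∈ Ω ∧ κ y = i}.ncard = n i
  cl : ∀ y ∈ Ω, ∀ z ∈ Ω, κ y = κ z → ∃ g : G, g • x = x ∧ g • y = z

variable {Ω : Set X} {x : X} {κ : X → K} {I : Finset K} {n : K → ℕ}

omit [Finite G] [DecidableEq K] in
theorem Classes.orbit_eq (h : Classes G Ω x κ I n) : {y | ∃ g ∈ (⊤ : Subgroup G), g • x = y} = Ω := by
  ext y
  exact ⟨fun ⟨g, _, e⟩ => e ▸ h.inv g x h.mem, fun hy => (h.tr y hy).imp fun g e => ⟨trivial, e⟩⟩

omit [DecidableEq K] in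
theorem Classes.finite (h : Classes G Ω x κ I n) : Ω.Finite := by
  refine (Set.finite_range fun g : G => g • x).subset fun y hy => h.tr y hy

theorem Classes.sub_orbit (h : Classes G Ω x κ I n) (H : Subgroup G) (hH : stabilizer G x ≤ H) :
    ∃ S ⊆ I, (∑ i ∈ S, n i) ∣ Ω.ncard ∧ (∀ y ∈ Ω, (∃ a ∈ H, a • x = y) ↔ κ y ∈ S) ∧
      {y | ∃ a ∈ H, a • x = y}.ncard = ∑ i ∈ S, n i := by
  obtain ⟨S, h1, h2, h3⟩ := ncard_invariant h.finite κ I n h.hI h.hn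
    (Y := {y | ∃ a ∈ H, a • x = y}) (fun y ⟨a, _, e⟩ => e ▸ h.inv a x h.mem) (by
      rintro _ ⟨a, ha, rfl⟩ z hz e
      obtain ⟨g, hg, rfl⟩ := h.cl _ (h.inv a x h.mem) z hz e
      exact ⟨g * a, H.mul_mem (hH hg) ha, mul_smul _ _ _⟩)
  refine ⟨S, h1, ?_, h3, h2⟩
  have e1 := card_eq_orbit_mul H x
  have e2 := card_eq_orbit_mul (⊤ : Subgroup G) x
  rw [h.orbit_eq, top_inf_eq] at e2
  rw [inf_eq_right.2 hH, h2] at e1
  have := Subgroup.card_dvd_of_le (le_top : H ≤ ⊤)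
  rw [e1, e2] at this
  exact Nat.dvd_of_mul_dvd_mul_right Nat.card_pos this

theorem Classes.normal_orbit (h : Classes G Ω x κ I n) (N : Subgroup G) [hN : N.Normal] :
    ∃ S ⊆ I, (∑ i ∈ S, n i) ∣ Ω.ncard ∧ (∀ y ∈ Ω, (∃ a ∈ N, a • x = y) ↔ κ y ∈ S) ∧
      Nat.card N = (∑ i ∈ S, n i) * Nat.card ↥(N ⊓ stabilizer G x) := by
  obtain ⟨S, h1, h2, h3, h4⟩ := h.sub_orbit (N ⊔ stabilizer G x) le_sup_right
  have e : ∀ y, (∃ a ∈ N ⊔ stabilizer G x, a • x = y) ↔ ∃ a ∈ N, a • x = y := by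
    intro y
    constructor
    · rintro ⟨a, ha, rfl⟩
      obtain ⟨b, hb, c, hc, rfl⟩ := Subgroup.mem_sup_of_normal_left.1 ha
      exact ⟨b, hb, by rw [mul_smul, mem_stabilizer_iff.1 hc]⟩
    · rintro ⟨a, ha, rfl⟩
      exact ⟨a, Subgroup.mem_sup_left ha, rfl⟩
  simp only [e] at h3 h4
  exact ⟨S, h1, h2, h3, by rw [card_eq_orbit_mul N x, h4]⟩

theorem Classes.regular_pow (h : Classes G Ω x κ I n) (N : Subgroup G) [hN : N.Normal]
    (hb : N ⊓ stabilizer G x = ⊥) (p : ℕ) :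
    ∃ S ⊆ I, (∀ y ∈ Ω, (∃ a ∈ N, a ^ p = 1 ∧ a • x = y) ↔ κ y ∈ S) ∧
      Nat.card {a : N // a ^ p = 1} = ∑ i ∈ S, n i := by
  obtain ⟨S, h1, h2, h3⟩ := ncard_invariant h.finite κ I n h.hI h.hn
    (Y := {y | ∃ a ∈ N, a ^ p = 1 ∧ a • x = y}) (fun y ⟨a, _, _, e⟩ => e ▸ h.inv a x h.mem) (by
      rintro _ ⟨a, ha, hp, rfl⟩ z hz e
      obtain ⟨g, hg, rfl⟩ := h.cl _ (h.inv a x h.mem) z hz e
      refine ⟨g * a * g⁻¹, hN.conj_mem a ha g, by rw [conj_pow, hp]; simp, ?_⟩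
      rw [mul_smul, mul_smul, inv_smul_eq_iff.2 hg.symm])
  refine ⟨S, h1, h3, ?_⟩
  rw [← h2]
  apply Nat.card_congr
  refine Equiv.ofBijective (fun a => ⟨(a.1 : G) • x, a.1, a.1.2, congrArg Subtype.val a.2, rfl⟩)
    ⟨?_, ?_⟩
  · intro a b e
    have e' : (a.1 : G) • x = (b.1 : G) • x := congrArg Subtype.val e
    have : (b.1 : G)⁻¹ * a.1 ∈ N ⊓ stabilizer G x :=
      ⟨N.mul_mem (N.inv_mem b.1.2) a.1.2, by
        change _ • x = x
        rw [mul_smul, e', inv_smul_smul]⟩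
    rw [hb, Subgroup.mem_bot, inv_mul_eq_one] at this
    exact Subtype.ext (Subtype.ext this.symm)
  · rintro ⟨_, a, ha, hp, rfl⟩
    exact ⟨⟨⟨a, ha⟩, Subtype.ext hp⟩, rfl⟩

omit [Finite G] [DecidableEq K] in
theorem Classes.eq_base (h : Classes G Ω x κ I n) {y : X} (hy : y ∈ Ω) (e : κ y = κ x) : y = x := by
  obtain ⟨g, h1, h2⟩ := h.cl x h.mem y hy e.symm
  rw [← h2, h1]

omit [Finite G] [DecidableEq K] in
theorem normal_inf_stab (x : X) (hs : IsSimpleGroup (stabilizer G x)) (N : Subgroup G)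
    [hN : N.Normal] : N ⊓ stabilizer G x = ⊥ ∨ stabilizer G x ≤ N := by
  rcases hs.eq_bot_or_eq_top_of_normal (N.subgroupOf (stabilizer G x)) inferInstance with h | h
  · exact Or.inl (disjoint_iff.1 (Subgroup.subgroupOf_eq_bot.1 h))
  · exact Or.inr (Subgroup.subgroupOf_eq_top.1 h)

omit [Finite G] [DecidableEq K] in
theorem Classes.eq_top (h : Classes G Ω x κ I n) {N : Subgroup G} (h1 : stabilizer G x ≤ N)
    (h2 : ∀ y ∈ Ω, ∃ a ∈ N, a • x = y) : N = ⊤ := by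
  rw [eq_top_iff]
  exact le_of_orbit_of_stab le_top x (fun g _ => h2 _ (h.inv g x h.mem)) (inf_le_right.trans h1)

omit [Finite G] [DecidableEq K] in
theorem Classes.not_fix (h : Classes G Ω x κ I n) (hbig : ∃ i ∈ I, 1 < n i) :
    ∃ g ∈ stabilizer G x, ∃ y ∈ Ω, g • y ≠ y := by
  obtain ⟨i, hi, h1⟩ := hbig
  rw [← h.hn i hi] at h1
  obtain ⟨y, z, hy, hz, hne⟩ := (Set.one_lt_ncard_iff (Set.finite_of_ncard_pos (by omega))).1 h1
  obtain ⟨g, hg, e⟩ := h.cl y hy.1 z hz.1 (hy.2.trans hz.2.symm)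
  exact ⟨g, hg, y, hy.1, by rw [e]; exact hne.symm⟩

omit [Finite G] [DecidableEq K] in
theorem Classes.faithful (h : Classes G Ω x κ I n) (hs : IsSimpleGroup (stabilizer G x))
    (hbig : ∃ i ∈ I, 1 < n i) (g : G) (hg : ∀ y ∈ Ω, g • y = y) : g = 1 := by
  let N : Subgroup G :=
    { carrier := {g | ∀ y ∈ Ω, g • y = y}
      one_mem' := fun y _ => one_smul _ y
      mul_mem' := fun {a b} ha hb y hy => by rw [mul_smul, hb y hy, ha y hy]
      inv_mem' := fun {a} ha y hy => by rw [inv_smul_eq_iff, ha y hy] }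
  have : N.Normal := ⟨fun a ha g y hy => by
    rw [mul_smul, mul_smul, ha _ (h.inv _ y hy), smul_inv_smul]⟩
  rcases normal_inf_stab x hs N with hb | hb
  · have : g ∈ N ⊓ stabilizer G x := ⟨hg, hg x h.mem⟩
    rwa [hb] at this
  · obtain ⟨a, ha, y, hy, hne⟩ := h.not_fix hbig
    exact absurd (hb ha y hy) hne

theorem Classes.simple (h : Classes G Ω x κ I n) (hf : ∀ g : G, (∀ y ∈ Ω, g • y = y) → g = 1)
    (hs : IsSimpleGroup (stabilizer G x)) {c : K} (hc : κ x = c) {M p q : ℕ} (hM : Ω.ncard = M)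
    (hp : p.Prime) (hq : q.Prime) (hpq : p ≠ q) (hp2 : p % 2 = 1) (hpM : p ∣ M) (hqM : q ∣ M)
    (hpos : ∀ i ∈ I, n i ≠ 0) (hprim : ∀ S ∈ I.powerset, c ∈ S → (∑ i ∈ S, n i) ∣ M → S = {c} ∨ S = I)
    (hreg : ∀ S ∈ I.powerset, c ∈ S → p ∣ ∑ i ∈ S, n i → (∑ i ∈ S, n i) % 2 = 1 →
      ∀ T ∈ I.powerset, c ∈ T → q ∣ ∑ i ∈ T, n i → S ∩ T ≠ {c}) : IsSimpleGroup G := by
  have : Nontrivial G := by
    have : Nontrivial (stabilizer G x) := inferInstance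
    exact (stabilizer G x).subtype_injective.nontrivial
  refine ⟨fun N hN => ?_⟩
  obtain ⟨S, h1, h2, h3, h4⟩ := h.normal_orbit N
  have hcS : c ∈ S := hc ▸ (h3 x h.mem).1 ⟨1, N.one_mem, one_smul _ _⟩
  rcases hprim S (mem_powerset.2 h1) hcS (hM ▸ h2) with rfl | rfl
  · left
    rw [eq_bot_iff]
    intro a ha
    rw [Subgroup.mem_bot]
    apply hf
    intro y hy
    obtain ⟨g, rfl⟩ := h.tr y hy
    have := (h3 _ (h.inv _ x h.mem)).1 ⟨g⁻¹ * a * g, hN.conj_mem' a ha g, rfl⟩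
    have := h.eq_base (h.inv _ x h.mem) ((mem_singleton.1 this).trans hc.symm)
    rwa [mul_smul, mul_smul, inv_smul_eq_iff] at this
  · right
    have ht : ∀ y ∈ Ω, ∃ a ∈ N, a • x = y := fun y hy => (h3 y hy).2 (h.hI y hy)
    rcases normal_inf_stab x hs N with hb | hb
    · exfalso
      have hcard : Nat.card N = M := by
        rw [card_eq_orbit_mul N x, hb, Subgroup.card_bot, mul_one, ← hM]
        congr 1
        ext y
        exact ⟨fun ⟨a, _, e⟩ => e ▸ h.inv a x h.mem, ht y⟩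
      obtain ⟨A, a1, a2, a3⟩ := h.regular_pow N hb p
      obtain ⟨B, b1, b2, b3⟩ := h.regular_pow N hb q
      have hcA : c ∈ A := hc ▸ (a2 x h.mem).1 ⟨1, N.one_mem, one_pow _, one_smul _ _⟩
      have hcB : c ∈ B := hc ▸ (b2 x h.mem).1 ⟨1, N.one_mem, one_pow _, one_smul _ _⟩
      refine hreg A (mem_powerset.2 a1) hcA (a3 ▸ dvd_card_pow_eq_one hp (hcard ▸ hpM))
        (a3 ▸ odd_card_pow_eq_one hp2) B (mem_powerset.2 b1) hcB
        (b3 ▸ dvd_card_pow_eq_one hq (hcard ▸ hqM)) ?_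
      rw [Finset.eq_singleton_iff_unique_mem]
      refine ⟨mem_inter.2 ⟨hcA, hcB⟩, fun i hi => ?_⟩
      obtain ⟨hiA, hiB⟩ := mem_inter.1 hi
      obtain ⟨y, hy, rfl⟩ := Set.nonempty_of_ncard_ne_zero (h.hn i (a1 hiA) ▸ hpos i (a1 hiA))
      obtain ⟨a, ha, ha1, ha2⟩ := (a2 y hy).2 hiA
      obtain ⟨b, hb', hb1, hb2⟩ := (b2 y hy).2 hiB
      have : b⁻¹ * a ∈ N ⊓ stabilizer G x := ⟨N.mul_mem (N.inv_mem hb') ha, by
        change _ • x = x
        rw [mul_smul, ha2, ← hb2, inv_smul_smul]⟩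
      rw [hb, Subgroup.mem_bot, inv_mul_eq_one] at this
      subst this
      have : b = 1 := by
        rw [← orderOf_eq_one_iff]
        exact Nat.eq_one_of_dvd_coprimes ((Nat.coprime_primes hp hq).2 hpq)
          (orderOf_dvd_of_pow_eq_one ha1) (orderOf_dvd_of_pow_eq_one hb1)
      rw [← ha2, this, one_smul, hc]
    · exact h.eq_top hb ht

end

theorem Classes.of_subgroup {Γ X K : Type*} [Group Γ] [MulAction Γ X] (H : Subgroup Γ) {Ω : Set X}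
    {x : X} {κ : X → K} {I : Finset K} {n : K → ℕ} (mem : x ∈ Ω)
    (inv : ∀ g ∈ H, ∀ y ∈ Ω, g • y ∈ Ω) (tr : ∀ y ∈ Ω, ∃ g ∈ H, g • x = y)
    (hI : ∀ y ∈ Ω, κ y ∈ I) (hn : ∀ i ∈ I, {y | y ∈ Ω ∧ κ y = i}.ncard = n i)
    (cl : ∀ y ∈ Ω, ∀ z ∈ Ω, κ y = κ z → ∃ g ∈ H ⊓ stabilizer Γ x, g • y = z) :
    Classes H Ω x κ I n :=
  ⟨mem, fun g => inv g g.2, fun y hy => let ⟨g, hg, e⟩ := tr y hy; ⟨⟨g, hg⟩, e⟩, hI, hn,
    fun y hy z hz e => let ⟨g, hg, e⟩ := cl y hy z hz e; ⟨⟨g, hg.1⟩, hg.2, e⟩⟩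

theorem simple_stab_sub {Γ X : Type*} [Group Γ] [MulAction Γ X] (H : Subgroup Γ) (x : X)
    (hs : IsSimpleGroup ↥(H ⊓ stabilizer Γ x)) : IsSimpleGroup (stabilizer H x) := by
  obtain ⟨e⟩ := nonempty_equiv_of_conj (stabilizer H x) (H ⊓ stabilizer Γ x) inf_le_left 1
    H.one_mem (by intro y; simp [mem_stabilizer_iff]; rfl)
  exact e.isSimpleGroup

end H10
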