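import Mathlib
import Cfsg.Agent.H10.OrbData

/-! Orbits of the standard subgroups of `Co0` on the minimal vectors. -/

set_option autoImplicit false

namespace H10

open Cfsg Finset H9 MulAction

/-- all classes of the table are fused. -/
def fuseAll (gens : List (List ℕ)) (k : ℤ → ℤ → ℤ → ℕ → ℤ × ℤ × ℤ)
    (tab : List ((ℤ × ℤ × ℤ) × ℕ × List ℕ)) : Bool :=
  tab.all fun e => fuseChk gens (fun a b c s => decide (k a b c s = e.1)) e.2.1 reps e.2.2

theorem fuse_key {gens : List (List ℕ)} {H : Subgroup G0} (hg : CoIn gens H) (h22 : H22 ≤ H)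
    (k : ℤ → ℤ → ℤ → ℕ → ℤ × ℤ × ℤ) (tab : List ((ℤ × ℤ × ℤ) × ℕ × List ℕ))
    (h : fuseAll gens k tab = true) (x y : L) (hx : sqNorm (x : V) = 32)
    (hy : sqNorm (y : V) = 32) (hk : k (dU x) (dU' x) (dV x) (shp (x : V)) ∈ tab.map Prod.fst)
    (hxy : k (dU x) (dU' x) (dV x) (shp (x : V)) = k (dU y) (dU' y) (dV y) (shp (y : V))) :
    ∃ g ∈ H, g • x = y := by
  obtain ⟨e, he, h1⟩ := List.mem_map.1 hk
  exact fuse₂ hg h22 _ _ _ (List.all_eq_true.1 h e he) x y hx hy (decide_eq_true h1.symm)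
    (decide_eq_true (hxy.symm.trans h1.symm))

theorem isCo_gMc0 : isCo gMc0 = true := by decide +kernel
theorem isCo_gMc1 : isCo gMc1 = true := by decide +kernel
theorem isCo_gHs0 : isCo gHs0 = true := by decide +kernel
theorem isCo_gHs1 : isCo gHs1 = true := by decide +kernel
theorem isCo_gC0 : isCo gC0 = true := by decide +kernel
theorem isCo_gC1 : isCo gC1 = true := by decide +kernel
theorem isCo_gZ : isCo gZ = true := by decide +kernel
theorem isCo_gSw : isCo gSw = true := by decide +kernel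
theorem isCo_gP24 : isCo gP24 = true := by decide +kernel
theorem isCo_gEp : isCo gEp = true := by decide +kernel

/-- the stabiliser of `U`. -/
abbrev C2 : Subgroup G0 := stabilizer G0 vU
/-- the stabiliser of `V`. -/
abbrev C3 : Subgroup G0 := stabilizer G0 vV
/-- the stabiliser of `U` and `V`. -/
abbrev Mc : Subgroup G0 := stabilizer G0 vU ⊓ stabilizer G0 vV
/-- the stabiliser of `U'` and `V`. -/
abbrev Hs : Subgroup G0 := stabilizer G0 vU' ⊓ stabilizer G0 vV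

theorem H22_le_Mc : H22 ≤ Mc := fun _ h => ⟨h.1.1, h.2⟩
theorem H22_le_Hs : H22 ≤ Hs := fun _ h => ⟨h.1.2, h.2⟩
theorem H22_le_C2 : H22 ≤ C2 := fun _ h => h.1.1
theorem H22_le_C3 : H22 ≤ C3 := fun _ h => h.2

theorem gMc_in : CoIn [gMc0, gMc1] Mc :=
  .cons isCo_gMc0 ⟨coM_fixU isCo_gMc0 (by decide +kernel), coM_fixV isCo_gMc0 (by decide +kernel)⟩
    (.cons isCo_gMc1 ⟨coM_fixU isCo_gMc1 (by decide +kernel),
      coM_fixV isCo_gMc1 (by decide +kernel)⟩ .nil)

theorem gHs_in : CoIn [gHs0, gHs1] Hs :=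
  .cons isCo_gHs0 ⟨coM_fixU' isCo_gHs0 (by decide +kernel), coM_fixV isCo_gHs0 (by decide +kernel)⟩
    (.cons isCo_gHs1 ⟨coM_fixU' isCo_gHs1 (by decide +kernel),
      coM_fixV isCo_gHs1 (by decide +kernel)⟩ .nil)

theorem gC_in : CoIn [gC0, gC1] C2 :=
  .cons isCo_gC0 (coM_fixU isCo_gC0 (by decide +kernel))
    (.cons isCo_gC1 (coM_fixU isCo_gC1 (by decide +kernel)) .nil)

/-- code of `8 e_i`. -/
def cE (k : ℕ) : ℕ := mkV fun i => cond (Nat.beq i k) 24 16

theorem e8_eq (p : GolayPt) : (e8 p : V) = vc (cE (ix p)) := by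
  funext q
  simp only [e8_coe, Pi.single_apply]
  revert p q; decide +kernel

theorem coM_mem_N0 {M : List ℕ} (h : isCo M = true) (a b : GolayPt)
    (e : app M (cE (ix a)) = cE (ix b)) : coM M ∈ N0 :=
  mem_N0_of_fix_e8 (coM_map h (e8_eq a) (e8_eq b) (by rw [e8_coe, sqNorm_single]; norm_num) e)

theorem gEp_N0 : coM gEp ∈ N0 := coM_mem_N0 isCo_gEp none none (by decide +kernel)

theorem gP24_N0 : coM gP24 ∈ N0 := by
  have : ∃ k < 24, app gP24 (cE 23) = cE k := by decide +kernel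
  obtain ⟨k, hk, e⟩ := this
  exact coM_mem_N0 isCo_gP24 none (pt k) (by rw [ix_pt hk]; exact e)

theorem gSw_N0 : coM gSw ∈ N0 := coM_mem_N0 isCo_gSw none (some 0) (by decide +kernel)

theorem fuse_M22 : fuseAll gM (fun a b c _ => (a, b, c)) fM22 = true := by decide +kernel
theorem fuse_Mc : fuseAll (gM ++ [gMc0, gMc1]) (fun a _ c _ => (a, c, 0)) fMc = true := by
  decide +kernel
theorem fuse_Hs : fuseAll (gM ++ [gHs0, gHs1]) (fun _ b c _ => (b, c, 0)) fHs = true := by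
  decide +kernel
theorem fuse_C2 : fuseAll (gM ++ [gC0, gC1]) (fun a _ _ _ => (a, 0, 0)) fC2 = true := by
  decide +kernel
theorem fuse_C3 : fuseAll (gM ++ ([gMc0, gMc1] ++ [gHs0, gHs1])) (fun _ _ c _ => (c, 0, 0)) fC3 =
    true := by decide +kernel
theorem fuse_C0 : fuseAll (gM ++ ([gC0, gC1] ++ [gZ])) (fun _ _ _ _ => (0, 0, 0)) fC0 = true := by
  decide +kernel
theorem fuse_N0 : fuseAll (gM ++ [gP24, gEp]) (fun _ _ _ s => (s, 0, 0)) fN0 = true := by
  decide +kernel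
theorem fuse_NU : fuseAll (gM ++ [gSw, gEp]) (fun a b _ s => (a, (b.natAbs : ℤ), s)) fNU = true := by
  decide +kernel

theorem tr_M22 (x y : L) (hx : sqNorm (x : V) = 32) (hy : sqNorm (y : V) = 32)
    (hk : (dU x, dU' x, dV x) ∈ fM22.map Prod.fst) (h1 : dU x = dU y) (h2 : dU' x = dU' y)
    (h3 : dV x = dV y) : ∃ g ∈ H22, g • x = y :=
  fuse_key gM_in le_rfl _ _ fuse_M22 x y hx hy hk (by simp only [h1, h2, h3])

theorem tr_Mc (x y : L) (hx : sqNorm (x : V) = 32) (hy : sqNorm (y : V) = 32)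
    (h1 : dU x = dU y) (h3 : dV x = dV y) : ∃ g ∈ Mc, g • x = y :=
  fuse_key ((gM_in.mono H22_le_Mc).append gMc_in) H22_le_Mc _ _ fuse_Mc x y hx hy
    (forall_min (fun a _ c _ => (a, c, (0 : ℤ)) ∈ fMc.map Prod.fst) (by decide +kernel) x hx)
    (by simp only [h1, h3])

theorem tr_Hs (x y : L) (hx : sqNorm (x : V) = 32) (hy : sqNorm (y : V) = 32)
    (h0 : dU' x ≠ 0 ∨ dV x ≠ 0) (h2 : dU' x = dU' y) (h3 : dV x = dV y) : ∃ g ∈ Hs, g • x = y :=
  fuse_key ((gM_in.mono H22_le_Hs).append gHs_in) H22_le_Hs _ _ fuse_Hs x y hx hy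
    (forall_min (fun _ b c _ => (b ≠ 0 ∨ c ≠ 0) → (b, c, (0 : ℤ)) ∈ fHs.map Prod.fst)
      (by decide +kernel) x hx h0)
    (by simp only [h2, h3])

theorem tr_C2 (x y : L) (hx : sqNorm (x : V) = 32) (hy : sqNorm (y : V) = 32)
    (h1 : dU x = dU y) : ∃ g ∈ C2, g • x = y :=
  fuse_key ((gM_in.mono H22_le_C2).append gC_in) H22_le_C2 _ _ fuse_C2 x y hx hy
    (forall_min (fun a _ _ _ => (a, (0 : ℤ), (0 : ℤ)) ∈ fC2.map Prod.fst) (by decide +kernel) x hx)
    (by simp only [h1])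

theorem tr_C3 (x y : L) (hx : sqNorm (x : V) = 32) (hy : sqNorm (y : V) = 32)
    (h3 : dV x = dV y) : ∃ g ∈ C3, g • x = y :=
  fuse_key ((gM_in.mono H22_le_C3).append ((gMc_in.mono inf_le_right).append
      (gHs_in.mono inf_le_right))) H22_le_C3 _ _ fuse_C3 x y hx hy
    (forall_min (fun _ _ c _ => (c, (0 : ℤ), (0 : ℤ)) ∈ fC3.map Prod.fst) (by decide +kernel) x hx)
    (by simp only [h3])

theorem tr_C0 (x y : L) (hx : sqNorm (x : V) = 32) (hy : sqNorm (y : V) = 32) :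
    ∃ g : G0, g • x = y := by
  obtain ⟨g, -, h⟩ := fuse_key ((gM_in.mono le_top).append ((gC_in.mono le_top).append
      (.cons isCo_gZ trivial .nil))) le_top _ _ fuse_C0 x y hx hy (by decide +kernel) rfl
  exact ⟨g, h⟩

theorem tr_N0 (x y : L) (hx : sqNorm (x : V) = 32) (hy : sqNorm (y : V) = 32)
    (h : shp (x : V) = shp (y : V)) : ∃ g ∈ N0, g • x = y :=
  fuse_key ((gM_in.mono H22_le_N0).append (.cons isCo_gP24 gP24_N0 (.cons isCo_gEp gEp_N0 .nil)))
    H22_le_N0 _ _ fuse_N0 x y hx hy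
    (forall_min (fun _ _ _ s => ((s : ℤ), (0 : ℤ), (0 : ℤ)) ∈ fN0.map Prod.fst)
      (by decide +kernel) x hx)
    (by simp only [h])

theorem tr_NU (x y : L) (hx : sqNorm (x : V) = 32) (hy : sqNorm (y : V) = 32)
    (h1 : dU x = dU y) (h2 : (dU' x).natAbs = (dU' y).natAbs)
    (h : shp (x : V) = shp (y : V)) : ∃ g ∈ N0 ⊓ C2, g • x = y :=
  fuse_key ((gM_in.mono (le_inf H22_le_N0 H22_le_C2)).append
      (.cons isCo_gSw ⟨gSw_N0, coM_fixU isCo_gSw (by decide +kernel)⟩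
        (.cons isCo_gEp ⟨gEp_N0, coM_fixU isCo_gEp (by decide +kernel)⟩ .nil)))
    (le_inf H22_le_N0 H22_le_C2) _ _ fuse_NU x y hx hy
    (forall_min (fun a b _ s => (a, (b.natAbs : ℤ), (s : ℤ)) ∈ fNU.map Prod.fst)
      (by decide +kernel) x hx)
    (by simp only [h, h1, h2])

/-! ### Orders -/

theorem card_of_class (G : Subgroup G0) (x : L) (S : Set L) {n : ℕ} (hn : S.ncard = n)
    (h1 : ∀ g ∈ G, g • x ∈ S) (h2 : ∀ y ∈ S, ∃ g ∈ G, g • x = y) :
    Nat.card G = n * Nat.card ↥(G ⊓ stabilizer G0 x) := by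
  rw [card_eq_orbit_mul G x, ← hn]
  congr 2
  ext y
  exact ⟨fun ⟨g, hg, e⟩ => e ▸ h1 g hg, h2 y⟩

theorem dU_vU : dU vU = 32 := by decide +kernel
theorem dU_vU' : dU vU' = 0 := by decide +kernel
theorem dU'_vU : dU' vU = 0 := by decide +kernel
theorem dU'_vU' : dU' vU' = 32 := by decide +kernel
theorem dV_vU : dV vU = -24 := by decide +kernel
theorem dV_vU' : dV vU' = -16 := by decide +kernel

theorem card_C2 : Nat.card C2 = 42305421312000 := by
  rw [card_of_class C2 vU' {y | sqNorm (y : V) = 32 ∧ dU y = 0} (n := 93150)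
    (ncard_of_P _ (fun a _ _ => decide (a = 0)) (by decide +kernel) (by simp))
    (fun g hg => ⟨(co_norm g _).trans norm_vU', (dot_of_fix hg _).trans dU_vU'⟩)
    (fun y hy => tr_C2 _ _ norm_vU' hy.1 (dU_vU'.trans hy.2.symm)), card_stab_UU']

theorem card_G0 : Nat.card G0 = 8315553613086720000 := by
  rw [← Subgroup.card_top, card_of_class ⊤ vU {y | sqNorm (y : V) = 32} ncardL_32
    (fun g _ => (co_norm g _).trans norm_vU)
    (fun y hy => (tr_C0 _ _ norm_vU hy).imp fun g hg => ⟨trivial, hg⟩), top_inf_eq, card_C2]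

theorem Mc_inf : Mc ⊓ stabilizer G0 vU' = H22 := by
  rw [H22, inf_right_comm]

theorem Hs_inf : Hs ⊓ stabilizer G0 vU = H22 := by
  rw [H22, inf_comm, inf_assoc]

theorem card_Mc : Nat.card Mc = 898128000 := by
  rw [card_of_class Mc vU' {y | sqNorm (y : V) = 32 ∧ dU y = 0 ∧ dV y = -16} (n := 2025)
    (ncard_of_P _ (fun a _ c => decide (a = 0 ∧ c = -16)) (by decide +kernel) (by simp))
    (fun g hg => ⟨(co_norm g _).trans norm_vU', (dot_of_fix hg.1 _).trans dU_vU',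
      (dot_of_fix hg.2 _).trans dV_vU'⟩)
    (fun y hy => tr_Mc _ _ norm_vU' hy.1 (dU_vU'.trans hy.2.1.symm) (dV_vU'.trans hy.2.2.symm)),
    Mc_inf, card_H22]

theorem card_Hs : Nat.card Hs = 44352000 := by
  rw [card_of_class Hs vU {y | sqNorm (y : V) = 32 ∧ dU' y = 0 ∧ dV y = -24} (n := 100)
    (ncard_of_P _ (fun _ b c => decide (b = 0 ∧ c = -24)) (by decide +kernel) (by simp))
    (fun g hg => ⟨(co_norm g _).trans norm_vU, (dot_of_fix hg.1 _).trans dU'_vU,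
      (dot_of_fix hg.2 _).trans dV_vU⟩)
    (fun y hy => tr_Hs _ _ norm_vU hy.1 (Or.inr (by rw [dV_vU]; norm_num))
      (dU'_vU.trans hy.2.1.symm) (dV_vU.trans hy.2.2.symm)),
    Hs_inf, card_H22]

theorem card_C3 : Nat.card C3 = 495766656000 := by
  rw [card_of_class C3 vU {y | sqNorm (y : V) = 32 ∧ dV y = -24} (n := 552)
    (ncard_of_P _ (fun _ _ c => decide (c = -24)) (by decide +kernel) (by simp))
    (fun g hg => ⟨(co_norm g _).trans norm_vU, (dot_of_fix hg _).trans dV_vU⟩)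
    (fun y hy => tr_C3 _ _ norm_vU hy.1 (dV_vU.trans hy.2.symm)), inf_comm, card_Mc]

theorem tr_48 (x : L) (hx : sqNorm (x : V) = 48) : ∃ g : G0, g • vV = x := by
  have h := card_eq_orbit_mul (⊤ : Subgroup G0) vV
  rw [Subgroup.card_top, card_G0, top_inf_eq, card_C3] at h
  have h2 : {y | ∃ g ∈ (⊤ : Subgroup G0), g • vV = y} = {y : L | sqNorm (y : V) = 48} := by
    apply Set.eq_of_subset_of_ncard_le _ _ (finite_normL 48)
    · rintro _ ⟨g, -, rfl⟩
      exact (co_norm g _).trans norm_vV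
    · rw [ncardL_48]
      generalize {y | ∃ g ∈ (⊤ : Subgroup G0), g • vV = y}.ncard = n at h
      omega
  obtain ⟨g, -, e⟩ := (Set.ext_iff.1 h2 x).2 hx
  exact ⟨g, e⟩

end H10
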