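import Mathlib
import Cfsg.Agent.H10.Orb

/-! Standard configurations of short vectors and transport of structure along `Co0`. -/

set_option autoImplicit false

namespace H10

open Cfsg Finset H9 MulAction

theorem eq_of_dot32 {x y : L} (hx : sqNorm (x : V) = 32) (hy : sqNorm (y : V) = 32)
    (h : dotInt (x : V) (y : V) = 32) : x = y := by
  have : sqNorm ((x : V) - (y : V)) = 0 := by rw [sqNorm_sub, hx, hy, h]; norm_num
  exact Subtype.ext (sub_eq_zero.1 (sqNorm_eq_zero this))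

/-- `-(U + V)`. -/
def w0 : L := -(vU + vV)
/-- `-(V + U')`. -/
def w1 : L := -(vV + vU')

theorem dot_w0 (y : L) : dotInt (w0 : V) (y : V) = -dU y - dV y := by
  rw [w0, AddSubgroup.coe_neg, AddSubgroup.coe_add, dot_neg_left, dot_add_left]; ring

theorem dot_w1 (y : L) : dotInt (w1 : V) (y : V) = -dV y - dU' y := by
  rw [w1, AddSubgroup.coe_neg, AddSubgroup.coe_add, dot_neg_left, dot_add_left]; ring

theorem dot_negL (x y : L) : dotInt ((-x : L) : V) (y : V) = -dotInt (x : V) (y : V) := by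
  rw [AddSubgroup.coe_neg, dot_neg_left]

theorem dot_negR (x y : L) : dotInt (x : V) ((-y : L) : V) = -dotInt (x : V) (y : V) := by
  rw [AddSubgroup.coe_neg, dot_neg_right]

theorem norm_negL (x : L) : sqNorm ((-x : L) : V) = sqNorm (x : V) := by
  rw [AddSubgroup.coe_neg, sqNorm_neg]

theorem norm_negV_sub (y : L) :
    sqNorm (((-vV : L) : V) - (y : V)) = 48 + sqNorm (y : V) + 2 * dV y := by
  rw [sqNorm_sub, norm_negL, norm_vV, dot_negL]; ring

theorem norm_w0 : sqNorm (w0 : V) = 32 := by decide +kernel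
theorem norm_w1 : sqNorm (w1 : V) = 48 := by decide +kernel
theorem dU_w0 : dU w0 = -8 := by decide +kernel
theorem dV_w0 : dV w0 = -24 := by decide +kernel
theorem dU'_w0 : dU' w0 = 16 := by decide +kernel

theorem fix_w0 {g : G0} (h1 : g • vU = vU) : g • w0 = w0 ↔ g • vV = vV := by
  rw [w0, co_neg, co_add, h1, neg_inj, add_right_inj]

theorem fix_w1 {g : G0} (h1 : g • vV = vV) : g • w1 = w1 ↔ g • vU' = vU' := by
  rw [w1, co_neg, co_add, h1, neg_inj, add_right_inj]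

theorem fix_neg {g : G0} {x : L} : g • (-x) = -x ↔ g • x = x := by rw [co_neg, neg_inj]

theorem conj_smul (g h : G0) (a : L) : (g * h * g⁻¹) • (g • a) = g • (h • a) := by
  rw [mul_smul, inv_smul_smul, mul_smul]

theorem conj_fix (g : G0) {h : G0} {a b : L} (e : h • a = b) : (g * h * g⁻¹) • (g • a) = g • b := by
  rw [conj_smul, e]

theorem conj_fix_iff (g h : G0) (a : L) : (g * h * g⁻¹) • (g • a) = g • a ↔ h • a = a := by
  rw [conj_smul, smul_left_cancel_iff]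

theorem ncard_transport (g : G0) (S T : Set L) (h : ∀ x, g • x ∈ T ↔ x ∈ S) :
    T.ncard = S.ncard := by
  rw [← Set.ncard_image_of_injective S (MulAction.injective g)]
  congr 1
  ext y
  obtain ⟨x, rfl⟩ := MulAction.surjective g y
  simp only [h, (MulAction.injective g).mem_set_image]

theorem orbit_eq_of (H : Subgroup G0) (y : L) (S : Set L) (h1 : ∀ g ∈ H, g • y ∈ S)
    (h2 : ∀ z ∈ S, ∃ g ∈ H, g • y = z) : orbit H y = S := by
  ext z
  exact ⟨fun ⟨g, e⟩ => e ▸ h1 g g.2, fun hz => let ⟨g, hg, e⟩ := h2 z hz; ⟨⟨g, hg⟩, e⟩⟩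

theorem mem_orbit_transport (g : G0) (H K : Subgroup G0) (h : ∀ a, g * a * g⁻¹ ∈ K ↔ a ∈ H)
    (y z : L) : g • z ∈ orbit K (g • y) ↔ z ∈ orbit H y := by
  constructor
  · rintro ⟨⟨k, hk⟩, e⟩
    refine ⟨⟨g⁻¹ * k * g, (h _).1 (by simpa [mul_assoc] using hk)⟩, ?_⟩
    change k • g • y = g • z at e
    change (g⁻¹ * k * g) • y = z
    rw [mul_smul, mul_smul, e, inv_smul_smul]
  · rintro ⟨⟨k, hk⟩, e⟩
    exact ⟨⟨_, (h k).2 hk⟩, conj_fix g e⟩

theorem equiv_transport (g : G0) (H K : Subgroup G0) (h : ∀ a, g * a * g⁻¹ ∈ K ↔ a ∈ H) :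
    Nonempty (H ≃* K) := by
  have : K = H.map (MulAut.conj g).toMonoidHom := by
    ext k
    rw [Subgroup.mem_map]
    constructor
    · intro hk
      exact ⟨g⁻¹ * k * g, (h _).1 (by simpa [mul_assoc] using hk), by simp [mul_assoc]⟩
    · rintro ⟨a, ha, rfl⟩
      exact (h a).2 ha
  rw [this]
  exact ⟨(MulAut.conj g).subgroupMap H⟩

theorem std32 (v : L) (hv : sqNorm (v : V) = 32) : ∃ g : G0, g • vU = v := tr_C0 _ _ norm_vU hv

theorem std48' (u : L) (hu : sqNorm (u : V) = 48) : ∃ g : G0, g • (-vV) = u := by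
  obtain ⟨g, rfl⟩ := tr_48 u hu
  exact ⟨g * neg1, by rw [mul_smul, neg1_smul, neg_neg]⟩

theorem std_pair {a b v w : L} (hb : sqNorm (b : V) = 32) (hw : sqNorm (w : V) = 32)
    (hv : ∃ g : G0, g • a = v) (hd : dotInt (a : V) (b : V) = dotInt (v : V) (w : V))
    (ht : ∀ y : L, sqNorm (y : V) = 32 → dotInt (a : V) (b : V) = dotInt (a : V) (y : V) →
      ∃ g ∈ stabilizer G0 a, g • b = y) : ∃ g : G0, g • a = v ∧ g • b = w := by
  obtain ⟨g, rfl⟩ := hv
  obtain ⟨y, rfl⟩ := MulAction.surjective g w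
  simp only [co_norm, co_dot] at hw hd
  obtain ⟨h, hh, e⟩ := ht y hw hd
  exact ⟨g * h, by rw [mul_smul, hh], by rw [mul_smul, e]⟩

theorem std_Uy {b v w : L} (hb : sqNorm (b : V) = 32) (hv : sqNorm (v : V) = 32)
    (hw : sqNorm (w : V) = 32) (hd : dU b = dotInt (v : V) (w : V)) :
    ∃ g : G0, g • vU = v ∧ g • b = w :=
  std_pair hb hw (std32 v hv) hd fun y hy e => tr_C2 _ _ hb hy e

theorem std_Vy {b v w : L} (hb : sqNorm (b : V) = 32) (hv : sqNorm (v : V) = 48)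
    (hw : sqNorm (w : V) = 32) (hd : dV b = dotInt (v : V) (w : V)) :
    ∃ g : G0, g • vV = v ∧ g • b = w :=
  std_pair hb hw (tr_48 v hv) hd fun y hy e => tr_C3 _ _ hb hy e

theorem std_McL {v w : L} (hv : sqNorm (v : V) = 32) (hw : sqNorm (w : V) = 32)
    (hd : dotInt (v : V) (w : V) = -8) : ∃ g : G0, g • vU = v ∧ g • w0 = w :=
  std_Uy norm_w0 hv hw (dU_w0.trans hd.symm)

theorem std_McL' {u v : L} (hu : sqNorm (u : V) = 48) (hv : sqNorm (v : V) = 32)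
    (hd : sqNorm ((u : V) - (v : V)) = 32) : ∃ g : G0, g • (-vV) = u ∧ g • vU = v := by
  obtain ⟨g, h1, h2⟩ := std_Vy (v := -u) norm_vU (by rwa [norm_negL]) hv (by
    rw [sqNorm_sub, hu, hv] at hd
    rw [dV_vU, dot_negL]; omega)
  exact ⟨g, by rw [co_neg, h1, neg_neg], h2⟩

theorem std_HS {v w : L} (hv : sqNorm (v : V) = 48) (hw : sqNorm (w : V) = 48)
    (hd : dotInt (v : V) (w : V) = -32) : ∃ g : G0, g • vV = v ∧ g • w1 = w := by
  obtain ⟨g, h1, h2⟩ := std_Vy (w := -(v + w)) norm_vU' hv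
    (by rw [norm_negL, AddSubgroup.coe_add, sqNorm_add, hv, hw, hd]; norm_num)
    (by rw [dV_vU', dot_negR, AddSubgroup.coe_add, dot_add_right, dot_self, hv, hd]; norm_num)
  exact ⟨g, h1, by rw [w1, co_neg, co_add, h1, h2]; abel⟩

theorem std_third {a b c v w x : L} (hx : sqNorm (x : V) = 32)
    (hv : ∃ g : G0, g • a = v ∧ g • b = w)
    (hd : dotInt (a : V) (c : V) = dotInt (v : V) (x : V))
    (hd' : dotInt (b : V) (c : V) = dotInt (w : V) (x : V))
    (ht : ∀ y : L, sqNorm (y : V) = 32 → dotInt (a : V) (c : V) = dotInt (a : V) (y : V) →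
      dotInt (b : V) (c : V) = dotInt (b : V) (y : V) →
      ∃ g : G0, g • a = a ∧ g • b = b ∧ g • c = y) :
    ∃ g : G0, g • a = v ∧ g • b = w ∧ g • c = x := by
  obtain ⟨g, rfl, rfl⟩ := hv
  obtain ⟨y, rfl⟩ := MulAction.surjective g x
  simp only [co_norm, co_dot] at hx hd hd'
  obtain ⟨h, h1, h2, e⟩ := ht y hx hd hd'
  exact ⟨g * h, by rw [mul_smul, h1], by rw [mul_smul, h2], by rw [mul_smul, e]⟩

/-- transitivity of the stabiliser of `U` and `w0`. -/
theorem tr_Uw0 (x y : L) (hx : sqNorm (x : V) = 32) (hy : sqNorm (y : V) = 32)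
    (h1 : dU x = dU y) (h2 : dotInt (w0 : V) (x : V) = dotInt (w0 : V) (y : V)) :
    ∃ g : G0, g • vU = vU ∧ g • w0 = w0 ∧ g • x = y := by
  rw [dot_w0, dot_w0] at h2
  obtain ⟨g, hg, e⟩ := tr_Mc x y hx hy h1 (by omega)
  exact ⟨g, hg.1, (fix_w0 hg.1).2 hg.2, e⟩

/-- transitivity of the stabiliser of `V` and `w1`. -/
theorem tr_Vw1 (x y : L) (hx : sqNorm (x : V) = 32) (hy : sqNorm (y : V) = 32) (h0 : dV x ≠ 0)
    (h1 : dV x = dV y) (h2 : dotInt (w1 : V) (x : V) = dotInt (w1 : V) (y : V)) :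
    ∃ g : G0, g • vV = vV ∧ g • w1 = w1 ∧ g • x = y := by
  rw [dot_w1, dot_w1] at h2
  obtain ⟨g, hg, e⟩ := tr_Hs x y hx hy (Or.inr h0) (by omega) h1
  exact ⟨g, hg.2, (fix_w1 hg.2).2 hg.1, e⟩

/-- a minimal vector with prescribed invariants exists if the class is not empty. -/
theorem exists_of_cnt (P : ℤ → ℤ → ℤ → Bool) (h : cntP P ≠ 0) :
    ∃ x : L, sqNorm (x : V) = 32 ∧ P (dU x) (dU' x) (dV x) = true := by
  rw [← ncard_P] at h
  exact Set.nonempty_of_ncard_ne_zero h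

theorem exists_ty (a b c : ℤ) (h : cntP (fun a' b' c' => decide (a' = a ∧ b' = b ∧ c' = c)) ≠ 0) :
    ∃ x : L, sqNorm (x : V) = 32 ∧ dU x = a ∧ dU' x = b ∧ dV x = c := by
  obtain ⟨x, h1, h2⟩ := exists_of_cnt _ h
  exact ⟨x, h1, of_decide_eq_true h2⟩

/-- an orbit of `M22` which is a full class. -/
theorem orbit_M22 (H : Subgroup G0) (hH : ∀ g, g ∈ H ↔ g ∈ H22) {y : L} (hy : sqNorm (y : V) = 32)
    (hk : (dU y, dU' y, dV y) ∈ fM22.map Prod.fst) :
    orbit H y = {z : L | sqNorm (z : V) = 32 ∧ dU z = dU y ∧ dU' z = dU' y ∧ dV z = dV y} := by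
  apply orbit_eq_of
  · intro g hg
    obtain ⟨h1, h2, h3⟩ := mem_H22.1 ((hH g).1 hg)
    exact ⟨(co_norm g y).trans hy, dot_of_fix h1 y, dot_of_fix h2 y, dot_of_fix h3 y⟩
  · rintro z ⟨hz, h1, h2, h3⟩
    obtain ⟨g, hg, e⟩ := tr_M22 y z hy hz hk h1.symm h2.symm h3.symm
    exact ⟨g, (hH g).2 hg, e⟩

/-- an orbit of `HS` which is a full class. -/
theorem orbit_Hs (H : Subgroup G0) (hH : ∀ g, g ∈ H ↔ g ∈ Hs) {y : L} (hy : sqNorm (y : V) = 32)
    (hk : dV y ≠ 0) :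
    orbit H y = {z : L | sqNorm (z : V) = 32 ∧ dU' z = dU' y ∧ dV z = dV y} := by
  apply orbit_eq_of
  · intro g hg
    obtain ⟨h1, h2⟩ := (hH g).1 hg
    exact ⟨(co_norm g y).trans hy, dot_of_fix h1 y, dot_of_fix h2 y⟩
  · rintro z ⟨hz, h1, h2⟩
    obtain ⟨g, hg, e⟩ := tr_Hs y z hy hz (Or.inr hk) h1.symm h2.symm
    exact ⟨g, (hH g).2 hg, e⟩

end H10
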