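import Mathlib
import Cfsg.Agent.H10.Std
import Cfsg.Agent.H10.Simple

/-! Simplicity of `HS`, `McL`, `Co3`, `Co2`, the centre of `Co0` and simplicity of `Co1`. -/

set_option autoImplicit false

namespace H10

open Cfsg Finset H9 MulAction

/-- sizes given by an association list. -/
def szL (l : List (ℤ × ℕ)) (i : ℤ) : ℕ := (l.lookup i).getD 0

theorem classes_Hs : Classes Hs {y : L | sqNorm (y : V) = 32 ∧ dU' y = 0 ∧ dV y = -24} vU dU
    {32, 16, 8} (szL [(32, 1), (16, 77), (8, 22)]) := by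
  have key := forall_min (fun a b c _ => b = 0 → c = -24 →
    a ∈ ({32, 16, 8} : Finset ℤ) ∧ (a, b, c) ∈ fM22.map Prod.fst) (by decide +kernel)
  refine Classes.of_subgroup Hs ⟨norm_vU, dU'_vU, dV_vU⟩
    (fun g hg y hy => ⟨(co_norm g _).trans hy.1, (dot_of_fix hg.1 _).trans hy.2.1,
      (dot_of_fix hg.2 _).trans hy.2.2⟩)
    (fun y hy => tr_Hs _ _ norm_vU hy.1 (Or.inr (by rw [dV_vU]; norm_num))
      (dU'_vU.trans hy.2.1.symm) (dV_vU.trans hy.2.2.symm))
    (fun y hy => (key y hy.1 hy.2.1 hy.2.2).1) (fun i hi => ?_) (fun y hy z hz e => ?_)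
  · refine ncard_of_P _ (fun a b c => decide ((b = 0 ∧ c = -24) ∧ a = i)) ?_ (by simp [and_assoc])
    revert i; decide +kernel
  · rw [Hs_inf]
    exact tr_M22 y z hy.1 hz.1 (key y hy.1 hy.2.1 hy.2.2).2 e (hy.2.1.trans hz.2.1.symm)
      (hy.2.2.trans hz.2.2.symm)

theorem simple_Hs : IsSimpleGroup Hs := by
  have hs := simple_stab_sub Hs vU (Hs_inf ▸ simple_H22)
  exact classes_Hs.simple (classes_Hs.faithful hs (by decide)) hs dU_vU (M := 100) (p := 5) (q := 2)
    (ncard_of_P _ (fun _ b c => decide (b = 0 ∧ c = -24)) (by decide +kernel) (by simp))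
    (by norm_num) (by norm_num) (by norm_num) (by norm_num) (by norm_num) (by norm_num)
    (by decide) (by decide +kernel) (by decide +kernel)

theorem classes_Mc : Classes Mc {y : L | sqNorm (y : V) = 32 ∧ dU y = 0 ∧ dV y = -16} vU' dU'
    {32, 16, 8, 0} (szL [(32, 1), (16, 462), (8, 1232), (0, 330)]) := by
  have key := forall_min (fun a b c _ => a = 0 → c = -16 →
    b ∈ ({32, 16, 8, 0} : Finset ℤ) ∧ (a, b, c) ∈ fM22.map Prod.fst) (by decide +kernel)
  refine Classes.of_subgroup Mc ⟨norm_vU', dU_vU', dV_vU'⟩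
    (fun g hg y hy => ⟨(co_norm g _).trans hy.1, (dot_of_fix hg.1 _).trans hy.2.1,
      (dot_of_fix hg.2 _).trans hy.2.2⟩)
    (fun y hy => tr_Mc _ _ norm_vU' hy.1 (dU_vU'.trans hy.2.1.symm) (dV_vU'.trans hy.2.2.symm))
    (fun y hy => (key y hy.1 hy.2.1 hy.2.2).1) (fun i hi => ?_) (fun y hy z hz e => ?_)
  · refine ncard_of_P _ (fun a b c => decide ((a = 0 ∧ c = -16) ∧ b = i)) ?_ (by simp [and_assoc])
    revert i; decide +kernel
  · rw [Mc_inf]
    exact tr_M22 y z hy.1 hz.1 (key y hy.1 hy.2.1 hy.2.2).2 (hy.2.1.trans hz.2.1.symm) e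
      (hy.2.2.trans hz.2.2.symm)

theorem simple_Mc : IsSimpleGroup Mc := by
  have hs := simple_stab_sub Mc vU' (Mc_inf ▸ simple_H22)
  exact classes_Mc.simple (classes_Mc.faithful hs (by decide)) hs dU'_vU' (M := 2025) (p := 5)
    (q := 3) (ncard_of_P _ (fun a _ c => decide (a = 0 ∧ c = -16)) (by decide +kernel) (by simp))
    (by norm_num) (by norm_num) (by norm_num) (by norm_num) (by norm_num) (by norm_num)
    (by decide) (by decide +kernel) (by decide +kernel)

theorem C3_inf : C3 ⊓ stabilizer G0 vU' = Hs := inf_comm _ _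

theorem classes_C3 : Classes C3 {y : L | sqNorm (y : V) = 32 ∧ dV y = -16} vU' dU'
    {32, 16, 8, 0, -8} (szL [(32, 1), (16, 1100), (8, 5600), (0, 4125), (-8, 352)]) := by
  have key := forall_min (fun _ b c _ => c = -16 → b ∈ ({32, 16, 8, 0, -8} : Finset ℤ))
    (by decide +kernel)
  refine Classes.of_subgroup C3 ⟨norm_vU', dV_vU'⟩
    (fun g hg y hy => ⟨(co_norm g _).trans hy.1, (dot_of_fix hg _).trans hy.2⟩)
    (fun y hy => tr_C3 _ _ norm_vU' hy.1 (dV_vU'.trans hy.2.symm))
    (fun y hy => key y hy.1 hy.2) (fun i hi => ?_) (fun y hy z hz e => ?_)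
  · refine ncard_of_P _ (fun _ b c => decide (c = -16 ∧ b = i)) ?_ (by simp [and_assoc])
    revert i; decide +kernel
  · rw [C3_inf]
    exact tr_Hs y z hy.1 hz.1 (Or.inr (by rw [hy.2]; norm_num)) e (hy.2.trans hz.2.symm)

theorem simple_C3 : IsSimpleGroup C3 := by
  have hs := simple_stab_sub C3 vU' (C3_inf ▸ simple_Hs)
  exact classes_C3.simple (classes_C3.faithful hs (by decide)) hs dU'_vU' (M := 11178) (p := 23)
    (q := 2) (ncard_of_P _ (fun _ _ c => decide (c = -16)) (by decide +kernel) (by simp))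
    (by norm_num) (by norm_num) (by norm_num) (by norm_num) (by norm_num) (by norm_num)
    (by decide) (by decide +kernel) (by decide +kernel)

theorem C2_inf : C2 ⊓ stabilizer G0 w0 = Mc := by
  ext g
  simp only [Subgroup.mem_inf, mem_stabilizer_iff]
  exact and_congr_right fun h => fix_w0 h

theorem classes_C2 : Classes C2 {y : L | sqNorm (y : V) = 32 ∧ dU y = -8} w0 dV
    {-24, -8, 0, 8, 16, 24}
    (szL [(-24, 1), (-8, 2025), (0, 15400), (8, 22275), (16, 7128), (24, 275)]) := by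
  have key := forall_min (fun a _ c _ => a = -8 → c ∈ ({-24, -8, 0, 8, 16, 24} : Finset ℤ))
    (by decide +kernel)
  refine Classes.of_subgroup C2 ⟨norm_w0, dU_w0⟩
    (fun g hg y hy => ⟨(co_norm g _).trans hy.1, (dot_of_fix hg _).trans hy.2⟩)
    (fun y hy => tr_C2 _ _ norm_w0 hy.1 (dU_w0.trans hy.2.symm))
    (fun y hy => key y hy.1 hy.2) (fun i hi => ?_) (fun y hy z hz e => ?_)
  · refine ncard_of_P _ (fun a _ c => decide (a = -8 ∧ c = i)) ?_ (by simp [and_assoc])
    revert i; decide +kernel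
  · rw [C2_inf]
    exact tr_Mc y z hy.1 hz.1 (hy.2.trans hz.2.symm) e

theorem simple_C2 : IsSimpleGroup C2 := by
  have hs := simple_stab_sub C2 w0 (C2_inf ▸ simple_Mc)
  exact classes_C2.simple (classes_C2.faithful hs (by decide)) hs dV_w0 (M := 47104) (p := 23)
    (q := 2) (ncard_of_P _ (fun a _ _ => decide (a = -8)) (by decide +kernel) (by simp))
    (by norm_num) (by norm_num) (by norm_num) (by norm_num) (by norm_num) (by norm_num)
    (by decide) (by decide +kernel) (by decide +kernel)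

theorem classes_G0 : Classes G0 {y : L | sqNorm (y : V) = 32} vU dU
    {32, 16, 8, 0, -8, -16, -32}
    (szL [(32, 1), (16, 4600), (8, 47104), (0, 93150), (-8, 47104), (-16, 4600), (-32, 1)]) := by
  refine ⟨norm_vU, fun g y hy => (co_norm g _).trans hy, fun y hy => tr_C0 _ _ norm_vU hy,
    forall_min (fun a _ _ _ => a ∈ ({32, 16, 8, 0, -8, -16, -32} : Finset ℤ)) (by decide +kernel),
    fun i hi => ?_, fun y hy z hz e => tr_C2 y z hy hz e⟩
  refine ncard_of_P _ (fun a _ _ => decide (a = i)) ?_ (by simp)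
  revert i; decide +kernel

theorem neg1_mem_center : neg1 ∈ Subgroup.center G0 := Subgroup.mem_center_iff.2 neg1_comm

theorem eq_neg_vU {y : L} (hy : sqNorm (y : V) = 32) (h : dU y = -32) : y = -vU :=
  (eq_of_dot32 (by rw [norm_negL, norm_vU]) hy (by rw [dot_negL]; exact neg_eq_iff_eq_neg.2 h)).symm

/-- a normal subgroup of `Co0` containing `-1` has order two or is everything. -/
theorem normal_G0 (N : Subgroup G0) [hN : N.Normal] (h1 : neg1 ∈ N) : Nat.card N = 2 ∨ N = ⊤ := by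
  obtain ⟨S, s1, s2, s3, s4⟩ := classes_G0.normal_orbit N
  rw [ncardL_32] at s2
  have hsym : ∀ i ∈ ({32, 16, 8, 0, -8, -16, -32} : Finset ℤ), i ∈ S → -i ∈ S := by
    intro i hi hS
    obtain ⟨y, hy, rfl⟩ := Set.nonempty_of_ncard_ne_zero (s := {y | y ∈ {y : L | sqNorm (y : V) = 32}
      ∧ dU y = i}) (by rw [classes_G0.hn i hi]; clear hS; revert i; decide)
    obtain ⟨a, ha, rfl⟩ := (s3 y hy).2 hS
    have := (s3 (-(a • vU)) (by rwa [Set.mem_ofPred_eq, norm_negL])).1
      ⟨neg1 * a, N.mul_mem h1 ha, by rw [mul_smul, neg1_smul]⟩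
    rwa [dU, dot_negR] at this
  have h32 : (32 : ℤ) ∈ S := dU_vU ▸ (s3 vU norm_vU).1 ⟨1, N.one_mem, one_smul _ _⟩
  have key : ∀ S ∈ ({32, 16, 8, 0, -8, -16, -32} : Finset ℤ).powerset, (32 : ℤ) ∈ S →
      (∀ i ∈ ({32, 16, 8, 0, -8, -16, -32} : Finset ℤ), i ∈ S → -i ∈ S) →
      (∑ i ∈ S, szL [(32, 1), (16, 4600), (8, 47104), (0, 93150), (-8, 47104), (-16, 4600),
        (-32, 1)] i) ∣ 196560 → S = {32, -32} ∨ S = {32, 16, 8, 0, -8, -16, -32} := by
    decide +kernel
  rcases key S (mem_powerset.2 s1) h32 hsym s2 with rfl | rfl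
  · left
    rcases normal_inf_stab vU simple_C2 N with hb | hb
    · rw [s4, hb, Subgroup.card_bot]; rfl
    · exfalso
      obtain ⟨y, hy, h2, h3, -⟩ := exists_ty 0 0 0 (by decide +kernel)
      obtain ⟨a, ha, rfl⟩ := tr_C2 _ _ norm_vU' hy (dU_vU'.trans h2.symm)
      obtain ⟨g, hg⟩ := std32 vU' norm_vU'
      have := (s3 _ ((co_norm _ _).trans norm_vU)).1 ⟨g⁻¹ * a * g, hN.conj_mem' a (hb ha) g, rfl⟩
      rw [mul_smul, mul_smul, hg, dU, ← co_dot g, smul_inv_smul, hg] at this
      change dU' _ ∈ _ at this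
      rw [h3] at this
      exact absurd this (by decide)
  · right
    have ht : ∀ y ∈ {y : L | sqNorm (y : V) = 32}, ∃ a ∈ N, a • vU = y :=
      fun y hy => (s3 y hy).2 (classes_G0.hI y hy)
    rcases normal_inf_stab vU simple_C2 N with hb | hb
    · exfalso
      rw [hb, Subgroup.card_bot] at s4
      obtain ⟨A, a1, a2, a3⟩ := classes_G0.regular_pow N hb 13
      have e1 := dvd_card_pow_eq_one (N := N) (p := 13) (by norm_num) (by rw [s4]; decide +kernel)
      have e2 := odd_card_pow_eq_one (N := N) (p := 13) (by norm_num)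
      have hc : (32 : ℤ) ∈ A := dU_vU ▸ (a2 vU norm_vU).1 ⟨1, N.one_mem, one_pow _, one_smul _ _⟩
      rw [a3] at e1 e2
      have key2 : ∀ S ∈ ({32, 16, 8, 0, -8, -16, -32} : Finset ℤ).powerset, (32 : ℤ) ∈ S →
        13 ∣ (∑ i ∈ S, szL [(32, 1), (16, 4600), (8, 47104), (0, 93150), (-8, 47104), (-16, 4600),
          (-32, 1)] i) → (∑ i ∈ S, szL [(32, 1), (16, 4600), (8, 47104), (0, 93150), (-8, 47104),
          (-16, 4600), (-32, 1)] i) % 2 ≠ 1 := by decide +kernel
      exact key2 A (mem_powerset.2 a1) hc e1 e2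
    · exact classes_G0.eq_top hb ht

theorem center_ne_top : Subgroup.center G0 ≠ ⊤ := by
  intro h
  obtain ⟨y, hy, h2, h3, -⟩ := exists_ty 0 0 0 (by decide +kernel)
  obtain ⟨a, ha, e⟩ := tr_C2 _ _ norm_vU' hy (dU_vU'.trans h2.symm)
  obtain ⟨g, hg⟩ := std32 vU' norm_vU'
  have : a ∈ Subgroup.center G0 := h ▸ Subgroup.mem_top a
  rw [← hg, ← mul_smul, ← Subgroup.mem_center_iff.1 this g, mul_smul, mem_stabilizer_iff.1 ha,
    hg] at e
  rw [← e, dU'_vU'] at h3
  norm_num at h3

theorem card_center : Nat.card (Subgroup.center G0) = 2 :=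
  (normal_G0 _ neg1_mem_center).resolve_right center_ne_top

theorem card_Co1 : Nat.card (G0 ⧸ Subgroup.center G0) = 4157776806543360000 := by
  have := Subgroup.card_eq_card_quotient_mul_card_subgroup (Subgroup.center G0)
  rw [card_G0, card_center] at this
  omega

theorem simple_Co1 : IsSimpleGroup (G0 ⧸ Subgroup.center G0) := by
  have : Nontrivial (G0 ⧸ Subgroup.center G0) :=
    QuotientGroup.nontrivial_iff.2 center_ne_top
  refine ⟨fun N hN => ?_⟩
  have hle : Subgroup.center G0 ≤ N.comap (QuotientGroup.mk' _) := by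
    intro g hg
    rw [Subgroup.mem_comap, QuotientGroup.mk'_apply, (QuotientGroup.eq_one_iff g).2 hg]
    exact N.one_mem
  rcases normal_G0 (N.comap (QuotientGroup.mk' _)) (hle neg1_mem_center) with h | h
  · left
    have := Subgroup.eq_of_le_of_card_ge hle (by rw [h, card_center])
    rw [← Subgroup.map_comap_eq_self_of_surjective (QuotientGroup.mk'_surjective _) N, ← this]
    exact QuotientGroup.map_mk'_self _
  · right
    rw [← Subgroup.map_comap_eq_self_of_surjective (QuotientGroup.mk'_surjective _) N, h]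
    exact Subgroup.map_top_of_surjective _ (QuotientGroup.mk'_surjective _)

theorem simple_card_transport (g : G0) (H K : Subgroup G0) (h : ∀ a, g * a * g⁻¹ ∈ K ↔ a ∈ H)
    (hs : IsSimpleGroup H) {n : ℕ} (hn : Nat.card H = n) : IsSimpleGroup K ∧ Nat.card K = n := by
  obtain ⟨e⟩ := equiv_transport g H K h
  exact ⟨e.symm.isSimpleGroup, (Nat.card_congr e.toEquiv).symm.trans hn⟩

end H10
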