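import Mathlib

/-! Short vectors modulo `2Λ` in an even lattice of rank 24 without roots. -/

set_option autoImplicit false

namespace H10

open Finset

/-- An even positive definite lattice without roots. -/
structure EL (Λ : Type*) [AddCommGroup Λ] where
  β : Λ →+ Λ →+ ℤ
  symm : ∀ x y, β x y = β y x
  pos : ∀ x, x ≠ 0 → 0 < β x x
  even : ∀ x, (2 : ℤ) ∣ β x x
  no2 : ∀ x, β x x ≠ 2

namespace EL

variable {Λ : Type*} [AddCommGroup Λ] (E : EL Λ)

theorem four_le {x : Λ} (hx : x ≠ 0) : 4 ≤ E.β x x := by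
  have := E.pos x hx
  have := E.even x
  have := E.no2 x
  omega

theorem nonneg (x : Λ) : 0 ≤ E.β x x := by
  by_cases h : x = 0
  · simp [h]
  · exact (E.pos x h).le

theorem norm_add (x y : Λ) : E.β (x + y) (x + y) = E.β x x + E.β y y + 2 * E.β x y := by
  simp only [map_add, AddMonoidHom.add_apply, E.symm y x]; ring

theorem norm_sub (x y : Λ) : E.β (x - y) (x - y) = E.β x x + E.β y y - 2 * E.β x y := by
  simp only [map_sub, AddMonoidHom.sub_apply, E.symm y x]; ring

theorem norm_two (z : Λ) : E.β (2 • z) (2 • z) = 4 * E.β z z := by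
  rw [two_nsmul, E.norm_add]; ring

theorem norm_neg (x : Λ) : E.β (-x) (-x) = E.β x x := by simp

theorem short {x y z : Λ} (hx : E.β x x ≤ 8) (hy : E.β y y ≤ 8) (h : x - y = 2 • z)
    (h1 : y ≠ x) (h2 : y ≠ -x) : E.β x x = 8 ∧ E.β y y = 8 ∧ E.β x y = 0 := by
  have hz : z ≠ 0 := by
    rintro rfl
    exact h1 (sub_eq_zero.1 (by simpa using h)).symm
  have h' : x + y = 2 • (z + y) := by rw [smul_add, ← h, two_nsmul]; abel
  have hz' : z + y ≠ 0 := by
    intro h0
    rw [h0, smul_zero] at h'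
    exact h2 (eq_neg_of_add_eq_zero_right h')
  have e1 := E.norm_sub x y
  have e2 := E.norm_add x y
  rw [h, E.norm_two] at e1
  rw [h', E.norm_two] at e2
  have := E.four_le hz
  have := E.four_le hz'
  omega

include E in
theorem ne_neg {x : Λ} (hx : x ≠ 0) : x ≠ -x := by
  intro h
  have h1 : E.β x x = E.β x (-x) := by rw [← h]
  rw [map_neg] at h1
  have := E.pos x hx
  omega

theorem card_orth_le [Module.Finite ℤ Λ] (P : Finset Λ) (h0 : ∀ x ∈ P, x ≠ 0)
    (h : ∀ x ∈ P, ∀ y ∈ P, x ≠ y → E.β x y = 0) : P.card ≤ Module.finrank ℤ Λ := by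
  classical
  apply LinearIndependent.finset_card_le_finrank (b := P)
  rw [linearIndependent_iff']
  intro s g hs i hi
  have := congrArg (fun v => E.β v i) hs
  simp only [map_sum, map_zsmul, AddMonoidHom.finsetSum_apply, AddMonoidHom.smul_apply,
    smul_eq_mul, map_zero, AddMonoidHom.zero_apply] at this
  rw [Finset.sum_eq_single i] at this
  · exact (mul_eq_zero.1 this).resolve_right (E.pos _ (h0 _ i.2)).ne'
  · intro j _ hj
    rw [h j j.2 i i.2 (fun e => hj (Subtype.ext e)), mul_zero]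
  · exact fun h => absurd hi h

theorem card_frame_le [Module.Finite ℤ Λ] (F : Finset Λ) (h0 : ∀ x ∈ F, x ≠ 0)
    (hneg : ∀ x ∈ F, -x ∈ F)
    (h : ∀ x ∈ F, ∀ y ∈ F, y ≠ x → y ≠ -x → E.β x y = 0) : F.card ≤ 2 * Module.finrank ℤ Λ := by
  classical
  let : LinearOrder Λ := linearOrderOfSTO WellOrderingRel
  set P := F.filter fun x => x < -x with hP
  have h1 : P.card ≤ Module.finrank ℤ Λ := by
    apply E.card_orth_le P (fun x hx => h0 x (mem_filter.1 hx).1)
    intro x hx y hy hxy
    rw [mem_filter] at hx hy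
    apply h x hx.1 y hy.1 hxy.symm
    rintro rfl
    rw [neg_neg] at hy
    exact lt_asymm hx.2 hy.2
  have h2 : F ⊆ P ∪ P.image fun x => -x := by
    intro x hx
    rw [mem_union, mem_image]
    rcases lt_trichotomy x (-x) with h' | h' | h'
    · exact Or.inl (mem_filter.2 ⟨hx, h'⟩)
    · exact absurd h' (E.ne_neg (h0 x hx))
    · exact Or.inr ⟨-x, mem_filter.2 ⟨hneg x hx, by rwa [neg_neg]⟩, neg_neg x⟩
  have h3 := (card_le_card h2).trans (card_union_le _ _)
  have h4 : (P.image fun x => -x).card ≤ P.card := card_image_le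
  omega

theorem main [Module.Free ℤ Λ] [Module.Finite ℤ Λ] (hr : Module.finrank ℤ Λ = 24)
    (h4 : {x | E.β x x = 4}.ncard = 196560) (h6 : {x | E.β x x = 6}.ncard = 16773120)
    (h8 : {x | E.β x x = 8}.ncard = 398034000) :
    (∀ x, E.β x x = 8 → {y | E.β y y = 8 ∧ ∃ z, x - y = 2 • z}.ncard = 48) ∧
    ∀ x, ∃ y, E.β y y ≤ 8 ∧ ∃ z, x - y = 2 • z := by
  classical
  set T : AddSubgroup Λ := (nsmulAddMonoidHom (α := Λ) 2).range with hT
  have hidx : T.index = 2 ^ 24 := by rw [hT, AddSubgroup.index_range_nsmul, hr]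
  have : Finite (Λ ⧸ T) := Nat.finite_of_card_ne_zero (by
    rw [← AddSubgroup.index, hidx]; norm_num)
  let : Fintype (Λ ⧸ T) := Fintype.ofFinite _
  have hcard : Fintype.card (Λ ⧸ T) = 2 ^ 24 := by
    rw [← Nat.card_eq_fintype_card, ← AddSubgroup.index, hidx]
  let π : Λ → Λ ⧸ T := fun x => QuotientAddGroup.mk x
  have hπ : ∀ x y, π x = π y ↔ ∃ z, x - y = 2 • z := by
    intro x y
    rw [QuotientAddGroup.eq_iff_sub_mem, hT, AddMonoidHom.mem_range]
    exact ⟨fun ⟨z, h⟩ => ⟨z, h.symm⟩, fun ⟨z, h⟩ => ⟨z, h.symm⟩⟩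
  have hπneg : ∀ x, π (-x) = π x := fun x => (hπ _ _).2 ⟨-x, by rw [two_nsmul]; abel⟩
  have f4 := Set.finite_of_ncard_ne_zero (h4.trans_ne (by norm_num))
  have f6 := Set.finite_of_ncard_ne_zero (h6.trans_ne (by norm_num))
  have f8 := Set.finite_of_ncard_ne_zero (h8.trans_ne (by norm_num))
  rw [Set.ncard_eq_toFinset_card _ f4] at h4
  rw [Set.ncard_eq_toFinset_card _ f6] at h6
  rw [Set.ncard_eq_toFinset_card _ f8] at h8
  set S4 := f4.toFinset
  set S6 := f6.toFinset
  set S8 := f8.toFinset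
  have m4 : ∀ x, x ∈ S4 ↔ E.β x x = 4 := fun x => Set.Finite.mem_toFinset _
  have m6 : ∀ x, x ∈ S6 ↔ E.β x x = 6 := fun x => Set.Finite.mem_toFinset _
  have m8 : ∀ x, x ∈ S8 ↔ E.β x x = 8 := fun x => Set.Finite.mem_toFinset _
  have hsmall : ∀ (S : Finset Λ), (∀ x ∈ S, E.β x x < 8) → S.card ≤ 2 * (S.image π).card := by
    intro S hS
    apply card_le_mul_card_image
    intro q hq
    obtain ⟨x, hx, rfl⟩ := mem_image.1 hq
    have : S.filter (fun y => π y = π x) ⊆ {x, -x} := by
      intro y hy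
      rw [mem_filter] at hy
      obtain ⟨z, hz⟩ := (hπ _ _).1 hy.2.symm
      by_contra hne
      simp only [mem_insert, mem_singleton, not_or] at hne
      have := (E.short (hS x hx).le (hS y hy.1).le hz hne.1 hne.2).1
      have := hS x hx
      omega
    exact (card_le_card this).trans card_le_two
  have hfib : ∀ q, (S8.filter fun y => π y = q).card ≤ 48 := by
    intro q
    have := E.card_frame_le (S8.filter fun y => π y = q) ?_ ?_ ?_
    · omega
    · rintro x hx rfl
      have := (m8 _).1 (mem_filter.1 hx).1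
      simp at this
    · intro x hx
      rw [mem_filter] at hx ⊢
      exact ⟨(m8 _).2 (by rw [E.norm_neg]; exact (m8 _).1 hx.1), by rw [hπneg]; exact hx.2⟩
    · intro x hx y hy h1 h2
      rw [mem_filter] at hx hy
      obtain ⟨z, hz⟩ := (hπ _ _).1 (hx.2.trans hy.2.symm)
      exact (E.short ((m8 _).1 hx.1).le ((m8 _).1 hy.1).le hz h1 h2).2.2
  have hdis : ∀ (S S' : Finset Λ), (∀ x ∈ S, ∀ y ∈ S', E.β x x < E.β y y ∧ E.β y y ≤ 8) →
      Disjoint (S.image π) (S'.image π) := by
    intro S S' h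
    rw [Finset.disjoint_left]
    intro q hq hq'
    obtain ⟨x, hx, rfl⟩ := mem_image.1 hq
    obtain ⟨y, hy, e⟩ := mem_image.1 hq'
    obtain ⟨z, hz⟩ := (hπ _ _).1 e.symm
    have h1 := h x hx y hy
    have := (E.short (by omega) h1.2 hz (by rintro rfl; omega)
      (by rintro rfl; rw [E.norm_neg] at h1; omega)).1
    omega
  have c4 := hsmall S4 fun x hx => by rw [(m4 x).1 hx]; norm_num
  have c6 := hsmall S6 fun x hx => by rw [(m6 x).1 hx]; norm_num
  have c8 : S8.card ≤ 48 * (S8.image π).card := card_le_mul_card_image _ _ fun q _ => hfib q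
  set U := ((({0} : Finset Λ) ∪ S4) ∪ S6) ∪ S8 with hU
  have cU : (U.image π).card = 1 + (S4.image π).card + (S6.image π).card + (S8.image π).card := by
    rw [hU, image_union, card_union_of_disjoint, image_union, card_union_of_disjoint, image_union,
      card_union_of_disjoint, image_singleton, card_singleton]
    · apply hdis
      intro x hx y hy
      rw [mem_singleton.1 hx, (m4 y).1 hy]; simp
    · apply hdis
      intro x hx y hy
      rw [(m6 y).1 hy]
      rcases mem_union.1 hx with hx | hx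
      · rw [mem_singleton.1 hx]; simp
      · rw [(m4 x).1 hx]; simp
    · apply hdis
      intro x hx y hy
      rw [(m8 y).1 hy]
      rcases mem_union.1 hx with hx | hx
      · rcases mem_union.1 hx with hx | hx
        · rw [mem_singleton.1 hx]; simp
        · rw [(m4 x).1 hx]; simp
      · rw [(m6 x).1 hx]; simp
  have cle : (U.image π).card ≤ 2 ^ 24 := by rw [← hcard]; exact card_le_univ _
  have e8 : (S8.image π).card = 8292375 := by omega
  have eU : U.image π = univ := by
    apply Finset.eq_univ_of_card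
    rw [hcard]; omega
  constructor
  · intro x hx
    have hsum : ∑ q ∈ S8.image π, (S8.filter fun y => π y = q).card = ∑ _q ∈ S8.image π, 48 := by
      rw [← card_eq_sum_card_image, sum_const, e8, h8]; norm_num
    have := (Finset.sum_eq_sum_iff_of_le (fun q _ => hfib q)).1 hsum (π x)
      (mem_image_of_mem _ ((m8 x).2 hx))
    rw [← this, ← Set.ncard_coe_finset]
    congr 1
    ext y
    simp only [Set.mem_ofPred_eq, coe_filter, m8, ← hπ]
    exact and_congr_right fun _ => eq_comm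
  · intro x
    have : π x ∈ U.image π := by rw [eU]; exact mem_univ _
    obtain ⟨y, hy, e⟩ := mem_image.1 this
    refine ⟨y, ?_, (hπ _ _).1 e.symm⟩
    simp only [hU, mem_union, mem_singleton, m4, m6, m8] at hy
    rcases hy with ((rfl | h) | h) | h
    · simp
    all_goals omega

end EL

open Matrix in
/-- the lattice given by a Gram matrix. -/
def gramEL (B : Matrix (Fin 24) (Fin 24) ℤ) (hsymm : B.IsSymm)
    (hpos : ∀ x : Fin 24 → ℤ, x ≠ 0 → 0 < x ⬝ᵥ (B *ᵥ x))
    (heven : ∀ x : Fin 24 → ℤ, (2 : ℤ) ∣ x ⬝ᵥ (B *ᵥ x))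
    (h2 : ∀ x : Fin 24 → ℤ, x ⬝ᵥ (B *ᵥ x) ≠ 2) : EL (Fin 24 → ℤ) where
  β := AddMonoidHom.mk' (fun x => AddMonoidHom.mk' (fun y => x ⬝ᵥ (B *ᵥ y))
    (fun y z => by rw [Matrix.mulVec_add, dotProduct_add]))
    (fun x y => AddMonoidHom.ext fun z => add_dotProduct x y (B *ᵥ z))
  symm x y := by
    simp only [AddMonoidHom.mk'_apply]
    rw [Matrix.dotProduct_mulVec, ← Matrix.mulVec_transpose, hsymm.eq, dotProduct_comm]
  pos := hpos
  even := heven
  no2 := h2

theorem cong_two_iff {ι : Type*} (x y : ι → ℤ) : (∀ i, (2 : ℤ) ∣ (x - y) i) ↔ ∃ z, x - y = 2 • z := by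
  constructor
  · intro h
    choose z hz using h
    exact ⟨z, funext fun i => by rw [hz i]; simp⟩
  · rintro ⟨z, hz⟩ i
    rw [hz]; simp

end H10
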