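import Mathlib
import Cfsg.Prelude.Def_Sporadic_a
import Cfsg.Agent.H9.Golay

/-! Basic facts on the Leech lattice `Cfsg.leechLattice`. -/

set_option autoImplicit false

namespace H10

open Cfsg Finset H9
open scoped symmDiff

/-- integer vectors on the 24 points. -/
abbrev V : Type := GolayPt → ℤ

/-- the residue pattern modulo 4 attached to a parity `m` and a code word `c`. -/
def res (m : ℤ) (c : Finset GolayPt) (i : GolayPt) : ℤ := if i ∈ c then m + 2 else m

/-- membership data for the Leech lattice. -/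
def LD (x : V) (m : ℤ) (c : Finset GolayPt) : Prop :=
  c ∈ GC ∧ (∀ i, (4 : ℤ) ∣ x i - res m c i) ∧ (8 : ℤ) ∣ ∑ i, x i - 4 * m

theorem mem_leechSet_iff (x : V) : x ∈ leechSet ↔ ∃ m c, LD x m c := by
  constructor
  · rintro ⟨m, h2, h8, hc⟩
    refine ⟨m, _, hc (m + 2), fun i => ?_, ?_⟩
    · have := h2 i
      unfold res
      simp only [mem_filter, mem_univ, true_and]
      unfold Int.ModEq at *
      split_ifs with h <;> omega
    · exact (Int.ModEq.dvd h8.symm)
  · rintro ⟨m, c, hc, h4, h8⟩
    refine ⟨m, fun i => ?_, ?_, fun k => ?_⟩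
    · have := h4 i
      unfold res at this
      unfold Int.ModEq
      split_ifs at this <;> omega
    · exact (Int.modEq_iff_dvd.2 h8).symm
    · by_cases h1 : (4 : ℤ) ∣ k - m
      · convert compl_mem_GC hc using 1
        ext i
        have := h4 i
        unfold res at this
        simp only [mem_filter, mem_univ, true_and, mem_compl]
        unfold Int.ModEq
        split_ifs at this with h <;> simp only [h, not_true, not_false_iff, iff_true, iff_false] <;>
          omega
      by_cases h2 : (4 : ℤ) ∣ k - (m + 2)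
      · convert hc using 1
        ext i
        have := h4 i
        unfold res at this
        simp only [mem_filter, mem_univ, true_and]
        unfold Int.ModEq
        split_ifs at this with h <;> simp only [h, iff_true, iff_false] <;> omega
      · convert empty_mem_GC using 1
        ext i
        have := h4 i
        unfold res at this
        simp only [mem_filter, mem_univ, true_and, notMem_empty, iff_false]
        unfold Int.ModEq
        split_ifs at this with h <;> omega

theorem LD.add {x y : V} {m m' : ℤ} {c c' : Finset GolayPt} (h : LD x m c) (h' : LD y m' c') :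
    LD (x + y) (m + m') (c ∆ c') := by
  refine ⟨symmDiff_mem_GC h.1 h'.1, fun i => ?_, ?_⟩
  · have h1 := h.2.1 i
    have h2 := h'.2.1 i
    unfold res at *
    simp only [Pi.add_apply, Finset.mem_symmDiff]
    by_cases a : i ∈ c <;> by_cases b : i ∈ c' <;> simp only [a, b, if_true, if_false] at h1 h2 <;>
      simp [a, b] <;> omega
  · have h1 := h.2.2
    have h2 := h'.2.2
    simp only [Pi.add_apply, Finset.sum_add_distrib]
    omega

theorem LD.neg {x : V} {m : ℤ} {c : Finset GolayPt} (h : LD x m c) : LD (-x) (-m) c := by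
  refine ⟨h.1, fun i => ?_, ?_⟩
  · have h1 := h.2.1 i
    unfold res at *
    simp only [Pi.neg_apply]
    split_ifs at h1 ⊢ <;> omega
  · have h1 := h.2.2
    simp only [Pi.neg_apply, Finset.sum_neg_distrib]
    omega

theorem LD_zero : LD 0 0 ∅ := by
  refine ⟨empty_mem_GC, fun i => ?_, ?_⟩ <;> simp [res]

/-- the Leech set as an additive subgroup. -/
def leechSub : AddSubgroup V where
  carrier := leechSet
  zero_mem' := (mem_leechSet_iff _).2 ⟨0, ∅, LD_zero⟩
  add_mem' := by
    intro x y hx hy
    obtain ⟨m, c, h⟩ := (mem_leechSet_iff _).1 hx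
    obtain ⟨m', c', h'⟩ := (mem_leechSet_iff _).1 hy
    exact (mem_leechSet_iff _).2 ⟨_, _, h.add h'⟩
  neg_mem' := by
    intro x hx
    obtain ⟨m, c, h⟩ := (mem_leechSet_iff _).1 hx
    exact (mem_leechSet_iff _).2 ⟨_, _, h.neg⟩

theorem leechLattice_eq : leechLattice = leechSub :=
  AddSubgroup.closure_eq leechSub

theorem mem_L_iff_set (x : V) : x ∈ leechLattice ↔ x ∈ leechSet := by
  rw [leechLattice_eq]; rfl

theorem mem_L_iff (x : V) : x ∈ leechLattice ↔ ∃ m c, LD x m c := by
  rw [mem_L_iff_set, mem_leechSet_iff]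

theorem LD.mem {x : V} {m : ℤ} {c : Finset GolayPt} (h : LD x m c) : x ∈ leechLattice :=
  (mem_L_iff x).2 ⟨m, c, h⟩

theorem LD.shift {x : V} {m : ℤ} {c : Finset GolayPt} (h : LD x m c) : LD x (m + 2) cᶜ := by
  refine ⟨compl_mem_GC h.1, fun i => ?_, ?_⟩
  · have h1 := h.2.1 i
    unfold res at *
    simp only [mem_compl]
    by_cases a : i ∈ c <;> simp only [a, if_true, if_false, not_true, not_false_iff] at h1 ⊢ <;>
      omega
  · have h1 := h.2.2
    omega

theorem LD.congr {x : V} {m m' : ℤ} {c : Finset GolayPt} (h : LD x m c) (hm : (4 : ℤ) ∣ m - m') :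
    LD x m' c := by
  refine ⟨h.1, fun i => ?_, ?_⟩
  · have h1 := h.2.1 i
    unfold res at *
    split_ifs at h1 ⊢ <;> omega
  · have h1 := h.2.2
    omega

/-- normal form of membership: parity `0` or `1`. -/
theorem mem_L_iff01 (x : V) : x ∈ leechLattice ↔ ∃ c, LD x 0 c ∨ LD x 1 c := by
  rw [mem_L_iff]
  constructor
  · rintro ⟨m, c, h⟩
    have : m % 4 = 0 ∨ m % 4 = 1 ∨ m % 4 = 2 ∨ m % 4 = 3 := by omega
    rcases this with h1 | h1 | h1 | h1
    · exact ⟨c, Or.inl (h.congr (by omega))⟩
    · exact ⟨c, Or.inr (h.congr (by omega))⟩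
    · exact ⟨cᶜ, Or.inl (h.shift.congr (by omega))⟩
    · exact ⟨cᶜ, Or.inr (h.shift.congr (by omega))⟩
  · rintro ⟨c, h | h⟩
    · exact ⟨0, c, h⟩
    · exact ⟨1, c, h⟩

theorem four_dvd_card {c : Finset GolayPt} (hc : c ∈ GC) : (4 : ℤ) ∣ (c.card : ℤ) := by
  have := card_of_mem_GC hc
  omega

theorem sum_ite_mem_const (c : Finset GolayPt) (a : ℤ) :
    ∑ i : GolayPt, (if i ∈ c then a else 0) = a * c.card := by
  rw [Finset.sum_ite_mem, Finset.univ_inter, Finset.sum_const, nsmul_eq_mul, mul_comm]

theorem sum_const24 (a : ℤ) : ∑ _i : GolayPt, a = 24 * a := by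
  rw [Finset.sum_const, Finset.card_univ, card_golayPt, nsmul_eq_mul]; norm_num

theorem LD.sixteen_dvd {x : V} {m : ℤ} {c : Finset GolayPt} (h : LD x m c) :
    (16 : ℤ) ∣ sqNorm x := by
  have key : (16 : ℤ) ∣ ∑ i, (x i ^ 2 - 2 * m * x i + m ^ 2 - if i ∈ c then 4 else 0) := by
    apply Finset.dvd_sum
    intro i _
    obtain ⟨z, hz⟩ := h.2.1 i
    unfold res at hz
    split_ifs at hz ⊢
    · have : x i = 4 * z + m + 2 := by omega
      rw [this]
      exact ⟨z ^ 2 + z, by ring⟩
    · have : x i = 4 * z + m := by omega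
      rw [this]
      exact ⟨z ^ 2, by ring⟩
  rw [Finset.sum_sub_distrib, Finset.sum_add_distrib, Finset.sum_sub_distrib, ← Finset.mul_sum,
    sum_ite_mem_const, sum_const24] at key
  obtain ⟨t, ht⟩ := h.2.2
  obtain ⟨u, hu⟩ := four_dvd_card h.1
  obtain ⟨w, hw⟩ := key
  have hs : ∑ i, x i = 4 * m + 8 * t := by omega
  rw [hs, hu] at hw
  unfold sqNorm
  exact ⟨w + m * t - m ^ 2 + u, by linear_combination hw⟩

theorem sixteen_dvd_sqNorm {x : V} (hx : x ∈ leechLattice) : (16 : ℤ) ∣ sqNorm x := by
  obtain ⟨m, c, h⟩ := (mem_L_iff x).1 hx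
  exact h.sixteen_dvd

theorem sqNorm_nonneg (x : V) : 0 ≤ sqNorm x := Finset.sum_nonneg fun _ _ => sq_nonneg _

theorem sqNorm_eq_zero {x : V} (h : sqNorm x = 0) : x = 0 := by
  ext i
  have := (Finset.sum_eq_zero_iff_of_nonneg (fun j _ => sq_nonneg (x j))).1 h i (mem_univ i)
  simpa using this

theorem sq_le_sqNorm (x : V) (i : GolayPt) : x i ^ 2 ≤ sqNorm x :=
  Finset.single_le_sum (f := fun j => x j ^ 2) (fun _ _ => sq_nonneg _) (mem_univ i)

theorem dot_comm (x y : V) : dotInt x y = dotInt y x := by
  simp [dotInt, mul_comm]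

theorem dot_self (x : V) : dotInt x x = sqNorm x := by
  simp [dotInt, sqNorm, sq]

theorem dot_add_right (x y z : V) : dotInt x (y + z) = dotInt x y + dotInt x z := by
  simp [dotInt, mul_add, Finset.sum_add_distrib]

theorem dot_add_left (x y z : V) : dotInt (x + y) z = dotInt x z + dotInt y z := by
  simp [dotInt, add_mul, Finset.sum_add_distrib]

theorem dot_sub_right (x y z : V) : dotInt x (y - z) = dotInt x y - dotInt x z := by
  simp [dotInt, mul_sub, Finset.sum_sub_distrib]

theorem dot_sub_left (x y z : V) : dotInt (x - y) z = dotInt x z - dotInt y z := by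
  simp [dotInt, sub_mul, Finset.sum_sub_distrib]

theorem dot_neg_right (x y : V) : dotInt x (-y) = -dotInt x y := by
  simp [dotInt]

theorem dot_neg_left (x y : V) : dotInt (-x) y = -dotInt x y := by
  simp [dotInt]

theorem dot_smul_right (k : ℤ) (x y : V) : dotInt x (k • y) = k * dotInt x y := by
  simp only [dotInt, Pi.smul_apply, smul_eq_mul, Finset.mul_sum]
  exact Finset.sum_congr rfl fun _ _ => by ring

theorem dot_smul_left (k : ℤ) (x y : V) : dotInt (k • x) y = k * dotInt x y := by
  rw [dot_comm, dot_smul_right, dot_comm]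

theorem dot_zero_right (x : V) : dotInt x 0 = 0 := by simp [dotInt]

theorem dot_zero_left (x : V) : dotInt 0 x = 0 := by simp [dotInt]

theorem dot_single_left (i : GolayPt) (a : ℤ) (x : V) : dotInt (Pi.single i a) x = a * x i := by
  unfold dotInt
  rw [Finset.sum_eq_single i]
  · simp
  · intro j _ hj
    simp [Pi.single_eq_of_ne hj]
  · simp

theorem dot_single_right (i : GolayPt) (a : ℤ) (x : V) : dotInt x (Pi.single i a) = a * x i := by
  rw [dot_comm, dot_single_left]

theorem sqNorm_single (i : GolayPt) (a : ℤ) : sqNorm (Pi.single i a : V) = a ^ 2 := by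
  rw [← dot_self, dot_single_left]; simp [sq]

theorem sqNorm_add (x y : V) : sqNorm (x + y) = sqNorm x + sqNorm y + 2 * dotInt x y := by
  rw [← dot_self, dot_add_left, dot_add_right, dot_add_right, dot_self, dot_self, dot_comm y x]
  ring

theorem sqNorm_neg (x : V) : sqNorm (-x) = sqNorm x := by simp [sqNorm]

theorem sqNorm_sub (x y : V) : sqNorm (x - y) = sqNorm x + sqNorm y - 2 * dotInt x y := by
  rw [sub_eq_add_neg, sqNorm_add, sqNorm_neg, dot_neg_right]; ring

theorem sqNorm_smul (k : ℤ) (x : V) : sqNorm (k • x) = k ^ 2 * sqNorm x := by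
  rw [← dot_self, dot_smul_left, dot_smul_right, dot_self]; ring

theorem eight_dvd_dot {x y : V} (hx : x ∈ leechLattice) (hy : y ∈ leechLattice) :
    (8 : ℤ) ∣ dotInt x y := by
  have h1 := sixteen_dvd_sqNorm hx
  have h2 := sixteen_dvd_sqNorm hy
  have h3 := sixteen_dvd_sqNorm (add_mem hx hy)
  rw [sqNorm_add] at h3
  omega

theorem one_le_sq_of_odd {a : ℤ} (h : a % 2 = 1) : 1 ≤ a ^ 2 := by
  have : a ≤ -1 ∨ 1 ≤ a := by omega
  rcases this with h | h <;> nlinarith

theorem four_le_sq {a : ℤ} (h : a % 4 = 2) : 4 ≤ a ^ 2 := by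
  have : a ≤ -2 ∨ 2 ≤ a := by omega
  rcases this with h | h <;> nlinarith

theorem LD.odd_norm {x : V} {c : Finset GolayPt} (h : LD x 1 c) : 24 ≤ sqNorm x := by
  have : ∑ _i : GolayPt, (1 : ℤ) ≤ sqNorm x := by
    apply Finset.sum_le_sum
    intro i _
    apply one_le_sq_of_odd
    have := h.2.1 i
    unfold res at this
    split_ifs at this <;> omega
  rw [sum_const24] at this
  omega

theorem LD.even_norm {x : V} {c : Finset GolayPt} (h : LD x 0 c) : 4 * (c.card : ℤ) ≤ sqNorm x := by
  rw [← sum_ite_mem_const]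
  apply Finset.sum_le_sum
  intro i _
  split_ifs with hi
  · apply four_le_sq
    have := h.2.1 i
    unfold res at this
    rw [if_pos hi] at this
    omega
  · exact sq_nonneg _

theorem LD.empty_norm {x : V} (h : LD x 0 ∅) : (32 : ℤ) ∣ sqNorm x := by
  have key : (32 : ℤ) ∣ ∑ i, (x i ^ 2 - 4 * x i) := by
    apply Finset.dvd_sum
    intro i _
    obtain ⟨z, hz⟩ := h.2.1 i
    simp only [res, notMem_empty, if_false, sub_zero] at hz
    rw [hz]
    have := Int.even_mul_pred_self z
    obtain ⟨t, ht⟩ := this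
    exact ⟨t, by linear_combination 16 * ht⟩
  rw [Finset.sum_sub_distrib, ← Finset.mul_sum] at key
  have := h.2.2
  unfold sqNorm
  omega

theorem min_norm {x : V} (hx : x ∈ leechLattice) (h0 : x ≠ 0) : 32 ≤ sqNorm x := by
  have h16 := sixteen_dvd_sqNorm hx
  have hpos : sqNorm x ≠ 0 := fun h => h0 (sqNorm_eq_zero h)
  have hnn := sqNorm_nonneg x
  obtain ⟨c, h | h⟩ := (mem_L_iff01 x).1 hx
  · have h1 := h.even_norm
    rcases card_of_mem_GC h.1 with h2 | h2 | h2 | h2 | h2
    · rw [Finset.card_eq_zero] at h2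
      subst h2
      have := h.empty_norm
      omega
    all_goals rw [h2] at h1; push_cast at h1; omega
  · have := h.odd_norm
    omega

/-! ### Monomial symmetries -/

open scoped Pointwise in
theorem smul_mem_GC {σ : Equiv.Perm GolayPt} (hσ : σ ∈ M24) {c : Finset GolayPt} (hc : c ∈ GC) :
    σ • c ∈ GC := by
  have : σ • GC = GC := hσ
  rw [← this]
  exact Set.smul_mem_smul_set hc

open scoped Pointwise in
theorem perm_mem_L {σ : Equiv.Perm GolayPt} (hσ : σ ∈ M24) {x : V} (hx : x ∈ leechLattice) :
    (fun i => x (σ i)) ∈ leechLattice := by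
  obtain ⟨m, c, h⟩ := (mem_L_iff x).1 hx
  refine LD.mem (m := m) (c := σ⁻¹ • c) ⟨smul_mem_GC (inv_mem hσ) h.1, fun i => ?_, ?_⟩
  · have := h.2.1 (σ i)
    unfold res at *
    have e : i ∈ σ⁻¹ • c ↔ σ i ∈ c := by
      rw [Finset.mem_inv_smul_finset_iff]; rfl
    simp only [e]
    exact this
  · rw [Equiv.sum_comp σ x]
    exact h.2.2

theorem sign_mem_L {c : Finset GolayPt} (hc : c ∈ GC) {x : V} (hx : x ∈ leechLattice) :
    (fun i => if i ∈ c then -x i else x i) ∈ leechLattice := by
  have hsum : ∑ i, (if i ∈ c then -x i else x i) = ∑ i, x i - 2 * ∑ i ∈ c, x i := by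
    have : ∀ i, (if i ∈ c then -x i else x i) = x i - 2 * (if i ∈ c then x i else 0) := by
      intro i; split_ifs <;> ring
    simp only [this, Finset.sum_sub_distrib, ← Finset.mul_sum, Finset.sum_ite_mem,
      Finset.univ_inter]
  obtain ⟨d, h | h⟩ := (mem_L_iff01 x).1 hx
  · refine LD.mem (m := 0) (c := d) ⟨h.1, fun i => ?_, ?_⟩
    · have := h.2.1 i
      unfold res at *
      beta_reduce
      split_ifs at this ⊢ <;> omega
    · rw [hsum]
      have h4 : (4 : ℤ) ∣ ∑ i ∈ c, (x i - if i ∈ d then 2 else 0) := by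
        apply Finset.dvd_sum
        intro i _
        have := h.2.1 i
        unfold res at this
        split_ifs at this ⊢ <;> omega
      rw [Finset.sum_sub_distrib, Finset.sum_ite_mem, Finset.sum_const, nsmul_eq_mul] at h4
      have h5 := even_inter_of_mem_GC hc h.1
      have h6 := h.2.2
      omega
  · refine LD.mem (m := 1) (c := d ∆ c) ⟨symmDiff_mem_GC h.1 hc, fun i => ?_, ?_⟩
    · have := h.2.1 i
      unfold res at *
      simp only [Finset.mem_symmDiff]
      by_cases a : i ∈ c <;> by_cases b : i ∈ d <;> simp only [b, if_true, if_false] at this <;>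
        simp [a, b] <;> omega
    · rw [hsum]
      have h4 : (4 : ℤ) ∣ ∑ i ∈ c, (x i - 1 - if i ∈ d then 2 else 0) := by
        apply Finset.dvd_sum
        intro i _
        have := h.2.1 i
        unfold res at this
        split_ifs at this ⊢ <;> omega
      rw [Finset.sum_sub_distrib, Finset.sum_sub_distrib, Finset.sum_ite_mem, Finset.sum_const,
        Finset.sum_const, nsmul_eq_mul, nsmul_eq_mul] at h4
      have h5 := even_inter_of_mem_GC hc h.1
      have h6 := h.2.2
      have h7 := four_dvd_card hc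
      omega

/-! ### Some explicit members -/

theorem mem_L_of_four {x : V} (h4 : ∀ i, (4 : ℤ) ∣ x i) (h8 : (8 : ℤ) ∣ ∑ i, x i) :
    x ∈ leechLattice :=
  LD.mem (m := 0) (c := ∅) ⟨empty_mem_GC, fun i => by simpa [res] using h4 i, by simpa using h8⟩

theorem single_mem_L (i : GolayPt) {a : ℤ} (ha : (8 : ℤ) ∣ a) :
    (Pi.single i a : V) ∈ leechLattice := by
  apply mem_L_of_four
  · intro j
    by_cases h : j = i
    · subst h; simp only [Pi.single_eq_same]; omega
    · simp [Pi.single_eq_of_ne h]
  · simpa using ha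

theorem pair_mem_L (i j : GolayPt) {a b : ℤ} (ha : (4 : ℤ) ∣ a) (hb : (4 : ℤ) ∣ b)
    (hab : (8 : ℤ) ∣ a + b) : (Pi.single i a + Pi.single j b : V) ∈ leechLattice := by
  apply mem_L_of_four
  · intro k
    simp only [Pi.add_apply, Pi.single_apply]
    split_ifs <;> omega
  · simpa [Finset.sum_add_distrib] using hab

/-- twice the indicator vector of a code word. -/
def two (c : Finset GolayPt) : V := fun i => if i ∈ c then 2 else 0

theorem two_LD {c : Finset GolayPt} (hc : c ∈ GC) : LD (two c) 0 c := by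
  refine ⟨hc, fun i => ?_, ?_⟩
  · unfold two res; split_ifs <;> simp
  · unfold two
    rw [sum_ite_mem_const]
    have := four_dvd_card hc
    omega

/-- the vector `(-3, 1^23)` with `-3` at `j`. -/
def odd3 (j : GolayPt) : V := fun i => if i = j then -3 else 1

theorem sum_odd3 (j : GolayPt) : ∑ i, odd3 j i = 20 := by
  have : ∀ i, odd3 j i = 1 - (Pi.single j 4 : V) i := by
    intro i; unfold odd3; simp only [Pi.single_apply]; split_ifs <;> norm_num
  simp only [this, Finset.sum_sub_distrib, sum_const24]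
  simp

theorem odd3_LD (j : GolayPt) : LD (odd3 j) 1 ∅ := by
  refine ⟨empty_mem_GC, fun i => ?_, ?_⟩
  · unfold odd3 res; simp only [notMem_empty, if_false]; split_ifs <;> norm_num
  · rw [sum_odd3]; norm_num

theorem sqNorm_odd3 (j : GolayPt) : sqNorm (odd3 j) = 32 := by
  have : ∀ i, odd3 j i ^ 2 = 1 + (Pi.single j 8 : V) i := by
    intro i; unfold odd3; simp only [Pi.single_apply]; split_ifs <;> norm_num
  unfold sqNorm
  simp only [this, Finset.sum_add_distrib, sum_const24]
  simp

theorem sqNorm_two (c : Finset GolayPt) : sqNorm (two c) = 4 * c.card := by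
  have : ∀ i, two c i ^ 2 = if i ∈ c then 4 else 0 := by
    intro i; unfold two; split_ifs <;> norm_num
  unfold sqNorm
  simp only [this, sum_ite_mem_const]

/-- Generation principle: a subgroup containing `(-3,1^23)`, `2 * b` for the basis words `b` and
the vectors `4 e_i + 4 e_∞`, contains the lattice. -/
theorem L_le_of_gens (K : AddSubgroup V) (h1 : odd3 none ∈ K)
    (h2 : ∀ b ∈ basL, two (ofMask b) ∈ K)
    (h3 : ∀ i, (Pi.single i 4 + Pi.single none 4 : V) ∈ K) : leechLattice ≤ K := by
  have h8 : (Pi.single none 8 : V) ∈ K := by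
    have := h3 none
    rwa [← Pi.single_add] at this
  have h4 : ∀ x : V, LD x 0 ∅ → x ∈ K := by
    intro x hx
    choose z hz using hx.2.1
    simp only [res, notMem_empty, if_false, sub_zero] at hz
    obtain ⟨t, ht⟩ := hx.2.2
    have hs : ∑ i, z i = 2 * t := by
      have : ∑ i, x i = 4 * ∑ i, z i := by rw [Finset.mul_sum]; exact Finset.sum_congr rfl fun i _ => hz i
      omega
    have : x = ∑ i, z i • (Pi.single i 4 + Pi.single none 4 : V) - t • (Pi.single none 8 : V) := by
      ext k
      simp only [Pi.sub_apply, Finset.sum_apply, Pi.smul_apply, Pi.add_apply, smul_eq_mul, mul_add,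
        Finset.sum_add_distrib]
      rw [← Finset.sum_mul, hs]
      simp only [Pi.single_apply, mul_ite, mul_zero]
      rw [Finset.sum_ite_eq]
      simp only [mem_univ, if_true, hz k]
      split_ifs <;> ring
    rw [this]
    exact sub_mem (sum_mem fun i _ => zsmul_mem (h3 i) _) (zsmul_mem h8 _)
  have h5 : ∀ c ∈ GC, two c ∈ K := by
    intro c hc
    obtain ⟨m, hm, rfl⟩ := exists_cw_of_mem hc
    rw [(cw_facts hm).1]
    have := lin_induction (fun n => ofMask n ∈ GC ∧ two (ofMask n) ∈ K)
      (by
        rw [ofMask_zero]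
        refine ⟨empty_mem_GC, ?_⟩
        have : two ∅ = 0 := by ext i; simp [two]
        rw [this]; exact zero_mem _)
      (by
        rintro a b ⟨ha, ha'⟩ ⟨hb, hb'⟩
        rw [ofMask_xor]
        refine ⟨symmDiff_mem_GC ha hb, ?_⟩
        have e := ((two_LD (symmDiff_mem_GC ha hb)).add (two_LD ha).neg).add (two_LD hb).neg
        have e2 : ((ofMask a ∆ ofMask b) ∆ ofMask a) ∆ ofMask b = ∅ := by
          ext p; simp only [Finset.mem_symmDiff, notMem_empty]; tauto
        rw [e2] at e
        have := add_mem (add_mem (h4 _ (by simpa using e)) hb') ha'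
        simpa using this)
      basL (fun b hb => ⟨basL_mem b hb, h2 b hb⟩) m
    exact this.2
  have h6 : ∀ (x : V) (c : Finset GolayPt), LD x 0 c → x ∈ K := by
    intro x c hx
    have e := hx.add (two_LD hx.1).neg
    rw [symmDiff_self] at e
    have := add_mem (h4 _ (by simpa using e)) (h5 c hx.1)
    simpa using this
  intro x hx
  obtain ⟨c, h | h⟩ := (mem_L_iff01 x).1 hx
  · exact h6 x c h
  · have e := h.add (odd3_LD none).neg
    have := add_mem (h6 _ _ (by simpa using e)) h1
    simpa using this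

theorem closure_min_eq :
    AddSubgroup.closure {x : V | x ∈ leechLattice ∧ sqNorm x = 32} = leechLattice := by
  apply le_antisymm
  · rw [AddSubgroup.closure_le]
    exact fun x hx => hx.1
  · set K := AddSubgroup.closure {x : V | x ∈ leechLattice ∧ sqNorm x = 32}
    have hp : ∀ (i j : GolayPt) (a b : ℤ), i ≠ j → a ^ 2 = 16 → b ^ 2 = 16 → (4 : ℤ) ∣ a →
        (4 : ℤ) ∣ b → (8 : ℤ) ∣ a + b → (Pi.single i a + Pi.single j b : V) ∈ K := by
      intro i j a b hij ha hb ha' hb' hab
      apply AddSubgroup.subset_closure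
      refine ⟨pair_mem_L i j ha' hb' hab, ?_⟩
      rw [sqNorm_add, sqNorm_single, sqNorm_single, dot_single_left, Pi.single_eq_of_ne hij, ha, hb]
      norm_num
    have hoct : ∀ b : ℕ, isCw b = true → pc b = 8 → two (ofMask b) ∈ K := by
      intro b hb hb'
      apply AddSubgroup.subset_closure
      refine ⟨(two_LD (mem_GC_of_isCw hb)).mem, ?_⟩
      rw [sqNorm_two, card_ofMask, hb']; norm_num
    have h3 : ∀ i, (Pi.single i 4 + Pi.single none 4 : V) ∈ K := by
      intro i
      by_cases hi : i = none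
      · subst hi
        have e1 := hp (some 0) none 4 4 (by decide) (by norm_num) (by norm_num) (by norm_num)
          (by norm_num) (by norm_num)
        have e2 := hp (some 0) none (-4) 4 (by decide) (by norm_num) (by norm_num) (by norm_num)
          (by norm_num) (by norm_num)
        have := add_mem e1 e2
        convert this using 1
        rw [Pi.single_neg]; abel
      · exact hp i none 4 4 hi (by norm_num) (by norm_num) (by norm_num) (by norm_num) (by norm_num)
    apply L_le_of_gens K _ _ h3
    · exact AddSubgroup.subset_closure ⟨(odd3_LD none).mem, sqNorm_odd3 none⟩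
    · have : ∀ b ∈ basL, isCw b = true ∧ pc b = 8 := by decide +kernel
      exact fun b hb => hoct b (this b hb).1 (this b hb).2

/-! ### The index -/

/-- the sublattice of vectors with even coordinates. -/
def evenSub : AddSubgroup V where
  carrier := {x | ∃ c, LD x 0 c}
  zero_mem' := ⟨∅, LD_zero⟩
  add_mem' := by
    rintro x y ⟨c, h⟩ ⟨d, h'⟩
    exact ⟨_, by simpa using h.add h'⟩
  neg_mem' := by
    rintro x ⟨c, h⟩
    exact ⟨_, by simpa using h.neg⟩

theorem LD.unique {x : V} {m : ℤ} {c d : Finset GolayPt} (h : LD x m c) (h' : LD x m d) : c = d := by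
  ext i
  have h1 := h.2.1 i
  have h2 := h'.2.1 i
  unfold res at *
  by_cases a : i ∈ c <;> by_cases b : i ∈ d <;> simp only [a, b, if_true, if_false] at h1 h2 ⊢ <;>
    omega

theorem LD.not01 {x : V} {c d : Finset GolayPt} (h : LD x 0 c) (h' : LD x 1 d) : False := by
  have h1 := h.2.1 none
  have h2 := h'.2.1 none
  unfold res at *
  split_ifs at h1 h2 <;> omega

/-- reduction of all coordinates modulo 4 together with the sum modulo 8. -/
def red48 : V →+ (GolayPt → ZMod 4) × ZMod 8 where
  toFun x := (fun i => (x i : ZMod 4), ((∑ i, x i : ℤ) : ZMod 8))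
  map_zero' := by ext <;> simp
  map_add' x y := by ext <;> simp [Finset.sum_add_distrib]

theorem mem_ker_red48 (x : V) : x ∈ red48.ker ↔ LD x 0 ∅ := by
  rw [AddMonoidHom.mem_ker, Prod.ext_iff, funext_iff]
  simp only [red48, AddMonoidHom.coe_mk, ZeroHom.coe_mk, Prod.fst_zero, Pi.zero_apply,
    Prod.snd_zero, ZMod.intCast_zmod_eq_zero_iff_dvd, LD, empty_mem_GC, true_and, res,
    notMem_empty, if_false, sub_zero, mul_zero]
  rfl

/-- the sublattice `4 ℤ^24`. -/
def fourSub : AddSubgroup V :=
  (AddMonoidHom.compLeft (Int.castAddHom (ZMod 4)) GolayPt).ker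

theorem mem_fourSub (x : V) : x ∈ fourSub ↔ ∀ i, (4 : ℤ) ∣ x i := by
  rw [fourSub, AddMonoidHom.mem_ker, funext_iff]
  simp only [AddMonoidHom.compLeft_apply, Function.comp, Int.coe_castAddHom, Pi.zero_apply,
    ZMod.intCast_zmod_eq_zero_iff_dvd]
  rfl

theorem index_fourSub : fourSub.index = 4 ^ 24 := by
  rw [fourSub, AddSubgroup.index_ker, AddMonoidHom.range_eq_top.2]
  · simp [Nat.card_eq_fintype_card]
  · intro y
    refine ⟨fun i => (y i).cast, ?_⟩
    ext i
    simp

theorem relIndex_two (H K : AddSubgroup V) (a : V) (ha : a ∈ K) (ha' : a ∉ H)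
    (h : ∀ b ∈ K, b ∈ H ∨ b + a ∈ H) : H.relIndex K = 2 := by
  rw [AddSubgroup.relIndex, AddSubgroup.index_eq_two_iff]
  refine ⟨⟨a, ha⟩, fun b => ?_⟩
  simp only [AddSubgroup.mem_addSubgroupOf, AddSubgroup.coe_add]
  rcases h b b.2 with h1 | h1
  · refine Or.inr ⟨h1, fun h2 => ha' ?_⟩
    simpa using sub_mem h2 h1
  · refine Or.inl ⟨h1, fun h2 => ha' ?_⟩
    simpa using sub_mem h1 h2

theorem index_ker_red48 : red48.ker.index = 2 ^ 49 := by
  have hle : red48.ker ≤ fourSub := by
    intro x hx
    rw [mem_ker_red48] at hx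
    rw [mem_fourSub]
    simpa [res] using hx.2.1
  rw [← AddSubgroup.relIndex_mul_index hle, index_fourSub,
    relIndex_two _ _ (Pi.single none 4)]
  · norm_num
  · rw [mem_fourSub]
    intro i
    simp only [Pi.single_apply]; split_ifs <;> norm_num
  · rw [mem_ker_red48]
    intro h
    have := h.2.2
    simp at this
  · intro b hb
    rw [mem_fourSub] at hb
    have h4 : (4 : ℤ) ∣ ∑ i, b i := Finset.dvd_sum fun i _ => hb i
    rw [mem_ker_red48, mem_ker_red48]
    by_cases h8 : (8 : ℤ) ∣ ∑ i, b i
    · exact Or.inl ⟨empty_mem_GC, by simpa [res] using hb, by simpa using h8⟩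
    · refine Or.inr ⟨empty_mem_GC, fun i => ?_, ?_⟩
      · have := hb i
        simp only [res, notMem_empty, if_false, Pi.add_apply, Pi.single_apply]
        split_ifs <;> omega
      · simp only [Pi.add_apply, Finset.sum_add_distrib, Finset.sum_pi_single', mem_univ, if_true]
        omega

theorem relIndex_even : evenSub.relIndex leechLattice = 2 := by
  apply relIndex_two _ _ (odd3 none) (odd3_LD none).mem
  · rintro ⟨c, h⟩
    exact h.not01 (odd3_LD none)
  · intro b hb
    obtain ⟨c, h | h⟩ := (mem_L_iff01 b).1 hb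
    · exact Or.inl ⟨c, h⟩
    · exact Or.inr ⟨_, ((h.add (odd3_LD none)).shift.congr (m' := 0) (by norm_num))⟩

theorem relIndex_ker_even : red48.ker.relIndex evenSub = 4096 := by
  classical
  let φ : evenSub →+ golayCode :=
    { toFun := fun x => ⟨ind x.2.choose, mem_GC_iff_ind.1 x.2.choose_spec.1⟩
      map_zero' := by
        apply Subtype.ext
        have := (0 : evenSub).2.choose_spec.unique LD_zero
        simp only [this, ind_empty]; rfl
      map_add' := by
        intro x y
        apply Subtype.ext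
        have := (x + y).2.choose_spec.unique
          (d := x.2.choose ∆ y.2.choose) (by simpa using x.2.choose_spec.add y.2.choose_spec)
        simp only [this, ind_symmDiff]; rfl }
  have hk : red48.ker.addSubgroupOf evenSub = φ.ker := by
    ext x
    rw [AddSubgroup.mem_addSubgroupOf, mem_ker_red48, AddMonoidHom.mem_ker]
    constructor
    · intro h
      apply Subtype.ext
      have := x.2.choose_spec.unique h
      change ind _ = 0
      rw [this, ind_empty]
    · intro h
      have h1 : ind x.2.choose = 0 := congrArg Subtype.val h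
      have h2 : x.2.choose = ∅ := by rw [← support_ind x.2.choose, h1, ← ind_empty, support_ind]
      have := x.2.choose_spec
      rwa [h2] at this
  rw [AddSubgroup.relIndex, hk, AddSubgroup.index_ker, AddMonoidHom.range_eq_top.2]
  · rw [AddSubgroup.card_top, card_golayCode]
  · rintro ⟨w, hw⟩
    have hc := support_mem_GC.2 hw
    refine ⟨⟨two (support₂ w), _, two_LD hc⟩, Subtype.ext ?_⟩
    change ind _ = w
    have := (⟨two (support₂ w), _, two_LD hc⟩ : evenSub).2.choose_spec.unique (two_LD hc)
    rw [this, ind_support]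

theorem index_L : leechLattice.index = 2 ^ 36 := by
  have h1 : red48.ker ≤ evenSub := fun x hx => ⟨∅, (mem_ker_red48 x).1 hx⟩
  have h2 : evenSub ≤ leechLattice := fun x ⟨_, h⟩ => h.mem
  have h3 := AddSubgroup.relIndex_mul_index (h1.trans h2)
  rw [← AddSubgroup.relIndex_mul_relIndex _ _ _ h1 h2, relIndex_even, relIndex_ker_even,
    index_ker_red48] at h3
  omega

end H10
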