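import Mathlib
import Cfsg.Agent.H10.Leech

/-! Counting short vectors of the Leech lattice by a generating function. -/

set_option autoImplicit false

namespace H10

open Cfsg Finset H9

theorem digit_sum_pow {α : Type*} (F : Finset α) (E : α → ℕ) (B k : ℕ) (hB : F.card < B) :
    (∑ x ∈ F, B ^ E x) / B ^ k % B = (F.filter fun x => E x = k).card := by
  classical
  have hB0 : 0 < B := by omega
  have h1 : ∑ x ∈ F, B ^ E x = ∑ x ∈ F.filter (fun x => E x < k), B ^ E x +
      B ^ k * ((F.filter fun x => E x = k).card +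
        B * ∑ x ∈ F.filter (fun x => k < E x), B ^ (E x - k - 1)) := by
    rw [mul_add, Finset.mul_sum, Finset.mul_sum, Finset.card_eq_sum_ones, Finset.mul_sum,
      Finset.sum_filter, Finset.sum_filter, Finset.sum_filter, ← Finset.sum_add_distrib,
      ← Finset.sum_add_distrib]
    apply Finset.sum_congr rfl
    intro x _
    rcases lt_trichotomy (E x) k with h | h | h
    · simp [h, h.ne, not_lt_of_gt h]
    · simp [h]
    · simp only [h, h.ne', not_lt_of_gt h, if_true, if_false, zero_add]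
      rw [← pow_succ', ← pow_add]
      congr 1; omega
  have h2 : ∑ x ∈ F.filter (fun x => E x < k), B ^ E x < B ^ k := by
    rcases k with _ | k
    · simp
    · calc ∑ x ∈ F.filter (fun x => E x < k + 1), B ^ E x
          ≤ (F.filter (fun x => E x < k + 1)).card • B ^ k := by
            apply Finset.sum_le_card_nsmul
            intro x hx
            exact Nat.pow_le_pow_right hB0 (by simpa [Nat.lt_succ_iff] using (mem_filter.1 hx).2)
        _ ≤ F.card * B ^ k := by
            rw [smul_eq_mul]; exact Nat.mul_le_mul_right _ (Finset.card_filter_le _ _)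
        _ < B ^ (k + 1) := by
            rw [pow_succ']; exact Nat.mul_lt_mul_of_pos_right hB (pow_pos hB0 k)
  rw [h1, Nat.add_mul_div_left _ _ (pow_pos hB0 k), Nat.div_eq_of_lt h2, zero_add,
    Nat.add_mul_mod_self_left, Nat.mod_eq_of_lt]
  exact lt_of_le_of_lt (Finset.card_filter_le _ _) hB

theorem finite_norm (n : ℤ) : {x : V | sqNorm x = n}.Finite := by
  apply Set.Finite.subset (Set.Finite.pi' (fun _ : GolayPt => Set.finite_Icc (-n) n))
  intro x hx i
  have h1 := sq_le_sqNorm x i
  rw [hx] at h1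
  constructor <;> nlinarith [sq_nonneg (x i - 1), sq_nonneg (x i + 1), Int.le_self_sq (x i),
    Int.le_self_sq (-x i)]

/-- the Golay code as a `Finset`. -/
noncomputable def GCf : Finset (Finset GolayPt) := by
  classical exact univ.filter (· ∈ GC)

theorem mem_GCf {c : Finset GolayPt} : c ∈ GCf ↔ c ∈ GC := by
  simp [GCf]

theorem card_GCf_filter (k : ℕ) :
    (GCf.filter fun c => c.card = k).card = treeCnt (fun m => Nat.beq (pc (cw m)) k) 12 := by
  rw [← ncard_GC (fun s => s.card = k) (fun n => Nat.beq (pc n) k)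
    (fun m _ => by rw [card_ofMask, beq_iff]), ← Set.ncard_coe_finset]
  congr 1
  ext c
  simp [mem_GCf]

theorem sum_GCf (g : ℕ → ℕ) :
    ∑ c ∈ GCf, g c.card = g 0 + 759 * g 8 + 2576 * g 12 + 759 * g 16 + g 24 := by
  rw [← Finset.sum_fiberwise_of_maps_to (s := GCf) (t := ({0, 8, 12, 16, 24} : Finset ℕ))
    (g := fun c => c.card)]
  · have : ∀ k, ∑ c ∈ GCf with c.card = k, g c.card = (GCf.filter fun c => c.card = k).card * g k := by
      intro k
      rw [Finset.sum_congr rfl (g := fun _ => g k), Finset.sum_const, smul_eq_mul]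
      intro c hc
      rw [(mem_filter.1 hc).2]
    simp only [this, card_GCf_filter]
    have e0 : treeCnt (fun m => Nat.beq (pc (cw m)) 0) 12 = 1 := by decide +kernel
    have e8 : treeCnt (fun m => Nat.beq (pc (cw m)) 8) 12 = 759 := by decide +kernel
    have e12 : treeCnt (fun m => Nat.beq (pc (cw m)) 12) 12 = 2576 := by decide +kernel
    have e16 : treeCnt (fun m => Nat.beq (pc (cw m)) 16) 12 = 759 := by decide +kernel
    have e24 : treeCnt (fun m => Nat.beq (pc (cw m)) 24) 12 = 1 := by decide +kernel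
    rw [Finset.sum_insert (by decide), Finset.sum_insert (by decide), Finset.sum_insert (by decide),
      Finset.sum_insert (by decide), Finset.sum_singleton, e0, e8, e12, e16, e24]
    ring
  · intro c hc
    have := card_of_mem_GC (mem_GCf.1 hc)
    simp only [mem_insert, mem_singleton]
    exact this

/-- allowed coordinate values with residue `r` modulo 4. -/
noncomputable def thS (T : ℤ → Bool) (r : ℤ) : Finset ℤ :=
  (Finset.Icc (-8 : ℤ) 8).filter fun t => t % 4 = r ∧ T t = true

def thE (t : ℤ) : ℕ := t.natAbs ^ 2 + 2048 * ((t / 4) % 2).toNat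

def thP (T : ℤ → Bool) (r : ℤ) : ℕ :=
  (([-8, -7, -6, -5, -4, -3, -2, -1, 0, 1, 2, 3, 4, 5, 6, 7, 8] : List ℤ).map
    fun t => if t % 4 = r ∧ T t = true then (2 ^ 64) ^ thE t else 0).sum

theorem thP_eq (T : ℤ → Bool) (r : ℤ) : thP T r = ∑ t ∈ thS T r, (2 ^ 64) ^ thE t := by
  rw [thS, Finset.sum_filter]
  have : Finset.Icc (-8 : ℤ) 8 =
      ([-8, -7, -6, -5, -4, -3, -2, -1, 0, 1, 2, 3, 4, 5, 6, 7, 8] : List ℤ).toFinset := by decide
  rw [this, List.sum_toFinset _ (by decide)]
  rfl

theorem card_thS (T : ℤ → Bool) (r : ℤ) : (thS T r).card ≤ 5 := by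
  have : thS T r ⊆ (Finset.Icc (-2 : ℤ) 2).image fun z => 4 * z + r % 4 := by
    intro t ht
    simp only [thS, mem_filter, mem_Icc] at ht
    simp only [mem_image, mem_Icc]
    exact ⟨t / 4, by omega, by omega⟩
  refine (Finset.card_le_card this).trans (Finset.card_image_le.trans ?_)
  simp

/-- number of vectors with parity `m` attached to a code word of weight `k`. -/
def thG (T : ℤ → Bool) (n : ℕ) (m : ℕ) (k : ℕ) : ℕ :=
  force (thP T (m + 2) ^ k * thP T m ^ (24 - k)) fun N =>
    sumLt 25 fun j => if j % 2 = m then N / (2 ^ 64) ^ (n + 2048 * j) % 2 ^ 64 else 0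

noncomputable def thF (T : ℤ → Bool) (n : ℕ) (m : ℤ) (c : Finset GolayPt) : Finset V :=
  (Fintype.piFinset fun i => thS T (res m c i)).filter fun x =>
    sqNorm x = n ∧ (8 : ℤ) ∣ ∑ i, x i - 4 * m

theorem card_thF (T : ℤ → Bool) (n : ℕ) (hn : n ≤ 64) (m : ℕ) (hm : m < 2) (c : Finset GolayPt)
    (hc : c ∈ GC) : (thF T n m c).card = thG T n m c.card := by
  classical
  set F := Fintype.piFinset fun i => thS T (res m c i) with hF
  have hcard : F.card < 2 ^ 64 := by
    rw [hF, Fintype.card_piFinset]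
    calc ∏ i, (thS T (res m c i)).card ≤ 5 ^ (univ : Finset GolayPt).card :=
          Finset.prod_le_pow_card _ _ _ fun i _ => card_thS _ _
      _ < 2 ^ 64 := by rw [card_univ, card_golayPt]; norm_num
  have hprod : ∑ x ∈ F, (2 ^ 64) ^ (∑ i, thE (x i)) =
      thP T (m + 2) ^ c.card * thP T m ^ (24 - c.card) := by
    simp only [← Finset.prod_pow_eq_pow_sum]
    rw [hF, ← Finset.prod_univ_sum (f := fun _ t => (2 ^ 64) ^ thE t)]
    simp only [← thP_eq]
    unfold res
    simp only [apply_ite (thP T)]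
    rw [Finset.prod_ite, Finset.prod_const, Finset.prod_const]
    congr 2
    · congr 1; ext i; simp
    · rw [← card_golayPt, ← Finset.card_compl]; congr 1; ext i; simp
  rw [thG, force_eq, ← hprod, sumLt_eq]
  simp only [digit_sum_pow F _ _ _ hcard]
  rw [thF, ← hF]
  have hpar : ∀ x ∈ F, ∑ i, thE (x i) = (sqNorm x).toNat + 2048 * ∑ i, ((x i / 4) % 2).toNat ∧
      (sqNorm x).toNat < 2048 ∧ ∑ i, ((x i / 4) % 2).toNat < 25 ∧
      ((8 : ℤ) ∣ ∑ i, x i - 4 * m ↔ (∑ i, ((x i / 4) % 2).toNat) % 2 = m) := by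
    intro x hx
    have hx' : ∀ i, -8 ≤ x i ∧ x i ≤ 8 ∧ x i % 4 = res m c i := by
      intro i
      have := Fintype.mem_piFinset.1 hx i
      simp only [thS, mem_filter, mem_Icc] at this
      tauto
    have hsq : (sqNorm x).toNat = ∑ i, (x i).natAbs ^ 2 := by
      have : sqNorm x = ((∑ i, (x i).natAbs ^ 2 : ℕ) : ℤ) := by
        rw [Nat.cast_sum]
        exact Finset.sum_congr rfl fun i _ => by rw [Nat.cast_pow, Int.natAbs_sq]
      rw [this, Int.toNat_natCast]
    refine ⟨?_, ?_, ?_, ?_⟩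
    · rw [hsq, Finset.mul_sum, ← Finset.sum_add_distrib]; rfl
    · rw [hsq]
      calc ∑ i, (x i).natAbs ^ 2 ≤ (univ : Finset GolayPt).card • 64 := by
            apply Finset.sum_le_card_nsmul
            intro i _
            have : (x i).natAbs ≤ 8 := by have := hx' i; omega
            exact Nat.pow_le_pow_left this 2
        _ < 2048 := by rw [card_univ, card_golayPt]; norm_num
    · calc ∑ i, ((x i / 4) % 2).toNat ≤ (univ : Finset GolayPt).card • 1 := by
            apply Finset.sum_le_card_nsmul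
            intro i _
            omega
        _ < 25 := by rw [card_univ, card_golayPt]; norm_num
    · have h8 : (8 : ℤ) ∣ ∑ i, (x i - (m + if i ∈ c then 2 else 0) -
          4 * (((x i / 4) % 2).toNat : ℤ)) := by
        apply Finset.dvd_sum
        intro i _
        have := hx' i
        unfold res at this
        split_ifs at this ⊢ <;> omega
      rw [Finset.sum_sub_distrib, Finset.sum_sub_distrib, Finset.sum_add_distrib, sum_const24,
        sum_ite_mem_const, ← Finset.mul_sum, ← Nat.cast_sum] at h8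
      have := four_dvd_card hc
      omega
  rw [Finset.card_eq_sum_card_fiberwise (f := fun x => ∑ i, ((x i / 4) % 2).toNat) (t := range 25)]
  · apply Finset.sum_congr rfl
    intro j _
    split_ifs with hj
    · apply congrArg Finset.card
      ext x
      simp only [mem_filter]
      constructor
      · rintro ⟨⟨hx, h1, h2⟩, h3⟩
        refine ⟨hx, ?_⟩
        rw [(hpar x hx).1, h1, h3, Int.toNat_natCast]
      · rintro ⟨hx, h1⟩
        obtain ⟨a, b, c', d⟩ := hpar x hx
        have := sqNorm_nonneg x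
        refine ⟨⟨hx, by omega, d.2 (by omega)⟩, by omega⟩
    · rw [Finset.card_eq_zero, Finset.filter_eq_empty_iff]
      intro x hx h
      simp only [mem_filter] at hx
      have := (hpar x hx.1).2.2.2.1 hx.2.2
      omega
  · intro x hx
    simp only [coe_filter, Set.mem_ofPred_eq] at hx
    simpa using (hpar x hx.1).2.2.1

theorem mem_thF (T : ℤ → Bool) (n : ℕ) (hn : n ≤ 64) (m : ℤ) (hm : m = 0 ∨ m = 1)
    (c : Finset GolayPt) (hc : c ∈ GC) (x : V) :
    x ∈ thF T n m c ↔ LD x m c ∧ sqNorm x = n ∧ ∀ i, T (x i) = true := by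
  simp only [thF, mem_filter, Fintype.mem_piFinset, thS, mem_Icc, LD, hc, true_and]
  constructor
  · rintro ⟨h1, h2, h3⟩
    refine ⟨⟨fun i => ?_, h3⟩, h2, fun i => (h1 i).2.2⟩
    have := (h1 i).2.1
    omega
  · rintro ⟨⟨h1, h3⟩, h2, h4⟩
    refine ⟨fun i => ⟨?_, ?_, h4 i⟩, h2, h3⟩
    · have := sq_le_sqNorm x i
      have hn' : (n : ℤ) ≤ 64 := by exact_mod_cast hn
      constructor <;> nlinarith
    · have := h1 i
      unfold res at *
      split_ifs at this ⊢ <;> omega

/-- the total count. -/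
def thCount (T : ℤ → Bool) (n : ℕ) : ℕ :=
  (thG T n 0 0 + 759 * thG T n 0 8 + 2576 * thG T n 0 12 + 759 * thG T n 0 16 + thG T n 0 24) +
  (thG T n 1 0 + 759 * thG T n 1 8 + 2576 * thG T n 1 12 + 759 * thG T n 1 16 + thG T n 1 24)

theorem ncard_eq_thCount (T : ℤ → Bool) (n : ℕ) (hn : n ≤ 64) :
    {x : V | x ∈ leechLattice ∧ sqNorm x = n ∧ ∀ i, T (x i) = true}.ncard = thCount T n := by
  classical
  have e : {x : V | x ∈ leechLattice ∧ sqNorm x = n ∧ ∀ i, T (x i) = true} =
      ((GCf.biUnion (thF T n 0) ∪ GCf.biUnion (thF T n 1) : Finset V) : Set V) := by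
    ext x
    simp only [Set.mem_ofPred_eq, mem_coe, mem_union, mem_biUnion, mem_GCf, mem_L_iff01]
    constructor
    · rintro ⟨⟨c, h | h⟩, h2⟩
      · exact Or.inl ⟨c, h.1, (mem_thF T n hn 0 (Or.inl rfl) c h.1 x).2 ⟨h, h2⟩⟩
      · exact Or.inr ⟨c, h.1, (mem_thF T n hn 1 (Or.inr rfl) c h.1 x).2 ⟨h, h2⟩⟩
    · rintro (⟨c, hc, h⟩ | ⟨c, hc, h⟩)
      · have := (mem_thF T n hn 0 (Or.inl rfl) c hc x).1 h
        exact ⟨⟨c, Or.inl this.1⟩, this.2⟩
      · have := (mem_thF T n hn 1 (Or.inr rfl) c hc x).1 h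
        exact ⟨⟨c, Or.inr this.1⟩, this.2⟩
  have hd : ∀ m : ℤ, m = 0 ∨ m = 1 → (GCf : Set (Finset GolayPt)).PairwiseDisjoint (thF T n m) := by
    intro m hm c hc d hd hcd
    rw [Function.onFun, Finset.disjoint_left]
    intro x h1 h2
    exact hcd (((mem_thF T n hn m hm c (mem_GCf.1 hc) x).1 h1).1.unique
      ((mem_thF T n hn m hm d (mem_GCf.1 hd) x).1 h2).1)
  rw [e, Set.ncard_coe_finset, Finset.card_union_of_disjoint, Finset.card_biUnion (hd 0 (Or.inl rfl)),
    Finset.card_biUnion (hd 1 (Or.inr rfl)), thCount, ← sum_GCf (thG T n 0), ← sum_GCf (thG T n 1)]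
  · congr 1
    · exact Finset.sum_congr rfl fun c hc => card_thF T n hn 0 (by norm_num) c (mem_GCf.1 hc)
    · exact Finset.sum_congr rfl fun c hc => card_thF T n hn 1 (by norm_num) c (mem_GCf.1 hc)
  · rw [Finset.disjoint_left]
    intro x h1 h2
    simp only [mem_biUnion, mem_GCf] at h1 h2
    obtain ⟨c, hc, h1⟩ := h1
    obtain ⟨d, hd, h2⟩ := h2
    exact ((mem_thF T n hn 0 (Or.inl rfl) c hc x).1 h1).1.not01
      ((mem_thF T n hn 1 (Or.inr rfl) d hd x).1 h2).1

theorem ncard_norm (n : ℕ) (hn : n ≤ 64) :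
    {x : V | x ∈ leechLattice ∧ sqNorm x = n}.ncard = thCount (fun _ => true) n := by
  rw [← ncard_eq_thCount _ n hn]
  simp

theorem ncard_32 : {x : V | x ∈ leechLattice ∧ sqNorm x = 32}.ncard = 196560 :=
  (ncard_norm 32 (by norm_num)).trans (by decide +kernel)

theorem ncard_48 : {x : V | x ∈ leechLattice ∧ sqNorm x = 48}.ncard = 16773120 :=
  (ncard_norm 48 (by norm_num)).trans (by decide +kernel)

theorem ncard_64 : {x : V | x ∈ leechLattice ∧ sqNorm x = 64}.ncard = 398034000 :=
  (ncard_norm 64 (by norm_num)).trans (by decide +kernel)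

end H10
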