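import Mathlib
import Cfsg.Prelude.Def_SporadicCombinatorics
import Cfsg.Agent.H10.Theta
import Cfsg.Agent.H10.Short

/-! Crosses of the Leech lattice. -/

set_option autoImplicit false

namespace H10

open Cfsg Finset H9

/-- the Leech lattice as a type. -/
abbrev L : Type := ↥leechLattice

theorem eight_smul_mem (x : V) : (8 : ℤ) • x ∈ leechLattice := by
  apply mem_L_of_four
  · intro i
    simp only [Pi.smul_apply, smul_eq_mul]
    omega
  · apply Finset.dvd_sum
    intro i _
    simp only [Pi.smul_apply, smul_eq_mul]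
    omega

instance instFiniteL : Module.Finite ℤ L :=
  Module.Finite.of_injective leechLattice.subtype.toIntLinearMap Subtype.val_injective

instance instFreeL : Module.Free ℤ L := Module.free_of_finite_type_torsion_free'

theorem finrank_L : Module.finrank ℤ L = 24 := by
  have h : Module.finrank ℤ V = 24 := by
    rw [Module.finrank_fintype_fun_eq_card, card_golayPt]
  apply le_antisymm
  · rw [← h]
    exact LinearMap.finrank_le_finrank_of_injective
      (f := leechLattice.subtype.toIntLinearMap) Subtype.val_injective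
  · rw [← h]
    let f : V →+ L := AddMonoidHom.mk' (fun x => ⟨(8 : ℤ) • x, eight_smul_mem x⟩)
      (fun x y => Subtype.ext (smul_add _ _ _))
    apply LinearMap.finrank_le_finrank_of_injective (f := f.toIntLinearMap)
    intro x y h
    have : (8 : ℤ) • x = (8 : ℤ) • y := congrArg Subtype.val h
    exact smul_right_injective _ (by norm_num) this

theorem dot8 (x y : L) : dotInt (x : V) y = 8 * (dotInt (x : V) y / 8) :=
  (Int.mul_ediv_cancel' (eight_dvd_dot x.2 y.2)).symm

/-- the Leech lattice in the customary scaling. -/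
noncomputable def leechEL : EL L where
  β := AddMonoidHom.mk' (fun x => AddMonoidHom.mk' (fun y => dotInt (x : V) y / 8)
    (fun y z => by
      have := dot8 x y
      have := dot8 x z
      rw [AddSubgroup.coe_add, dot_add_right]; omega))
    (fun x y => AddMonoidHom.ext fun z => by
      have := dot8 x z
      have := dot8 y z
      simp only [AddMonoidHom.mk'_apply, AddMonoidHom.add_apply]
      rw [AddSubgroup.coe_add, dot_add_left]; omega)
  symm x y := by simp only [AddMonoidHom.mk'_apply, dot_comm]
  pos x hx := by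
    have := min_norm x.2 (fun h => hx (Subtype.ext h))
    simp only [AddMonoidHom.mk'_apply, dot_self]
    omega
  even x := by
    have := sixteen_dvd_sqNorm x.2
    simp only [AddMonoidHom.mk'_apply, dot_self]
    omega
  no2 x := by
    have := sixteen_dvd_sqNorm x.2
    simp only [AddMonoidHom.mk'_apply, dot_self]
    by_cases hx : (x : V) = 0
    · rw [hx]; simp [sqNorm]
    · have := min_norm x.2 hx
      omega

theorem leechEL_apply (x y : L) : leechEL.β x y = dotInt (x : V) y / 8 := rfl

theorem leechEL_self (x : L) (n : ℤ) : leechEL.β x x = n ↔ sqNorm (x : V) = 8 * n := by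
  have := dot8 x x
  rw [leechEL_apply, dot_self] at *
  omega

theorem ncard_L (P : V → Prop) : {x : L | P x}.ncard = {x : V | x ∈ leechLattice ∧ P x}.ncard := by
  rw [← Set.ncard_image_of_injective _ Subtype.val_injective]
  congr 1
  ext x
  simp only [Set.mem_image, Set.mem_ofPred_eq]
  constructor
  · rintro ⟨y, h, rfl⟩
    exact ⟨y.2, h⟩
  · rintro ⟨h1, h2⟩
    exact ⟨⟨x, h1⟩, h2, rfl⟩

theorem ncardL_32 : {x : L | sqNorm (x : V) = 32}.ncard = 196560 :=
  (ncard_L fun x => sqNorm x = 32).trans ncard_32

theorem ncardL_48 : {x : L | sqNorm (x : V) = 48}.ncard = 16773120 :=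
  (ncard_L fun x => sqNorm x = 48).trans ncard_48

theorem ncardL_64 : {x : L | sqNorm (x : V) = 64}.ncard = 398034000 :=
  (ncard_L fun x => sqNorm x = 64).trans ncard_64

theorem leech_main :
    (∀ x : L, leechEL.β x x = 8 → {y | leechEL.β y y = 8 ∧ ∃ z, x - y = 2 • z}.ncard = 48) ∧
    ∀ x : L, ∃ y, leechEL.β y y ≤ 8 ∧ ∃ z, x - y = 2 • z := by
  apply leechEL.main finrank_L
  · simp only [leechEL_self]; exact ncardL_32
  · simp only [leechEL_self]; exact ncardL_48
  · simp only [leechEL_self]; exact ncardL_64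

theorem ncard_cross {x : V} (hx : x ∈ leechLattice) (hn : sqNorm x = 64) : (cross x).ncard = 48 := by
  have := leech_main.1 ⟨x, hx⟩ ((leechEL_self _ _).2 hn)
  rw [← this, cross, ← ncard_L fun y => sqNorm y = sqNorm x ∧ ∃ z ∈ leechLattice, x - y = 2 • z]
  congr 1
  ext y
  simp only [Set.mem_ofPred_eq, leechEL_self, hn]
  refine and_congr Iff.rfl ⟨?_, ?_⟩
  · rintro ⟨z, hz, h⟩
    exact ⟨⟨z, hz⟩, Subtype.ext h⟩
  · rintro ⟨z, h⟩
    exact ⟨z, z.2, congrArg Subtype.val h⟩

theorem exists_short {x : V} (hx : x ∈ leechLattice) :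
    ∃ y ∈ leechLattice, sqNorm y ≤ 64 ∧ ∃ z ∈ leechLattice, x - y = 2 • z := by
  obtain ⟨y, hy, z, hz⟩ := leech_main.2 ⟨x, hx⟩
  refine ⟨y, y.2, ?_, z, z.2, congrArg Subtype.val hz⟩
  have := dot8 y y
  rw [leechEL_apply] at hy
  rw [dot_self] at *
  omega

theorem ncard_stdCross : stdCross.ncard = 48 := by
  have : stdCross = (fun p : GolayPt × Bool => (Pi.single p.1 (if p.2 then 8 else -8) : V)) ''
      Set.univ := by
    ext y
    simp only [stdCross, Set.mem_ofPred_eq, Set.image_univ, Set.mem_range]
    constructor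
    · rintro ⟨i, s, rfl | rfl, rfl⟩
      · exact ⟨(i, true), rfl⟩
      · exact ⟨(i, false), rfl⟩
    · rintro ⟨⟨i, b⟩, rfl⟩
      cases b
      · exact ⟨i, -8, Or.inr rfl, rfl⟩
      · exact ⟨i, 8, Or.inl rfl, rfl⟩
  rw [this, Set.ncard_image_of_injective, Set.ncard_univ, Nat.card_eq_fintype_card,
    Fintype.card_prod, card_golayPt, Fintype.card_bool]
  rintro ⟨i, b⟩ ⟨j, c⟩ h
  have h1 := congrFun h i
  simp only [Pi.single_eq_same, Pi.single_apply] at h1
  by_cases hij : i = j
  · subst hij
    cases b <;> cases c <;> simp at h1 ⊢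
  · rw [if_neg hij] at h1
    cases b <;> simp at h1

/-- the cross through `8 e_a` is the standard cross. -/
theorem cross_single (a : GolayPt) : cross (Pi.single a 8 : V) = stdCross := by
  symm
  apply Set.eq_of_subset_of_ncard_le
  · rintro y ⟨i, s, hs, rfl⟩
    refine ⟨single_mem_L i (by omega), ?_, Pi.single a 4 + Pi.single i (-s / 2),
      pair_mem_L a i (by norm_num) (by omega) (by omega), ?_⟩
    · rw [sqNorm_single, sqNorm_single]
      rcases hs with rfl | rfl <;> norm_num
    · ext k
      simp only [Pi.sub_apply, Pi.smul_apply, Pi.add_apply, Pi.single_apply, nsmul_eq_mul]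
      split_ifs <;> push_cast <;> omega
  · rw [ncard_stdCross, ncard_cross (single_mem_L a (by norm_num)) (by rw [sqNorm_single]; norm_num)]
  · exact Set.finite_of_ncard_ne_zero (by
      rw [ncard_cross (single_mem_L a (by norm_num)) (by rw [sqNorm_single]; norm_num)]; norm_num)

end H10
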