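import Mathlib
import Cfsg.Prelude.Def_Spor_Conway
import Cfsg.Agent.H9.M24
import Cfsg.Agent.H10.Cross

/-! The group `Co0`: basic API and the monomial subgroup. -/

set_option autoImplicit false

namespace H10

open Cfsg Finset H9 MulAction
open scoped Pointwise symmDiff

/-- Conway's group as a type. -/
abbrev G0 : Type := ↥Co0

theorem co_add (g : G0) (v w : L) : g • (v + w) = g • v + g • w := g.2.1 v w

theorem co_norm (g : G0) (v : L) : sqNorm ((g • v : L) : V) = sqNorm (v : V) := g.2.2 v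

/-- an element of `Co0` as an additive map. -/
def coHom (g : G0) : L →+ L := AddMonoidHom.mk' (fun v => g • v) (co_add g)

theorem coHom_apply (g : G0) (v : L) : coHom g v = g • v := rfl

theorem co_zero (g : G0) : g • (0 : L) = 0 := (coHom g).map_zero

theorem co_neg (g : G0) (v : L) : g • (-v) = -(g • v) := (coHom g).map_neg v

theorem co_sub (g : G0) (v w : L) : g • (v - w) = g • v - g • w := (coHom g).map_sub v w

theorem co_zsmul (g : G0) (k : ℤ) (v : L) : g • (k • v) = k • (g • v) := (coHom g).map_zsmul k v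

theorem co_nsmul (g : G0) (k : ℕ) (v : L) : g • (k • v) = k • (g • v) := (coHom g).map_nsmul k v

theorem co_dot (g : G0) (v w : L) :
    dotInt ((g • v : L) : V) ((g • w : L) : V) = dotInt (v : V) (w : V) := by
  have h := co_norm g (v + w)
  rw [co_add, AddSubgroup.coe_add, AddSubgroup.coe_add, sqNorm_add, sqNorm_add, co_norm,
    co_norm] at h
  omega

theorem co_norm_sub (g : G0) (v w : L) :
    sqNorm (((g • v : L) : V) - ((g • w : L) : V)) = sqNorm ((v : V) - (w : V)) := by
  rw [← AddSubgroup.coe_sub, ← co_sub, co_norm, AddSubgroup.coe_sub]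

theorem co_dot_left (g : G0) (v w : L) :
    dotInt ((g • v : L) : V) (w : V) = dotInt (v : V) ((g⁻¹ • w : L) : V) := by
  rw [← co_dot g v (g⁻¹ • w), smul_inv_smul]

theorem co_ext {g h : G0} (e : ∀ v : L, g • v = h • v) : g = h :=
  Subtype.ext (Equiv.ext e)

theorem finite_normL (n : ℤ) : {x : L | sqNorm (x : V) = n}.Finite :=
  Set.Finite.preimage Subtype.val_injective.injOn (finite_norm n)

theorem bij_of_isometry (f : L → L) (hadd : ∀ v w, f (v + w) = f v + f w)
    (hn : ∀ v : L, sqNorm (f v : V) = sqNorm (v : V)) : Function.Bijective f := by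
  have hinj : Function.Injective f := by
    intro v w h
    have h1 := (AddMonoidHom.mk' f hadd).map_sub v w
    simp only [AddMonoidHom.mk'_apply] at h1
    have h2 := hn (v - w)
    rw [h1, h, sub_self] at h2
    have : sqNorm ((v - w : L) : V) = 0 := by rw [← h2]; simp [sqNorm]
    exact sub_eq_zero.1 (Subtype.ext (sqNorm_eq_zero this))
  refine ⟨hinj, fun w => ?_⟩
  have := (((finite_normL (sqNorm (w : V))).injOn_iff_bijOn_of_mapsTo (f := f)
    (fun v hv => (hn v).trans hv)).1 hinj.injOn).surjOn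
  obtain ⟨v, _, hv⟩ := this (show w ∈ {x : L | sqNorm (x : V) = sqNorm (w : V)} from rfl)
  exact ⟨v, hv⟩

/-- an element of `Co0` from an additive norm-preserving map. -/
noncomputable def mkCo (f : L → L) (hadd : ∀ v w, f (v + w) = f v + f w)
    (hn : ∀ v : L, sqNorm (f v : V) = sqNorm (v : V)) : G0 :=
  ⟨Equiv.ofBijective f (bij_of_isometry f hadd hn), hadd, hn⟩

theorem mkCo_smul (f : L → L) (hadd : ∀ v w, f (v + w) = f v + f w)
    (hn : ∀ v : L, sqNorm (f v : V) = sqNorm (v : V)) (v : L) : mkCo f hadd hn • v = f v := rfl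

theorem signedPerm_mem {σ : Equiv.Perm GolayPt} (hσ : σ ∈ M24) {c : Finset GolayPt} (hc : c ∈ GC)
    {x : V} (hx : x ∈ leechLattice) : signedPerm σ c x ∈ leechLattice :=
  sign_mem_L hc (perm_mem_L (M24.inv_mem hσ) hx)

theorem sqNorm_signedPerm (σ : Equiv.Perm GolayPt) (c : Finset GolayPt) (x : V) :
    sqNorm (signedPerm σ c x) = sqNorm x := by
  unfold sqNorm signedPerm
  rw [← Equiv.sum_comp σ.symm fun i => x i ^ 2]
  apply Finset.sum_congr rfl
  intro i _
  split_ifs <;> ring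

/-- the monomial elements of `Co0`. -/
noncomputable def mono (σ : M24) (c : GC) : G0 :=
  mkCo (fun v => ⟨signedPerm σ c v, signedPerm_mem σ.2 c.2 v.2⟩)
    (fun v w => Subtype.ext (funext fun i => by
      simp only [signedPerm, AddSubgroup.coe_add, Pi.add_apply]
      split_ifs <;> ring))
    (fun v => sqNorm_signedPerm _ _ _)

theorem mono_smul (σ : M24) (c : GC) (v : L) :
    ((mono σ c • v : L) : V) = signedPerm σ c v := rfl

theorem mono_apply (σ : M24) (c : GC) (v : L) (i : GolayPt) :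
    ((mono σ c • v : L) : V) ((σ : Equiv.Perm GolayPt) i) =
      if (σ : Equiv.Perm GolayPt) i ∈ c.1 then -(v : V) i else (v : V) i := by
  simp [mono_smul, signedPerm]

/-- negation. -/
noncomputable def neg1 : G0 :=
  mkCo (fun v => -v) (fun v w => neg_add v w) (fun v => sqNorm_neg _)

theorem neg1_smul (v : L) : neg1 • v = -v := rfl

theorem neg1_comm (g : G0) : g * neg1 = neg1 * g :=
  co_ext fun v => by rw [mul_smul, mul_smul, neg1_smul, neg1_smul, co_neg]

theorem neg1_mul_self : neg1 * neg1 = 1 :=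
  co_ext fun v => by rw [mul_smul, neg1_smul, neg1_smul, neg_neg, one_smul]

/-- the vector `8 e_i`. -/
def e8 (i : GolayPt) : L := ⟨Pi.single i 8, single_mem_L i (dvd_refl _)⟩

theorem e8_coe (i : GolayPt) : (e8 i : V) = Pi.single i 8 := rfl

theorem e8_mem_std (i : GolayPt) : (e8 i : V) ∈ stdCross := ⟨i, 8, Or.inl rfl, rfl⟩

theorem neg1_ne_one : neg1 ≠ 1 := by
  intro h
  have := congrFun (congrArg Subtype.val (neg1_smul (e8 none))) none
  rw [h, one_smul] at this
  simp [e8_coe] at this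

theorem eq_one_of_fix_e8 {g : G0} (h : ∀ i, g • e8 i = e8 i) : g = 1 := by
  apply co_ext
  intro v
  apply Subtype.ext
  funext i
  have := co_dot g v (e8 i)
  rw [h, e8_coe, dot_single_right, dot_single_right] at this
  rw [one_smul]
  omega

instance instFiniteG0 : Finite G0 := by
  have hf : Finite {x : L | sqNorm (x : V) = 64} := finite_normL 64
  let f : G0 → (GolayPt → {x : L | sqNorm (x : V) = 64}) := fun g i =>
    ⟨g • e8 i, by
      change sqNorm _ = 64
      rw [co_norm, e8_coe, sqNorm_single]; norm_num⟩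
  apply Finite.of_injective f
  intro g h e
  have : h⁻¹ * g = 1 := by
    apply eq_one_of_fix_e8
    intro i
    have : g • e8 i = h • e8 i := congrArg Subtype.val (congrFun e i)
    rw [mul_smul, this, inv_smul_smul]
  exact (inv_mul_eq_one.1 this).symm

theorem neg_mem_std {y : V} (h : y ∈ stdCross) : -y ∈ stdCross := by
  obtain ⟨i, s, hs, rfl⟩ := h
  exact ⟨i, -s, by omega, by rw [Pi.single_neg]⟩

theorem exists_mono_of_e8 {g : G0} (h : ∀ i, ((g • e8 i : L) : V) ∈ stdCross) :
    ∃ (σ : M24) (c : GC), g = mono σ c := by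
  classical
  choose τ s hs e using h
  have hcoord : ∀ (v : L) i, s i * ((g • v : L) : V) (τ i) = 8 * (v : V) i := by
    intro v i
    have := co_dot g v (e8 i)
    rwa [e, e8_coe, dot_single_right, dot_single_right] at this
  have hinj : Function.Injective τ := by
    intro i j hij
    by_contra hne
    have h1 := hcoord (e8 j) i
    rw [e, e8_coe, hij, Pi.single_eq_same, Pi.single_eq_of_ne hne] at h1
    rcases hs i with h2 | h2 <;> rcases hs j with h3 | h3 <;> rw [h2, h3] at h1 <;> omega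
  let σ : Equiv.Perm GolayPt := Equiv.ofBijective τ (Finite.injective_iff_bijective.1 hinj)
  let c : Finset GolayPt := univ.filter fun j => s (σ.symm j) = -8
  have hg : ∀ v : L, ((g • v : L) : V) = signedPerm σ c v := by
    intro v
    funext j
    obtain ⟨i, rfl⟩ := σ.surjective j
    have h1 := hcoord v i
    have : σ i = τ i := rfl
    simp only [signedPerm, c, mem_filter, mem_univ, true_and, Equiv.symm_apply_apply]
    rw [this]
    rcases hs i with h2 | h2 <;> rw [h2] at h1 ⊢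
    · rw [if_neg (by norm_num)]; omega
    · rw [if_pos rfl]; omega
  have hc : c ∈ GC := by
    obtain ⟨d, hd | hd⟩ := (mem_L_iff01 _).1 (g • (⟨odd3 none, (odd3_LD none).mem⟩ : L)).2
    · have := hd.2.1 none
      rw [hg] at this
      simp only [signedPerm, odd3, res] at this
      split_ifs at this <;> omega
    · convert hd.1 using 1
      ext j
      have := hd.2.1 j
      rw [hg] at this
      simp only [signedPerm, odd3, res] at this
      by_cases a : j ∈ c <;> by_cases b : j ∈ d <;> simp only [a, b, if_true, if_false] at this ⊢ <;>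
        split_ifs at this <;> omega
  have hσ : σ ∈ M24 := by
    rw [mem_M24_iff]
    intro b hb
    obtain ⟨d, hd | hd⟩ := (mem_L_iff01 _).1 (g • (⟨two b, (two_LD hb).mem⟩ : L)).2
    · convert hd.1 using 1
      ext j
      have := hd.2.1 j
      rw [hg] at this
      simp only [signedPerm, two, res] at this
      rw [← Finset.inv_smul_mem_iff]
      change σ.symm j ∈ b ↔ _
      by_cases a : σ.symm j ∈ b <;> by_cases b : j ∈ d <;>
        simp only [a, b, if_true, if_false] at this ⊢ <;> split_ifs at this <;> omega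
    · have := hd.2.1 none
      rw [hg] at this
      simp only [signedPerm, two, res] at this
      split_ifs at this <;> omega
  exact ⟨⟨σ, hσ⟩, ⟨c, hc⟩, co_ext fun v => Subtype.ext (hg v)⟩

theorem mono_e8 (σ : M24) (c : GC) (i : GolayPt) :
    ((mono σ c • e8 i : L) : V) = Pi.single ((σ : Equiv.Perm GolayPt) i)
      (if (σ : Equiv.Perm GolayPt) i ∈ c.1 then -8 else 8) := by
  funext j
  obtain ⟨k, rfl⟩ := (σ : Equiv.Perm GolayPt).surjective j
  rw [mono_apply, e8_coe]
  simp only [Pi.single_apply, EmbeddingLike.apply_eq_iff_eq]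
  by_cases h : k = i
  · subst h; simp only [if_true]
  · simp only [h, if_false, neg_zero, ite_self]

theorem mono_std (σ : M24) (c : GC) (v : L) (hv : (v : V) ∈ stdCross) :
    ((mono σ c • v : L) : V) ∈ stdCross := by
  obtain ⟨i, s, rfl | rfl, h⟩ := hv
  · have : v = e8 i := Subtype.ext h
    rw [this, mono_e8]
    exact ⟨_, _, by split_ifs <;> simp, rfl⟩
  · have : v = -e8 i := Subtype.ext (by rw [h, AddSubgroup.coe_neg, e8_coe, ← Pi.single_neg])
    rw [this, co_neg, AddSubgroup.coe_neg, mono_e8]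
    exact neg_mem_std ⟨_, _, by split_ifs <;> simp, rfl⟩

theorem mono_inj {σ τ : M24} {c d : GC} (h : mono σ c = mono τ d) : σ = τ ∧ c = d := by
  have key : ∀ i, (σ : Equiv.Perm GolayPt) i = (τ : Equiv.Perm GolayPt) i ∧
      ((σ : Equiv.Perm GolayPt) i ∈ c.1 ↔ (σ : Equiv.Perm GolayPt) i ∈ d.1) := by
    intro i
    have h1 := mono_e8 σ c i
    rw [h, mono_e8] at h1
    have h2 := congrFun h1 ((σ : Equiv.Perm GolayPt) i)
    simp only [Pi.single_apply, if_true] at h2
    by_cases e : (σ : Equiv.Perm GolayPt) i = (τ : Equiv.Perm GolayPt) i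
    · refine ⟨e, ?_⟩
      rw [if_pos e, ← e] at h2
      by_cases a : (σ : Equiv.Perm GolayPt) i ∈ c.1 <;>
        by_cases b : (σ : Equiv.Perm GolayPt) i ∈ d.1 <;> simp_all
    · rw [if_neg e] at h2
      split_ifs at h2 <;> omega
  refine ⟨Subtype.ext (Equiv.ext fun i => (key i).1), Subtype.ext ?_⟩
  ext j
  obtain ⟨k, rfl⟩ := (σ : Equiv.Perm GolayPt).surjective j
  exact (key k).2

theorem mono_mul (σ τ : M24) (c d : GC) : mono σ c * mono τ d =
    mono (σ * τ) ⟨c.1 ∆ ((σ : Equiv.Perm GolayPt) • d.1),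
      symmDiff_mem_GC c.2 (H9.smul_mem_GC σ.2 d.2)⟩ := by
  apply co_ext
  intro v
  apply Subtype.ext
  funext j
  rw [mul_smul]
  simp only [mono_smul, signedPerm, Finset.mem_symmDiff, ← Finset.inv_smul_mem_iff]
  have e1 : (σ : Equiv.Perm GolayPt)⁻¹ • j = (σ : Equiv.Perm GolayPt).symm j := rfl
  have e2 : ((σ * τ : M24) : Equiv.Perm GolayPt).symm j =
    (τ : Equiv.Perm GolayPt).symm ((σ : Equiv.Perm GolayPt).symm j) := rfl
  rw [e1, e2]
  by_cases a : j ∈ c.1 <;> by_cases b : (σ : Equiv.Perm GolayPt).symm j ∈ d.1 <;> simp [a, b]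

/-- the empty code word. -/
def gc0 : GC := ⟨∅, empty_mem_GC⟩

theorem mono_one : mono 1 gc0 = 1 :=
  co_ext fun v => Subtype.ext (funext fun j => by simp [mono_smul, signedPerm, gc0]; rfl)

/-- `M24` inside `Co0`. -/
noncomputable def permHom : M24 →* G0 where
  toFun σ := mono σ gc0
  map_one' := mono_one
  map_mul' σ τ := by
    rw [mono_mul]
    exact congrArg (mono (σ * τ)) (Subtype.ext (by simp [gc0]))

theorem permHom_inj : Function.Injective permHom := fun _ _ h => (mono_inj h).1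

theorem permHom_apply (σ : M24) : permHom σ = mono σ gc0 := rfl

/-- the monomial subgroup `2^12 : M24`. -/
def N0 : Subgroup G0 where
  carrier := {g | ∀ v : L, (v : V) ∈ stdCross → ((g • v : L) : V) ∈ stdCross}
  one_mem' := fun v hv => by rwa [one_smul]
  mul_mem' := fun {a b} ha hb v hv => by rw [mul_smul]; exact ha _ (hb v hv)
  inv_mem' := by
    intro g hg
    obtain ⟨σ, c, rfl⟩ := exists_mono_of_e8 fun i => hg _ (e8_mem_std i)
    have : (mono σ c)⁻¹ = mono σ⁻¹ ⟨((σ⁻¹ : M24) : Equiv.Perm GolayPt) • c.1,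
        H9.smul_mem_GC (σ⁻¹).2 c.2⟩ := by
      rw [inv_eq_iff_mul_eq_one, mono_mul, ← mono_one]
      congr 1
      · simp
      · apply Subtype.ext
        simp [gc0]
    rw [this]
    exact mono_std _ _

theorem mem_N0 {g : G0} :
    g ∈ N0 ↔ ∀ v : L, (v : V) ∈ stdCross → ((g • v : L) : V) ∈ stdCross := Iff.rfl

theorem mono_mem_N0 (σ : M24) (c : GC) : mono σ c ∈ N0 := mono_std σ c

theorem mem_N0_iff {g : G0} : g ∈ N0 ↔ ∃ σ c, g = mono σ c :=
  ⟨fun hg => exists_mono_of_e8 fun i => hg _ (e8_mem_std i), fun ⟨σ, c, h⟩ => h ▸ mono_mem_N0 σ c⟩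

theorem card_of_mono (H : Subgroup G0) (P : M24 → Prop) (Q : GC → Prop)
    (h : ∀ g, g ∈ H ↔ ∃ σ c, P σ ∧ Q c ∧ g = mono σ c) :
    Nat.card H = Nat.card {σ // P σ} * Nat.card {c // Q c} := by
  rw [← Nat.card_prod]
  symm
  apply Nat.card_congr
  refine Equiv.ofBijective (fun p => ⟨mono p.1.1 p.2.1, (h _).2 ⟨_, _, p.1.2, p.2.2, rfl⟩⟩) ⟨?_, ?_⟩
  · rintro ⟨⟨σ, _⟩, ⟨c, _⟩⟩ ⟨⟨τ, _⟩, ⟨d, _⟩⟩ e
    obtain ⟨rfl, rfl⟩ := mono_inj (congrArg Subtype.val e)
    rfl
  · rintro ⟨g, hg⟩
    obtain ⟨σ, c, h1, h2, rfl⟩ := (h g).1 hg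
    exact ⟨(⟨σ, h1⟩, ⟨c, h2⟩), rfl⟩

theorem card_N0 : Nat.card N0 = 4096 * 244823040 := by
  rw [card_of_mono N0 (fun _ => True) (fun _ => True) (fun g => by simp only [true_and]; exact mem_N0_iff)]
  rw [Nat.card_congr (Equiv.subtypeUnivEquiv fun _ => trivial),
    Nat.card_congr (Equiv.subtypeUnivEquiv fun _ => trivial), card_M24]
  have : Nat.card GC = 4096 := ncard_GC_all
  rw [this]

theorem smul_mem_cross (g : G0) {x y : L} (h : (y : V) ∈ cross (x : V)) :
    ((g • y : L) : V) ∈ cross ((g • x : L) : V) := by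
  obtain ⟨_, h2, z, hz, h3⟩ := h
  refine ⟨(g • y).2, by rw [co_norm, co_norm, h2], (g • (⟨z, hz⟩ : L) : L), (g • (⟨z, hz⟩ : L)).2, ?_⟩
  have : x - y = 2 • (⟨z, hz⟩ : L) := Subtype.ext h3
  rw [← AddSubgroup.coe_sub, ← co_sub, this, co_nsmul]
  rfl

theorem mem_N0_of_fix_e8 {g : G0} {a b : GolayPt} (h : g • e8 a = e8 b) : g ∈ N0 := by
  intro v hv
  rw [← cross_single a] at hv
  have := smul_mem_cross g (x := e8 a) hv
  rwa [h, e8_coe, cross_single] at this

/-! ### The standard vectors -/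

/-- `(4, 4, 0^22)`. -/
abbrev vU : L := Spor.leechU
/-- `(4, -4, 0^22)`. -/
abbrev vU' : L := Spor.leechU'
/-- `(-5, -1^23)`. -/
abbrev vV : L := Spor.leechV

theorem vU_add_vU' : vU + vU' = e8 none := by
  apply Subtype.ext
  funext i
  revert i
  decide

theorem vU_sub_vU' : vU - vU' = e8 (some 0) := by
  apply Subtype.ext
  funext i
  revert i
  decide

theorem mono_fix_e8 (σ : M24) (c : GC) (a : GolayPt) :
    mono σ c • e8 a = e8 a ↔ (σ : Equiv.Perm GolayPt) a = a ∧ a ∉ c.1 := by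
  rw [Subtype.ext_iff, mono_e8, e8_coe]
  constructor
  · intro h
    have h2 := congrFun h a
    simp only [Pi.single_apply, if_true] at h2
    by_cases e : a = (σ : Equiv.Perm GolayPt) a
    · rw [if_pos e, ← e] at h2
      refine ⟨e.symm, fun hc => ?_⟩
      rw [if_pos hc] at h2
      omega
    · rw [if_neg e] at h2
      omega
  · rintro ⟨h1, h2⟩
    rw [h1, if_neg h2]

theorem fix_UU'_iff (g : G0) : g • vU = vU ∧ g • vU' = vU' ↔
    g • e8 none = e8 none ∧ g • e8 (some 0) = e8 (some 0) := by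
  constructor
  · rintro ⟨h1, h2⟩
    rw [← vU_add_vU', ← vU_sub_vU', co_add, co_sub, h1, h2]
    exact ⟨rfl, rfl⟩
  · rintro ⟨h1, h2⟩
    rw [← vU_add_vU', co_add] at h1
    rw [← vU_sub_vU', co_sub] at h2
    have e1 : (2 : ℤ) • (g • vU) = (2 : ℤ) • vU := by
      rw [two_smul, two_smul]
      calc g • vU + g • vU = (g • vU + g • vU') + (g • vU - g • vU') := by abel
        _ = _ := by rw [h1, h2]; abel
    have e2 : (2 : ℤ) • (g • vU') = (2 : ℤ) • vU' := by
      rw [two_smul, two_smul]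
      calc g • vU' + g • vU' = (g • vU + g • vU') - (g • vU - g • vU') := by abel
        _ = _ := by rw [h1, h2]; abel
    exact ⟨smul_right_injective _ (by norm_num) e1, smul_right_injective _ (by norm_num) e2⟩

theorem mem_stab_UU' (g : G0) : g ∈ stabilizer G0 vU ⊓ stabilizer G0 vU' ↔ ∃ (σ : M24) (c : GC),
    ((σ : Equiv.Perm GolayPt) ∈ Stab [0, 23] []) ∧ (some 0 ∉ c.1 ∧ none ∉ c.1) ∧ g = mono σ c := by
  rw [Subgroup.mem_inf, mem_stabilizer_iff, mem_stabilizer_iff, fix_UU'_iff]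
  constructor
  · rintro ⟨h1, h2⟩
    obtain ⟨σ, c, rfl⟩ := mem_N0_iff.1 (mem_N0_of_fix_e8 h1)
    rw [mono_fix_e8] at h1 h2
    refine ⟨σ, c, ⟨σ.2, ?_, by simp⟩, ⟨h2.2, h1.2⟩, rfl⟩
    simp only [List.mem_cons, List.not_mem_nil, or_false, forall_eq_or_imp, forall_eq]
    exact ⟨h2.1, h1.1⟩
  · rintro ⟨σ, c, h1, h2, rfl⟩
    rw [mono_fix_e8, mono_fix_e8]
    exact ⟨⟨h1.2.1 23 (by simp), h2.2⟩, ⟨h1.2.1 0 (by simp), h2.1⟩⟩

theorem card_M22sub : Nat.card {σ : M24 // (σ : Equiv.Perm GolayPt) ∈ Stab [0, 23] []} = 443520 := by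
  rw [← card_s2]
  exact Nat.card_congr (Subgroup.subgroupOfEquivOfLe (Stab_le [0, 23] [])).toEquiv

theorem card_stab_UU' : Nat.card ↥(stabilizer G0 vU ⊓ stabilizer G0 vU') = 454164480 := by
  rw [card_of_mono _ _ _ mem_stab_UU', card_M22sub]
  have : Nat.card {c : GC // some 0 ∉ c.1 ∧ none ∉ c.1} = 1024 := by
    have h := ncard_GC (fun s => some 0 ∉ s ∧ none ∉ s) (fun n => !(tb n 0) && !(tb n 23))
      (fun m _ => by
        simp only [mem_ofMask, tb_eq, Bool.and_eq_true, Bool.not_eq_true, Bool.not_eq_eq_eq_not,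
          Bool.not_true]
        rfl)
    have h2 : treeCnt (fun m => !(tb (cw m) 0) && !(tb (cw m) 23)) 12 = 1024 := by decide +kernel
    rw [← h2, ← h]
    exact Nat.card_congr (Equiv.subtypeSubtypeEquivSubtypeInter (· ∈ GC)
      (fun s => some 0 ∉ s ∧ none ∉ s))
  rw [this]

/-- the stabiliser of `U`, `U'` and `V` is the permutation group `M22`. -/
theorem mem_stab_UU'V (g : G0) : g • vU = vU ∧ g • vU' = vU' ∧ g • vV = vV ↔
    ∃ σ : M24, (σ : Equiv.Perm GolayPt) ∈ Stab [0, 23] [] ∧ g = permHom σ := by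
  constructor
  · rintro ⟨h1, h2, h3⟩
    obtain ⟨σ, c, hσ, -, rfl⟩ := (mem_stab_UU' g).1 ⟨h1, h2⟩
    refine ⟨σ, hσ, ?_⟩
    rw [permHom_apply]
    congr 1
    apply Subtype.ext
    change c.1 = ∅
    rw [Finset.eq_empty_iff_forall_notMem]
    intro j hj
    obtain ⟨k, rfl⟩ := (σ : Equiv.Perm GolayPt).surjective j
    have := mono_apply σ c vV k
    rw [h3, if_pos hj] at this
    have hneg : ∀ i, (vV : V) i < 0 := by decide
    have := hneg k
    have := hneg ((σ : Equiv.Perm GolayPt) k)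
    omega
  · rintro ⟨σ, hσ, rfl⟩
    have := (mem_stab_UU' (permHom σ)).2 ⟨σ, gc0, hσ, by simp [gc0], rfl⟩
    refine ⟨this.1, this.2, Subtype.ext (funext fun j => ?_)⟩
    obtain ⟨k, rfl⟩ := (σ : Equiv.Perm GolayPt).surjective j
    rw [permHom_apply, mono_apply, if_neg (by simp [gc0])]
    have h0 : (σ : Equiv.Perm GolayPt) none = none := hσ.2.1 23 (by simp)
    change Spor.vecV k = Spor.vecV _
    unfold Spor.vecV
    have : (σ : Equiv.Perm GolayPt) k = none ↔ k = none := by
      conv_lhs => rw [← h0]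
      exact EmbeddingLike.apply_eq_iff_eq _
    simp only [this]

theorem equiv_M22 (H : Subgroup G0) (h : ∀ g, g ∈ H ↔ g • vU = vU ∧ g • vU' = vU' ∧ g • vV = vV) :
    Nonempty (Stab [0, 23] [] ≃* H) := by
  have : H = ((Stab [0, 23] []).subgroupOf M24).map permHom := by
    ext g
    rw [h, mem_stab_UU'V, Subgroup.mem_map]
    exact ⟨fun ⟨σ, h1, h2⟩ => ⟨σ, h1, h2.symm⟩, fun ⟨σ, h1, h2⟩ => ⟨σ, h1, h2.symm⟩⟩
  rw [this]
  exact ⟨(Subgroup.subgroupOfEquivOfLe (Stab_le [0, 23] [])).symm.trans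
    (Subgroup.equivMapOfInjective _ _ permHom_inj)⟩

theorem norm_vU : sqNorm (vU : V) = 32 := by decide +kernel
theorem norm_vU' : sqNorm (vU' : V) = 32 := by decide +kernel
theorem norm_vV : sqNorm (vV : V) = 48 := by decide +kernel
theorem dot_vU_vU' : dotInt (vU : V) (vU' : V) = 0 := by decide +kernel
theorem dot_vU_vV : dotInt (vU : V) (vV : V) = -24 := by decide +kernel
theorem dot_vU'_vV : dotInt (vU' : V) (vV : V) = -16 := by decide +kernel

end H10
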