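import Mathlib
import Cfsg.Agent.H10.Co0

/-! Vectors of the Leech lattice and elements of `Co0` coded by natural numbers. -/

set_option autoImplicit false

namespace H10

open Cfsg Finset H9 MulAction

/-- forces `x` to a numeral whose low bits depend on all of `x`. -/
def fh {β : Type} (x : ℕ) (k : ℕ → β) : β :=
  force (Nat.add (Nat.shiftLeft x 32) (Nat.mod x 4294967291)) fun y => k (Nat.shiftRight y 32)

theorem fh_eq {β : Type} (x : ℕ) (k : ℕ → β) : fh x k = k x := by
  rw [fh, force_eq]
  congr 1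
  change (x <<< 32 + x % 4294967291) >>> 32 = x
  rw [Nat.shiftLeft_eq, Nat.shiftRight_eq_div_pow]
  omega

/-- digit `i` of `n` in base `2 ^ 16`. -/
def dg (n i : ℕ) : ℕ := Nat.land (Nat.shiftRight n (Nat.mul 16 i)) 65535

theorem dg_eq (n i : ℕ) : dg n i = n / 65536 ^ i % 65536 := by
  have : dg n i = (n >>> (16 * i)) &&& (2 ^ 16 - 1) := rfl
  rw [this, Nat.and_two_pow_sub_one_eq_mod, Nat.shiftRight_eq_div_pow, pow_mul]
  norm_num

theorem dg_lt (n i : ℕ) : dg n i < 65536 := by
  rw [dg_eq]; exact Nat.mod_lt _ (by norm_num)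

theorem dg_zero (n : ℕ) : dg n 0 = n % 65536 := by simp [dg_eq]

theorem dg_succ (n i : ℕ) : dg n (i + 1) = dg (n / 65536) i := by
  rw [dg_eq, dg_eq, Nat.div_div_eq_div_mul, pow_succ']

theorem sum_digits (k : ℕ) (f : ℕ → ℕ) (hf : ∀ i < k, f i < 65536) :
    ∑ i ∈ range k, f i * 65536 ^ i < 65536 ^ k ∧
      ∀ j < k, dg (∑ i ∈ range k, f i * 65536 ^ i) j = f j := by
  induction k generalizing f with
  | zero => simp
  | succ k ih =>
    obtain ⟨h1, h2⟩ := ih (fun i => f (i + 1)) fun i hi => hf _ (by omega)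
    have e : ∑ i ∈ range (k + 1), f i * 65536 ^ i =
        f 0 + 65536 * ∑ i ∈ range k, f (i + 1) * 65536 ^ i := by
      rw [Finset.sum_range_succ', Finset.mul_sum, add_comm]
      congr 1
      · simp
      · exact Finset.sum_congr rfl fun i _ => by ring
    have h0 := hf 0 (by omega)
    rw [e]
    refine ⟨by rw [pow_succ]; omega, fun j hj => ?_⟩
    rcases j with _ | j
    · rw [dg_zero]; omega
    · rw [dg_succ, ← h2 j (by omega)]
      congr 1
      omega

theorem mod_eq_sum_dg (k n : ℕ) : n % 65536 ^ k = ∑ i ∈ range k, dg n i * 65536 ^ i := by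
  induction k with
  | zero => simp [Nat.mod_one]
  | succ k ih =>
    rw [Finset.sum_range_succ, ← ih, Nat.mod_pow_succ, dg_eq, mul_comm]

/-- the vector coded by `n`. -/
def vc (n : ℕ) : V := fun p => (dg n (ix p) : ℤ) - 16

theorem vc_pt (n : ℕ) {i : ℕ} (hi : i < 24) : vc n (pt i) = (dg n i : ℤ) - 16 := by
  rw [vc, ix_pt hi]

theorem sum_pt {M : Type*} [AddCommMonoid M] (f : GolayPt → M) :
    ∑ p, f p = ∑ i ∈ range 24, f (pt i) := by
  rw [← Equiv.sum_comp ptEquiv.symm, Finset.sum_range]
  rfl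

theorem vc_inj {a b : ℕ} (ha : a < 65536 ^ 24) (hb : b < 65536 ^ 24) (h : vc a = vc b) : a = b := by
  rw [← Nat.mod_eq_of_lt ha, ← Nat.mod_eq_of_lt hb, mod_eq_sum_dg, mod_eq_sum_dg]
  apply Finset.sum_congr rfl
  intro i hi
  have := congrFun h (pt i)
  rw [vc_pt _ (mem_range.1 hi), vc_pt _ (mem_range.1 hi)] at this
  congr 1
  omega

/-- the number with digits `f 0, …, f 23`. -/
def mkV (f : ℕ → ℕ) : ℕ := sumLt 24 fun i => Nat.shiftLeft (f i) (Nat.mul 16 i)

theorem mkV_eq (f : ℕ → ℕ) : mkV f = ∑ i ∈ range 24, f i * 65536 ^ i := by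
  rw [mkV, sumLt_eq]
  apply Finset.sum_congr rfl
  intro i _
  have : Nat.shiftLeft (f i) (Nat.mul 16 i) = f i <<< (16 * i) := rfl
  rw [this, Nat.shiftLeft_eq, pow_mul]
  norm_num

theorem vc_mkV (f : ℕ → ℕ) (hf : ∀ i < 24, f i < 65536) (p : GolayPt) :
    vc (mkV f) p = (f (ix p) : ℤ) - 16 := by
  rw [vc, mkV_eq, (sum_digits 24 f hf).2 _ (ix_lt p)]

/-- digit sum. -/
def sm (n : ℕ) : ℕ := sumLt 24 (dg n)

theorem sum_vc (n : ℕ) : ∑ p, vc n p = (sm n : ℤ) - 384 := by
  rw [sum_pt, sm, sumLt_eq, Finset.sum_congr rfl fun i hi => vc_pt n (mem_range.1 hi),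
    Finset.sum_sub_distrib, Finset.sum_const, Nat.cast_sum, card_range]
  rfl

/-- the inner product of coded vectors. -/
def dotC (a b : ℕ) : ℤ :=
  Int.subNatNat (Nat.add (sumLt 24 fun i => Nat.mul (dg a i) (dg b i)) 6144)
    (Nat.mul 16 (Nat.add (sm a) (sm b)))

theorem dot_vc (a b : ℕ) : dotInt (vc a) (vc b) = dotC a b := by
  have : dotC a b = ((sumLt 24 (fun i => dg a i * dg b i) + 6144 : ℕ) : ℤ) -
      ((16 * (sm a + sm b) : ℕ) : ℤ) := Int.subNatNat_eq_coe
  rw [this, dotInt, sum_pt, sm, sm, sumLt_eq, sumLt_eq, sumLt_eq,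
    Finset.sum_congr rfl fun i hi => by rw [vc_pt a (mem_range.1 hi), vc_pt b (mem_range.1 hi)]]
  push_cast
  rw [← Finset.sum_add_distrib, Finset.mul_sum, show (6144 : ℤ) = ∑ _i ∈ range 24, 256 by simp,
    ← Finset.sum_add_distrib, ← Finset.sum_sub_distrib]
  exact Finset.sum_congr rfl fun i _ => by ring

theorem norm_vc (a : ℕ) : sqNorm (vc a) = dotC a a := by rw [← dot_self, dot_vc]

/-- Boolean test for membership in the lattice. -/
def inL (n : ℕ) : Bool :=
  force (Nat.mod n 2) fun m =>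
    allLt 24 (fun i => Nat.beq (Nat.mod (dg n i) 2) m) &&
    Nat.beq (Nat.mod (Nat.add (sm n) (Nat.mul 4 m)) 8) 0 &&
    force (orLt 24 fun i => Nat.shiftLeft (Nat.mod (Nat.div (dg n i) 2) 2) i) isCw

theorem mem_of_inL {n : ℕ} (h : inL n = true) : vc n ∈ leechLattice := by
  simp only [inL, force_eq, Bool.and_eq_true, allLt_iff, beq_iff] at h
  obtain ⟨⟨h1, h2⟩, h3⟩ := h
  change (sm n + 4 * (n % 2)) % 8 = 0 at h2
  refine LD.mem (m := ((n % 2 : ℕ) : ℤ)) ⟨mem_GC_of_isCw h3, fun p => ?_, ?_⟩
  · have h4 : dg n (ix p) % 2 = n % 2 := h1 _ (ix_lt p)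
    have h5 : p ∈ ofMask (orLt 24 fun i => Nat.shiftLeft (Nat.mod (Nat.div (dg n i) 2) 2) i) ↔
        dg n (ix p) / 2 % 2 = 1 := by
      rw [mem_ofMask, testBit_orLt]
      have e : ∀ i, (Nat.shiftLeft (Nat.mod (Nat.div (dg n i) 2) 2) i).testBit (ix p) = true ↔
          i = ix p ∧ dg n i / 2 % 2 = 1 := by
        intro i
        change ((dg n i / 2 % 2) <<< i).testBit (ix p) = true ↔ _
        rcases Nat.mod_two_eq_zero_or_one (dg n i / 2) with h | h <;> rw [h]
        · simp
        · simp [Nat.one_shiftLeft, Nat.testBit_two_pow]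
      simp only [e]
      exact ⟨fun ⟨i, _, h, h'⟩ => h ▸ h', fun h => ⟨_, ix_lt p, rfl, h⟩⟩
    unfold res vc
    split_ifs with hp
    · have := h5.1 hp; omega
    · have := mt h5.2 hp; omega
  · rw [sum_vc]; omega

/-- the lattice vector coded by `n` (zero if the code is not valid). -/
noncomputable def lv (n : ℕ) : L := if h : inL n = true then ⟨vc n, mem_of_inL h⟩ else 0

theorem lv_coe {n : ℕ} (h : inL n = true) : (lv n : V) = vc n := by simp [lv, h]

/-! ### Matrices -/

/-- `2 ^ 384`. -/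
@[irreducible] def B384 : ℕ := 39402006196394479212279040100143613805079739270465446667948293404245721771497210611414266254884915640806627990306816

theorem B384_eq : B384 = 65536 ^ 24 := by decide +kernel

/-- the code of the zero vector. -/
@[irreducible] def O16 : ℕ := 0x001000100010001000100010001000100010001000100010001000100010001000100010001000100010001000100010

theorem O16_eq : O16 = ∑ i ∈ range 24, 16 * 65536 ^ i := by decide +kernel

/-- `K + ∑ j, (digit j of n) * cs j`. -/
def lc (cs : List ℕ) (K : ℕ) : ℕ → ℕ :=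
  List.rec (fun _ => K)
    (fun C _ ih c => Nat.add (Nat.mul (Nat.land c 65535) C) (ih (Nat.shiftRight c 16))) cs

theorem lc_eq (cs : List ℕ) (K n : ℕ) :
    lc cs K n = K + ∑ j ∈ range cs.length, dg n j * cs.getD j 0 := by
  induction cs generalizing n with
  | nil => simp [lc]
  | cons C cs ih =>
    have : lc (C :: cs) K n = dg n 0 * C + lc cs K (n >>> 16) := rfl
    rw [this, ih, List.length_cons, Finset.sum_range_succ', Nat.shiftRight_eq_div_pow]
    simp only [dg_succ, List.getD_cons_succ, List.getD_cons_zero]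
    norm_num
    ring

/-- eight times the image, in coded form. -/
def raw (M : List ℕ) (n : ℕ) : ℕ := List.rec 0 (fun K cs _ => Nat.mod (lc cs K n) B384) M

/-- the image of a coded vector under a coded matrix. -/
def app (M : List ℕ) (n : ℕ) : ℕ := Nat.div (raw M n) 8

/-- code of column `j`. -/
def colc (M : List ℕ) (j : ℕ) : ℕ := Nat.mod (Nat.add (M.getD (Nat.succ j) 0) O16) B384

/-- the linear map with columns `colc M j`. -/
def TM (M : List ℕ) : V →+ V where
  toFun x := ∑ j, x j • vc (colc M (ix j))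
  map_zero' := by simp
  map_add' x y := by simp only [Pi.add_apply, add_smul, Finset.sum_add_distrib]

theorem TM_apply (M : List ℕ) (x : V) : TM M x = ∑ j, x j • vc (colc M (ix j)) := rfl

/-- the columns are orthogonal of norm 64, and the constant is right. -/
def orthM (M : List ℕ) : Bool :=
  Nat.beq M.length 25 && Nat.beq (raw M O16) (Nat.mul 8 O16) &&
  allLt 24 fun i => fh (colc M i) fun a => allLt (Nat.succ i) fun j => fh (colc M j) fun b =>
    decide (dotC a b = cond (Nat.beq i j) 64 0)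

theorem dot_sum_left (f : GolayPt → V) (y : V) : dotInt (∑ j, f j) y = ∑ j, dotInt (f j) y := by
  simp only [dotInt, Finset.sum_apply, Finset.sum_mul]
  exact Finset.sum_comm

theorem norm_TM {M : List ℕ} (h : orthM M = true) (x : V) : sqNorm (TM M x) = 64 * sqNorm x := by
  simp only [orthM, fh_eq, Bool.and_eq_true, allLt_iff, decide_eq_true_eq] at h
  have h1 : ∀ p q : GolayPt, dotInt (vc (colc M (ix p))) (vc (colc M (ix q))) =
      if p = q then 64 else 0 := by
    have h2 : ∀ p q : GolayPt, ix q ≤ ix p → dotInt (vc (colc M (ix p))) (vc (colc M (ix q))) =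
        if p = q then 64 else 0 := by
      intro p q hpq
      rw [dot_vc, h.2 _ (ix_lt p) _ (Nat.lt_succ_of_le hpq)]
      by_cases e : p = q
      · simp [e]
      · have : Nat.beq (ix p) (ix q) = false := by
          rw [← Bool.not_eq_true, beq_iff]; exact fun h => e (ix_inj h)
        simp [e, this]
    intro p q
    rcases le_total (ix q) (ix p) with h3 | h3
    · exact h2 p q h3
    · rw [dot_comm, h2 q p h3]; simp only [eq_comm]
  rw [← dot_self, TM_apply, dot_sum_left, sqNorm, Finset.mul_sum]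
  apply Finset.sum_congr rfl
  intro p _
  rw [dot_smul_left, dot_comm, dot_sum_left]
  simp only [dot_smul_left, h1, mul_ite, mul_zero]
  rw [Finset.sum_ite_eq']
  simp only [mem_univ, if_true]
  ring

/-- the functional `x ↦ ∑ x i * B ^ i`. -/
def phi : V →+ ℤ where
  toFun x := ∑ i ∈ range 24, x (pt i) * 65536 ^ i
  map_zero' := by simp
  map_add' x y := by simp only [Pi.add_apply, add_mul, Finset.sum_add_distrib]

theorem phi_apply (x : V) : phi x = ∑ i ∈ range 24, x (pt i) * 65536 ^ i := rfl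

theorem phi_vc (n : ℕ) : phi (vc n) = ((n % B384 : ℕ) : ℤ) - O16 := by
  rw [B384_eq, mod_eq_sum_dg, O16_eq]
  push_cast
  rw [← Finset.sum_sub_distrib, phi_apply]
  apply Finset.sum_congr rfl
  intro i hi
  rw [vc_pt _ (mem_range.1 hi)]; ring

theorem raw_cons (K : ℕ) (cs : List ℕ) (hl : cs.length = 24) (n : ℕ) :
    raw (K :: cs) n = (K + ∑ j ∈ range 24, dg n j * cs.getD j 0) % B384 := by
  rw [← hl, ← lc_eq]; rfl

theorem phi_colc (K : ℕ) (cs : List ℕ) (j : ℕ) :
    phi (vc (colc (K :: cs) j)) ≡ cs.getD j 0 [ZMOD B384] := by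
  rw [phi_vc]
  have : colc (K :: cs) j = (cs.getD j 0 + O16) % B384 := rfl
  rw [this, Nat.mod_mod]
  push_cast
  have := (Int.mod_modEq ((cs.getD j 0 : ℤ) + O16) B384).sub_right O16
  rwa [add_sub_cancel_right] at this

theorem phi_TM (K : ℕ) (cs : List ℕ) (n : ℕ) : phi (TM (K :: cs) (vc n)) ≡
    ∑ j ∈ range 24, ((dg n j : ℤ) - 16) * cs.getD j 0 [ZMOD B384] := by
  rw [TM_apply, map_sum, sum_pt]
  apply Int.ModEq.sum
  intro j hj
  rw [map_zsmul, vc_pt _ (mem_range.1 hj), ix_pt (mem_range.1 hj), smul_eq_mul]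
  exact (phi_colc K cs j).mul_left _

theorem dg_O16 : ∀ j < 24, dg O16 j = 16 := by decide +kernel

theorem const_modEq {K : ℕ} {cs : List ℕ} (hl : cs.length = 24)
    (h2 : raw (K :: cs) O16 = 8 * O16) :
    (K : ℤ) + ∑ j ∈ range 24, 16 * (cs.getD j 0 : ℤ) ≡ 8 * O16 [ZMOD B384] := by
  rw [raw_cons K cs hl, Finset.sum_congr rfl fun j hj => by rw [dg_O16 j (mem_range.1 hj)]] at h2
  have h3 := congrArg (Nat.cast : ℕ → ℤ) h2
  push_cast at h3
  rw [← h3]
  exact (Int.mod_modEq _ _).symm

theorem cast_sum_toNat (w : V) (hb : ∀ p, -128 ≤ w p) :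
    ((∑ i ∈ range 24, (w (pt i) + 128).toNat * 65536 ^ i : ℕ) : ℤ) = phi w + 8 * O16 := by
  rw [O16_eq]
  push_cast
  rw [phi_apply, Finset.mul_sum, ← Finset.sum_add_distrib]
  apply Finset.sum_congr rfl
  intro i _
  rw [Int.toNat_of_nonneg (by have := hb (pt i); omega)]
  ring

theorem orthM_spec {M : List ℕ} (h : orthM M = true) :
    M.length = 25 ∧ raw M O16 = 8 * O16 := by
  obtain ⟨h1, -⟩ := Bool.and_eq_true_iff.1 h
  obtain ⟨h1, h2⟩ := Bool.and_eq_true_iff.1 h1
  exact ⟨(beq_iff _ _).1 h1, (beq_iff _ _).1 h2⟩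

theorem raw_eq {M : List ℕ} (h : orthM M = true) (n : ℕ) (hn : sqNorm (vc n) ≤ 255) :
    raw M n = ∑ i ∈ range 24, (TM M (vc n) (pt i) + 128).toNat * 65536 ^ i := by
  have hN := norm_TM h (vc n)
  have hb : ∀ p, -128 ≤ TM M (vc n) p ∧ TM M (vc n) p ≤ 128 := by
    intro p
    have := sq_le_sqNorm (TM M (vc n)) p
    constructor <;> nlinarith
  obtain ⟨h1, h2⟩ := orthM_spec h
  rcases M with _ | ⟨K, cs⟩
  · exact absurd h1 (by decide)
  have hl : cs.length = 24 := Nat.succ_injective h1
  have hT := phi_TM K cs n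
  have hK := const_modEq hl h2
  have hS := (sum_digits 24 (fun i => (TM (K :: cs) (vc n) (pt i) + 128).toNat) fun i _ => by
    have := hb (pt i); omega).1
  have e1 := cast_sum_toNat _ fun p => (hb p).1
  rw [← B384_eq] at hS
  rw [raw_cons K cs hl]
  generalize TM (K :: cs) (vc n) = w at *
  generalize ∑ i ∈ range 24, (w (pt i) + 128).toNat * 65536 ^ i = S at *
  rw [← Nat.mod_eq_of_lt hS]
  have : ∑ j ∈ range 24, ((dg n j : ℤ) - 16) * cs.getD j 0 +
      (K + ∑ j ∈ range 24, 16 * (cs.getD j 0 : ℤ)) =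
      ((K + ∑ j ∈ range 24, dg n j * cs.getD j 0 : ℕ) : ℤ) := by
    push_cast
    rw [add_left_comm, ← Finset.sum_add_distrib]
    apply congrArg
    exact Finset.sum_congr rfl fun j _ => by ring
  have h3 := hT.symm.add hK
  rw [this, ← e1] at h3
  exact Int.natCast_modEq_iff.1 h3

theorem vc_app {M : List ℕ} (h : orthM M = true) (n : ℕ) (hn : sqNorm (vc n) ≤ 255) (y : V)
    (hy : TM M (vc n) = (8 : ℤ) • y) : vc (app M n) = y := by
  have hN := norm_TM h (vc n)
  rw [hy, sqNorm_smul] at hN
  have hb : ∀ p, -16 ≤ y p ∧ y p ≤ 16 := by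
    intro p
    have := sq_le_sqNorm y p
    constructor <;> nlinarith
  have : app M n = mkV fun i => (y (pt i) + 16).toNat := by
    change raw M n / 8 = _
    rw [raw_eq h n hn, hy, mkV_eq, Nat.div_eq_iff_eq_mul_right (by norm_num), Finset.mul_sum]
    · apply Finset.sum_congr rfl
      intro i _
      rw [← mul_assoc]
      congr 1
      have := hb (pt i)
      simp only [Pi.smul_apply, smul_eq_mul]
      omega
    · apply Finset.dvd_sum
      intro i _
      apply Dvd.dvd.mul_right
      have := hb (pt i)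
      simp only [Pi.smul_apply, smul_eq_mul]
      omega
  funext p
  rw [this, vc_mkV _ fun i _ => by have := hb (pt i); omega, pt_ix]
  have := hb p
  omega

/-- the image of the coded vector lies in the lattice. -/
def okV (M : List ℕ) (n : ℕ) : Bool :=
  fh (raw M n) fun r => allLt 24 (fun i => Nat.beq (Nat.mod (dg r i) 8) 0) &&
    inL (Nat.div r 8)

theorem okV_spec {M : List ℕ} (h : orthM M = true) (n : ℕ) (hn : sqNorm (vc n) ≤ 255)
    (ho : okV M n = true) : ∃ y ∈ leechLattice, TM M (vc n) = (8 : ℤ) • y := by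
  simp only [okV, fh_eq, Bool.and_eq_true, allLt_iff, beq_iff] at ho
  have hN := norm_TM h (vc n)
  have hb : ∀ p, -128 ≤ TM M (vc n) p ∧ TM M (vc n) p ≤ 128 := by
    intro p
    have := sq_le_sqNorm (TM M (vc n)) p
    constructor <;> nlinarith
  have hy : TM M (vc n) = (8 : ℤ) • fun p => TM M (vc n) p / 8 := by
    funext p
    have h1 : dg (raw M n) (ix p) % 8 = 0 := ho.1 _ (ix_lt p)
    rw [raw_eq h n hn, (sum_digits 24 (fun i => (TM M (vc n) (pt i) + 128).toNat) fun i _ => by
      have := hb (pt i); omega).2 _ (ix_lt p), pt_ix] at h1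
    have := hb p
    simp only [Pi.smul_apply, smul_eq_mul]
    omega
  refine ⟨_, ?_, hy⟩
  rw [← vc_app h n hn _ hy]
  exact mem_of_inL ho.2

/-- Boolean test: the coded matrix is an element of `Co0`. -/
def isCo (M : List ℕ) : Bool :=
  orthM M && fh (mkV fun i => cond (Nat.beq i 23) 13 17) (okV M) &&
    allL basL (fun b => fh (mkV fun i => Nat.add 16 (Nat.mul 2 (bit b i))) (okV M)) &&
    allLt 24 fun k => fh (mkV fun i => Nat.add (cond (Nat.beq i k) 20 16)
      (cond (Nat.beq i 23) 4 0)) (okV M)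

theorem orthM_of_isCo {M : List ℕ} (h : isCo M = true) : orthM M = true := by
  simp only [isCo, Bool.and_eq_true] at h
  exact h.1.1.1

theorem TM_dvd {M : List ℕ} (h : isCo M = true) {x : V} (hx : x ∈ leechLattice) :
    ∃ y ∈ leechLattice, TM M x = (8 : ℤ) • y := by
  have ho := orthM_of_isCo h
  simp only [isCo, fh_eq, Bool.and_eq_true, allLt_iff, allL_iff] at h
  obtain ⟨⟨⟨-, h1⟩, h2⟩, h3⟩ := h
  let K : AddSubgroup V :=
    { carrier := {x | ∃ y ∈ leechLattice, TM M x = (8 : ℤ) • y}
      zero_mem' := ⟨0, zero_mem _, by simp⟩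
      add_mem' := by
        rintro a b ⟨y, hy, e⟩ ⟨z, hz, e'⟩
        exact ⟨y + z, add_mem hy hz, by rw [map_add, e, e', smul_add]⟩
      neg_mem' := by
        rintro a ⟨y, hy, e⟩
        exact ⟨-y, neg_mem hy, by rw [map_neg, e, smul_neg]⟩ }
  refine L_le_of_gens K ?_ ?_ ?_ hx
  · have e : vc (mkV fun i => cond (Nat.beq i 23) 13 17) = odd3 none := by
      funext p; revert p; decide +kernel
    rw [← e]
    exact okV_spec ho _ (by rw [e, sqNorm_odd3]; norm_num) h1
  · intro b hb
    have e : vc (mkV fun i => Nat.add 16 (Nat.mul 2 (bit b i))) = two (ofMask b) := by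
      funext p
      rw [vc_mkV _ fun i _ => by
        change 16 + 2 * bit b i < _
        rw [bit_eq]; split_ifs <;> norm_num]
      change ((16 + 2 * bit b (ix p) : ℕ) : ℤ) - 16 = _
      simp only [two, mem_ofMask, bit_eq]
      split_ifs <;> norm_num
    rw [← e]
    refine okV_spec ho _ ?_ (h2 b hb)
    rw [e, sqNorm_two, (basL_octads b hb).2]; norm_num
  · intro q
    have e : ∀ q : GolayPt, vc (mkV fun i => Nat.add (cond (Nat.beq i (ix q)) 20 16)
        (cond (Nat.beq i 23) 4 0)) = Pi.single q 4 + Pi.single none 4 := by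
      intro q
      funext p
      simp only [Pi.add_apply, Pi.single_apply]
      revert p q; decide +kernel
    rw [← e]
    refine okV_spec ho _ ?_ (h3 _ (ix_lt q))
    rw [e, sqNorm_add, sqNorm_single, sqNorm_single, dot_single_left, Pi.single_apply]
    split_ifs <;> norm_num

/-- the element of `Co0` coded by `M` (the identity if the code is not valid). -/
noncomputable def coM (M : List ℕ) : G0 :=
  if h : isCo M = true then
    mkCo (fun v => ⟨fun p => TM M v p / 8, by
        obtain ⟨y, hy, e⟩ := TM_dvd h v.2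
        convert hy using 1
        funext p
        rw [e]
        simp⟩)
      (fun v w => by
        apply Subtype.ext
        funext p
        obtain ⟨y, hy, e⟩ := TM_dvd h v.2
        obtain ⟨z, hz, e'⟩ := TM_dvd h w.2
        simp only [AddSubgroup.coe_add, map_add, Pi.add_apply, e, e', Pi.smul_apply, smul_eq_mul]
        omega)
      (fun v => by
        obtain ⟨y, hy, e⟩ := TM_dvd h v.2
        have h1 := norm_TM (orthM_of_isCo h) v
        have h2 : (fun p => TM M v p / 8) = y := by
          funext p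
          rw [e]
          simp
        rw [e, sqNorm_smul] at h1
        simp only [h2]
        omega)
  else 1

theorem coM_smul {M : List ℕ} (h : isCo M = true) {x : L} {n : ℕ} (hx : (x : V) = vc n)
    (hn : sqNorm (x : V) ≤ 255) : ((coM M • x : L) : V) = vc (app M n) := by
  obtain ⟨y, hy, e⟩ := TM_dvd h x.2
  have e' := e
  rw [hx] at e' hn
  rw [vc_app (orthM_of_isCo h) n hn y e', coM, dif_pos h, mkCo_smul]
  funext p
  simp [e]

/-- all members of the list are valid codes of elements of `H`. -/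
def CoIn (gens : List (List ℕ)) (H : Subgroup G0) : Prop :=
  ∀ M ∈ gens, isCo M = true ∧ coM M ∈ H

theorem CoIn.mono {gens : List (List ℕ)} {H K : Subgroup G0} (h : CoIn gens H) (hK : H ≤ K) :
    CoIn gens K := fun M hM => ⟨(h M hM).1, hK (h M hM).2⟩

theorem CoIn.append {g1 g2 : List (List ℕ)} {H : Subgroup G0} (h1 : CoIn g1 H) (h2 : CoIn g2 H) :
    CoIn (g1 ++ g2) H := fun M hM => (List.mem_append.1 hM).elim (h1 M) (h2 M)

theorem CoIn.cons {M : List ℕ} {gens : List (List ℕ)} {H : Subgroup G0} (h0 : isCo M = true)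
    (h1 : coM M ∈ H) (h2 : CoIn gens H) : CoIn (M :: gens) H := fun M' hM =>
  (List.mem_cons.1 hM).elim (fun e => e ▸ ⟨h0, h1⟩) (h2 M')

theorem CoIn.nil {H : Subgroup G0} : CoIn [] H := fun _ h => absurd h List.not_mem_nil

theorem coM_fix {M : List ℕ} (h : isCo M = true) {x : L} {n : ℕ} (hx : (x : V) = vc n)
    (hn : sqNorm (x : V) ≤ 255) (e : app M n = n) : coM M • x = x :=
  Subtype.ext (by rw [coM_smul h hx hn, e, hx])

theorem coM_map {M : List ℕ} (h : isCo M = true) {x y : L} {n m : ℕ} (hx : (x : V) = vc n)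
    (hy : (y : V) = vc m) (hn : sqNorm (x : V) ≤ 255) (e : app M n = m) : coM M • x = y :=
  Subtype.ext (by rw [coM_smul h hx hn, e, hy])

/-- apply the member of `gens` at position `i` (nothing if there is none). -/
def sel (gens : List (List ℕ)) (n : ℕ) : ℕ → ℕ :=
  List.rec (fun _ => n) (fun M _ r i => Nat.rec (app M n) (fun j _ => r j) i) gens

theorem CoIn.sel {gens : List (List ℕ)} {H : Subgroup G0} (h : CoIn gens H) (i : ℕ) {x : L} {n : ℕ}
    (hx : (x : V) = vc n) (hn : sqNorm (x : V) ≤ 255) :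
    ∃ g ∈ H, ((g • x : L) : V) = vc (sel gens n i) := by
  induction gens generalizing i with
  | nil => exact ⟨1, H.one_mem, by rw [one_smul]; exact hx⟩
  | cons M gens ih =>
    rcases i with _ | i
    · exact ⟨coM M, (h M List.mem_cons_self).2, coM_smul (h M List.mem_cons_self).1 hx hn⟩
    · exact ih (fun M' hM => h M' (List.mem_cons_of_mem _ hM)) i

/-- apply the word with base-16 digits `w` (digit `d` stands for position `d - 1`). -/
def runF (gens : List (List ℕ)) (fuel : ℕ) : ℕ → ℕ → ℕ :=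
  Nat.rec (fun _ n => n) (fun _ r w n => cond (Nat.beq w 0) n
    (fh (sel gens n (Nat.pred (Nat.mod w 16))) fun n' => force (Nat.div w 16) fun w' => r w' n'))
    fuel

theorem CoIn.runF {gens : List (List ℕ)} {H : Subgroup G0} (h : CoIn gens H) (fuel w : ℕ) {x : L}
    {n : ℕ} (hx : (x : V) = vc n) (hn : sqNorm (x : V) ≤ 255) :
    ∃ g ∈ H, ((g • x : L) : V) = vc (runF gens fuel w n) := by
  induction fuel generalizing w n x with
  | zero => exact ⟨1, H.one_mem, by rw [one_smul]; exact hx⟩
  | succ k ih =>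
    have e : H10.runF gens (k + 1) w n = cond (Nat.beq w 0) n
      (fh (H10.sel gens n (Nat.pred (Nat.mod w 16))) fun n' => force (Nat.div w 16) fun w' =>
        H10.runF gens k w' n') := rfl
    rw [e]
    cases Nat.beq w 0
    · simp only [cond_false, force_eq, fh_eq]
      obtain ⟨g, hg, e1⟩ := h.sel (Nat.pred (Nat.mod w 16)) hx hn
      obtain ⟨g', hg', e2⟩ := ih (Nat.div w 16) e1 (by rwa [co_norm])
      exact ⟨g' * g, H.mul_mem hg' hg, by rw [mul_smul, e2]⟩
    · exact ⟨1, H.one_mem, by rw [one_smul]; exact hx⟩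

/-- apply a word of length at most 32. -/
def runW (gens : List (List ℕ)) (w n : ℕ) : ℕ := runF gens 32 w n

theorem CoIn.runW {gens : List (List ℕ)} {H : Subgroup G0} (h : CoIn gens H) (w : ℕ) {x : L}
    {n : ℕ} (hx : (x : V) = vc n) (hn : sqNorm (x : V) ≤ 255) :
    ∃ g ∈ H, ((g • x : L) : V) = vc (runW gens w n) := h.runF 32 w hx hn

/-! ### Codes of the standard vectors -/

def cU : ℕ := 0x001400100010001000100010001000100010001000100010001000100010001000100010001000100010001000100014
def cU' : ℕ := 0x00140010001000100010001000100010001000100010001000100010001000100010001000100010001000100010000c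
def cV : ℕ := 0x000b000f000f000f000f000f000f000f000f000f000f000f000f000f000f000f000f000f000f000f000f000f000f000f

theorem vU_eq : (vU : V) = vc cU := by funext p; revert p; decide +kernel
theorem vU'_eq : (vU' : V) = vc cU' := by funext p; revert p; decide +kernel
theorem vV_eq : (vV : V) = vc cV := by funext p; revert p; decide +kernel

theorem coM_fixU {M : List ℕ} (h : isCo M = true) (e : app M cU = cU) : coM M • vU = vU :=
  coM_fix h vU_eq (by rw [norm_vU]; norm_num) e
theorem coM_fixU' {M : List ℕ} (h : isCo M = true) (e : app M cU' = cU') : coM M • vU' = vU' :=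
  coM_fix h vU'_eq (by rw [norm_vU']; norm_num) e
theorem coM_fixV {M : List ℕ} (h : isCo M = true) (e : app M cV = cV) : coM M • vV = vV :=
  coM_fix h vV_eq (by rw [norm_vV]; norm_num) e

end H10
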