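import Mathlib
import Cfsg.Agent.H10.Conway

/-! The monomial group is a maximal subgroup of `Co0`. -/

set_option autoImplicit false

namespace H10

open Cfsg Finset H9 MulAction

theorem shp_eq_zero {x : V} : shp x = 0 ↔ ∀ i, x i % 4 = 0 := by
  unfold shp; split_ifs <;> simp_all

theorem shp_eq_one {x : V} : shp x = 1 ↔ ∀ i, x i % 2 = 1 := by
  unfold shp
  split_ifs with h1 h2
  · have := h1 none
    simp only [false_iff, not_forall]
    exact ⟨none, by omega⟩
  · simp [h2]
  · simp [h2]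

theorem shp_lt (x : V) : shp x = 0 ∨ shp x = 1 ∨ shp x = 2 := by
  unfold shp; split_ifs <;> simp

theorem ncard_shp0 : {x : L | sqNorm (x : V) = 32 ∧ shp (x : V) = 0}.ncard = 1104 := by
  rw [ncard_L fun x => sqNorm x = 32 ∧ shp x = 0,
    ← show thCount (fun t => decide (t % 4 = 0)) 32 = 1104 by decide +kernel,
    ← ncard_eq_thCount _ 32 (by norm_num)]
  simp only [shp_eq_zero, decide_eq_true_eq]
  rfl

theorem ncard_shp1 : {x : L | sqNorm (x : V) = 32 ∧ shp (x : V) = 1}.ncard = 98304 := by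
  rw [ncard_L fun x => sqNorm x = 32 ∧ shp x = 1,
    ← show thCount (fun t => decide (t % 2 = 1)) 32 = 98304 by decide +kernel,
    ← ncard_eq_thCount _ 32 (by norm_num)]
  simp only [shp_eq_one, decide_eq_true_eq]
  rfl

theorem ncard_split {X : Type*} (S : Set X) (hS : S.Finite) (P : X → Prop) :
    {x | x ∈ S ∧ P x}.ncard + {x | x ∈ S ∧ ¬ P x}.ncard = S.ncard := by
  rw [← Set.ncard_union_eq _ (hS.subset fun x hx => hx.1) (hS.subset fun x hx => hx.1)]
  · congr 1
    ext x
    simp only [Set.mem_union, Set.mem_ofPred_eq]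
    tauto
  · rw [Set.disjoint_left]
    exact fun x h h' => h'.2 h.2

theorem ncard_shp2 : {x : L | sqNorm (x : V) = 32 ∧ shp (x : V) = 2}.ncard = 97152 := by
  have h1 := ncard_split _ (finite_normL 32) fun x => shp (x : V) = 0
  have h2 := ncard_split _ ((finite_normL 32).subset
    (show {x : L | x ∈ {x : L | sqNorm (x : V) = 32} ∧ ¬ shp (x : V) = 0} ⊆ _ from
      fun x hx => hx.1)) fun x => shp (x : V) = 1
  have e1 : {x : L | x ∈ {x : L | x ∈ {x : L | sqNorm (x : V) = 32} ∧ ¬ shp (x : V) = 0} ∧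
      shp (x : V) = 1} = {x : L | sqNorm (x : V) = 32 ∧ shp (x : V) = 1} := by
    ext x; simp only [Set.mem_ofPred_eq]; omega
  have e2 : {x : L | x ∈ {x : L | x ∈ {x : L | sqNorm (x : V) = 32} ∧ ¬ shp (x : V) = 0} ∧
      ¬ shp (x : V) = 1} = {x : L | sqNorm (x : V) = 32 ∧ shp (x : V) = 2} := by
    ext x; have := shp_lt x; simp only [Set.mem_ofPred_eq]; omega
  rw [e1, e2, ncard_shp1] at h2
  rw [ncardL_32] at h1
  have h3 := ncard_shp0
  change {x : L | x ∈ {x : L | sqNorm (x : V) = 32} ∧ shp (x : V) = 0}.ncard = 1104 at h3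
  omega

theorem ncard_924 :
    {x : L | sqNorm (x : V) = 32 ∧ dU x = 0 ∧ dU' x = 0 ∧ shp (x : V) = 0}.ncard = 924 := by
  have h1 := ncard_split {x : L | sqNorm (x : V) = 32 ∧ shp (x : V) = 0}
    ((finite_normL 32).subset fun x hx => hx.1) fun x => dU x = 0 ∧ dU' x = 0
  have h2 : {x : L | x ∈ {x : L | sqNorm (x : V) = 32 ∧ shp (x : V) = 0} ∧
      ¬ (dU x = 0 ∧ dU' x = 0)}.ncard = 180 := by
    refine ncard_of_P _ (fun a b _ => decide ((a + b).natAbs = 32 ∨ (a - b).natAbs = 32))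
      (by decide +kernel) fun x => ?_
    have := forall_min (fun a b _ s => (s = 0 ∧ ¬ (a = 0 ∧ b = 0)) ↔
      ((a + b).natAbs = 32 ∨ (a - b).natAbs = 32)) (by decide +kernel) x
    simp only [Set.mem_ofPred_eq, decide_eq_true_eq]
    tauto
  rw [h2, ncard_shp0] at h1
  rw [← Nat.add_right_cancel (h1.trans (show 1104 = 924 + 180 from rfl))]
  apply congrArg Set.ncard
  ext x
  simp only [Set.mem_ofPred_eq]
  tauto

theorem ncard_42240 :
    {x : L | sqNorm (x : V) = 32 ∧ dU x = 0 ∧ dU' x = 0 ∧ shp (x : V) = 2}.ncard = 42240 := by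
  have h1 := ncard_split {x : L | sqNorm (x : V) = 32 ∧ dU x = 0 ∧ dU' x = 0}
    ((finite_normL 32).subset fun x hx => hx.1) fun x => shp (x : V) = 0
  rw [ncard_of_P {x : L | sqNorm (x : V) = 32 ∧ dU x = 0 ∧ dU' x = 0}
    (fun a b _ => decide (a = 0 ∧ b = 0)) (n := 43164) (by decide +kernel) (by simp)] at h1
  have e1 : {x : L | x ∈ {x : L | sqNorm (x : V) = 32 ∧ dU x = 0 ∧ dU' x = 0} ∧ shp (x : V) = 0} =
      {x : L | sqNorm (x : V) = 32 ∧ dU x = 0 ∧ dU' x = 0 ∧ shp (x : V) = 0} := by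
    ext x; simp only [Set.mem_ofPred_eq, and_assoc]
  have e2 : {x : L | x ∈ {x : L | sqNorm (x : V) = 32 ∧ dU x = 0 ∧ dU' x = 0} ∧ ¬ shp (x : V) = 0} =
      {x : L | sqNorm (x : V) = 32 ∧ dU x = 0 ∧ dU' x = 0 ∧ shp (x : V) = 2} := by
    ext x
    have := forall_min (fun a b _ s => a = 0 → b = 0 → (¬ s = 0 ↔ s = 2)) (by decide +kernel) x
    simp only [Set.mem_ofPred_eq]
    tauto
  rw [e1, e2, ncard_924] at h1
  exact Nat.add_left_cancel (h1.trans (show 43164 = 924 + 42240 from rfl))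

theorem mem_std_of_dots {y : L} (hy : sqNorm (y : V) = 64)
    (h : ∀ a : L, sqNorm (a : V) = 32 → shp (a : V) = 0 → (32 : ℤ) ∣ dotInt (y : V) (a : V)) :
    (y : V) ∈ stdCross := by
  have h8 : ∀ i j, i ≠ j → ∀ s : ℤ, s = 4 ∨ s = -4 → (32 : ℤ) ∣ 4 * (y : V) i + s * (y : V) j := by
    intro i j hij s hs
    have := h ⟨Pi.single i 4 + Pi.single j s, pair_mem_L i j (by norm_num) (by omega) (by omega)⟩
      (by
        simp only
        rw [sqNorm_add, sqNorm_single, sqNorm_single, dot_single_left, Pi.single_eq_of_ne hij]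
        rcases hs with rfl | rfl <;> norm_num)
      (shp_eq_zero.2 fun k => by
        simp only [Pi.add_apply, Pi.single_apply]
        split_ifs <;> omega)
    rwa [dot_add_right, dot_single_right, dot_single_right] at this
  have h0 : ∀ i, (8 : ℤ) ∣ (y : V) i := by
    by_contra hne
    push Not at hne
    obtain ⟨i, hi⟩ := hne
    have h16 : ∀ j, 16 ≤ (y : V) j ^ 2 := by
      intro j
      obtain ⟨k, hk⟩ := exists_ne i
      have a1 := h8 i k hk.symm 4 (Or.inl rfl)
      have a2 := h8 i k hk.symm (-4) (Or.inr rfl)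
      have : (y : V) j % 8 = 4 := by
        by_cases e : i = j
        · subst e; omega
        · have := h8 i j e 4 (Or.inl rfl); omega
      have : 4 ≤ (y : V) j ∨ (y : V) j ≤ -4 := by omega
      rcases this with h | h <;> nlinarith
    have : ∑ _i : GolayPt, (16 : ℤ) ≤ sqNorm (y : V) := Finset.sum_le_sum fun j _ => h16 j
    rw [sum_const24, hy] at this
    norm_num at this
  have : ∃ i, (y : V) i ≠ 0 := by
    by_contra hne
    push Not at hne
    have : (y : V) = 0 := funext hne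
    rw [this] at hy
    simp [sqNorm] at hy
  obtain ⟨i, hi⟩ := this
  have h1 := sq_le_sqNorm y i
  have h2 : (y : V) i = 8 ∨ (y : V) i = -8 := by
    obtain ⟨t, ht⟩ := h0 i
    rw [hy, ht] at h1
    have : t ≤ 1 := by nlinarith
    have : -1 ≤ t := by nlinarith
    omega
  refine ⟨i, _, h2, ?_⟩
  apply sub_eq_zero.1
  apply sqNorm_eq_zero
  rw [sqNorm_sub, hy, sqNorm_single, dot_single_right]
  rcases h2 with h | h <;> rw [h] <;> norm_num

theorem shp_vU : shp (vU : V) = 0 := by rw [vU_eq, shp_vc]; decide +kernel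

theorem isCoatom_N0 : IsCoatom N0 := by
  constructor
  · intro h
    have := card_N0
    rw [h, Subgroup.card_top, card_G0] at this
    norm_num at this
  intro K hK
  have hdvd : Nat.card K ∣ 8315553613086720000 := card_G0 ▸ K.card_subgroup_dvd_card
  obtain ⟨S, s1, s2, s3⟩ := ncard_invariant (finite_normL 32) (fun x => (shp (x : V) : ℤ)) {0, 1, 2}
    (szL [(0, 1104), (1, 98304), (2, 97152)])
    (fun y _ => by have := shp_lt y; simp only [mem_insert, mem_singleton]; omega)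
    (by
      simp only [mem_insert, mem_singleton, forall_eq_or_imp, forall_eq]
      exact ⟨by exact_mod_cast ncard_shp0, by exact_mod_cast ncard_shp1,
        by exact_mod_cast ncard_shp2⟩)
    (Y := {y | ∃ g ∈ K, g • vU = y}) (by rintro _ ⟨g, -, rfl⟩; exact (co_norm g _).trans norm_vU)
    (by
      rintro _ ⟨g, hg, rfl⟩ z hz e
      obtain ⟨a, ha, rfl⟩ := tr_N0 _ z ((co_norm g _).trans norm_vU) hz (by exact_mod_cast e)
      exact ⟨a * g, K.mul_mem (hK.le ha) hg, mul_smul _ _ _⟩)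
  have c1 := card_eq_orbit_mul K vU
  rw [s2] at c1
  have h0 : (0 : ℤ) ∈ S := by
    have := (s3 vU norm_vU).1 ⟨1, K.one_mem, one_smul _ _⟩
    rwa [shp_vU] at this
  have key : ∀ S ∈ ({0, 1, 2} : Finset ℤ).powerset, (0 : ℤ) ∈ S →
      (∑ i ∈ S, szL [(0, 1104), (1, 98304), (2, 97152)] i) ∣ 8315553613086720000 →
      S = {0} ∨ S = {0, 1, 2} := by decide +kernel
  rcases key S (mem_powerset.2 s1) h0 ((Dvd.intro _ c1.symm).trans hdvd) with rfl | rfl
  · exfalso
    apply hK.not_ge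
    intro g hg
    obtain ⟨σ, c, rfl⟩ := exists_mono_of_e8 (g := g) fun i => by
      apply mem_std_of_dots (by rw [co_norm, e8_coe, sqNorm_single]; norm_num)
      intro a ha hs
      obtain ⟨b, hb, rfl⟩ := tr_N0 _ a norm_vU ha (shp_vU.trans hs.symm)
      have := (s3 _ ((co_norm _ _).trans norm_vU)).1
        ⟨g⁻¹ * b, K.mul_mem (K.inv_mem hg) (hK.le hb), rfl⟩
      have := shp_eq_zero.1 (by exact_mod_cast mem_singleton.1 this) i
      rw [co_dot_left, ← mul_smul, e8_coe, dot_single_left]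
      omega
    exact mono_mem_N0 σ c
  · obtain ⟨T, t1, t2, t3⟩ := ncard_invariant (Ω := {x : L | sqNorm (x : V) = 32 ∧ dU x = 0})
      ((finite_normL 32).subset fun x hx => hx.1)
      (fun x => (((dU' x).natAbs + shp (x : V) : ℕ) : ℤ)) {32, 18, 9, 0, 2}
      (szL [(32, 2), (18, 4928), (9, 45056), (0, 924), (2, 42240)])
      (fun y hy => forall_min (fun a b _ s => a = 0 →
        ((b.natAbs + s : ℕ) : ℤ) ∈ ({32, 18, 9, 0, 2} : Finset ℤ)) (by decide +kernel) y hy.1 hy.2)
      (by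
        have key := forall_min (fun a b _ s => a = 0 →
          (((b.natAbs + s : ℕ) : ℤ) = 32 ↔ b.natAbs = 32) ∧
          (((b.natAbs + s : ℕ) : ℤ) = 18 ↔ b.natAbs = 16) ∧
          (((b.natAbs + s : ℕ) : ℤ) = 9 ↔ b.natAbs = 8) ∧
          (((b.natAbs + s : ℕ) : ℤ) = 0 ↔ b = 0 ∧ s = 0) ∧
          (((b.natAbs + s : ℕ) : ℤ) = 2 ↔ b = 0 ∧ s = 2)) (by decide +kernel)
        simp only [mem_insert, mem_singleton, forall_eq_or_imp, forall_eq]
        refine ⟨ncard_of_P _ (fun a b _ => decide (a = 0 ∧ b.natAbs = 32)) (by decide +kernel) ?_,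
          ncard_of_P _ (fun a b _ => decide (a = 0 ∧ b.natAbs = 16)) (by decide +kernel) ?_,
          ncard_of_P _ (fun a b _ => decide (a = 0 ∧ b.natAbs = 8)) (by decide +kernel) ?_,
          Eq.trans (congrArg Set.ncard (Set.ext ?_)) ncard_924,
          Eq.trans (congrArg Set.ncard (Set.ext ?_)) ncard_42240⟩ <;>
        · intro x
          simp only [Set.mem_ofPred_eq, decide_eq_true_eq, and_assoc]
          refine and_congr_right fun h1 => and_congr_right fun h2 => ?_
          obtain ⟨k1, k2, k3, k4, k5⟩ := key x h1 h2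
          assumption)
      (Y := {y | ∃ g ∈ K ⊓ C2, g • vU' = y})
      (by
        rintro _ ⟨g, hg, rfl⟩
        exact ⟨(co_norm g _).trans norm_vU', (dot_of_fix hg.2 _).trans dU_vU'⟩)
      (by
        rintro _ ⟨g, hg, rfl⟩ z hz e
        have n1 := (co_norm g _).trans norm_vU'
        have n2 : dU (g • vU') = 0 := (dot_of_fix hg.2 _).trans dU_vU'
        have key := forall_min (fun a b _ s => a = 0 → b.natAbs % 8 = 0 ∧ s < 3) (by decide +kernel)
        have k1 := key _ n1 n2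
        have k2 := key _ hz.1 hz.2
        obtain ⟨a, ha, rfl⟩ := tr_NU _ z n1 hz.1 (n2.trans hz.2.symm) (by omega) (by omega)
        exact ⟨a * g, (K ⊓ C2).mul_mem ⟨hK.le ha.1, ha.2⟩ hg, mul_smul _ _ _⟩)
    have c2 := card_eq_orbit_mul (K ⊓ C2) vU'
    have e : K ⊓ C2 ⊓ stabilizer G0 vU' = stabilizer G0 vU ⊓ stabilizer G0 vU' := by
      rw [inf_assoc, inf_eq_right]
      intro g hg
      obtain ⟨σ, c, -, -, rfl⟩ := (mem_stab_UU' g).1 hg
      exact hK.le (mono_mem_N0 σ c)
    rw [t2, e, card_stab_UU'] at c2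
    have h23 : 23 ∣ Nat.card K := (show 23 ∣ 4096 * 244823040 by norm_num).trans
      (card_N0 ▸ Subgroup.card_dvd_of_le hK.le)
    have h32 : (32 : ℤ) ∈ T := by
      have := (t3 vU' ⟨norm_vU', dU_vU'⟩).1 ⟨1, Subgroup.one_mem _, one_smul _ _⟩
      rwa [dU'_vU', vU'_eq, shp_vc] at this
    rw [c2] at c1
    have key2 : ∀ T ∈ ({32, 18, 9, 0, 2} : Finset ℤ).powerset, (32 : ℤ) ∈ T →
        23 ∣ (∑ i ∈ ({0, 1, 2} : Finset ℤ), szL [(0, 1104), (1, 98304), (2, 97152)] i) *
          ((∑ i ∈ T, szL [(32, 2), (18, 4928), (9, 45056), (0, 924), (2, 42240)] i) * 454164480) →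
        (∑ i ∈ ({0, 1, 2} : Finset ℤ), szL [(0, 1104), (1, 98304), (2, 97152)] i) *
          ((∑ i ∈ T, szL [(32, 2), (18, 4928), (9, 45056), (0, 924), (2, 42240)] i) * 454164480) =
          8315553613086720000 := by decide +kernel
    apply Subgroup.eq_top_of_card_eq
    rw [card_G0, c1]
    exact key2 T (mem_powerset.2 t1) h32 (c1 ▸ h23)

end H10
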