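import Mathlib
import Cfsg.Agent.H10.Conway
import Cfsg.Agent.H10.MaxN
import Cfsg.Agent.H10.Mat

/-!
# The Leech lattice modulo 2 in hyperbolic coordinates; the extraspecial group
-/

set_option autoImplicit false
set_option linter.all false

namespace H10.Mon

open Cfsg H9 Matrix

/-- The 24 coordinates. -/
abbrev P : Type := GolayPt
/-- The index set of the module of dimension 4096. -/
abbrev K : Type := Fin 12 → ZMod 2
/-- The Leech lattice modulo 2. -/
abbrev C : Type := K × K

def eC : List ℕ := [0x001200100010001000100010000e00100010000e00100010001000100010001000100010000e0010001200120012000e, 0x0012000e00100010001000100010000e00100010000e001000100010001000100010001000100012001000120012000e, 0x00120010000e0010000e00100010001000100010001000100010001000100010000e001200100010001000120012000e, 0x00120010001000100010000e00100010001000100010000e000e0010001000120010001000100010001000120012000e, 0x001200100010001000120012001200100012001000120010001000100010001000100010001000100010001000120012, 0x001000120010001200120010001200100010001000100012001000100010001000100010001000100010001200120012,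 0x001000100010001000120010001200100010001000120010001000100010001000100012001000120012001200100012, 0x001000100010001200100010001200100012001000100010001000100010001000120012001000100012001000120012, 0x001000120010001000100012001200100010001000100010001000100010001200100010001000120012001000120012, 0x001000120010001000120010001000100012001000100010001000120010001000100012001000120010001000120012, 0x00120010000e00100010000e0010000e000e001000100010001000100010001000100010000e00100010000e00100012, 0x0011000f001100110011000f0011000f000f0011000f000d00110011001100110011000f00110011000f00110011000f]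

def fC : List ℕ := [0x00100010001000100010001000100010001000140010001000100010000c001000100010001000100010001000100010, 0x00140010001000140010001000100010001000100010001000100010001000100010001000100014001000100010000c, 0x001000140010001000100014001000100010001000100010001000100010001000100010001000100014001000100014, 0x00100010001000100010001000100010001000100010001000140010000c001000100010001000100010001000100010, 0x00100010001000100010001000100014001000100014001000100010001000100010001000100010001000100014000c, 0x001000100010001000100010001000100010001000100014000c00100010001000100010001000100010001000100010, 0x001400100010001000100010001400100010001000100010001000100010001000100010001000100014000c00100010, 0x001000100010001000100010001000100010001000140010001000100010001000100010001000140010001400100014, 0x001000100010001000100010001000100010001000100010001400100010000c00100010001000100010001000100010, 0x00100010001000100010001000100010001000100010001000100014000c001000100010001000100010001000100010, 0x001000100010001000100010001000100010001400100010001000100010001000100010000c00100010001000100010,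 0x001800100010001000100010001000100010001000100010001000100010001000100010001000100010001000100010]

noncomputable def eL (j : Fin 12) : L := lv (eC.getD j 0)
noncomputable def fL (j : Fin 12) : L := lv (fC.getD j 0)

theorem eL_coe (j : Fin 12) : (eL j : V) = vc (eC.getD j 0) := lv_coe (by revert j; decide +kernel)
theorem fL_coe (j : Fin 12) : (fL j : V) = vc (fC.getD j 0) := lv_coe (by revert j; decide +kernel)

/-- The inner product modulo 2. -/
noncomputable def ip : L →+ L →+ ZMod 2 :=
  AddMonoidHom.mk' (fun x => (Int.castAddHom (ZMod 2)).comp (leechEL.β x))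
    fun x y => by ext z; simp

theorem ip_apply (x y : L) : ip x y = ((dotInt (x : V) y / 8 : ℤ) : ZMod 2) := rfl

theorem ip_comm (x y : L) : ip x y = ip y x := by rw [ip_apply, ip_apply, dot_comm]

theorem ip_smul (g : G0) (x y : L) : ip (g • x) (g • y) = ip x y := by
  rw [ip_apply, ip_apply, co_dot]

/-- Coordinates modulo 2. -/
noncomputable def kap : L →+ C :=
  AddMonoidHom.mk' (fun x => (fun j => ip x (fL j), fun j => ip x (eL j)))
    fun x y => by ext j <;> simp

theorem kap_fst (x : L) (j : Fin 12) : (kap x).1 j = ip x (fL j) := rfl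
theorem kap_snd (x : L) (j : Fin 12) : (kap x).2 j = ip x (eL j) := rfl

theorem kap_eL (j : Fin 12) : kap (eL j) = (Pi.single j 1, 0) := by
  ext i
  · rw [kap_fst, ip_apply, eL_coe, fL_coe, dot_vc]; revert i j; decide +kernel
  · rw [kap_snd, ip_apply, eL_coe, eL_coe, dot_vc]; revert i j; decide +kernel

theorem kap_fL (j : Fin 12) : kap (fL j) = (0, Pi.single j 1) := by
  ext i
  · rw [kap_fst, ip_apply, fL_coe, fL_coe, dot_vc]; revert i j; decide +kernel
  · rw [kap_snd, ip_apply, eL_coe, fL_coe, dot_vc]; revert i j; decide +kernel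

theorem two_zmod {M : Type*} [AddCommGroup M] [Module (ZMod 2) M] (a : M) : a + a = 0 := by
  rw [← two_smul (ZMod 2) a, show (2 : ZMod 2) = 0 from rfl, zero_smul]

theorem kap_two (x : L) : kap (2 • x) = 0 := by rw [two_nsmul, map_add, two_zmod]

/-- A section of `kap`. -/
noncomputable def sec (c : C) : L := ∑ j, (c.1 j).val • eL j + ∑ j, (c.2 j).val • fL j

theorem kap_sec (c : C) : kap (sec c) = c := by
  simp only [sec, map_add, map_sum, map_nsmul, kap_eL, kap_fL]
  have : ∀ (a : K) (i : Fin 12), ∑ j, ((a j).val • (Pi.single j 1 : K)) i = a i := fun a i => by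
    simp only [Pi.smul_apply, Pi.single_apply, nsmul_eq_mul, ZMod.natCast_val, ZMod.cast_id', id,
      mul_ite, mul_one, mul_zero, Finset.sum_ite_eq, Finset.mem_univ, if_true]
  ext i <;> simp only [Prod.fst_sum, Prod.snd_sum, Finset.sum_apply, Prod.fst_add, Prod.snd_add,
    Prod.smul_mk, smul_zero, Pi.add_apply, this, Finset.sum_const_zero, Pi.zero_apply, add_zero,
    zero_add]

theorem kap_surj : Function.Surjective kap := fun c => ⟨sec c, kap_sec c⟩

theorem kap_eq_zero {x : L} : kap x = 0 ↔ ∃ y : L, x = 2 • y := by
  refine ⟨fun h => ?_, by rintro ⟨y, rfl⟩; exact kap_two y⟩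
  let T : AddSubgroup L := (nsmulAddMonoidHom (α := L) 2).range
  have h1 : T ≤ kap.ker := by rintro _ ⟨y, rfl⟩; exact kap_two y
  have h2 : kap.ker.index = 2 ^ 24 := by
    rw [AddSubgroup.index_ker, AddMonoidHom.range_eq_top.2 kap_surj, AddSubgroup.card_top]
    simp
  have h3 : T.index = 2 ^ 24 := by
    have := AddSubgroup.index_range_nsmul L 2
    rw [finrank_L] at this
    exact this
  have h4 := AddSubgroup.relIndex_mul_index h1
  rw [h2, h3] at h4
  have h5 : T.relIndex kap.ker = 1 := by omega
  obtain ⟨y, hy⟩ := AddSubgroup.relIndex_eq_one.1 h5 h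
  exact ⟨y, hy.symm⟩

theorem kap_eq {x y : L} : kap x = kap y ↔ ∃ z : L, x - y = 2 • z := by
  rw [← kap_eq_zero, map_sub, sub_eq_zero]

/-- The cocycle. -/
def bb (c d : C) : ZMod 2 := c.1 ⬝ᵥ d.2

theorem bb_add_left (c d e : C) : bb (c + d) e = bb c e + bb d e := add_dotProduct _ _ _
theorem bb_add_right (c d e : C) : bb c (d + e) = bb c d + bb c e := dotProduct_add _ _ _

theorem ip_two (x y : L) : ip (2 • x) y = 0 := by rw [two_nsmul, map_add, AddMonoidHom.add_apply, two_zmod]

theorem ip_kap (x y : L) : ip x y = bb (kap x) (kap y) + bb (kap y) (kap x) := by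
  obtain ⟨z, hz⟩ := kap_eq.1 (kap_sec (kap x)).symm
  rw [sub_eq_iff_eq_add] at hz
  conv_lhs => rw [hz]
  rw [map_add, AddMonoidHom.add_apply, ip_two, zero_add, sec, map_add, map_sum, map_sum,
    AddMonoidHom.add_apply, AddMonoidHom.finset_sum_apply, AddMonoidHom.finset_sum_apply, bb, bb,
    dotProduct_comm (kap y).1]
  simp only [map_nsmul, AddMonoidHom.nsmul_apply, nsmul_eq_mul, ZMod.natCast_val, ZMod.cast_id',
    id, dotProduct, kap_fst y, kap_snd y, ip_comm y]

/-- The quadratic form. -/
noncomputable def qq (x : L) : ZMod 2 := ((sqNorm (x : V) / 16 : ℤ) : ZMod 2)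

theorem qq_add (x y : L) : qq (x + y) = qq x + qq y + ip x y := by
  obtain ⟨a, ha⟩ := sixteen_dvd_sqNorm x.2
  obtain ⟨b, hb⟩ := sixteen_dvd_sqNorm y.2
  obtain ⟨c, hc⟩ := eight_dvd_dot x.2 y.2
  rw [qq, qq, qq, ip_apply, AddSubgroup.coe_add, sqNorm_add, ha, hb, hc,
    show (16 * a + 16 * b + 2 * (8 * c)) / 16 = a + b + c by omega,
    show 16 * a / 16 = a by omega, show 16 * b / 16 = b by omega, show 8 * c / 8 = c by omega]
  push_cast; rfl

theorem qq_kap (x : L) : qq x = bb (kap x) (kap x) := by
  let T : AddSubgroup L :=
    { carrier := {x | qq x = bb (kap x) (kap x)}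
      zero_mem' := by simp [qq, bb, sqNorm]
      add_mem' := fun {a b} ha hb => by
        rw [Set.mem_ofPred_eq] at *
        rw [qq_add, ha, hb, ip_kap, map_add, bb_add_left, bb_add_right, bb_add_right]; ring
      neg_mem' := fun {a} ha => by
        rw [Set.mem_ofPred_eq] at *
        rw [map_neg, bb, Prod.fst_neg, Prod.snd_neg, neg_dotProduct_neg, ← bb, ← ha, qq, qq,
          AddSubgroup.coe_neg, sqNorm_neg] }
  obtain ⟨z, hz⟩ := kap_eq.1 (kap_sec (kap x)).symm
  rw [sub_eq_iff_eq_add] at hz
  change x ∈ T
  rw [hz]
  refine T.add_mem ?_ (T.add_mem (T.sum_mem fun j _ => T.nsmul_mem ?_ _)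
    (T.sum_mem fun j _ => T.nsmul_mem ?_ _))
  · change qq _ = _
    obtain ⟨a, ha⟩ := sixteen_dvd_sqNorm z.2
    rw [kap_two, qq, show ((2 • z : L) : V) = (2 : ℤ) • (z : V) by simp [two_smul], sqNorm_smul, ha,
      show 2 ^ 2 * (16 * a) / 16 = 2 * (2 * a) by omega]
    push_cast
    rw [show (2 : ZMod 2) = 0 from rfl]; simp [bb]
  · change qq _ = _
    rw [kap_eL, qq, eL_coe, norm_vc]; revert j; decide +kernel
  · change qq _ = _
    rw [kap_fL, qq, fL_coe, norm_vc]; revert j; decide +kernel

theorem kap_smul_congr (g : G0) {x y : L} (h : kap x = kap y) : kap (g • x) = kap (g • y) := by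
  obtain ⟨z, hz⟩ := kap_eq.1 h
  exact kap_eq.2 ⟨g • z, by rw [← co_sub, hz, co_nsmul]⟩

noncomputable instance actC : DistribMulAction G0 C where
  smul g c := kap (g • sec c)
  one_smul c := by change kap _ = _; rw [one_smul, kap_sec]
  mul_smul g h c := by
    change kap _ = kap (g • sec (kap _)); rw [mul_smul]; exact kap_smul_congr g (kap_sec _).symm
  smul_zero g := by
    change kap _ = _; rw [kap_smul_congr g ((kap_sec 0).trans kap.map_zero.symm), co_zero, map_zero]
  smul_add g c d := by
    change kap _ = kap _ + kap _
    rw [← map_add, ← co_add]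
    exact kap_smul_congr g (by rw [map_add, kap_sec, kap_sec, kap_sec])

theorem smul_kap (g : G0) (x : L) : g • kap x = kap (g • x) := kap_smul_congr g (kap_sec _)

theorem bb_smul_self (g : G0) (c : C) : bb (g • c) (g • c) = bb c c := by
  obtain ⟨x, rfl⟩ := kap_surj c
  rw [smul_kap, ← qq_kap, ← qq_kap, qq, qq, co_norm]

theorem bb_smul (g : G0) (c d : C) : bb (g • c) (g • d) + bb (g • d) (g • c) = bb c d + bb d c := by
  obtain ⟨x, rfl⟩ := kap_surj c
  obtain ⟨y, rfl⟩ := kap_surj d
  rw [smul_kap, smul_kap, ← ip_kap, ← ip_kap, ip_smul]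

theorem neg1_smul_C (c : C) : neg1 • c = c := by
  obtain ⟨x, rfl⟩ := kap_surj c
  rw [smul_kap, neg1_smul, map_neg, neg_eq_iff_add_eq_zero, two_zmod]

/-- The classes of the minimal vectors. -/
def S : Type := {c : C // ∃ x : L, sqNorm (x : V) = 32 ∧ kap x = c}

instance : Finite S := by unfold S; infer_instance
noncomputable instance : Fintype S := Fintype.ofFinite S
instance : DecidableEq S := by unfold S; infer_instance

noncomputable instance actS : MulAction G0 S where
  smul g c := ⟨g • c.1, by
    obtain ⟨x, h1, h2⟩ := c.2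
    exact ⟨g • x, by rw [co_norm, h1], by rw [← h2, smul_kap]⟩⟩
  one_smul c := Subtype.ext (one_smul _ _)
  mul_smul g h c := Subtype.ext (mul_smul _ _ _)

theorem smul_val (g : G0) (c : S) : (g • c).1 = g • c.1 := rfl

/-- A minimal vector of the class. -/
noncomputable def rep (c : S) : L := c.2.choose

theorem rep_norm (c : S) : sqNorm (rep c : V) = 32 := c.2.choose_spec.1
theorem kap_rep (c : S) : kap (rep c) = c.1 := c.2.choose_spec.2

theorem eq_or_neg {x y : L} (hx : sqNorm (x : V) = 32) (hy : sqNorm (y : V) ≤ 64)
    (h : kap x = kap y) : y = x ∨ y = -x := by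
  obtain ⟨z, hz⟩ := kap_eq.1 h
  by_contra hc
  push Not at hc
  have h4 := (leechEL_self x 4).2 hx
  have := dot8 y y
  rw [dot_self] at this
  have := (leechEL.short (h4.le.trans (by norm_num))
    (by rw [leechEL_apply, dot_self]; omega) hz hc.1 hc.2).1
  omega

theorem rep_eq {x : L} {c : S} (hx : sqNorm (x : V) = 32) (h : kap x = c.1) :
    rep c = x ∨ rep c = -x := eq_or_neg hx (by rw [rep_norm]; norm_num) (h.trans (kap_rep c).symm)

theorem bb_S (c : S) : bb c.1 c.1 = 0 := by rw [← kap_rep, ← qq_kap, qq, rep_norm]; rfl

theorem card_S : Fintype.card S = 98280 := by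
  obtain ⟨T, h2, hT⟩ : ∃ T : Finset L, T.card = 196560 ∧ ∀ x : L, x ∈ T ↔ sqNorm (x : V) = 32 :=
    ⟨(finite_normL 32).toFinset, by rw [← ncardL_32, Set.ncard_eq_toFinset_card _ (finite_normL 32)],
      fun x => Set.Finite.mem_toFinset _⟩
  let f : T → S := fun x => ⟨kap x, x, (hT _).1 x.2, rfl⟩
  have h3 := Finset.card_eq_sum_card_fiberwise (s := Finset.univ) (t := Finset.univ) (f := f)
    (by rw [Finset.coe_univ, Finset.coe_univ]; exact Set.mapsTo_univ _ _)
  rw [Finset.card_univ, Fintype.card_coe, h2, Finset.sum_congr rfl (g := fun _ => 2)] at h3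
  · rw [Finset.sum_const, Finset.card_univ, smul_eq_mul] at h3; omega
  intro c _
  have m1 : rep c ∈ T := (hT _).2 (rep_norm c)
  have m2 : -rep c ∈ T := (hT _).2 ((sqNorm_neg _).trans (rep_norm c))
  rw [Finset.card_eq_two]
  refine ⟨⟨_, m1⟩, ⟨_, m2⟩, fun h => leechEL.ne_neg (x := rep c) (fun h0 => by
    have := rep_norm c; rw [h0] at this; simp [sqNorm] at this) (congrArg Subtype.val h), ?_⟩
  ext x
  simp only [Finset.mem_filter, Finset.mem_univ, true_and, Finset.mem_insert, Finset.mem_singleton,
    Subtype.ext_iff]
  constructor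
  · intro h
    exact eq_or_neg (rep_norm c) (by rw [(hT _).1 x.2]; norm_num)
      ((kap_rep c).trans (congrArg Subtype.val h).symm) |>.imp (congrArg _) (congrArg _)
  · rintro (h | h) <;> refine Subtype.ext ?_ <;> change kap x.1 = _
    · rw [Subtype.ext h, kap_rep]
    · rw [Subtype.ext h, ← kap_rep, ← neg1_smul, ← smul_kap, neg1_smul_C]

theorem z2 (s : ZMod 2) : s = 0 ∨ s = 1 := by revert s; decide

/-- The sign. -/
def sg (t : ZMod 2) : ℝ := if t = 0 then 1 else -1

@[simp] theorem sg_zero : sg 0 = 1 := rfl
@[simp] theorem sg_one : sg 1 = -1 := rfl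
theorem sg_add (s t : ZMod 2) : sg (s + t) = sg s * sg t := by
  rcases z2 s with rfl | rfl <;> rcases z2 t with rfl | rfl <;> simp [two_zmod]
theorem sg_mul_self (s : ZMod 2) : sg s * sg s = 1 := by rw [← sg_add, two_zmod, sg_zero]
theorem sg_ne (s : ZMod 2) : sg s ≠ 0 := fun h => by simpa [h] using sg_mul_self s
theorem sg_inj {s t : ZMod 2} (h : sg s = sg t) : s = t := by
  rcases z2 s with rfl | rfl <;> rcases z2 t with rfl | rfl <;> simp at h ⊢ <;> norm_num at h

/-- The elements of the extraspecial group. -/
def xm (c : C) : Matrix K K ℝ := of fun u v => if v = u + c.1 then sg (c.2 ⬝ᵥ u) else 0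

theorem xm_zero : xm 0 = 1 := by ext u v; simp [xm, one_apply, eq_comm]

theorem xm_mul (c d : C) : xm c * xm d = sg (bb c d) • xm (c + d) := by
  ext u v
  simp only [xm, mul_apply, of_apply, ite_mul, zero_mul, Finset.sum_ite_eq', Finset.mem_univ,
    if_true, Matrix.smul_apply, smul_eq_mul, Prod.fst_add, Prod.snd_add, add_assoc]
  split_ifs
  · rw [← sg_add, ← sg_add, bb, dotProduct_add, add_dotProduct, dotProduct_comm c.1]; congr 1; ring
  · simp

theorem xm_transpose (c : C) : (xm c)ᵀ = sg (bb c c) • xm c := by
  ext u v
  simp only [xm, transpose_apply, of_apply, Matrix.smul_apply, smul_eq_mul]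
  have : u = v + c.1 ↔ v = u + c.1 := by
    constructor <;> rintro rfl <;> rw [add_assoc, two_zmod, add_zero]
  rw [if_congr this rfl rfl]
  split_ifs with h
  · rw [h, ← sg_add, bb, dotProduct_add, dotProduct_comm c.1, add_comm]
  · simp

theorem xm_orth (c : C) : xm c * (xm c)ᵀ = 1 := by
  rw [xm_transpose, Matrix.mul_smul, xm_mul, two_zmod, xm_zero, smul_smul, sg_mul_self, one_smul]

theorem trace_xm (c : C) : trace (xm c) = if c = 0 then 4096 else 0 := by
  split_ifs with h
  · rw [h, xm_zero, trace_one]; simp
  by_cases h1 : c.1 = 0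
  · obtain ⟨j, hj⟩ : ∃ j, c.2 j ≠ 0 := by
      by_contra h2
      push Not at h2
      exact h (Prod.ext h1 (funext h2))
    refine Finset.sum_involution (fun u _ => u + Pi.single j 1) (fun u _ => ?_)
      (fun u _ _ h => by simpa using congrFun h j) (fun _ _ => Finset.mem_univ _)
      fun u _ => by rw [add_assoc, two_zmod, add_zero]
    have : c.2 j = 1 := by revert hj; generalize c.2 j = t; revert t; decide
    simp [xm, h1, dotProduct_add, sg_add, this]
  · refine Finset.sum_eq_zero fun u _ => ?_
    simp [xm, h1]

theorem xm_ne (c : C) : xm c ≠ 0 := fun h => by simpa [h] using xm_orth c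

end H10.Mon
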