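import Mathlib
import Cfsg.Agent.H10.MKap

/-!
# The Griess algebra and the group `2^(1+24).Co1`: definitions
-/

set_option autoImplicit false
set_option linter.all false

namespace H10.Mon

open Cfsg H9 Matrix
open scoped Kronecker

/-- Index set: symmetric matrices (300), short classes (98280), `24 ⊗ 4096`. -/
abbrev I : Type := Sym2 P ⊕ S ⊕ P × K
/-- The space of dimension 196884. -/
abbrev U : Type := I → ℝ

def mA (v : U) : Matrix P P ℝ := of fun i j => v (.inl s(i, j))
def fS (v : U) : S → ℝ := fun c => v (.inr (.inl c))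
def wW (v : U) : P × K → ℝ := fun p => v (.inr (.inr p))

noncomputable def mk (A : Matrix P P ℝ) (f : S → ℝ) (w : P × K → ℝ) : U :=
  Sum.elim (Sym2.lift ⟨fun i j => (A i j + A j i) / 2, fun i j => by ring⟩) (Sum.elim f w)

theorem mA_symm (v : U) : (mA v)ᵀ = mA v := by ext i j; simp [mA, Sym2.eq_swap]
theorem mA_mk {A : Matrix P P ℝ} (h : Aᵀ = A) (f : S → ℝ) (w : P × K → ℝ) : mA (mk A f w) = A := by
  ext i j
  have := congrFun (congrFun h i) j
  simp only [transpose_apply] at this
  simp [mA, mk, this]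
@[simp] theorem fS_mk (A : Matrix P P ℝ) (f : S → ℝ) (w : P × K → ℝ) : fS (mk A f w) = f := rfl
@[simp] theorem wW_mk (A : Matrix P P ℝ) (f : S → ℝ) (w : P × K → ℝ) : wW (mk A f w) = w := rfl

theorem U_ext {u v : U} (h1 : mA u = mA v) (h2 : fS u = fS v) (h3 : wW u = wW v) : u = v := by
  funext p
  rcases p with p | p | p
  · induction p using Sym2.ind with
    | _ i j => exact congrFun (congrFun h1 i) j
  · exact congrFun h2 p
  · exact congrFun h3 p

@[simp] theorem mA_add (u v : U) : mA (u + v) = mA u + mA v := rfl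
@[simp] theorem fS_add (u v : U) : fS (u + v) = fS u + fS v := rfl
@[simp] theorem wW_add (u v : U) : wW (u + v) = wW u + wW v := rfl
@[simp] theorem mA_smul (a : ℝ) (v : U) : mA (a • v) = a • mA v := rfl
@[simp] theorem fS_smul (a : ℝ) (v : U) : fS (a • v) = a • fS v := rfl
@[simp] theorem wW_smul (a : ℝ) (v : U) : wW (a • v) = a • wW v := rfl
@[simp] theorem mA_zero : mA 0 = 0 := rfl
@[simp] theorem fS_zero : fS 0 = 0 := rfl
@[simp] theorem wW_zero : wW 0 = 0 := rfl

/-- A lattice vector as a real vector (norms are 8 times the usual ones). -/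
def rv (x : L) : P → ℝ := fun i => ((x : V) i : ℝ)

theorem rv_add (x y : L) : rv (x + y) = rv x + rv y := by ext i; simp [rv]
theorem rv_neg (x : L) : rv (-x) = -rv x := by ext i; simp [rv]
theorem rv_inj {x y : L} (h : rv x = rv y) : x = y :=
  Subtype.ext (funext fun i => Int.cast_injective (α := ℝ) (congrFun h i))
theorem rv_dot (x y : L) : rv x ⬝ᵥ rv y = (dotInt (x : V) y : ℝ) := by simp [rv, dotInt, dotProduct]

theorem sum_e8 (x : L) : ∑ j, (x : V) j • e8 j = (8 : ℤ) • x := by
  apply Subtype.ext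
  ext i
  simp only [AddSubgroup.val_finset_sum, AddSubgroup.coe_zsmul, e8_coe, Finset.sum_apply,
    Pi.smul_apply, Pi.single_apply, smul_eq_mul, mul_ite, mul_zero, Finset.sum_ite_eq,
    Finset.mem_univ, if_true]
  exact mul_comm _ _

/-- The real matrix of an element of `Co0`. -/
noncomputable def hm0 (h : G0) : Matrix P P ℝ := of fun i j => rv (h • e8 j) i / 8

theorem hm0_mulVec (h : G0) (x : L) : hm0 h *ᵥ rv x = rv (h • x) := by
  have := congrArg (coHom h) (sum_e8 x)
  simp only [map_sum, map_zsmul, coHom_apply] at this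
  ext i
  have := congrArg (fun y : L => rv y i) this
  simp only [rv, AddSubgroup.val_finset_sum, Finset.sum_apply, AddSubgroup.coe_zsmul,
    Pi.smul_apply, smul_eq_mul, Int.cast_sum, Int.cast_mul, Int.cast_ofNat] at this
  simp only [hm0, mulVec, dotProduct, of_apply, rv]
  rw [← mul_right_inj' (show (8 : ℝ) ≠ 0 by norm_num), ← this, Finset.mul_sum]
  exact Finset.sum_congr rfl fun j _ => by ring

theorem rv_e8 (j : P) : rv (e8 j) = Pi.single j 8 := by
  ext i; simp only [rv, e8_coe, Pi.single_apply]; split_ifs <;> simp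

theorem mat_ext {A B : Matrix P P ℝ} (h : ∀ x : L, A *ᵥ rv x = B *ᵥ rv x) : A = B := by
  ext i j
  simpa [rv_e8] using congrFun (h (e8 j)) i

noncomputable def hm : G0 →* Matrix P P ℝ where
  toFun := hm0
  map_one' := mat_ext fun x => by rw [hm0_mulVec, one_smul, one_mulVec]
  map_mul' g h := mat_ext fun x => by
    rw [← mulVec_mulVec, hm0_mulVec, hm0_mulVec, hm0_mulVec, mul_smul]

theorem hm_mulVec (h : G0) (x : L) : hm h *ᵥ rv x = rv (h • x) := hm0_mulVec h x

theorem hm_apply (h : G0) (i j : P) : hm h i j = rv (h • e8 j) i / 8 := rfl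

theorem hm_orth' (h : G0) : (hm h)ᵀ * hm h = 1 := by
  ext i j
  have h1 := rv_dot (h • e8 i) (h • e8 j)
  rw [co_dot, ← rv_dot, rv_e8, rv_e8] at h1
  simp only [mul_apply, transpose_apply, hm_apply, div_mul_div_comm, ← Finset.sum_div]
  change rv (h • e8 i) ⬝ᵥ rv (h • e8 j) / _ = _
  rw [h1, single_dotProduct, Pi.single_apply, one_apply]
  split_ifs <;> norm_num

theorem hm_orth (h : G0) : hm h * (hm h)ᵀ = 1 := mul_eq_one_comm.1 (hm_orth' h)

theorem hm_inv (h : G0) : hm h⁻¹ = (hm h)ᵀ := by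
  rw [← mul_one (hm h⁻¹), ← hm_orth h, ← mul_assoc, ← map_mul, inv_mul_cancel, map_one, one_mul]

theorem hm_neg1 : hm neg1 = -1 :=
  mat_ext fun x => by rw [hm_mulVec, neg1_smul, rv_neg, neg_mulVec, one_mulVec]

theorem hm_inj : Function.Injective hm := fun g h e =>
  co_ext fun x => rv_inj (by rw [← hm_mulVec, ← hm_mulVec, e])

/-- The matrix `r rᵀ` of a short class (trace 4). -/
noncomputable def pm (c : S) : Matrix P P ℝ := (1 / 8 : ℝ) • vecMulVec (rv (rep c)) (rv (rep c))

theorem pm_eq {x : L} {c : S} (hx : sqNorm (x : V) = 32) (h : kap x = c.1) :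
    pm c = (1 / 8 : ℝ) • vecMulVec (rv x) (rv x) := by
  rcases rep_eq hx h with h | h <;> rw [pm, h]
  rw [rv_neg, neg_vecMulVec, vecMulVec_neg, neg_neg]

theorem pm_symm (c : S) : (pm c)ᵀ = pm c := by rw [pm, transpose_smul, transpose_vecMulVec]

theorem pm_smul (h : G0) (c : S) : pm (h • c) = hm h * pm c * (hm h)ᵀ := by
  rw [pm_eq (x := h • rep c) (by rw [co_norm, rep_norm]) (by rw [← smul_kap, kap_rep]; rfl), pm,
    Matrix.mul_smul, Matrix.smul_mul, mul_vecMulVec, vecMulVec_mul, vecMul_transpose, hm_mulVec]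

/-- The orthogonal group of the module of dimension 4096. -/
abbrev OK : Type := orthogonalGroup K ℝ

theorem OK_orth (n : OK) : n.1 * n.1ᵀ = 1 := (mem_orthogonalGroup_iff _ _).1 n.2
theorem OK_orth' (n : OK) : n.1ᵀ * n.1 = 1 := (mem_orthogonalGroup_iff' _ _).1 n.2
theorem OK_inv (n : OK) : (n⁻¹).1 = n.1ᵀ := rfl

/-- The covering group of `2^(1+24).Co1`. -/
def GT : Subgroup (OK × G0) where
  carrier := {g | ∀ c, ∃ t, g.1.1 * xm c = sg t • (xm (g.2 • c) * g.1.1)}
  one_mem' c := ⟨0, by simp⟩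
  mul_mem' := fun {a b} ha hb c => by
    obtain ⟨s, hs⟩ := hb c
    obtain ⟨t, ht⟩ := ha (b.2 • c)
    refine ⟨s + t, ?_⟩
    rw [Prod.fst_mul, Prod.snd_mul, Submonoid.coe_mul, mul_assoc, hs, Matrix.mul_smul, ← mul_assoc,
      ht, Matrix.smul_mul, smul_smul, sg_add, mul_smul a.2, mul_assoc]
  inv_mem' := fun {a} ha c => by
    obtain ⟨t, ht⟩ := ha (a.2⁻¹ • c)
    refine ⟨t, ?_⟩
    rw [smul_inv_smul] at ht
    rw [Prod.fst_inv, Prod.snd_inv, OK_inv, ← one_mul (xm (a.2⁻¹ • c)), ← OK_orth' a.1,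
      mul_assoc a.1.1ᵀ, ht, Matrix.mul_smul, Matrix.smul_mul, smul_smul, sg_mul_self, one_smul,
      mul_assoc, mul_assoc, OK_orth, mul_one]

/-- The matrix on the module of dimension 4096. -/
def nm (g : GT) : Matrix K K ℝ := g.1.1.1
/-- The element of `Co0`. -/
def co : GT →* G0 := (MonoidHom.snd _ _).comp GT.subtype

theorem nm_mul (g h : GT) : nm (g * h) = nm g * nm h := rfl
theorem nm_one : nm 1 = 1 := rfl
theorem nm_orth (g : GT) : nm g * (nm g)ᵀ = 1 := OK_orth _
theorem nm_orth' (g : GT) : (nm g)ᵀ * nm g = 1 := OK_orth' _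
theorem GT_ext {g h : GT} (h1 : nm g = nm h) (h2 : co g = co h) : g = h :=
  Subtype.ext (Prod.ext (Subtype.ext h1) h2)

/-- The sign in the action on the extraspecial group. -/
noncomputable def ep (g : GT) (c : C) : ZMod 2 := (g.2 c).choose

theorem ep_spec (g : GT) (c : C) : nm g * xm c = sg (ep g c) • (xm (co g • c) * nm g) :=
  (g.2 c).choose_spec

theorem ep_eq {g : GT} {c : C} {t : ZMod 2} (h : nm g * xm c = sg t • (xm (co g • c) * nm g)) :
    ep g c = t := by
  rw [ep_spec] at h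
  have := congrArg (fun M => M * (nm g)ᵀ) h
  simp only [Matrix.smul_mul, mul_assoc, nm_orth, mul_one] at this
  exact sg_inj (smul_left_injective ℝ (xm_ne _) this)

theorem ep_one (c : C) : ep 1 c = 0 := ep_eq (by simp [nm_one])

theorem ep_mul (g h : GT) (c : C) : ep (g * h) c = ep h c + ep g (co h • c) := ep_eq (by
  rw [nm_mul, mul_assoc, ep_spec, Matrix.mul_smul, ← mul_assoc, ep_spec, Matrix.smul_mul,
    smul_smul (sg _), sg_add, map_mul, mul_smul (co g), mul_assoc])

theorem ep_add (g : GT) (c d : C) :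
    ep g (c + d) = ep g c + ep g d + bb c d + bb (co g • c) (co g • d) := ep_eq (by
  have : xm (c + d) = sg (bb c d) • (xm c * xm d) := by
    rw [xm_mul, smul_smul, sg_mul_self, one_smul]
  rw [this, Matrix.mul_smul, ← mul_assoc, ep_spec, Matrix.smul_mul, mul_assoc, ep_spec,
    Matrix.mul_smul, ← mul_assoc, xm_mul, Matrix.smul_mul, smul_add]
  simp only [smul_smul, sg_add]
  congr 1; ring)

noncomputable def act (g : GT) (v : U) : U :=
  mk (hm (co g) * mA v * (hm (co g))ᵀ)
    (fun c => sg (ep g ((co g)⁻¹ • c).1) * fS v ((co g)⁻¹ • c)) ((hm (co g) ⊗ₖ nm g) *ᵥ wW v)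

theorem mA_act (g : GT) (v : U) : mA (act g v) = hm (co g) * mA v * (hm (co g))ᵀ :=
  mA_mk (by simp [transpose_mul, mA_symm, mul_assoc]) _ _

theorem fS_act (g : GT) (v : U) (c : S) :
    fS (act g v) c = sg (ep g ((co g)⁻¹ • c).1) * fS v ((co g)⁻¹ • c) := by rw [act, fS_mk]

theorem wW_act (g : GT) (v : U) : wW (act g v) = (hm (co g) ⊗ₖ nm g) *ᵥ wW v := by rw [act, wW_mk]

noncomputable def actL (g : GT) : Module.End ℝ U where
  toFun := act g
  map_add' u v := U_ext (by simp only [mA_act, mA_add, mul_add, add_mul])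
    (by ext c; simp only [fS_act, fS_add, Pi.add_apply, mul_add])
    (by simp only [wW_act, wW_add, mulVec_add])
  map_smul' a v := U_ext
    (by simp only [mA_act, mA_smul, RingHom.id_apply, Matrix.mul_smul, Matrix.smul_mul])
    (by ext c; simp only [fS_act, fS_smul, RingHom.id_apply, Pi.smul_apply, smul_eq_mul]; ring)
    (by simp only [wW_act, wW_smul, RingHom.id_apply, mulVec_smul])

theorem actL_apply (g : GT) (v : U) : actL g v = act g v := rfl

noncomputable def actE : GT →* Module.End ℝ U where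
  toFun := actL
  map_one' := LinearMap.ext fun v => U_ext
    (by rw [actL_apply, mA_act, map_one, map_one, transpose_one, one_mul, mul_one]; rfl)
    (by ext c; rw [actL_apply, fS_act, ep_one, map_one, inv_one, one_smul, sg_zero, one_mul]; rfl)
    (by rw [actL_apply, wW_act, map_one, map_one, nm_one, one_kronecker_one, one_mulVec]; rfl)
  map_mul' g h := LinearMap.ext fun v => U_ext
    (by simp only [Module.End.mul_apply, actL_apply, mA_act, map_mul, transpose_mul, mul_assoc])
    (by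
      ext c
      simp only [Module.End.mul_apply, actL_apply, fS_act, ep_mul, sg_add, map_mul, _root_.mul_inv_rev,
        mul_smul, smul_val, smul_inv_smul]
      ring)
    (by simp only [Module.End.mul_apply, actL_apply, wW_act, map_mul, nm_mul, mul_kronecker_mul,
      mulVec_mulVec])

/-- The representation of dimension 196884. -/
noncomputable def rho : GT →* (U ≃ₗ[ℝ] U) :=
  (LinearMap.GeneralLinearGroup.generalLinearEquiv ℝ U).toMonoidHom.comp actE.toHomUnits

theorem rho_apply (g : GT) (v : U) : rho g v = act g v := rfl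

theorem mA_rho (g : GT) (v : U) : mA (rho g v) = hm (co g) * mA v * (hm (co g))ᵀ := mA_act g v
theorem fS_rho (g : GT) (v : U) (c : S) : fS (rho g v) (co g • c) = sg (ep g c.1) * fS v c := by
  rw [rho_apply, fS_act, inv_smul_smul]
theorem wW_rho (g : GT) (v : U) : wW (rho g v) = (hm (co g) ⊗ₖ nm g) *ᵥ wW v := wW_act g v

/-- The elements `± x_c`. -/
noncomputable def qe (t : ZMod 2) (c : C) : GT :=
  ⟨(⟨sg t • xm c, (mem_orthogonalGroup_iff _ _).2 (by
      rw [transpose_smul, Matrix.smul_mul, Matrix.mul_smul, smul_smul, sg_mul_self, one_smul,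
        xm_orth])⟩, 1), fun d => ⟨bb c d + bb d c, by
      simp only [one_smul, Matrix.smul_mul, Matrix.mul_smul, xm_mul, smul_smul, sg_add, add_comm d c]
      congr 1
      rw [mul_assoc, ← mul_assoc (sg (bb d c)), mul_comm (sg (bb d c)), mul_assoc (sg t),
        sg_mul_self, mul_one, mul_comm]⟩⟩

theorem nm_qe (t : ZMod 2) (c : C) : nm (qe t c) = sg t • xm c := rfl
theorem co_qe (t : ZMod 2) (c : C) : co (qe t c) = 1 := rfl

/-- The central involution. -/
noncomputable def zz : U ≃ₗ[ℝ] U := rho (qe 1 0)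

/-- The invariant inner product. -/
noncomputable def B (u v : U) : ℝ := trace (mA u * mA v) + fS u ⬝ᵥ fS v + wW u ⬝ᵥ wW v

/-- The action of the even part on `24 ⊗ 4096`. -/
noncomputable def R (u : U) : Matrix (P × K) (P × K) ℝ :=
  (mA u + (trace (mA u) / 8) • (1 : Matrix P P ℝ)) ⊗ₖ (1 : Matrix K K ℝ) +
    ∑ c : S, fS u c • (((1 / 8 : ℝ) • (1 - (2 : ℝ) • pm c)) ⊗ₖ xm c.1)

noncomputable def Dt (u v w : U) : ℝ := ∑ c : S, trace (mA u * pm c) * fS v c * fS w c

noncomputable def Et (u v w : U) : ℝ :=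
  ∑ c : S, ∑ d : S, ∑ e : S,
    if c.1 + d.1 = e.1 then sg (bb c.1 d.1) * fS u c * fS v d * fS w e else 0

noncomputable def Wt (u v w : U) : ℝ := wW v ⬝ᵥ (R u *ᵥ wW w)

/-- The trilinear form of the Griess algebra. -/
noncomputable def F (u v w : U) : ℝ :=
  2 * trace ((mA u * mA v + mA v * mA u) * mA w) + (Dt u v w + Dt v u w + Dt w u v) + Et u v w +
    (Wt u v w + Wt v u w + Wt w u v)

/-- A multiple of the identity element. -/
noncomputable def one : U := mk 1 0 0

/-- The automorphism group. -/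
def Aut : Subgroup (U ≃ₗ[ℝ] U) where
  carrier := {g | (∀ u v, B (g u) (g v) = B u v) ∧ (∀ u v w, F (g u) (g v) (g w) = F u v w) ∧
    g one = one}
  one_mem' := ⟨fun _ _ => rfl, fun _ _ _ => rfl, rfl⟩
  mul_mem' := fun {a b} ha hb => ⟨fun u v => (ha.1 _ _).trans (hb.1 u v),
    fun u v w => (ha.2.1 _ _ _).trans (hb.2.1 u v w), by
      rw [LinearEquiv.mul_apply, hb.2.2, ha.2.2]⟩
  inv_mem' := fun {a} ha => ⟨fun u v => by rw [← ha.1]; simp, fun u v w => by rw [← ha.2.1]; simp,
    by rw [← ha.2.2]; simp [ha.2.2]; exact a.symm_apply_eq.2 ha.2.2.symm⟩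

/-- The axes in the even part. -/
noncomputable def ax (t : ZMod 2) (c : S) : U := mk (pm c) (Pi.single c (4 * sg t)) 0

/-- The group `2^(1+24).Co1`. -/
noncomputable def GG : Subgroup (U ≃ₗ[ℝ] U) := rho.range

/-- The extraspecial group. -/
noncomputable def QQ : Subgroup (U ≃ₗ[ℝ] U) := co.ker.map rho

end H10.Mon
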