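import Mathlib
import Cfsg.Agent.H10.MDefs

/-!
# The triality element: the properties that the computation provides
-/

set_option autoImplicit false
set_option linter.all false

namespace H10.Mon

open Cfsg H9 Matrix

/-- The class of the standard cross. -/
noncomputable def Om : C := kap (e8 none)

/-- The class of `4 e_∞ - 4 e_0`. -/
noncomputable def c0 : S := ⟨kap vU', vU', norm_vU', rfl⟩

/-- The element `x_Ω`. -/
noncomputable def xO : U ≃ₗ[ℝ] U := rho (qe 0 Om)

/-- The involution of the axis `ax s c`. -/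
noncomputable def tv (s : ZMod 2) (c : S) : U ≃ₗ[ℝ] U := rho (qe (1 + s) c.1)

/-- The group generated by `2^(1+24).Co1` and `τ`. -/
noncomputable def MM (τ : U ≃ₗ[ℝ] U) : Subgroup (U ≃ₗ[ℝ] U) := GG ⊔ Subgroup.zpowers τ

/-- The properties of the triality element. -/
structure Tri (τ : U ≃ₗ[ℝ] U) : Prop where
  aut : τ ∈ Aut
  cube : τ ^ 3 = 1
  zz_conj : τ * zz * τ⁻¹ = xO
  xO_conj : τ * xO * τ⁻¹ = zz * xO
  inv : ∃ c : C, rho (qe 0 c) * τ * (rho (qe 0 c))⁻¹ = τ⁻¹
  out : ∃ (c : C) (g : GT), bb c c0.1 + bb c0.1 c = 0 ∧ τ * rho (qe 0 c) * τ⁻¹ = rho g ∧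
    co g ∉ Subgroup.center G0
  fix : τ (ax 1 c0) = ax 1 c0

end H10.Mon
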