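import Mathlib
import Cfsg.Agent.H10.MTri

/-! # Basic properties of the forms `B`, `F`. -/

set_option autoImplicit false
set_option linter.all false

namespace H10.Mon

open Cfsg H9 Matrix
open scoped Kronecker

theorem dot_self_nonneg' {n : Type*} [Fintype n] (v : n → ℝ) : 0 ≤ v ⬝ᵥ v :=
  Finset.sum_nonneg fun _ _ => mul_self_nonneg _

theorem trace_sq_symm {n : Type*} [Fintype n] {A : Matrix n n ℝ} (h : Aᵀ = A) :
    trace (A * A) = ∑ i, ∑ j, A i j * A i j := by
  refine Finset.sum_congr rfl fun i _ => Finset.sum_congr rfl fun j _ => ?_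
  have := congrFun (congrFun h i) j
  exact congrArg (fun x => A i j * x) this

theorem trace_sq_nonneg {n : Type*} [Fintype n] {A : Matrix n n ℝ} (h : Aᵀ = A) :
    0 ≤ trace (A * A) := by
  rw [trace_sq_symm h]
  exact Finset.sum_nonneg fun _ _ => Finset.sum_nonneg fun _ _ => mul_self_nonneg _

theorem trace_sq_eq_zero {n : Type*} [Fintype n] {A : Matrix n n ℝ} (h : Aᵀ = A)
    (h0 : trace (A * A) = 0) : A = 0 := by
  rw [trace_sq_symm h] at h0
  have h1 := (Finset.sum_eq_zero_iff_of_nonneg (f := fun i => ∑ j, A i j * A i j)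
    fun _ _ => Finset.sum_nonneg fun _ _ => mul_self_nonneg _).1 h0
  ext i j
  have := (Finset.sum_eq_zero_iff_of_nonneg (f := fun j => A i j * A i j)
    fun _ _ => mul_self_nonneg _).1 (h1 i (Finset.mem_univ _)) j (Finset.mem_univ _)
  exact mul_self_eq_zero.1 this

theorem B_comm (u v : U) : B u v = B v u := by
  rw [B, B, trace_mul_comm, dotProduct_comm (fS u), dotProduct_comm (wW u)]

theorem B_add_left (u u' v : U) : B (u + u') v = B u v + B u' v := by
  simp only [B, mA_add, fS_add, wW_add, add_mul, trace_add, add_dotProduct]; ring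

theorem B_smul_left (a : ℝ) (u v : U) : B (a • u) v = a * B u v := by
  simp only [B, mA_smul, fS_smul, wW_smul, Matrix.smul_mul, trace_smul, smul_dotProduct,
    smul_eq_mul]; ring

theorem B_nonneg (u : U) : 0 ≤ B u u :=
  add_nonneg (add_nonneg (trace_sq_nonneg (mA_symm u)) (dot_self_nonneg' _)) (dot_self_nonneg' _)

theorem B_self_eq_zero {u : U} (h : B u u = 0) : u = 0 := by
  have h1 := trace_sq_nonneg (mA_symm u)
  have h2 := dot_self_nonneg' (fS u)
  have h3 := dot_self_nonneg' (wW u)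
  rw [B] at h
  refine U_ext (trace_sq_eq_zero (mA_symm u) (by linarith)) ?_ ?_
  · rw [fS_zero]; exact dotProduct_self_eq_zero.1 (by linarith)
  · rw [wW_zero]; exact dotProduct_self_eq_zero.1 (by linarith)

theorem xm_symm (c : S) : (xm c.1)ᵀ = xm c.1 := by rw [xm_transpose, bb_S, sg_zero, one_smul]

theorem kron_transpose {l m n p : Type*} (A : Matrix l m ℝ) (B : Matrix n p ℝ) :
    (A ⊗ₖ B)ᵀ = Aᵀ ⊗ₖ Bᵀ := (kroneckerMap_transpose _ A B).symm

theorem R_symm (u : U) : (R u)ᵀ = R u := by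
  simp only [R, transpose_add, transpose_sum, transpose_smul, kron_transpose, transpose_one,
    mA_symm, transpose_sub, pm_symm, xm_symm]

theorem R_add (u v : U) : R (u + v) = R u + R v := by
  simp only [R, mA_add, fS_add, trace_add, Pi.add_apply, add_smul, Finset.sum_add_distrib, add_div,
    add_kronecker]
  abel

theorem R_smul (a : ℝ) (u : U) : R (a • u) = a • R u := by
  simp only [R, mA_smul, fS_smul, trace_smul, Pi.smul_apply, smul_eq_mul, smul_add, Finset.smul_sum,
    mul_smul, mul_div_assoc, ← smul_kronecker]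

theorem rv_self {x : L} (hx : sqNorm (x : V) = 32) : rv x ⬝ᵥ rv x = 32 := by
  rw [rv_dot, dot_self, hx]; norm_num

theorem trace_pm (c : S) : trace (pm c) = 4 := by
  rw [pm, trace_smul, trace_vecMulVec, rv_self (rep_norm c)]; norm_num

theorem pm_mul_pm (c d : S) : pm c * pm d =
    ((rv (rep c) ⬝ᵥ rv (rep d)) / 64) • vecMulVec (rv (rep c)) (rv (rep d)) := by
  rw [pm, pm, Matrix.smul_mul, Matrix.mul_smul, vecMulVec_mul_vecMulVec, vecMulVec_smul, smul_smul,
    smul_smul]
  congr 1; ring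

theorem pm_mul_self (c : S) : pm c * pm c = (4 : ℝ) • pm c := by
  rw [pm_mul_pm, rv_self (rep_norm c), pm, smul_smul]; norm_num

theorem trace_pm_mul (c d : S) : trace (pm c * pm d) = (rv (rep c) ⬝ᵥ rv (rep d)) ^ 2 / 64 := by
  rw [pm_mul_pm, trace_smul, trace_vecMulVec, smul_eq_mul]; ring

theorem kap_neg (x : L) : kap (-x) = kap x := by
  rw [map_neg, neg_eq_iff_add_eq_zero, two_zmod]

theorem eq_of_dot_sq {c d : S} (h : (rv (rep c) ⬝ᵥ rv (rep d)) ^ 2 = 1024) : c = d := by
  have h1 : (rv (rep c) ⬝ᵥ rv (rep d) - 32) * (rv (rep c) ⬝ᵥ rv (rep d) + 32) = 0 := by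
    linear_combination h
  rw [rv_dot] at h1
  apply Subtype.ext
  rw [← kap_rep, ← kap_rep]
  rcases mul_eq_zero.1 h1 with h1 | h1
  · rw [eq_of_dot32 (rep_norm c) (rep_norm d) (by exact_mod_cast sub_eq_zero.1 h1)]
  · rw [eq_of_dot32 (rep_norm c) (y := -rep d) (by rw [norm_negL, rep_norm]) (by
      rw [dot_negR]
      have : dotInt (rep c : V) (rep d : V) + 32 = 0 := by exact_mod_cast h1
      omega), kap_neg]

theorem pm_inj : Function.Injective pm := fun c d h => by
  have h1 := trace_pm_mul c d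
  rw [← h, pm_mul_self, trace_smul, trace_pm, smul_eq_mul] at h1
  exact eq_of_dot_sq (by linarith)

theorem bb_comm_of_S {c d e : S} (h : c.1 + d.1 = e.1) : bb c.1 d.1 = bb d.1 c.1 := by
  have := bb_S e
  rw [← h, bb_add_left, bb_add_right, bb_add_right, bb_S, bb_S, zero_add, add_zero] at this
  rw [← add_zero (bb c.1 d.1), ← two_zmod (bb d.1 c.1), ← add_assoc, this, zero_add]

theorem add_eq_swap {c d e : C} : c + d = e ↔ c + e = d := by
  constructor <;> rintro rfl <;> rw [← add_assoc, two_zmod, zero_add]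

theorem Et_swap12 (u v w : U) : Et u v w = Et v u w := by
  rw [Et, Et, Finset.sum_comm]
  refine Finset.sum_congr rfl fun c _ => Finset.sum_congr rfl fun d _ =>
    Finset.sum_congr rfl fun e _ => ?_
  rw [add_comm d.1]
  split_ifs with h
  · rw [bb_comm_of_S h]; ring
  · rfl

theorem Et_swap23 (u v w : U) : Et u v w = Et u w v := by
  rw [Et, Et]
  refine Finset.sum_congr rfl fun c _ => ?_
  rw [Finset.sum_comm]
  refine Finset.sum_congr rfl fun d _ => Finset.sum_congr rfl fun e _ => ?_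
  rw [if_congr add_eq_swap rfl rfl]
  split_ifs with h
  · rw [← h, bb_add_right, bb_S, zero_add]; ring
  · rfl

theorem Wt_swap (u v w : U) : Wt u v w = Wt u w v := by
  rw [Wt, Wt, dotProduct_mulVec, ← mulVec_transpose, R_symm, dotProduct_comm]

theorem Dt_swap (u v w : U) : Dt u v w = Dt u w v :=
  Finset.sum_congr rfl fun c _ => by ring

theorem F_swap12 (u v w : U) : F u v w = F v u w := by
  rw [F, F, Et_swap12 u, Wt_swap w u, Dt_swap w u, add_comm (mA u * mA v)]; ring

theorem F_swap23 (u v w : U) : F u v w = F u w v := by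
  rw [F, F, Et_swap23 u, Wt_swap u v, Dt_swap u v]
  simp only [add_mul, trace_add]
  rw [trace_mul_cycle (mA u) (mA v) (mA w), trace_mul_cycle (mA u) (mA w) (mA v)]
  ring

theorem Dt_add1 (u u' v w : U) : Dt (u + u') v w = Dt u v w + Dt u' v w := by
  simp only [Dt, mA_add, add_mul, trace_add, Finset.sum_add_distrib]

theorem Dt_add2 (u v v' w : U) : Dt u (v + v') w = Dt u v w + Dt u v' w := by
  simp only [Dt, fS_add, Pi.add_apply, add_mul, mul_add, Finset.sum_add_distrib]

theorem Dt_smul1 (a : ℝ) (u v w : U) : Dt (a • u) v w = a * Dt u v w := by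
  simp only [Dt, mA_smul, Matrix.smul_mul, trace_smul, smul_eq_mul, Finset.mul_sum, mul_assoc]

theorem Dt_smul2 (a : ℝ) (u v w : U) : Dt u (a • v) w = a * Dt u v w := by
  simp only [Dt, fS_smul, Pi.smul_apply, smul_eq_mul, Finset.mul_sum]
  exact Finset.sum_congr rfl fun c _ => by ring

theorem Et_add1 (u u' v w : U) : Et (u + u') v w = Et u v w + Et u' v w := by
  simp only [Et, fS_add, Pi.add_apply, ← Finset.sum_add_distrib]
  refine Finset.sum_congr rfl fun c _ => Finset.sum_congr rfl fun d _ =>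
    Finset.sum_congr rfl fun e _ => ?_
  split_ifs
  · ring
  · rw [add_zero]

theorem Et_smul1 (a : ℝ) (u v w : U) : Et (a • u) v w = a * Et u v w := by
  simp only [Et, fS_smul, Pi.smul_apply, smul_eq_mul, Finset.mul_sum]
  refine Finset.sum_congr rfl fun c _ => Finset.sum_congr rfl fun d _ =>
    Finset.sum_congr rfl fun e _ => ?_
  split_ifs
  · ring
  · rw [mul_zero]

theorem Wt_add1 (u u' v w : U) : Wt (u + u') v w = Wt u v w + Wt u' v w := by
  rw [Wt, Wt, Wt, R_add, add_mulVec, dotProduct_add]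

theorem Wt_add2 (u v v' w : U) : Wt u (v + v') w = Wt u v w + Wt u v' w := by
  rw [Wt, Wt, Wt, wW_add, add_dotProduct]

theorem Wt_smul1 (a : ℝ) (u v w : U) : Wt (a • u) v w = a * Wt u v w := by
  rw [Wt, Wt, R_smul, smul_mulVec, dotProduct_smul, smul_eq_mul]

theorem Wt_smul2 (a : ℝ) (u v w : U) : Wt u (a • v) w = a * Wt u v w := by
  rw [Wt, Wt, wW_smul, smul_dotProduct, smul_eq_mul]

theorem F_add_left (u u' v w : U) : F (u + u') v w = F u v w + F u' v w := by
  simp only [F, Dt_add1, Dt_add2, Et_add1, Wt_add1, Wt_add2, mA_add, add_mul, mul_add, trace_add]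
  ring

theorem F_smul_left (a : ℝ) (u v w : U) : F (a • u) v w = a * F u v w := by
  simp only [F, Dt_smul1, Dt_smul2, Et_smul1, Wt_smul1, Wt_smul2, mA_smul, add_mul,
    Matrix.smul_mul, Matrix.mul_smul, trace_add, trace_smul, smul_eq_mul]
  ring

theorem F_add_mid (u v v' w : U) : F u (v + v') w = F u v w + F u v' w := by
  rw [F_swap12, F_add_left, F_swap12 v, F_swap12 v']

theorem F_smul_mid (a : ℝ) (u v w : U) : F u (a • v) w = a * F u v w := by
  rw [F_swap12, F_smul_left, F_swap12 v]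

theorem F_add_right (u v w w' : U) : F u v (w + w') = F u v w + F u v w' := by
  rw [F_swap23, F_add_mid, F_swap23 u w, F_swap23 u w']

theorem F_smul_right (a : ℝ) (u v w : U) : F u v (a • w) = a * F u v w := by
  rw [F_swap23, F_smul_mid, F_swap23 u w]

/-- `F` as a trilinear map. -/
noncomputable def FL : U →ₗ[ℝ] U →ₗ[ℝ] U →ₗ[ℝ] ℝ where
  toFun u := LinearMap.mk₂ ℝ (F u) (F_add_mid u) (fun a v w => F_smul_mid a u v w)
    (F_add_right u) (fun a v w => F_smul_right a u v w)
  map_add' u u' := LinearMap.ext₂ fun v w => F_add_left u u' v w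
  map_smul' a u := LinearMap.ext₂ fun v w => F_smul_left a u v w

theorem FL_apply (u v w : U) : FL u v w = F u v w := rfl

theorem mA_one : mA one = 1 := mA_mk transpose_one _ _
theorem fS_one : fS one = 0 := by rw [one, fS_mk]
theorem wW_one : wW one = 0 := by rw [one, wW_mk]

theorem card_P : Fintype.card P = 24 := by decide +kernel

theorem R_one : R one = (4 : ℝ) • 1 := by
  rw [R, mA_one, fS_one, trace_one, card_P]
  simp only [Pi.zero_apply, zero_smul, Finset.sum_const_zero, add_zero]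
  rw [show (1 : Matrix P P ℝ) + (((24 : ℕ) : ℝ) / 8) • (1 : Matrix P P ℝ) = (4 : ℝ) • 1 by
    rw [show (4 : ℝ) = 1 + ((24 : ℕ) : ℝ) / 8 by norm_num, add_smul, one_smul],
    smul_kronecker, one_kronecker_one]

theorem Dt_zero2 {u v w : U} (h : fS v = 0) : Dt u v w = 0 := by
  simp only [Dt, h, Pi.zero_apply, mul_zero, zero_mul, Finset.sum_const_zero]

theorem Dt_zero1 {u v w : U} (h : mA u = 0) : Dt u v w = 0 := by
  simp only [Dt, h, Matrix.zero_mul, trace_zero, zero_mul, Finset.sum_const_zero]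

theorem Et_zero1 {u v w : U} (h : fS u = 0) : Et u v w = 0 := by
  simp only [Et, h, Pi.zero_apply, mul_zero, zero_mul, ite_self, Finset.sum_const_zero]

theorem Wt_zero2 {u v w : U} (h : wW v = 0) : Wt u v w = 0 := by
  rw [Wt, h, zero_dotProduct]

theorem F_one (u v : U) : F one u v = 4 * B u v := by
  rw [F, B, Dt_zero2 fS_one, Dt_zero2 fS_one, Et_zero1 fS_one, Wt_zero2 wW_one, Wt_zero2 wW_one,
    Wt, R_one, Dt, mA_one]
  simp only [one_mul, mul_one, trace_pm, add_mul, trace_add, smul_mulVec, one_mulVec,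
    dotProduct_smul, smul_eq_mul, mul_assoc, ← Finset.mul_sum]
  rw [show fS u ⬝ᵥ fS v = ∑ c, fS u c * fS v c from rfl]
  ring

theorem sum_smul_S {M : Type*} [AddCommMonoid M] (h : G0) (f : S → M) :
    ∑ c, f c = ∑ c, f (h • c) := (Equiv.sum_comp (MulAction.toPerm h) f).symm

theorem nm_xm (g : GT) (c : C) : nm g * xm c * (nm g)ᵀ = sg (ep g c) • xm (co g • c) := by
  rw [ep_spec, Matrix.smul_mul, mul_assoc, nm_orth, mul_one]

theorem trace_conj {n : Type*} [Fintype n] [DecidableEq n] {h : Matrix n n ℝ} (hh : hᵀ * h = 1)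
    (A : Matrix n n ℝ) : trace (h * A * hᵀ) = trace A := by
  rw [trace_mul_cycle, hh, one_mul]

theorem conj_mul_conj {n : Type*} [Fintype n] [DecidableEq n] {h : Matrix n n ℝ} (hh : hᵀ * h = 1)
    (A B : Matrix n n ℝ) : h * A * hᵀ * (h * B * hᵀ) = h * (A * B) * hᵀ := by
  simp only [mul_assoc]
  rw [← mul_assoc hᵀ, hh, one_mul]

theorem R_rho (g : GT) (u : U) :
    R (rho g u) = (hm (co g) ⊗ₖ nm g) * R u * (hm (co g) ⊗ₖ nm g)ᵀ := by
  rw [R, R, sum_smul_S (co g), kron_transpose, mul_add, add_mul, Finset.mul_sum, Finset.sum_mul,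
    ← mul_kronecker_mul, ← mul_kronecker_mul, mul_one, nm_orth, mA_rho, trace_conj (hm_orth' _),
    mul_add, add_mul, Matrix.mul_smul, Matrix.smul_mul, mul_one, hm_orth]
  congr 1
  refine Finset.sum_congr rfl fun c _ => ?_
  rw [fS_rho, Matrix.mul_smul, Matrix.smul_mul, ← mul_kronecker_mul, ← mul_kronecker_mul, nm_xm,
    kronecker_smul, smul_smul, mul_comm (fS u c), Matrix.mul_smul, Matrix.smul_mul, mul_sub, sub_mul,
    mul_one, hm_orth, Matrix.mul_smul, Matrix.smul_mul, ← pm_smul, smul_val]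

theorem kron_orth' (g : GT) : (hm (co g) ⊗ₖ nm g)ᵀ * (hm (co g) ⊗ₖ nm g) = 1 := by
  rw [kron_transpose, ← mul_kronecker_mul, hm_orth', nm_orth', one_kronecker_one]

theorem dot_mulVec_orth {n : Type*} [Fintype n] [DecidableEq n] {h : Matrix n n ℝ}
    (hh : hᵀ * h = 1) (v w : n → ℝ) : (h *ᵥ v) ⬝ᵥ (h *ᵥ w) = v ⬝ᵥ w := by
  rw [dotProduct_mulVec, ← mulVec_transpose, mulVec_mulVec, hh, one_mulVec]

theorem B_rho (g : GT) (u v : U) : B (rho g u) (rho g v) = B u v := by
  rw [B, B, mA_rho, mA_rho, conj_mul_conj (hm_orth' _), trace_conj (hm_orth' _), wW_rho, wW_rho,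
    dot_mulVec_orth (kron_orth' g), dotProduct, dotProduct, sum_smul_S (co g)]
  congr 2
  refine Finset.sum_congr rfl fun c _ => ?_
  rw [fS_rho, fS_rho]
  linear_combination (fS u c * fS v c) * sg_mul_self (ep g c.1)

theorem Dt_rho (g : GT) (u v w : U) : Dt (rho g u) (rho g v) (rho g w) = Dt u v w := by
  rw [Dt, Dt, sum_smul_S (co g)]
  refine Finset.sum_congr rfl fun c _ => ?_
  rw [fS_rho, fS_rho, mA_rho, pm_smul, conj_mul_conj (hm_orth' _), trace_conj (hm_orth' _)]
  linear_combination (trace (mA u * pm c) * fS v c * fS w c) * sg_mul_self (ep g c.1)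

theorem Et_rho (g : GT) (u v w : U) : Et (rho g u) (rho g v) (rho g w) = Et u v w := by
  rw [Et, Et, sum_smul_S (co g)]
  refine Finset.sum_congr rfl fun c _ => ?_
  rw [sum_smul_S (co g)]
  refine Finset.sum_congr rfl fun d _ => ?_
  rw [sum_smul_S (co g)]
  refine Finset.sum_congr rfl fun e _ => ?_
  rw [fS_rho, fS_rho, fS_rho, smul_val, smul_val, smul_val, ← smul_add,
    if_congr (smul_left_cancel_iff (co g)) rfl rfl]
  split_ifs with h
  · rw [← h, ep_add, sg_add, sg_add, sg_add]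
    have h1 := sg_mul_self (ep g c.1)
    have h2 := sg_mul_self (ep g d.1)
    have h3 := sg_mul_self (bb (co g • c.1) (co g • d.1))
    generalize sg (ep g c.1) = a at *
    generalize sg (ep g d.1) = b at *
    generalize sg (bb (co g • c.1) (co g • d.1)) = x at *
    generalize sg (bb c.1 d.1) = y at *
    linear_combination (y * fS u c * fS v d * fS w e) *
      (b * b * x * x * h1 + x * x * h2 + h3)
  · rfl

theorem Wt_rho (g : GT) (u v w : U) : Wt (rho g u) (rho g v) (rho g w) = Wt u v w := by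
  rw [Wt, Wt, R_rho, wW_rho, wW_rho, mulVec_mulVec, mul_assoc, kron_orth', mul_one,
    ← mulVec_mulVec, dot_mulVec_orth (kron_orth' g)]

theorem F_rho (g : GT) (u v w : U) : F (rho g u) (rho g v) (rho g w) = F u v w := by
  rw [F, F, Dt_rho, Dt_rho, Dt_rho, Et_rho, Wt_rho, Wt_rho, Wt_rho, mA_rho, mA_rho, mA_rho,
    conj_mul_conj (hm_orth' _), conj_mul_conj (hm_orth' _), ← add_mul, ← mul_add,
    conj_mul_conj (hm_orth' _), trace_conj (hm_orth' _)]

theorem rho_one (g : GT) : rho g one = one := by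
  refine U_ext ?_ ?_ ?_
  · rw [mA_rho, mA_one, mul_one, hm_orth]
  · funext c
    rw [← smul_inv_smul (co g) c, fS_rho, fS_one, Pi.zero_apply, Pi.zero_apply, mul_zero]
  · rw [wW_rho, wW_one, mulVec_zero]

theorem rho_mem_Aut (g : GT) : rho g ∈ Aut := ⟨B_rho g, F_rho g, rho_one g⟩

theorem GG_le_Aut : GG ≤ Aut := by rintro _ ⟨g, rfl⟩; exact rho_mem_Aut g

/-- Invariance of `F` and of `one` is enough. -/
theorem mem_Aut_of {g : U ≃ₗ[ℝ] U} (h1 : ∀ u v w, F (g u) (g v) (g w) = F u v w)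
    (h2 : g one = one) : g ∈ Aut := by
  refine ⟨fun u v => ?_, h1, h2⟩
  have := h1 one u v
  rw [h2, F_one, F_one] at this
  linarith

theorem mA_ax (t : ZMod 2) (c : S) : mA (ax t c) = pm c := mA_mk (pm_symm c) _ _
theorem fS_ax (t : ZMod 2) (c : S) : fS (ax t c) = Pi.single c (4 * sg t) := by rw [ax, fS_mk]
theorem wW_ax (t : ZMod 2) (c : S) : wW (ax t c) = 0 := by rw [ax, wW_mk]

theorem rho_ax (g : GT) (t : ZMod 2) (c : S) :
    rho g (ax t c) = ax (t + ep g c.1) (co g • c) := by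
  refine U_ext ?_ ?_ ?_
  · rw [mA_rho, mA_ax, mA_ax, pm_smul]
  · funext d
    obtain ⟨d, rfl⟩ : ∃ e, d = co g • e := ⟨_, (smul_inv_smul (co g) d).symm⟩
    rw [fS_rho, fS_ax, fS_ax, Pi.single_apply, Pi.single_apply,
      if_congr (smul_left_cancel_iff (co g)) rfl rfl]
    split_ifs with h
    · rw [h, sg_add]; ring
    · rw [mul_zero]
  · rw [wW_rho, wW_ax, wW_ax, mulVec_zero]

theorem ax_inj {s t : ZMod 2} {c d : S} (h : ax s c = ax t d) : s = t ∧ c = d := by
  have h1 := congrArg mA h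
  rw [mA_ax, mA_ax] at h1
  obtain rfl := pm_inj h1
  have h2 := congrFun (congrArg fS h) c
  rw [fS_ax, fS_ax, Pi.single_eq_same, Pi.single_eq_same] at h2
  exact ⟨sg_inj (by linarith), rfl⟩

theorem B_ax (t : ZMod 2) (c : S) (v : U) :
    B (ax t c) v = trace (pm c * mA v) + 4 * sg t * fS v c := by
  rw [B, mA_ax, fS_ax, wW_ax, zero_dotProduct, add_zero, single_dotProduct]

end H10.Mon
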