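import Mathlib
import Cfsg.Prelude.Def_Transfer
import Cfsg.Prelude.Def_Sporadic
import Cfsg.Agent.H3.Extraspecial
import Cfsg.Agent.H10.MTri
import Cfsg.Agent.H10.MAut

/-! # The structure of `GG = 2^(1+24).Co1`. -/

set_option autoImplicit false
set_option linter.all false

namespace H10.Mon

open Cfsg H9 Matrix
open scoped Kronecker commutatorElement

theorem add_eq_add_swap {u v a : K} : v = u + a ↔ u = v + a := by
  constructor <;> rintro rfl <;> rw [add_assoc, two_zmod, add_zero]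

theorem mul_xm_apply {m : Type*} (n : Matrix m K ℝ) (c : C) (u : m) (v : K) :
    (n * xm c) u v = n u (v + c.1) * sg (c.2 ⬝ᵥ (v + c.1)) := by
  simp only [xm, mul_apply, of_apply, add_eq_add_swap (v := v), mul_ite, mul_zero,
    Finset.sum_ite_eq', Finset.mem_univ, if_true]

theorem xm_mul_apply {m : Type*} (n : Matrix K m ℝ) (c : C) (u : K) (v : m) :
    (xm c * n) u v = sg (c.2 ⬝ᵥ u) * n (u + c.1) v := by
  simp only [xm, mul_apply, of_apply, ite_mul, zero_mul, Finset.sum_ite_eq', Finset.mem_univ,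
    if_true]

/-- A matrix commuting with all `xm c` is scalar. -/
theorem scalar_of_comm {n : Matrix K K ℝ} (h : ∀ c, n * xm c = xm c * n) : ∃ a : ℝ, n = a • 1 := by
  refine ⟨n 0 0, ?_⟩
  ext u v
  rw [Matrix.smul_apply, one_apply, smul_eq_mul]
  split_ifs with e
  · subst e
    have := congrFun (congrFun (h (u, 0)) 0) u
    rw [mul_xm_apply, xm_mul_apply] at this
    simp only [zero_dotProduct, sg_zero, two_zmod, zero_add, mul_one, one_mul] at this
    rw [this, mul_one]
  · obtain ⟨j, hj⟩ := Function.ne_iff.1 e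
    have := congrFun (congrFun (h (0, Pi.single j 1)) u) v
    rw [mul_xm_apply, xm_mul_apply] at this
    simp only [add_zero, single_dotProduct, one_mul] at this
    rw [mul_zero]
    by_contra h0
    rw [mul_comm] at this
    exact hj (sg_inj (mul_right_cancel₀ h0 this)).symm

theorem add_eq_zero_C {c d : C} : c + d = 0 ↔ c = d := by
  rw [add_eq_zero_iff_eq_neg, eq_comm, neg_eq_iff_add_eq_zero]
  constructor
  · intro h; exact add_right_cancel (b := c) (by rw [two_zmod, add_comm, ← h, add_comm])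
  · rintro rfl; exact two_zmod _

theorem trace_xm_mul (c d : C) :
    trace (xm c * xm d) = if c = d then sg (bb c c) * 4096 else 0 := by
  rw [xm_mul, trace_smul, trace_xm, if_congr add_eq_zero_C rfl rfl, smul_eq_mul]
  split_ifs with h
  · rw [h]
  · rw [mul_zero]

theorem xm_smul_inj {a b : ℝ} {c d : C} (ha : a ≠ 0) (h : a • xm c = b • xm d) : a = b ∧ c = d := by
  have h1 : c = d := by
    by_contra e
    have := congrArg (fun M => trace (xm c * M)) h
    simp only [Matrix.mul_smul, trace_smul, trace_xm_mul, if_neg e, if_true, smul_eq_mul,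
      mul_zero] at this
    exact mul_ne_zero ha (mul_ne_zero (sg_ne _) (by norm_num)) this
  subst h1
  exact ⟨smul_left_injective ℝ (xm_ne _) h, rfl⟩

theorem bb_zero_left (c : C) : bb 0 c = 0 := zero_dotProduct _
theorem bb_zero_right (c : C) : bb c 0 = 0 := dotProduct_zero _

theorem qe_mul (s t : ZMod 2) (c d : C) : qe s c * qe t d = qe (s + t + bb c d) (c + d) :=
  GT_ext (by
    rw [nm_mul, nm_qe, nm_qe, nm_qe, Matrix.smul_mul, Matrix.mul_smul, xm_mul, smul_smul, smul_smul,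
      sg_add, sg_add]) (by rw [map_mul, co_qe, co_qe, co_qe, mul_one])

theorem qe_zero : qe 0 0 = 1 :=
  GT_ext (by rw [nm_qe, sg_zero, one_smul, xm_zero, nm_one]) (by rw [co_qe, map_one])

theorem qe_inj {s t : ZMod 2} {c d : C} (h : qe s c = qe t d) : s = t ∧ c = d := by
  have := congrArg nm h
  rw [nm_qe, nm_qe] at this
  exact (xm_smul_inj (sg_ne _) this).imp_left sg_inj

theorem qe_inv (t : ZMod 2) (c : C) : (qe t c)⁻¹ = qe (t + bb c c) c := by
  rw [inv_eq_iff_mul_eq_one, qe_mul, two_zmod, ← add_assoc, two_zmod, zero_add, two_zmod, qe_zero]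

theorem ep_qe (t : ZMod 2) (c d : C) : ep (qe t c) d = bb c d + bb d c := ep_eq (by
  simp only [nm_qe, co_qe, one_smul, Matrix.smul_mul, Matrix.mul_smul, xm_mul, smul_smul, sg_add,
    add_comm d c]
  congr 1
  linear_combination (-sg t * sg (bb c d)) * sg_mul_self (bb d c))

theorem nm_inv (g : GT) : nm g⁻¹ = (nm g)ᵀ := OK_inv _

theorem conj_qe (g : GT) (t : ZMod 2) (c : C) :
    g * qe t c * g⁻¹ = qe (t + ep g c) (co g • c) :=
  GT_ext (by
    rw [nm_mul, nm_mul, nm_inv, nm_qe, nm_qe, Matrix.mul_smul, Matrix.smul_mul, nm_xm, smul_smul,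
      sg_add]) (by rw [map_mul, map_mul, co_qe, co_qe, mul_one, map_inv, mul_inv_cancel])

theorem ep_zero (g : GT) : ep g 0 = 0 :=
  ep_eq (by rw [smul_zero, xm_zero, mul_one, one_mul, sg_zero, one_smul])

theorem sg_of_sq {a : ℝ} (h : a * a = 1) : ∃ t, a = sg t := by
  rcases mul_self_eq_one_iff.1 h with h | h
  exacts [⟨0, h⟩, ⟨1, h⟩]

theorem sq_of_orth {n : Type*} [Fintype n] [DecidableEq n] (i : n) {a : ℝ}
    (h : (a • (1 : Matrix n n ℝ)) * (a • (1 : Matrix n n ℝ))ᵀ = 1) : a * a = 1 := by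
  rw [transpose_smul, transpose_one, Matrix.smul_mul, Matrix.mul_smul, mul_one, smul_smul] at h
  simpa only [Matrix.smul_apply, one_apply_eq, smul_eq_mul, mul_one] using congrFun (congrFun h i) i

/-- The cocycle as a bilinear map. -/
def bbL : C →ₗ[ZMod 2] C →ₗ[ZMod 2] ZMod 2 :=
  LinearMap.mk₂ (ZMod 2) bb bb_add_left (fun a c d => smul_dotProduct a c.1 d.2) bb_add_right
    fun a c d => dotProduct_smul a c.1 d.2

theorem bbL_apply (c d : C) : bbL c d = bb c d := rfl

/-- Every additive functional is given by the polar form. -/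
theorem exists_polar (φ : C →+ ZMod 2) : ∃ c, ∀ d, φ d = bb c d + bb d c := by
  let c : C := (fun j => φ (0, Pi.single j 1), fun j => φ (Pi.single j 1, 0))
  refine ⟨c, fun d => ?_⟩
  have : φ.toZModLinearMap 2 = bbL c + bbL.flip c := by
    refine LinearMap.prod_ext (LinearMap.pi_ext' fun j => LinearMap.ext_ring ?_)
      (LinearMap.pi_ext' fun j => LinearMap.ext_ring ?_) <;>
    simp [bbL_apply, bb, c]
  exact LinearMap.congr_fun this d

theorem polar_nondeg {c : C} (h : ∀ d, bb c d + bb d c = 0) : c = 0 := by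
  refine Prod.ext (funext fun j => ?_) (funext fun j => ?_)
  · simpa [bb] using h (0, Pi.single j 1)
  · simpa [bb] using h (Pi.single j 1, 0)

theorem eq_qe_zero {g : GT} (h1 : co g = 1) (h2 : ∀ c, ep g c = 0) : ∃ t, g = qe t 0 := by
  obtain ⟨a, ha⟩ := scalar_of_comm (n := nm g) fun c => by
    rw [ep_spec, h2, h1, one_smul, sg_zero, one_smul]
  obtain ⟨t, rfl⟩ := sg_of_sq (sq_of_orth (0 : K) (ha ▸ nm_orth g))
  exact ⟨t, GT_ext (by rw [ha, nm_qe, xm_zero]) (by rw [h1, co_qe])⟩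

theorem co_eq_one {g : GT} : co g = 1 ↔ ∃ t c, g = qe t c := by
  refine ⟨fun h => ?_, by rintro ⟨t, c, rfl⟩; exact co_qe t c⟩
  obtain ⟨c, hc⟩ := exists_polar (AddMonoidHom.mk' (ep g) fun c d => by
    rw [ep_add, h, one_smul, one_smul, add_assoc, two_zmod, add_zero])
  obtain ⟨t, ht⟩ := eq_qe_zero (g := g * qe 0 c) (by rw [map_mul, h, co_qe, mul_one]) fun d => by
    rw [ep_mul, co_qe, one_smul, ep_qe, ← hc]; exact two_zmod _
  exact ⟨_, _, by rw [← mul_inv_cancel_right g (qe 0 c), ht, qe_inv, qe_mul]⟩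

theorem exists_quad {M : Type*} [AddCommGroup M] [Module (ZMod 2) M] [Module.Finite (ZMod 2) M]
    (β : M →ₗ[ZMod 2] M →ₗ[ZMod 2] ZMod 2) (h1 : ∀ c d, β c d = β d c) (h2 : ∀ c, β c c = 0) :
    ∃ φ : M → ZMod 2, ∀ c d, φ (c + d) = φ c + φ d + β c d := by
  let b := Module.finBasis (ZMod 2) M
  let γ : M →ₗ[ZMod 2] M →ₗ[ZMod 2] ZMod 2 :=
    b.constr (ZMod 2) fun i => b.constr (ZMod 2) fun j => if i < j then β (b i) (b j) else 0
  have : β = γ + γ.flip := b.ext fun i => b.ext fun j => by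
    simp only [γ, LinearMap.add_apply, LinearMap.flip_apply, Module.Basis.constr_basis]
    rcases lt_trichotomy i j with h | rfl | h
    · rw [if_pos h, if_neg h.not_gt, add_zero]
    · rw [if_neg (lt_irrefl _), h2, add_zero]
    · rw [if_neg h.not_gt, if_pos h, zero_add, h1]
  refine ⟨fun c => γ c c, fun c d => ?_⟩
  rw [this]
  simp only [map_add, LinearMap.add_apply, LinearMap.flip_apply]
  ring

theorem exists_phi (h : G0) :
    ∃ φ : C → ZMod 2, ∀ c d, φ (c + d) = φ c + φ d + (bb c d + bb (h • c) (h • d)) := by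
  let hL : C →ₗ[ZMod 2] C := (DistribSMul.toAddMonoidHom C h).toZModLinearMap 2
  refine exists_quad (bbL + bbL.compl₁₂ hL hL) (fun c d => ?_) fun c => ?_
  · change bb c d + bb (h • c) (h • d) = bb d c + bb (h • d) (h • c)
    have := bb_smul h c d
    have h2 : (2 : ZMod 2) = 0 := rfl
    linear_combination this + (bb c d - bb (h • d) (h • c)) * h2
  · change bb c c + bb (h • c) (h • c) = 0
    rw [bb_smul_self, two_zmod]

theorem exists_intertwiner (y : C → Matrix K K ℝ) (hy : ∀ c d, y c * y d = sg (bb c d) • y (c + d))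
    (h0 : y 0 0 0 ≠ 0) : ∃ n : Matrix K K ℝ, n ≠ 0 ∧ ∀ d, n * xm d = y d * n := by
  let n0 : Matrix K K ℝ → Matrix K K ℝ := fun M => ∑ c, y c * M * (xm c)ᵀ
  have key : ∀ M d, n0 M * xm d = y d * n0 M := fun M d => by
    simp only [n0]
    rw [Finset.sum_mul, Finset.mul_sum, ← Equiv.sum_comp (Equiv.addLeft d)]
    refine Finset.sum_congr rfl fun c _ => ?_
    rw [Equiv.coe_addLeft]
    have : (xm (d + c))ᵀ * xm d = sg (bb d c) • (xm c)ᵀ := by
      have h1 : xm (d + c) = sg (bb d c) • (xm d * xm c) := by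
        rw [xm_mul, smul_smul, sg_mul_self, one_smul]
      rw [h1, transpose_smul, transpose_mul, Matrix.smul_mul, mul_assoc,
        mul_eq_one_comm.1 (xm_orth d), mul_one]
    rw [mul_assoc, this, ← mul_assoc, ← mul_assoc, hy, Matrix.mul_smul, Matrix.smul_mul,
      Matrix.smul_mul]
  by_contra hc
  push Not at hc
  have hz : ∀ M, n0 M = 0 := fun M => by
    by_contra h
    obtain ⟨d, hd⟩ := hc _ h
    exact hd (key M d)
  have h1 : ∀ b, ∑ c, y c 0 0 * xm c b b = 0 := fun b => by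
    have := congrFun (congrFun (hz (single 0 b 1)) 0) b
    simp only [n0, Matrix.sum_apply, Matrix.zero_apply] at this
    rw [← this]
    refine Finset.sum_congr rfl fun c _ => ?_
    rw [mul_apply, Finset.sum_eq_single b]
    · rw [mul_single_apply_same, mul_one, transpose_apply]
    · intro v _ hv
      rw [mul_single_apply_of_ne _ _ _ _ _ hv, zero_mul]
    · exact fun h => absurd (Finset.mem_univ _) h
  have h2 : ∑ c, y c 0 0 * trace (xm c) = 0 := by
    simp only [trace, diag_apply, Finset.mul_sum]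
    rw [Finset.sum_comm]
    exact Finset.sum_eq_zero fun b _ => h1 b
  simp only [trace_xm, mul_ite, mul_zero, Finset.sum_ite_eq', Finset.mem_univ, if_true] at h2
  exact mul_ne_zero h0 (by norm_num) h2

theorem pos_of_gram {m n : Type*} [Fintype m] [Fintype n] [DecidableEq n] {N : Matrix m n ℝ}
    (h : N ≠ 0) {a : ℝ} (ha : Nᵀ * N = a • 1) : 0 < a := by
  obtain ⟨i, j, hij⟩ : ∃ i j, N i j ≠ 0 := by
    by_contra hc
    push Not at hc
    exact h (Matrix.ext hc)
  have := congrFun (congrFun ha j) j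
  rw [Matrix.smul_apply, one_apply_eq, smul_eq_mul, mul_one, mul_apply] at this
  rw [← this]
  exact Finset.sum_pos' (fun _ _ => mul_self_nonneg _) ⟨i, Finset.mem_univ _, mul_self_pos.2 hij⟩

/-- Every element of `Co0` has a lift. -/
theorem co_surj : Function.Surjective co := fun h => by
  obtain ⟨φ, hφ⟩ := exists_phi h
  obtain ⟨n, hn, key⟩ := exists_intertwiner (fun c => sg (φ c) • xm (h • c)) (fun c d => by
    rw [Matrix.smul_mul, Matrix.mul_smul, xm_mul, hφ, smul_add]
    simp only [smul_smul, sg_add]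
    congr 1
    linear_combination (-sg (φ c) * sg (φ d) * sg (bb (h • c) (h • d))) * sg_mul_self (bb c d))
    (by simp only [smul_zero, xm_zero, Matrix.smul_apply, one_apply_eq, smul_eq_mul, mul_one]
        exact sg_ne _)
  obtain ⟨a, ha⟩ := scalar_of_comm (n := nᵀ * n) fun d => by
    have h1 := congrArg transpose (key d)
    rw [transpose_mul, transpose_mul, transpose_smul, xm_transpose, xm_transpose, bb_smul_self,
      smul_comm, Matrix.smul_mul, Matrix.mul_smul] at h1
    rw [mul_assoc, key, ← mul_assoc, ← mul_assoc, smul_right_injective _ (sg_ne _) h1]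
  have hp := pos_of_gram hn ha
  refine ⟨⟨(⟨(√a)⁻¹ • n, (mem_orthogonalGroup_iff' _ _).2 ?_⟩, h), fun c => ⟨φ c, ?_⟩⟩, rfl⟩
  · rw [transpose_smul, Matrix.smul_mul, Matrix.mul_smul, ha, smul_smul, smul_smul, ← mul_inv,
      Real.mul_self_sqrt hp.le, inv_mul_cancel₀ hp.ne', one_smul]
  · simp only [Matrix.smul_mul, Matrix.mul_smul, key]
    rw [smul_comm]

/-- The generator of the kernel of `rho`. -/
noncomputable def m1 : GT :=
  ⟨(⟨-1, (mem_orthogonalGroup_iff _ _).2 (by rw [transpose_neg, transpose_one, neg_mul_neg, mul_one])⟩,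
    neg1), fun c => ⟨0, by simp only [neg1_smul_C, sg_zero, one_smul, neg_mul, mul_neg, one_mul,
      mul_one]⟩⟩

theorem nm_m1 : nm m1 = -1 := rfl
theorem co_m1 : co m1 = neg1 := rfl

theorem ep_m1 (c : C) : ep m1 c = 0 :=
  ep_eq (by simp only [nm_m1, co_m1, neg1_smul_C, sg_zero, one_smul, neg_mul, mul_neg, one_mul,
    mul_one])

theorem neg1_smul_S (c : S) : neg1 • c = c := Subtype.ext (neg1_smul_C _)

theorem neg_kron_neg {l m n p : Type*} (A : Matrix l m ℝ) (B : Matrix n p ℝ) :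
    (-A) ⊗ₖ (-B) = A ⊗ₖ B := by
  ext ⟨i, u⟩ ⟨j, v⟩
  simp only [kronecker_apply, Matrix.neg_apply, neg_mul_neg]

theorem rho_m1 : rho m1 = 1 := LinearEquiv.ext fun v => U_ext
  (by rw [mA_rho, co_m1, hm_neg1, transpose_neg, transpose_one, neg_mul, one_mul, neg_mul_neg,
    mul_one]; rfl)
  (by
    funext c
    have := fS_rho m1 v c
    rw [co_m1, neg1_smul_S, ep_m1, sg_zero, one_mul] at this
    exact this)
  (by rw [wW_rho, co_m1, hm_neg1, nm_m1, neg_kron_neg, one_kronecker_one, one_mulVec]; rfl)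

theorem kron_eq_one {m n : Type*} [DecidableEq m] [DecidableEq n] (i0 : m) (u0 : n)
    {A : Matrix m m ℝ} {N : Matrix n n ℝ} (h : A ⊗ₖ N = 1) :
    ∃ a : ℝ, a ≠ 0 ∧ A = a⁻¹ • 1 ∧ N = a • 1 := by
  have e : ∀ i j u v, A i j * N u v = if i = j ∧ u = v then 1 else 0 := fun i j u v => by
    have := congrFun (congrFun h (i, u)) (j, v)
    rwa [kronecker_apply, one_apply, if_congr Prod.ext_iff rfl rfl] at this
  have e0 := e i0 i0 u0 u0
  rw [if_pos ⟨rfl, rfl⟩] at e0
  have h0 : N u0 u0 ≠ 0 := right_ne_zero_of_mul_eq_one e0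
  refine ⟨N u0 u0, h0, ?_, ?_⟩
  · ext i j
    have := e i j u0 u0
    rw [Matrix.smul_apply, one_apply, smul_eq_mul, eq_inv_mul_iff_mul_eq₀ h0, mul_comm, this]
    simp
  · ext u v
    have := e i0 i0 u v
    rw [Matrix.smul_apply, one_apply, smul_eq_mul]
    simp only [true_and] at this
    rw [← this]
    linear_combination (-N u v) * e0

theorem rho_eq_one {g : GT} : rho g = 1 ↔ g = 1 ∨ g = m1 := by
  refine ⟨fun h => ?_, by rintro (rfl | rfl); exacts [map_one _, rho_m1]⟩
  have h1 : hm (co g) ⊗ₖ nm g = 1 := Matrix.ext_of_mulVec_single fun p => by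
    have := wW_rho g (mk 0 0 (Pi.single p 1))
    rw [h, LinearEquiv.coe_one, id, wW_mk] at this
    rw [← this, one_mulVec]
  obtain ⟨a, -, h2, h3⟩ := kron_eq_one none (0 : K) h1
  rcases mul_self_eq_one_iff.1 (sq_of_orth (0 : K) (h3 ▸ nm_orth g)) with rfl | rfl
  · refine .inl (GT_ext (by rw [h3, one_smul, nm_one]) (hm_inj ?_))
    rw [h2, inv_one, one_smul, map_one, map_one]
  · refine .inr (GT_ext (by rw [h3, neg_smul, one_smul, nm_m1]) (hm_inj ?_))
    rw [h2, inv_neg, inv_one, neg_smul, one_smul, co_m1, hm_neg1]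

theorem rho_eq_rho {g h : GT} : rho g = rho h ↔ g = h ∨ g = h * m1 := by
  rw [← inv_mul_eq_one, ← map_inv, ← map_mul, rho_eq_one, inv_mul_eq_one, inv_mul_eq_iff_eq_mul]
  refine or_congr Iff.rfl ⟨?_, ?_⟩ <;> rintro rfl <;>
  rw [mul_assoc, show m1 * m1 = 1 from GT_ext (by rw [nm_mul, nm_m1, neg_mul_neg, mul_one, nm_one])
    (by rw [map_mul, co_m1, neg1_mul_self, map_one]), mul_one]

theorem rho_qe_inj {s t : ZMod 2} {c d : C} (h : rho (qe s c) = rho (qe t d)) : s = t ∧ c = d := by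
  rcases rho_eq_rho.1 h with h | h
  · exact qe_inj h
  · have := congrArg co h
    rw [map_mul, co_qe, co_qe, co_m1, one_mul] at this
    exact absurd this.symm neg1_ne_one

theorem eq_of_card_two {H : Subgroup G0} (h : Nat.card H = 2) (h1 : neg1 ∈ H) {g : G0} :
    g ∈ H ↔ g = 1 ∨ g = neg1 := by
  refine ⟨fun hg => ?_, by rintro (rfl | rfl); exacts [H.one_mem, h1]⟩
  obtain ⟨y, -, hy⟩ := (Nat.card_eq_two_iff' (1 : H)).1 h
  by_cases e : g = 1
  · exact .inl e
  · exact .inr (congrArg Subtype.val ((hy ⟨g, hg⟩ fun h => e (congrArg Subtype.val h)).trans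
      (hy ⟨neg1, h1⟩ fun h => neg1_ne_one (congrArg Subtype.val h)).symm))

theorem mem_center_G0 {h : G0} : h ∈ Subgroup.center G0 ↔ h = 1 ∨ h = neg1 :=
  eq_of_card_two card_center neg1_mem_center

theorem kap_vU_ne : kap vU ≠ kap vU' := fun h => by
  have h1 := dot_vU_vU'
  rcases eq_or_neg norm_vU (by rw [norm_vU']; norm_num) h with h | h
  · rw [h, dot_self, norm_vU] at h1; omega
  · rw [h, dot_negR, dot_self, norm_vU] at h1; omega

/-- Only the centre acts trivially on the lattice modulo 2. -/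
theorem center_of_fix {h : G0} (e : ∀ c : C, h • c = c) : h ∈ Subgroup.center G0 := by
  have m : ∀ g : G0, g ∈ (MulAction.toPermHom G0 C).ker ↔ ∀ c : C, g • c = c := fun g => by
    rw [MonoidHom.mem_ker, Equiv.ext_iff]; rfl
  have h1 := (m _).2 neg1_smul_C
  rcases normal_G0 _ h1 with h2 | h2
  · exact mem_center_G0.2 ((eq_of_card_two h2 h1).1 ((m _).2 e))
  · obtain ⟨g, hg⟩ := tr_C0 vU vU' norm_vU norm_vU'
    have := (m g).1 (h2 ▸ Subgroup.mem_top g) (kap vU)
    rw [smul_kap, hg] at this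
    exact absurd this.symm kap_vU_ne

theorem rho_mem_QQ {g : GT} : rho g ∈ QQ ↔ co g ∈ Subgroup.center G0 := by
  rw [mem_center_G0]
  constructor
  · rintro ⟨k, hk, e⟩
    rw [SetLike.mem_coe, MonoidHom.mem_ker] at hk
    rcases rho_eq_rho.1 e.symm with rfl | rfl
    · exact .inl hk
    · exact .inr (by rw [map_mul, hk, one_mul, co_m1])
  · rintro (h | h)
    · exact ⟨g, h, rfl⟩
    · exact ⟨g * m1, by rw [SetLike.mem_coe, MonoidHom.mem_ker, map_mul, h, co_m1, neg1_mul_self],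
        by rw [map_mul, rho_m1, mul_one]⟩

theorem mem_QQ {x : U ≃ₗ[ℝ] U} : x ∈ QQ ↔ ∃ t c, x = rho (qe t c) := by
  constructor
  · rintro ⟨k, hk, rfl⟩
    obtain ⟨t, c, rfl⟩ := co_eq_one.1 hk
    exact ⟨t, c, rfl⟩
  · rintro ⟨t, c, rfl⟩
    exact ⟨_, co_qe t c, rfl⟩

theorem qe_mem_QQ (t : ZMod 2) (c : C) : rho (qe t c) ∈ QQ := mem_QQ.2 ⟨t, c, rfl⟩

theorem zz_comm (g : GT) : rho g * zz = zz * rho g := by
  have := conj_qe g 1 0
  rw [ep_zero, add_zero, smul_zero, mul_inv_eq_iff_eq_mul] at this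
  rw [zz, ← map_mul, this, map_mul]

theorem mA_qe (t : ZMod 2) (c : C) (v : U) : mA (rho (qe t c) v) = mA v := by
  rw [mA_rho, co_qe, map_one, transpose_one, one_mul, mul_one]

theorem fS_qe (t : ZMod 2) (c : C) (v : U) (d : S) :
    fS (rho (qe t c) v) d = sg (bb c d.1 + bb d.1 c) * fS v d := by
  have := fS_rho (qe t c) v d
  rwa [co_qe, one_smul, ep_qe] at this

theorem wW_qe (t : ZMod 2) (c : C) (v : U) :
    wW (rho (qe t c) v) = sg t • (((1 : Matrix P P ℝ) ⊗ₖ xm c) *ᵥ wW v) := by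
  rw [wW_rho, co_qe, map_one, nm_qe, kronecker_smul, smul_mulVec]

theorem mA_zz (v : U) : mA (zz v) = mA v := mA_qe 1 0 v

theorem fS_zz (v : U) : fS (zz v) = fS v := funext fun d => by
  rw [zz, fS_qe, bb_zero_left, bb_zero_right, add_zero, sg_zero, one_mul]

theorem wW_zz (v : U) : wW (zz v) = -wW v := by
  rw [zz, wW_qe, xm_zero, one_kronecker_one, one_mulVec, sg_one, neg_smul, one_smul]

theorem rho_qe_zero : rho (qe 0 0) = 1 := by rw [qe_zero, map_one]

theorem zz_mul_self : zz * zz = 1 := by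
  rw [zz, ← map_mul, qe_mul, two_zmod, two_zmod, bb_zero_left, add_zero, rho_qe_zero]

theorem zz_ne_one : zz ≠ 1 := fun h =>
  absurd (rho_qe_inj (h.trans rho_qe_zero.symm)).1 (by decide)

theorem orderOf_zz : orderOf zz = 2 := orderOf_eq_prime (by rw [sq, zz_mul_self]) zz_ne_one

theorem QQ_le_GG : QQ ≤ GG := by rintro _ ⟨k, -, rfl⟩; exact ⟨k, rfl⟩

instance QQ_normal : (QQ.subgroupOf GG).Normal := ⟨by
  rintro ⟨x, hx0⟩ hx ⟨_, g, rfl⟩
  obtain ⟨t, c, rfl⟩ := mem_QQ.1 hx
  change rho g * rho (qe t c) * (rho g)⁻¹ ∈ QQ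
  rw [← map_inv, ← map_mul, ← map_mul, conj_qe]
  exact qe_mem_QQ _ _⟩

theorem card_C : Nat.card C = 2 ^ 24 := by
  rw [Nat.card_prod, Nat.card_fun, Nat.card_zmod, Nat.card_fin]; norm_num

theorem card_QQ : Nat.card QQ = 2 ^ 25 := by
  rw [← Nat.card_congr (Equiv.ofBijective
    (fun p : ZMod 2 × C => (⟨rho (qe p.1 p.2), qe_mem_QQ _ _⟩ : QQ)) ⟨fun p q h => ?_, fun x => ?_⟩),
    Nat.card_prod, card_C, Nat.card_zmod]
  · norm_num
  · exact Prod.ext_iff.2 (rho_qe_inj (congrArg Subtype.val h))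
  · obtain ⟨t, c, h⟩ := mem_QQ.1 x.2
    exact ⟨(t, c), Subtype.ext h.symm⟩

instance finite_QQ : Finite QQ := Nat.finite_of_card_ne_zero (by rw [card_QQ]; norm_num)

theorem qe0_mem (t : ZMod 2) : rho (qe t 0) ∈ Subgroup.zpowers zz := by
  rcases z2 t with rfl | rfl
  · rw [rho_qe_zero]; exact one_mem _
  · exact Subgroup.mem_zpowers _

theorem comm_qe {g : GT} {c : C} (h : rho g * rho (qe 0 c) = rho (qe 0 c) * rho g) :
    ep g c = 0 ∧ co g • c = c := by
  rw [← mul_inv_eq_iff_eq_mul, ← map_inv, ← map_mul, ← map_mul, conj_qe, zero_add] at h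
  exact rho_qe_inj h

theorem cent_QQ {x : U ≃ₗ[ℝ] U} (hx : x ∈ GG) (h : ∀ q ∈ QQ, x * q = q * x) : x = 1 ∨ x = zz := by
  obtain ⟨g, rfl⟩ := hx
  obtain ⟨t, c, e⟩ := mem_QQ.1
    (rho_mem_QQ.2 (center_of_fix fun c => (comm_qe (h _ (qe_mem_QQ 0 c))).2))
  rw [e] at h ⊢
  obtain rfl : c = 0 := polar_nondeg fun d => by
    rw [← ep_qe t]; exact (comm_qe (h _ (qe_mem_QQ 0 d))).1
  rcases z2 t with rfl | rfl
  exacts [.inl rho_qe_zero, .inr rfl]

theorem qe_commutator (s t : ZMod 2) (c d : C) :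
    ⁅rho (qe s c), rho (qe t d)⁆ = rho (qe (bb c d + bb d c) 0) := by
  rw [← map_commutatorElement, commutatorElement_def, conj_qe, co_qe, one_smul, ep_qe, qe_inv,
    qe_mul, two_zmod]
  congr 2
  have h2 : (2 : ZMod 2) = 0 := rfl
  linear_combination (t + bb d d) * h2

theorem xs_QQ : H3.XS 2 zz QQ where
  ord := orderOf_zz
  mem := qe_mem_QQ _ _
  central x hx := by obtain ⟨g, rfl⟩ := QQ_le_GG hx; exact (zz_comm g).symm
  comm x hx y hy := by
    obtain ⟨s, c, rfl⟩ := mem_QQ.1 hx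
    obtain ⟨t, d, rfl⟩ := mem_QQ.1 hy
    rw [qe_commutator]; exact qe0_mem _
  pow x hx := by
    obtain ⟨s, c, rfl⟩ := mem_QQ.1 hx
    rw [sq, ← map_mul, qe_mul, two_zmod c]; exact qe0_mem _
  center_le x hx h := by
    rcases cent_QQ (QQ_le_GG hx) h with rfl | rfl
    exacts [one_mem _, Subgroup.mem_zpowers _]

open Subgroup in
theorem xs_extra {G : Type*} [Group G] {p : ℕ} {z : G} {K : Subgroup G} [Finite K]
    [hp : Fact p.Prime] (h : H3.XS p z K) (hne : zpowers z ≠ K) : IsExtraspecial p K := by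
  have hZ : center K = (zpowers z).subgroupOf K := by
    ext x
    rw [mem_center_iff, mem_subgroupOf]
    constructor
    · intro hx
      exact h.center_le x x.2 fun y hy => (congrArg Subtype.val (hx ⟨y, hy⟩)).symm
    · intro hx g
      exact Subtype.ext (h.commute_of_mem hx g.2).symm
  have hc : Nat.card (center K) = p := by
    rw [hZ, Nat.card_congr (subgroupOfEquivOfLe (zpowers_le.2 h.mem)).toEquiv, Nat.card_zpowers,
      h.ord]
  have h1 : commutator K ≤ center K := by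
    rw [hZ]
    exact commutator_le.2 fun x _ y _ => h.comm x x.2 y y.2
  have h2 : frattini K ≤ center K :=
    H2.frattini_le_of_elementary_quotient hp.out h1 fun x => hZ ▸ h.pow x x.2
  have h3 : commutator K = center K := by
    by_contra h4
    have h5 := H3.mul_card_le_of_lt (h.isPGroup.to_subgroup _) (lt_of_le_of_ne h1 h4)
    rw [hc] at h5
    have h6 : Nat.card (commutator K) = 1 := by
      have : 0 < Nat.card (commutator K) := Nat.card_pos
      have := hp.out.pos
      nlinarith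
    have h7 := (commutator_eq_bot_iff K).1 (card_eq_one.1 h6)
    refine hne (le_antisymm (zpowers_le.2 h.mem) fun x hx => h.center_le x hx fun y hy => ?_)
    exact congrArg Subtype.val (h7.is_comm.comm (⟨x, hx⟩ : K) ⟨y, hy⟩)
  exact ⟨⟨h.isPGroup, le_antisymm h2 (h3 ▸ H2.IsPGroup.commutator_le_frattini h.isPGroup), h3⟩, hc⟩

theorem extraspecial_QQ : IsExtraspecial 2 QQ := xs_extra xs_QQ fun h => by
  have := card_QQ
  rw [← h, Nat.card_zpowers, orderOf_zz] at this
  norm_num at this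

/-- The map onto `Co1`. -/
noncomputable def piG : GG →* G0 ⧸ Subgroup.center G0 :=
  rho.rangeRestrict.liftOfSurjective rho.rangeRestrict_surjective
    ⟨(QuotientGroup.mk' _).comp co, fun g hg => by
      rw [MonoidHom.ker_rangeRestrict, MonoidHom.mem_ker, rho_eq_one] at hg
      rw [MonoidHom.mem_ker, MonoidHom.comp_apply, QuotientGroup.mk'_apply, QuotientGroup.eq_one_iff,
        mem_center_G0]
      exact hg.imp (fun h => by rw [h, map_one]) fun h => by rw [h, co_m1]⟩

theorem piG_rho (g : GT) : piG ⟨rho g, g, rfl⟩ = (co g : G0 ⧸ Subgroup.center G0) :=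
  MonoidHom.liftOfRightInverse_comp_apply _ _ _ _ g

theorem piG_surj : Function.Surjective piG := fun x => by
  obtain ⟨h, rfl⟩ := QuotientGroup.mk_surjective x
  obtain ⟨g, rfl⟩ := co_surj h
  exact ⟨_, piG_rho g⟩

theorem ker_piG : piG.ker = QQ.subgroupOf GG := by
  ext ⟨_, g, rfl⟩
  rw [MonoidHom.mem_ker, piG_rho, QuotientGroup.eq_one_iff, Subgroup.mem_subgroupOf, rho_mem_QQ]

theorem co1_quot : IsCo1 (GG ⧸ QQ.subgroupOf GG) := by
  let e := (QuotientGroup.quotientMulEquivOfEq ker_piG.symm).trans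
    (QuotientGroup.quotientKerEquivOfSurjective piG piG_surj)
  have := simple_Co1
  exact ⟨e.isSimpleGroup, (Nat.card_congr e.toEquiv).trans card_Co1⟩

theorem card_GG : Nat.card GG = 2 ^ 25 * 4157776806543360000 := by
  rw [Subgroup.card_eq_card_quotient_mul_card_subgroup (QQ.subgroupOf GG), co1_quot.2,
    Nat.card_congr (Subgroup.subgroupOfEquivOfLe QQ_le_GG).toEquiv, card_QQ, mul_comm]

theorem Om_eq : Om = (0, Pi.single 11 1) := by
  rw [Om, ← kap_fL]
  congr 1
  apply Subtype.ext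
  rw [e8_eq, fL_coe]
  exact congrArg vc (by decide +kernel)

theorem kap_eq_of_cross {x y : L} (h : sqNorm (y : V) = sqNorm (x : V)) :
    kap y = kap x ↔ (y : V) ∈ cross (x : V) := by
  rw [eq_comm, kap_eq]
  constructor
  · rintro ⟨z, hz⟩
    exact ⟨y.2, h, z, z.2, by simpa using congrArg Subtype.val hz⟩
  · rintro ⟨-, -, z, hz, e⟩
    exact ⟨⟨z, hz⟩, Subtype.ext (by simpa using e)⟩

theorem neg1_mem_N0 : neg1 ∈ N0 := mem_N0.2 fun v hv => by
  rw [neg1_smul]; exact neg_mem_std hv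

theorem fix_Om {h : G0} : h • Om = Om ↔ h ∈ N0 := by
  rw [Om, smul_kap, kap_eq_of_cross (co_norm _ _), e8_coe, cross_single]
  refine ⟨?_, fun hh => mem_N0.1 hh _ (e8_mem_std _)⟩
  rintro ⟨i, s, rfl | rfl, e⟩
  · exact mem_N0_of_fix_e8 (b := i) (Subtype.ext e)
  · have : neg1 * h ∈ N0 := mem_N0_of_fix_e8 (a := none) (b := i) (Subtype.ext (by
      rw [mul_smul, neg1_smul, AddSubgroup.coe_neg, e, e8_coe, ← Pi.single_neg, neg_neg]))
    exact (N0.mul_mem_cancel_left neg1_mem_N0).1 this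

theorem ncard_orbit_Om : (MulAction.orbit G0 Om).ncard = 8292375 := by
  have h1 : MulAction.stabilizer G0 Om = N0 := Subgroup.ext fun _ => fix_Om
  have h2 := N0.index_mul_card
  rw [card_N0, card_G0] at h2
  rw [← MulAction.index_stabilizer, h1]
  generalize N0.index = n at h2
  omega

theorem trans_S (c d : S) : ∃ h : G0, h • c = d := by
  obtain ⟨h, e⟩ := tr_C0 (rep c) (rep d) (rep_norm c) (rep_norm d)
  exact ⟨h, Subtype.ext (by rw [smul_val, ← kap_rep, smul_kap, e, kap_rep])⟩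

end H10.Mon
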