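import Mathlib
import Cfsg.Agent.H10.MAut
import Cfsg.Agent.H10.MGrp

/-! # The centraliser of `zz` in `Aut`. -/

set_option autoImplicit false
set_option linter.all false

namespace H10.Mon

open Cfsg H9 Matrix
open scoped Kronecker

theorem L_induction {p : L → Prop} (h0 : p 0) (hs : ∀ x : L, sqNorm (x : V) = 32 → p x)
    (hadd : ∀ x y, p x → p y → p (x + y)) (hneg : ∀ x, p x → p (-x)) (x : L) : p x := by
  obtain ⟨x, hx⟩ := x
  have hx' := hx
  rw [← closure_min_eq] at hx'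
  induction hx' using AddSubgroup.closure_induction with
  | mem x h => exact hs _ h.2
  | zero => exact h0
  | add x y h1 h2 ihx ihy =>
    rw [closure_min_eq] at h1 h2
    exact hadd ⟨x, h1⟩ ⟨y, h2⟩ (ihx _) (ihy _)
  | neg x h1 ih =>
    rw [closure_min_eq] at h1
    exact hneg ⟨x, h1⟩ (ih _)

theorem C_induction {p : C → Prop} (h0 : p 0) (hs : ∀ c : S, p c.1)
    (hadd : ∀ x y, p x → p y → p (x + y)) (c : C) : p c := by
  obtain ⟨x, rfl⟩ := kap_surj c
  refine L_induction (p := fun x => p (kap x)) (by rw [map_zero]; exact h0)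
    (fun x hx => hs ⟨kap x, x, hx, rfl⟩) (fun x y hx hy => by rw [map_add]; exact hadd _ _ hx hy)
    (fun x hx => by rw [kap_neg]; exact hx) x

theorem S_ne_zero (c : S) : c.1 ≠ 0 := fun h => by
  have h1 := rep_norm c
  rcases eq_or_neg (y := 0) h1 (by simp [sqNorm]) (by rw [kap_rep, h, map_zero]) with h | h
  · rw [← h] at h1; simp [sqNorm] at h1
  · rw [← norm_negL, ← h] at h1; simp [sqNorm] at h1

theorem trace_xm_S (c : S) : trace (xm c.1) = 0 := by rw [trace_xm, if_neg (S_ne_zero c)]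

theorem trace_xm_SS (c d : S) : trace (xm c.1 * xm d.1) = if c = d then 4096 else 0 := by
  rw [trace_xm_mul, bb_S, sg_zero, one_mul]
  exact if_congr ⟨fun h => Subtype.ext h, fun h => by rw [h]⟩ rfl rfl

/-- The matrix `(1 - 2 pm c) / 8`. -/
noncomputable def Nm (c : S) : Matrix P P ℝ := (1 / 8 : ℝ) • (1 - (2 : ℝ) • pm c)

theorem R_eq (u : U) : R u = (mA u + (trace (mA u) / 8) • (1 : Matrix P P ℝ)) ⊗ₖ (1 : Matrix K K ℝ) +
    ∑ c : S, fS u c • (Nm c ⊗ₖ xm c.1) := rfl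

theorem trace_Nm (c : S) : trace (Nm c) = 2 := by
  rw [Nm, trace_smul, trace_sub, trace_smul, trace_one, card_P, trace_pm]; norm_num

theorem trace_Nm_sq (c : S) : trace (Nm c * Nm c) = 9 / 8 := by
  simp only [Nm, Matrix.smul_mul, Matrix.mul_smul, sub_mul, mul_sub, one_mul, mul_one, pm_mul_self,
    trace_smul, trace_sub, trace_one, card_P, trace_pm, smul_eq_mul]
  norm_num

theorem Nm_ne (c : S) : Nm c ≠ 0 := fun h => by simpa [h] using trace_Nm c

theorem card_K : Fintype.card K = 4096 := by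
  rw [← Nat.card_eq_fintype_card, Nat.card_fun, Nat.card_zmod, Nat.card_fin]; norm_num

theorem trace_R_sq (u : U) : trace (R u * R u) =
    4096 * (trace (mA u * mA u) + 5 / 8 * trace (mA u) ^ 2 + 9 / 8 * (fS u ⬝ᵥ fS u)) := by
  rw [R_eq]
  simp only [add_mul, mul_add, Finset.sum_mul, Finset.mul_sum, trace_add, trace_sum,
    Matrix.smul_mul, Matrix.mul_smul, ← mul_kronecker_mul, trace_kronecker, trace_smul, one_mul,
    mul_one, trace_xm_S, trace_xm_SS, mul_zero, smul_eq_mul, Finset.sum_const_zero, add_zero,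
    zero_add, mul_ite, Finset.sum_ite_eq, Finset.sum_ite_eq', Finset.mem_univ, if_true, trace_Nm_sq,
    trace_one, card_P, card_K]
  rw [show fS u ⬝ᵥ fS u = ∑ c, fS u c * fS u c from rfl, Finset.mul_sum, Finset.mul_sum]
  congr 1
  · push_cast; ring
  · exact Finset.sum_congr rfl fun c _ => by ring

theorem R_inj {u : U} (h1 : wW u = 0) (h2 : R u = 0) : u = 0 := by
  have h := trace_R_sq u
  rw [h2, mul_zero, trace_zero] at h
  have a1 := trace_sq_nonneg (mA_symm u)
  have a2 := dot_self_nonneg' (fS u)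
  have a3 := sq_nonneg (trace (mA u))
  refine U_ext (trace_sq_eq_zero (mA_symm u) (by linarith)) ?_ h1
  rw [fS_zero]; exact dotProduct_self_eq_zero.1 (by linarith)

/-- A vector of the odd part. -/
noncomputable def Wv (w : P × K → ℝ) : U := mk 0 0 w

theorem mA_Wv (w : P × K → ℝ) : mA (Wv w) = 0 := mA_mk transpose_zero _ _
theorem fS_Wv (w : P × K → ℝ) : fS (Wv w) = 0 := by rw [Wv, fS_mk]
theorem wW_Wv (w : P × K → ℝ) : wW (Wv w) = w := by rw [Wv, wW_mk]

theorem mA_neg (v : U) : mA (-v) = -mA v := rfl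
theorem fS_neg (v : U) : fS (-v) = -fS v := rfl
theorem wW_neg (v : U) : wW (-v) = -wW v := rfl
theorem mA_sub (u v : U) : mA (u - v) = mA u - mA v := rfl
theorem fS_sub (u v : U) : fS (u - v) = fS u - fS v := rfl
theorem wW_sub (u v : U) : wW (u - v) = wW u - wW v := rfl

theorem eq_zero_of_neg {M : Type*} [AddCommGroup M] [Module ℝ M] {a : M} (h : a = -a) : a = 0 := by
  rw [eq_neg_iff_add_eq_zero, ← two_smul ℝ] at h
  exact (smul_eq_zero.1 h).resolve_left two_ne_zero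

theorem zz_fix {u : U} : zz u = u ↔ wW u = 0 :=
  ⟨fun h => eq_zero_of_neg (by rw [← wW_zz, h]),
    fun h => U_ext (mA_zz u) (fS_zz u) (by rw [wW_zz, h, neg_zero])⟩

theorem zz_neg {u : U} : zz u = -u ↔ mA u = 0 ∧ fS u = 0 :=
  ⟨fun h => ⟨eq_zero_of_neg (by rw [← mA_neg, ← h, mA_zz]),
    eq_zero_of_neg (by rw [← fS_neg, ← h, fS_zz])⟩,
    fun h => U_ext (by rw [mA_zz, mA_neg, h.1, neg_zero]) (by rw [fS_zz, fS_neg, h.2, neg_zero])
      (by rw [wW_zz, wW_neg])⟩

/-- The embedding of the odd part. -/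
noncomputable def WvL : (P × K → ℝ) →ₗ[ℝ] U where
  toFun := Wv
  map_add' a b := U_ext (by rw [mA_add, mA_Wv, mA_Wv, mA_Wv, add_zero])
    (by rw [fS_add, fS_Wv, fS_Wv, fS_Wv, add_zero]) (by rw [wW_add, wW_Wv, wW_Wv, wW_Wv])
  map_smul' a b := U_ext (by rw [mA_smul, mA_Wv, mA_Wv, smul_zero])
    (by rw [fS_smul, fS_Wv, fS_Wv, smul_zero]) (by rw [wW_smul, wW_Wv, wW_Wv, RingHom.id_apply])

/-- The projection on the odd part. -/
def wWL : U →ₗ[ℝ] (P × K → ℝ) where
  toFun := wW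
  map_add' := wW_add
  map_smul' := wW_smul

theorem B_Wv (v w : P × K → ℝ) : B (Wv v) (Wv w) = v ⬝ᵥ w := by
  rw [B, mA_Wv, fS_Wv, wW_Wv, wW_Wv, zero_mul, trace_zero, zero_dotProduct, zero_add, zero_add]

theorem F_Wv {u : U} (hu : wW u = 0) (v w : P × K → ℝ) : F u (Wv v) (Wv w) = v ⬝ᵥ (R u *ᵥ w) := by
  rw [F, Dt_zero2 (fS_Wv v), Dt_zero1 (mA_Wv v), Dt_zero1 (mA_Wv w), Et_swap12,
    Et_zero1 (fS_Wv v), Wt_zero2 hu, Wt_zero2 hu, Wt, wW_Wv, wW_Wv, mA_Wv w, mul_zero, trace_zero]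
  ring

theorem mat_ext_dot {n : Type*} [Fintype n] [DecidableEq n] {M N : Matrix n n ℝ}
    (h : ∀ v w, v ⬝ᵥ (M *ᵥ w) = v ⬝ᵥ (N *ᵥ w)) : M = N := by
  ext i j
  simpa only [single_dotProduct, mulVec_single_one, one_mul, col_apply] using
    h (Pi.single i 1) (Pi.single j 1)

theorem dot_conj {n : Type*} [Fintype n] (G M : Matrix n n ℝ) (v w : n → ℝ) :
    (G *ᵥ v) ⬝ᵥ (M *ᵥ (G *ᵥ w)) = v ⬝ᵥ ((Gᵀ * M * G) *ᵥ w) := by
  rw [← mulVec_mulVec, ← mulVec_mulVec, dotProduct_mulVec v, vecMul_transpose]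

theorem kron_one_inj {A B : Matrix P P ℝ} (h : A ⊗ₖ (1 : Matrix K K ℝ) = B ⊗ₖ (1 : Matrix K K ℝ)) :
    A = B := by
  ext i j
  simpa only [kronecker_apply, one_apply_eq, mul_one] using congrFun (congrFun h (i, 0)) (j, 0)

theorem kron_left_cancel {A : Matrix P P ℝ} (hA : A ≠ 0) {M N : Matrix K K ℝ}
    (h : A ⊗ₖ M = A ⊗ₖ N) : M = N := by
  obtain ⟨i, j, hij⟩ : ∃ i j, A i j ≠ 0 := by
    by_contra hc
    push Not at hc
    exact hA (Matrix.ext hc)
  ext u v
  exact mul_left_cancel₀ hij (congrFun (congrFun h (i, u)) (j, v))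

/-- Matrix units are conjugate to the standard ones. -/
theorem exists_units {n : Type*} [Fintype n] [DecidableEq n] (o : n) (e : n → n → Matrix n n ℝ)
    (h1 : ∀ i j k l, e i j * e k l = if j = k then e i l else 0) (h2 : ∀ i j, (e i j)ᵀ = e j i)
    (h3 : e o o ≠ 0) : ∃ h : Matrix n n ℝ, hᵀ * h = 1 ∧ ∀ i j, e i j * h = h * single i j 1 := by
  obtain ⟨v, hv, hv0⟩ : ∃ v, e o o *ᵥ v = v ∧ v ≠ 0 := by
    by_contra hc
    push Not at hc
    refine h3 (Matrix.ext_of_mulVec_single fun k => ?_)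
    rw [zero_mulVec]
    exact hc _ (by rw [mulVec_mulVec, h1, if_pos rfl])
  have hp : 0 < v ⬝ᵥ v :=
    lt_of_le_of_ne (dot_self_nonneg' v) fun h => hv0 (dotProduct_self_eq_zero.1 h.symm)
  obtain ⟨v, hv, hn⟩ : ∃ v, e o o *ᵥ v = v ∧ v ⬝ᵥ v = 1 :=
    ⟨(√(v ⬝ᵥ v))⁻¹ • v, by rw [mulVec_smul, hv], by
      rw [smul_dotProduct, dotProduct_smul, smul_smul, ← mul_inv, Real.mul_self_sqrt hp.le,
        smul_eq_mul, inv_mul_cancel₀ hp.ne']⟩
  refine ⟨of fun a i => (e i o *ᵥ v) a, ?_, fun i j => ?_⟩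
  · ext i j
    change (e i o *ᵥ v) ⬝ᵥ (e j o *ᵥ v) = _
    rw [dotProduct_mulVec, ← mulVec_transpose, h2, mulVec_mulVec, h1, one_apply]
    split_ifs with h h' h'
    · rw [hv, hn]
    · exact absurd h.symm h'
    · exact absurd h'.symm h
    · rw [zero_mulVec, zero_dotProduct]
  · ext a k
    change (e i j *ᵥ (e k o *ᵥ v)) a = _
    rw [mulVec_mulVec, h1]
    split_ifs with h
    · rw [h, mul_single_apply_same, mul_one, of_apply]
    · rw [mul_single_apply_of_ne _ _ _ _ _ (Ne.symm h), zero_mulVec, Pi.zero_apply]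

theorem eq_one_kron {G : Matrix (P × K) (P × K) ℝ}
    (h : ∀ i j : P, G * (single i j (1 : ℝ) ⊗ₖ (1 : Matrix K K ℝ)) =
      (single i j (1 : ℝ) ⊗ₖ (1 : Matrix K K ℝ)) * G) :
    ∃ n : Matrix K K ℝ, G = (1 : Matrix P P ℝ) ⊗ₖ n := by
  refine ⟨of fun u v => G (none, u) (none, v), ?_⟩
  ext ⟨a, u⟩ ⟨b, v⟩
  have := congrFun (congrFun (h b none) (a, u)) (none, v)
  rw [mul_apply, mul_apply, Finset.sum_eq_single (b, v), Finset.sum_eq_single (none, u)] at this
  · simp only [kronecker_apply, single_apply_same, one_apply_eq, mul_one] at this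
    rw [this, kronecker_apply, of_apply, one_apply, single_apply]
    simp only [and_true, eq_comm]
  · rintro ⟨c, w⟩ - hc
    rw [kronecker_apply, single_apply, one_apply]
    by_cases h1 : c = none
    · rw [if_neg (show ¬ u = w from fun h2 => hc (by rw [h1, h2])), mul_zero, zero_mul]
    · rw [if_neg (show ¬ (b = a ∧ none = c) from fun h2 => h1 h2.2.symm), zero_mul, zero_mul]
  · exact fun h => absurd (Finset.mem_univ _) h
  · rintro ⟨c, w⟩ - hc
    rw [kronecker_apply, single_apply, one_apply]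
    by_cases h1 : c = b
    · rw [if_neg (show ¬ w = v from fun h2 => hc (by rw [h1, h2])), mul_zero, mul_zero]
    · rw [if_neg (show ¬ (b = c ∧ none = none) from fun h2 => h1 h2.1.symm), zero_mul, mul_zero]
  · exact fun h => absurd (Finset.mem_univ _) h

/-- An orthogonal matrix normalising `Sym ⊗ 1` is a Kronecker product. -/
theorem exists_kron {G : Matrix (P × K) (P × K) ℝ} (hG : Gᵀ * G = 1)
    (h : ∀ A : Matrix P P ℝ, Aᵀ = A → ∃ A' : Matrix P P ℝ,
      G * (A ⊗ₖ (1 : Matrix K K ℝ)) * Gᵀ = A' ⊗ₖ (1 : Matrix K K ℝ)) :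
    ∃ (h : Matrix P P ℝ) (n : Matrix K K ℝ), hᵀ * h = 1 ∧ nᵀ * n = 1 ∧ G = h ⊗ₖ n := by
  have hm : ∀ A B : Matrix P P ℝ, G * (A ⊗ₖ (1 : Matrix K K ℝ)) * Gᵀ *
      (G * (B ⊗ₖ (1 : Matrix K K ℝ)) * Gᵀ) = G * ((A * B) ⊗ₖ (1 : Matrix K K ℝ)) * Gᵀ := fun A B => by
    rw [conj_mul_conj hG, ← mul_kronecker_mul, mul_one]
  have h' : ∀ i j : P, ∃ A' : Matrix P P ℝ,
      G * (single i j (1 : ℝ) ⊗ₖ (1 : Matrix K K ℝ)) * Gᵀ = A' ⊗ₖ (1 : Matrix K K ℝ) := fun i j => by
    obtain ⟨A, hA⟩ := h (single i i 1) (transpose_single _ _ _)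
    by_cases e : i = j
    · exact ⟨A, e ▸ hA⟩
    obtain ⟨B, hB⟩ := h (single i j 1 + single j i 1) (by
      rw [transpose_add, transpose_single, transpose_single, add_comm])
    have := hm (single i i 1) (single i j 1 + single j i 1)
    rw [hA, hB, mul_add, single_mul_single_same, single_mul_single_of_ne _ _ _ _ e, add_zero, mul_one,
      ← mul_kronecker_mul, mul_one] at this
    exact ⟨_, this.symm⟩
  choose e he using h'
  obtain ⟨h, h1, h2⟩ := exists_units none e (fun i j k l => kron_one_inj (by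
      rw [← mul_one (1 : Matrix K K ℝ), mul_kronecker_mul, ← he, ← he, hm, mul_one]
      split_ifs with a
      · rw [a, single_mul_single_same, mul_one, he]
      · rw [single_mul_single_of_ne _ _ _ _ a, zero_kronecker, mul_zero, zero_mul]))
    (fun i j => kron_one_inj (by
      rw [← transpose_one, ← kron_transpose, ← he, transpose_one, ← he, transpose_mul, transpose_mul,
        transpose_transpose, kron_transpose, transpose_single, transpose_one, mul_assoc]))
    (fun a => by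
      have := congrArg trace (he none none)
      rw [trace_conj hG, a, trace_kronecker, trace_kronecker, trace_zero, trace_single_eq_same,
        trace_one, card_K] at this
      norm_num at this)
  obtain ⟨n, hn⟩ := eq_one_kron (G := (hᵀ ⊗ₖ (1 : Matrix K K ℝ)) * G) fun i j => by
    have a := congrArg transpose (h2 j i)
    rw [transpose_mul, transpose_mul, transpose_single] at a
    have b : G * (single i j (1 : ℝ) ⊗ₖ (1 : Matrix K K ℝ)) = (e i j ⊗ₖ (1 : Matrix K K ℝ)) * G := by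
      rw [← he, mul_assoc, hG, mul_one]
    have c : (e j i)ᵀ = e i j := kron_one_inj (by
      rw [← transpose_one, ← kron_transpose, ← he, transpose_one, ← he, transpose_mul, transpose_mul,
        transpose_transpose, kron_transpose, transpose_single, transpose_one, mul_assoc])
    rw [mul_assoc, b, ← mul_assoc, ← mul_assoc, ← mul_kronecker_mul, ← mul_kronecker_mul, ← a, c]
  have h3 : G = h ⊗ₖ n := by
    rw [← mul_one h, ← one_mul n, mul_kronecker_mul, ← hn, ← mul_assoc, ← mul_kronecker_mul,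
      mul_eq_one_comm.1 h1, mul_one, one_kronecker_one, one_mul]
  refine ⟨h, n, h1, ?_, h3⟩
  rw [h3, kron_transpose, ← mul_kronecker_mul, h1, ← one_kronecker_one] at hG
  exact kron_left_cancel one_ne_zero hG

/-- Contraction of the second factor. -/
noncomputable def con (X : Matrix K K ℝ) : Matrix (P × K) (P × K) ℝ →ₗ[ℝ] Matrix P P ℝ where
  toFun M := of fun i j => ∑ u, ∑ v, M (i, u) (j, v) * X v u
  map_add' M N := by
    ext i j
    simp only [of_apply, Matrix.add_apply, add_mul, Finset.sum_add_distrib]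
  map_smul' a M := by
    ext i j
    simp only [of_apply, Matrix.smul_apply, smul_eq_mul, RingHom.id_apply, Finset.mul_sum, mul_assoc]

theorem con_kron (X N : Matrix K K ℝ) (A : Matrix P P ℝ) : con X (A ⊗ₖ N) = trace (N * X) • A := by
  ext i j
  simp only [con, LinearMap.coe_mk, AddHom.coe_mk, of_apply, kronecker_apply, Matrix.smul_apply,
    smul_eq_mul, trace, diag_apply, mul_apply, Finset.sum_mul]
  exact Finset.sum_congr rfl fun u _ => Finset.sum_congr rfl fun v _ => by ring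

theorem eq_of_vecMulVec {n : Type*} [Fintype n] {a b : n → ℝ} (hb : b ⬝ᵥ b ≠ 0)
    (h : vecMulVec a a = vecMulVec b b) : a = b ∨ a = -b := by
  have h1 := congrArg (fun M => M *ᵥ b) h
  simp only [vecMulVec_mulVec, op_smul_eq_smul] at h1
  have h2 := congrArg (fun v => v ⬝ᵥ b) h1
  simp only [smul_dotProduct, smul_eq_mul] at h2
  rcases mul_self_eq_mul_self_iff.1 h2 with h3 | h3
  · rw [h3] at h1; exact .inl (smul_right_injective _ hb h1)
  · rw [h3, neg_smul, neg_eq_iff_eq_neg, ← smul_neg] at h1; exact .inr (smul_right_injective _ hb h1)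

theorem step3 {h : Matrix P P ℝ} {n : Matrix K K ℝ} (h1 : hᵀ * h = 1) {c : S} {f : S → ℝ}
    (hf : f ⬝ᵥ f = 1) (e : ∑ d : S, f d • (Nm d ⊗ₖ xm d.1) = (h * Nm c * hᵀ) ⊗ₖ (n * xm c.1 * nᵀ)) :
    ∃ d : S, h * pm c * hᵀ = pm d ∧ ∃ t, n * xm c.1 * nᵀ = sg t • xm d.1 := by
  have a : ∀ d, f d ≠ 0 → h * Nm c * hᵀ = Nm d := fun d hd => by
    have e1 := congrArg (con (xm d.1)) e
    simp only [map_sum, map_smul, con_kron, trace_xm_SS, ite_smul, zero_smul, smul_ite, smul_zero,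
      Finset.sum_ite_eq', Finset.mem_univ, if_true, smul_smul] at e1
    have e2 := congrArg trace e1
    rw [trace_smul, trace_smul, trace_conj h1, trace_Nm, trace_Nm, smul_eq_mul, smul_eq_mul,
      mul_left_inj' two_ne_zero] at e2
    rw [← e2] at e1
    exact (smul_right_injective _ (mul_ne_zero hd (by norm_num)) e1).symm
  have b : ∀ d, h * Nm c * hᵀ = Nm d → h * pm c * hᵀ = pm d := fun d hd => by
    rw [Nm, Nm, Matrix.mul_smul, Matrix.smul_mul, mul_sub, sub_mul, mul_one, mul_eq_one_comm.1 h1,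
      Matrix.mul_smul, Matrix.smul_mul] at hd
    exact smul_right_injective _ two_ne_zero
      (sub_right_injective (smul_right_injective _ (show (1 / 8 : ℝ) ≠ 0 by norm_num) hd))
  obtain ⟨d, hd⟩ : ∃ d, f d ≠ 0 := by
    by_contra hc
    push Not at hc
    rw [show f = 0 from funext hc, zero_dotProduct] at hf
    exact zero_ne_one hf
  have z : ∀ x, x ≠ d → f x = 0 := fun x hx => by
    by_contra h0
    exact hx (pm_inj ((b _ (a _ h0)).symm.trans (b _ (a _ hd))))
  rw [Finset.sum_eq_single d (fun x _ hx => by rw [z x hx, zero_smul])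
    (fun h => absurd (Finset.mem_univ _) h), a d hd, ← kronecker_smul] at e
  rw [dotProduct, Finset.sum_eq_single d (fun x _ hx => by rw [z x hx, zero_mul])
    (fun h => absurd (Finset.mem_univ _) h)] at hf
  obtain ⟨t, ht⟩ := sg_of_sq hf
  exact ⟨d, b d (a d hd), t, by rw [← ht]; exact (kron_left_cancel (Nm_ne d) e).symm⟩

theorem exists_co {h : Matrix P P ℝ} (h1 : hᵀ * h = 1)
    (h2 : ∀ c : S, ∃ d : S, h * pm c * hᵀ = pm d) : ∃ g : G0, hm g = h := by
  have a : ∀ x : L, ∃ y : L, h *ᵥ rv x = rv y := by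
    refine L_induction ⟨0, ?_⟩ (fun x hx => ?_) ?_ ?_
    · rw [show rv 0 = 0 from funext fun i => by simp [rv], mulVec_zero]
    · obtain ⟨d, hd⟩ := h2 ⟨kap x, x, hx, rfl⟩
      rw [pm_eq (c := ⟨kap x, x, hx, rfl⟩) hx rfl, pm, Matrix.mul_smul, Matrix.smul_mul, mul_vecMulVec, vecMulVec_mul,
        vecMul_transpose] at hd
      rcases eq_of_vecMulVec (by rw [rv_self (rep_norm d)]; norm_num)
        (smul_right_injective _ (show (1 / 8 : ℝ) ≠ 0 by norm_num) hd) with e | e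
      exacts [⟨_, e⟩, ⟨-rep d, by rw [e, rv_neg]⟩]
    · rintro x y ⟨x', hx⟩ ⟨y', hy⟩
      exact ⟨x' + y', by rw [rv_add, rv_add, mulVec_add, hx, hy]⟩
    · rintro x ⟨x', hx⟩
      exact ⟨-x', by rw [rv_neg, rv_neg, mulVec_neg, hx]⟩
  choose f hf using a
  refine ⟨mkCo f (fun v w => rv_inj (by rw [rv_add, ← hf, ← hf, ← hf, rv_add, mulVec_add]))
    fun v => ?_, mat_ext fun x => by rw [hm_mulVec, mkCo_smul, hf]⟩
  have := dot_mulVec_orth h1 (rv v) (rv v)
  rw [hf, rv_dot, rv_dot, dot_self, dot_self] at this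
  exact_mod_cast this

theorem B_one (u : U) : B u one = trace (mA u) := by
  rw [B, mA_one, fS_one, wW_one, mul_one, dotProduct_zero, dotProduct_zero, add_zero, add_zero]

theorem mem_GG_of_comm {g : U ≃ₗ[ℝ] U} (hg : g ∈ Aut) (h : g * zz = zz * g) : g ∈ GG := by
  have hc : ∀ u, zz (g u) = g (zz u) := fun u => (LinearEquiv.congr_fun h u).symm
  have hp : ∀ {u}, wW u = 0 → wW (g u) = 0 := fun hu => zz_fix.1 (by rw [hc, zz_fix.2 hu])
  obtain ⟨G, hG⟩ : ∃ G : Matrix (P × K) (P × K) ℝ, ∀ w, g (Wv w) = Wv (G *ᵥ w) := by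
    refine ⟨LinearMap.toMatrix' (wWL ∘ₗ g.toLinearMap ∘ₗ WvL), fun w => ?_⟩
    have := zz_neg.1 (show zz (g (Wv w)) = -g (Wv w) by
      rw [hc, zz_neg.2 ⟨mA_Wv w, fS_Wv w⟩, map_neg])
    exact U_ext (by rw [this.1, mA_Wv]) (by rw [this.2, fS_Wv])
      (by rw [wW_Wv, LinearMap.toMatrix'_mulVec]; rfl)
  have hO : Gᵀ * G = 1 := mat_ext_dot fun v w => by
    rw [← mulVec_mulVec, dotProduct_mulVec, vecMul_transpose, one_mulVec, ← B_Wv, ← hG, ← hG, hg.1,
      B_Wv]
  have hR : ∀ {u}, wW u = 0 → R (g u) = G * R u * Gᵀ := fun {u} hu => by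
    have : Gᵀ * R (g u) * G = R u := mat_ext_dot fun v w => by
      rw [← dot_conj, ← F_Wv (hp hu), ← hG, ← hG, hg.2.1, F_Wv hu]
    rw [← this, ← mul_assoc, ← mul_assoc, mul_eq_one_comm.1 hO, one_mul, mul_assoc,
      mul_eq_one_comm.1 hO, mul_one]
  have hT : ∀ {u}, wW u = 0 → trace (mA (g u) * mA (g u)) = trace (mA u * mA u) ∧
      fS (g u) ⬝ᵥ fS (g u) = fS u ⬝ᵥ fS u := fun {u} hu => by
    have a1 := trace_R_sq (g u)
    rw [hR hu, conj_mul_conj hO, trace_conj hO, trace_R_sq] at a1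
    have a2 := hg.1 u one
    rw [hg.2.2, B_one, B_one] at a2
    have a3 := hg.1 u u
    rw [B, B, hp hu, hu] at a3
    rw [a2] at a1
    constructor <;> linarith
  obtain ⟨h, n, h1, h2, rfl⟩ := exists_kron hO fun A hA => by
    have hs : (A - (trace A / 32) • (1 : Matrix P P ℝ))ᵀ = A - (trace A / 32) • 1 := by
      rw [transpose_sub, transpose_smul, transpose_one, hA]
    have a1 := hR (wW_mk (A - (trace A / 32) • (1 : Matrix P P ℝ)) 0 0)
    have a2 := (hT (wW_mk (A - (trace A / 32) • (1 : Matrix P P ℝ)) 0 0)).2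
    rw [fS_mk, zero_dotProduct, dotProduct_self_eq_zero] at a2
    rw [R_eq, R_eq, a2, fS_mk, mA_mk hs] at a1
    simp only [Pi.zero_apply, zero_smul, Finset.sum_const_zero, add_zero] at a1
    rw [trace_sub, trace_smul, trace_one, card_P, sub_add, ← sub_smul,
      show trace A / 32 - (trace A - (trace A / 32) • ((24 : ℕ) : ℝ)) / 8 = 0 by
        rw [smul_eq_mul]; push_cast; ring, zero_smul, sub_zero] at a1
    exact ⟨_, a1.symm⟩
  have key : ∀ c : S, ∃ d : S, h * pm c * hᵀ = pm d ∧ ∃ t, n * xm c.1 * nᵀ = sg t • xm d.1 :=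
    fun c => by
    have a1 := hR (wW_mk 0 (Pi.single c 1) 0)
    obtain ⟨a2, a3⟩ := hT (wW_mk 0 (Pi.single c 1) 0)
    rw [mA_mk transpose_zero, zero_mul, trace_zero] at a2
    rw [fS_mk, single_dotProduct, Pi.single_eq_same, mul_one] at a3
    rw [R_eq, R_eq, trace_sq_eq_zero (mA_symm _) a2, mA_mk transpose_zero, fS_mk, trace_zero,
      zero_div, zero_smul, add_zero, zero_kronecker, zero_add, zero_add,
      Finset.sum_eq_single c (f := fun d : S => (Pi.single c (1 : ℝ) : S → ℝ) d • (Nm d ⊗ₖ xm d.1))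
        (fun x _ hx => by rw [Pi.single_eq_of_ne hx, zero_smul])
        (fun h => absurd (Finset.mem_univ _) h), Pi.single_eq_same, one_smul, kron_transpose,
      ← mul_kronecker_mul, ← mul_kronecker_mul] at a1
    exact step3 h1 a3 a1
  obtain ⟨h0, rfl⟩ := exists_co h1 fun c => (key c).imp fun _ h => h.1
  have key2 : ∀ c : C, ∃ t, n * xm c * nᵀ = sg t • xm (h0 • c) := by
    refine C_induction ⟨0, ?_⟩ (fun c => ?_) ?_
    · rw [smul_zero, xm_zero, mul_one, mul_eq_one_comm.1 h2, sg_zero, one_smul]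
    · obtain ⟨d, e1, e2⟩ := key c
      rw [← pm_smul] at e1
      rw [← smul_val, pm_inj e1]
      exact e2
    · rintro c d ⟨s, hs⟩ ⟨t, ht⟩
      have := conj_mul_conj h2 (xm c) (xm d)
      rw [hs, ht, Matrix.smul_mul, Matrix.mul_smul, xm_mul, xm_mul, Matrix.mul_smul,
        Matrix.smul_mul, ← smul_add] at this
      refine ⟨bb c d + (s + (t + bb (h0 • c) (h0 • d))), ?_⟩
      rw [sg_add, sg_add, sg_add, mul_smul, mul_smul, mul_smul, this, smul_smul, sg_mul_self,
        one_smul]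
  let γ : GT := ⟨(⟨n, (mem_orthogonalGroup_iff' _ _).2 h2⟩, h0), fun c => (key2 c).imp fun t ht => by
    simp only []
    rw [← Matrix.smul_mul, ← ht, mul_assoc, h2, mul_one]⟩
  have hγ1 : co γ = h0 := rfl
  have hγ2 : nm γ = n := rfl
  refine ⟨γ, LinearEquiv.ext fun v => ?_⟩
  have hu : wW (v - Wv (wW v)) = 0 := by rw [wW_sub, wW_Wv, sub_self]
  rw [← sub_add_cancel v (Wv (wW v)), map_add, map_add]
  congr 1
  · rw [← sub_eq_zero]
    refine R_inj (by rw [wW_sub, hp hu, wW_rho, hu, mulVec_zero, sub_self]) ?_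
    rw [sub_eq_add_neg, R_add, ← neg_one_smul ℝ, R_smul, hR hu, R_rho, hγ1, hγ2, neg_one_smul,
      add_neg_cancel]
  · rw [hG]
    refine U_ext (by rw [mA_rho, mA_Wv, mA_Wv, mul_zero, zero_mul]) (funext fun c => ?_)
      (by rw [wW_rho, wW_Wv, wW_Wv, hγ1, hγ2])
    rw [← smul_inv_smul (co γ) c, fS_rho, fS_Wv, fS_Wv, Pi.zero_apply, Pi.zero_apply, mul_zero]

end H10.Mon
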