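import Mathlib
import Cfsg.Agent.H10.MCent

/-! # An axis determines its involution. -/

set_option autoImplicit false
set_option linter.all false

namespace H10.Mon

open Cfsg H9 Matrix
open scoped Kronecker

theorem B_neg_left (u v : U) : B (-u) v = -B u v := by
  rw [← neg_one_smul ℝ, B_smul_left, neg_one_mul]

theorem B_sub_left (u u' v : U) : B (u - u') v = B u v - B u' v := by
  rw [sub_eq_add_neg, B_add_left, B_neg_left, sub_eq_add_neg]

theorem B_ext {u v : U} (h : ∀ w, B u w = B v w) : u = v :=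
  sub_eq_zero.1 (B_self_eq_zero (by rw [B_sub_left, h, sub_self]))

theorem dot_cases (c d : S) : ∃ m : ℤ, dotInt (rep c : V) (rep d : V) = 8 * m ∧
    (m : ZMod 2) = bb c.1 d.1 + bb d.1 c.1 ∧ trace (pm c * pm d) = (m : ℝ) ^ 2 ∧
    (c = d ∨ (-2 ≤ m ∧ m ≤ 2)) := by
  obtain ⟨m, hm⟩ := eight_dvd_dot (rep c).2 (rep d).2
  refine ⟨m, hm, ?_, ?_, ?_⟩
  · rw [← kap_rep, ← kap_rep, ← ip_kap, ip_apply, hm, show 8 * m / 8 = m by omega]
  · rw [trace_pm_mul, rv_dot, hm]; push_cast; ring
  · by_contra hc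
    rw [not_or] at hc
    have h1 := min_norm (rep c - rep d).2 fun h => hc.1 (Subtype.ext (by
      rw [← kap_rep, ← kap_rep, sub_eq_zero.1 (Subtype.ext h : rep c - rep d = 0)]))
    have h2 := min_norm (rep c + rep d).2 fun h => hc.1 (Subtype.ext (by
      rw [← kap_rep, ← kap_rep, add_eq_zero_iff_eq_neg.1 (Subtype.ext h : rep c + rep d = 0),
        kap_neg]))
    rw [AddSubgroup.coe_sub, sqNorm_sub, rep_norm, rep_norm] at h1
    rw [AddSubgroup.coe_add, sqNorm_add, rep_norm, rep_norm] at h2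
    omega

theorem trace_of_add {c d e : S} (h : c.1 + d.1 = e.1) : trace (pm c * pm d) = 4 := by
  have a1 := sqNorm_add (rep c : V) (rep d : V)
  have a2 := sqNorm_sub (rep c : V) (rep d : V)
  rw [rep_norm, rep_norm] at a1 a2
  have key : ∀ y : L, sqNorm (y : V) ≤ 64 → kap y = e.1 → sqNorm (y : V) = 32 := fun y h1 h2 => by
    rcases eq_or_neg (rep_norm e) h1 ((kap_rep e).trans h2.symm) with rfl | rfl
    exacts [rep_norm e, (norm_negL _).trans (rep_norm e)]
  have : dotInt (rep c : V) (rep d : V) = 16 ∨ dotInt (rep c : V) (rep d : V) = -16 := by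
    rcases le_total 0 (dotInt (rep c : V) (rep d : V)) with h0 | h0
    · have := key (rep c - rep d) (by rw [AddSubgroup.coe_sub]; omega)
        (by rw [sub_eq_add_neg, map_add, kap_neg, kap_rep, kap_rep, h])
      rw [AddSubgroup.coe_sub] at this
      omega
    · have := key (rep c + rep d) (by rw [AddSubgroup.coe_add]; omega)
        (by rw [map_add, kap_rep, kap_rep, h])
      rw [AddSubgroup.coe_add] at this
      omega
  rw [trace_pm_mul, rv_dot]
  rcases this with h | h <;> rw [h] <;> norm_num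

theorem trace_odd {c d : S} (h : bb c.1 d.1 + bb d.1 c.1 = 1) : trace (pm c * pm d) = 1 := by
  obtain ⟨m, -, h1, h2, h3 | ⟨h3, h4⟩⟩ := dot_cases c d
  · rw [h3, two_zmod] at h; exact absurd h (by decide)
  · rw [h] at h1
    rw [h2]
    interval_cases m <;> first | (exfalso; revert h1; decide) | norm_num

theorem trace_even {c d : S} (h : bb c.1 d.1 + bb d.1 c.1 = 0) (hcd : c ≠ d) :
    trace (pm c * pm d) = 0 ∨ trace (pm c * pm d) = 4 := by
  obtain ⟨m, -, h1, h2, h3 | ⟨h3, h4⟩⟩ := dot_cases c d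
  · exact absurd h3 hcd
  · rw [h] at h1
    rw [h2]
    interval_cases m <;> first | (exfalso; revert h1; decide) | norm_num

/-- The product with an axis. -/
noncomputable def amul (s : ZMod 2) (c : S) (u : U) : U :=
  mk ((2 : ℝ) • (pm c * mA u + mA u * pm c) + (4 * sg s * fS u c) • pm c)
    (fun e => trace (pm c * pm e) * fS u e + (if e = c then 4 * sg s * trace (mA u * pm c) else 0) +
      ∑ d : S, if c.1 + d.1 = e.1 then sg (bb c.1 d.1) * (4 * sg s) * fS u d else 0)
    (R (ax s c) *ᵥ wW u)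

theorem mA_amul (s : ZMod 2) (c : S) (u : U) :
    mA (amul s c u) = (2 : ℝ) • (pm c * mA u + mA u * pm c) + (4 * sg s * fS u c) • pm c :=
  mA_mk (by
    rw [transpose_add, transpose_smul, transpose_smul, transpose_add, transpose_mul, transpose_mul,
      pm_symm, mA_symm, add_comm (mA u * pm c)]) _ _

theorem fS_amul (s : ZMod 2) (c : S) (u : U) (e : S) : fS (amul s c u) e =
    trace (pm c * pm e) * fS u e + (if e = c then 4 * sg s * trace (mA u * pm c) else 0) +
      ∑ d : S, if c.1 + d.1 = e.1 then sg (bb c.1 d.1) * (4 * sg s) * fS u d else 0 := by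
  rw [amul, fS_mk]

theorem wW_amul (s : ZMod 2) (c : S) (u : U) : wW (amul s c u) = R (ax s c) *ᵥ wW u := by
  rw [amul, wW_mk]

theorem Dt_ax2 (s : ZMod 2) (c : S) (u w : U) :
    Dt u (ax s c) w = trace (mA u * pm c) * (4 * sg s) * fS w c := by
  rw [Dt, fS_ax, Finset.sum_eq_single c (fun x _ hx => by
    rw [Pi.single_eq_of_ne hx, mul_zero, zero_mul]) (fun h => absurd (Finset.mem_univ _) h),
    Pi.single_eq_same]

theorem Et_ax (s : ZMod 2) (c : S) (u w : U) : Et (ax s c) u w = ∑ e : S,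
    (∑ d : S, if c.1 + d.1 = e.1 then sg (bb c.1 d.1) * (4 * sg s) * fS u d else 0) * fS w e := by
  rw [Et, fS_ax, Finset.sum_eq_single c (fun x _ hx => by
    simp only [Pi.single_eq_of_ne hx, mul_zero, zero_mul, ite_self, Finset.sum_const_zero])
    (fun h => absurd (Finset.mem_univ _) h), Pi.single_eq_same, Finset.sum_comm]
  simp only [Finset.sum_mul, ite_mul, zero_mul]

theorem F_ax (s : ZMod 2) (c : S) (u w : U) : F (ax s c) u w = B (amul s c u) w := by
  rw [F, B, Dt_ax2, Dt_ax2, Et_ax, Wt_zero2 (wW_ax s c), Wt_zero2 (wW_ax s c), Wt, Dt, mA_ax,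
    mA_amul, wW_amul, dotProduct_mulVec, ← mulVec_transpose, R_symm,
    show fS (amul s c u) ⬝ᵥ fS w = ∑ e, fS (amul s c u) e * fS w e from rfl]
  simp only [fS_amul, add_mul, Finset.sum_add_distrib, ite_mul, zero_mul, Finset.sum_ite_eq',
    Finset.mem_univ, if_true, Matrix.smul_mul, trace_add, trace_smul, smul_eq_mul, smul_add]
  rw [trace_mul_comm (mA w)]
  ring

/-- The signed matrix of `x_c` on the odd part. -/
noncomputable def Xs (s : ZMod 2) (c : S) : Matrix (P × K) (P × K) ℝ :=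
  sg s • ((1 : Matrix P P ℝ) ⊗ₖ xm c.1)

/-- The matrix of `pm c` on the odd part. -/
noncomputable def Pm (c : S) : Matrix (P × K) (P × K) ℝ := pm c ⊗ₖ (1 : Matrix K K ℝ)

theorem Xs_sq (s : ZMod 2) (c : S) : Xs s c * Xs s c = 1 := by
  rw [Xs, Matrix.smul_mul, Matrix.mul_smul, smul_smul, sg_mul_self, one_smul, ← mul_kronecker_mul,
    xm_mul, bb_S, two_zmod, xm_zero, sg_zero, one_smul, mul_one, one_kronecker_one]

theorem Pm_sq (c : S) : Pm c * Pm c = (4 : ℝ) • Pm c := by
  rw [Pm, ← mul_kronecker_mul, pm_mul_self, mul_one, smul_kronecker]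

theorem Xs_Pm (s : ZMod 2) (c : S) : Xs s c * Pm c = Pm c * Xs s c := by
  rw [Xs, Pm, Matrix.smul_mul, Matrix.mul_smul, ← mul_kronecker_mul, ← mul_kronecker_mul, mul_one,
    one_mul, mul_one, one_mul]

theorem sub_kron {l m n p : Type*} (A A' : Matrix l m ℝ) (B : Matrix n p ℝ) :
    (A - A') ⊗ₖ B = A ⊗ₖ B - A' ⊗ₖ B := by
  ext ⟨i, u⟩ ⟨j, v⟩
  simp only [kronecker_apply, Matrix.sub_apply, sub_mul]

theorem R_ax (s : ZMod 2) (c : S) :
    R (ax s c) = Pm c + (1 / 2 : ℝ) • 1 + ((1 / 2 : ℝ) • Xs s c - Pm c * Xs s c) := by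
  rw [R_eq, mA_ax, fS_ax, trace_pm, Finset.sum_eq_single c (fun x _ hx => by
    rw [Pi.single_eq_of_ne hx, zero_smul]) (fun h => absurd (Finset.mem_univ _) h),
    Pi.single_eq_same, add_kronecker, smul_kronecker, one_kronecker_one, Nm, smul_kronecker,
    sub_kron, smul_kronecker, Pm, Xs, Matrix.mul_smul, ← mul_kronecker_mul, mul_one, one_mul]
  module

theorem R_ax_fix (s : ZMod 2) (c : S) (w : P × K → ℝ) :
    R (ax s c) *ᵥ w = w ↔ Xs s c *ᵥ w = w := by
  rw [R_ax]
  simp only [add_mulVec, sub_mulVec, smul_mulVec, one_mulVec, ← mulVec_mulVec]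
  constructor
  · intro h
    have h1 := congrArg (fun v => Xs s c *ᵥ v) h
    simp only [mulVec_add, mulVec_sub, mulVec_smul, mulVec_mulVec, Xs_sq, Xs_Pm, one_mulVec,
      ← mul_assoc] at h1
    simp only [mul_assoc, Xs_sq, mul_one, ← mulVec_mulVec] at h1
    have h2 : (2 : ℝ) • (Pm c *ᵥ (w - Xs s c *ᵥ w)) = w - Xs s c *ᵥ w := by
      rw [mulVec_sub]
      linear_combination (norm := module) h - h1
    have h3 := congrArg (fun v => Pm c *ᵥ v) h2
    simp only [mulVec_smul, mulVec_mulVec, Pm_sq, smul_mulVec] at h3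
    have h4 : Pm c *ᵥ (w - Xs s c *ᵥ w) = 0 := by
      linear_combination (norm := module) (1 / 7 : ℝ) • h3
    rw [h4, smul_zero] at h2
    exact (sub_eq_zero.1 h2.symm).symm
  · intro h
    rw [h]
    module

theorem tv_neg (s : ZMod 2) (c : S) (u : U) : tv s c u = -u ↔ mA u = 0 ∧
    (∀ d : S, bb c.1 d.1 + bb d.1 c.1 = 0 → fS u d = 0) ∧ Xs s c *ᵥ wW u = wW u := by
  have h3 : wW (tv s c u) = -(Xs s c *ᵥ wW u) := by
    rw [tv, wW_qe, Xs, smul_mulVec, sg_add, sg_one, neg_one_mul, neg_smul]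
  constructor
  · intro h
    refine ⟨eq_zero_of_neg (by rw [← mA_neg, ← h, tv, mA_qe]), fun d hd => eq_zero_of_neg ?_,
      neg_injective (by rw [← h3, h, wW_neg])⟩
    have := congrFun (congrArg fS h) d
    rwa [tv, fS_qe, hd, sg_zero, one_mul] at this
  · rintro ⟨h1, h2, h4⟩
    refine U_ext (by rw [tv, mA_qe, mA_neg, h1, neg_zero]) (funext fun d => ?_)
      (by rw [h3, h4, wW_neg])
    rw [tv, fS_qe, fS_neg, Pi.neg_apply]
    rcases z2 (bb c.1 d.1 + bb d.1 c.1) with h | h
    · rw [h2 d h, mul_zero, neg_zero]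
    · rw [h, sg_one, neg_one_mul]

theorem polar_of_add {c d e : S} (h : c.1 + d.1 = e.1) : bb c.1 d.1 + bb d.1 c.1 = 0 := by
  rw [bb_comm_of_S h, two_zmod]

theorem amul_fix (s : ZMod 2) (c : S) (u : U) : amul s c u = u ↔ mA u = 0 ∧
    (∀ d : S, bb c.1 d.1 + bb d.1 c.1 = 0 → fS u d = 0) ∧ Xs s c *ᵥ wW u = wW u := by
  constructor
  · intro h
    have hA := mA_amul s c u
    have hS := fS_amul s c u
    have hW := wW_amul s c u
    rw [h] at hA hS hW
    have hσ := sg_mul_self s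
    have a1 := hS c
    rw [if_pos rfl, Finset.sum_eq_zero (fun d _ => if_neg fun h => S_ne_zero d (by
      simpa using h)), pm_mul_self, trace_smul, trace_pm, smul_eq_mul] at a1
    have a2 := congrArg (fun M => trace (M * pm c)) hA
    simp only [add_mul, Matrix.smul_mul, trace_add, trace_smul, smul_eq_mul, mul_assoc, pm_mul_self,
      Matrix.mul_smul, trace_pm] at a2
    rw [trace_mul_comm (pm c), mul_assoc, pm_mul_self, Matrix.mul_smul, trace_smul,
      smul_eq_mul] at a2
    have a3 : fS u c = 0 := by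
      linear_combination (15 / 31) * a1 - (4 * sg s / 31) * a2 - (256 / 31 * fS u c) * hσ
    rw [a3, mul_zero, zero_smul, add_zero] at hA
    have a4 := congrArg (fun M => pm c * M) hA
    simp only [Matrix.mul_smul, mul_add, ← mul_assoc, pm_mul_self, Matrix.smul_mul] at a4
    have a5 := congrArg (fun M => M * pm c) hA
    simp only [Matrix.smul_mul, add_mul, mul_assoc (mA u), pm_mul_self, Matrix.mul_smul] at a5
    have a6 := congrArg (fun M => M * pm c) a4
    simp only [Matrix.smul_mul, add_mul, mul_assoc _ (pm c), pm_mul_self, Matrix.mul_smul] at a6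
    have a7 : mA u = 0 := by
      linear_combination (norm := module) hA - (2 / 7 : ℝ) • a4 - (2 / 7 : ℝ) • a5 + (8 / 105 : ℝ) • a6
    refine ⟨a7, fun d hd => ?_, (R_ax_fix s c _).1 hW.symm⟩
    by_cases e : d = c
    · rw [e, a3]
    have b1 := hS d
    rw [if_neg e] at b1
    by_cases e' : ∃ x : S, c.1 + x.1 = d.1
    · obtain ⟨x, hx⟩ := e'
      have b2 := hS x
      have hx' := add_eq_swap.1 hx
      rw [if_neg (fun h => S_ne_zero d (by rw [← hx, h, two_zmod])), trace_of_add hx,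
        Finset.sum_eq_single d (fun y _ hy => if_neg fun h => hy (Subtype.ext
          (add_left_cancel (h.trans hx'.symm)))) (fun h => absurd (Finset.mem_univ _) h),
        if_pos hx', ← hx, bb_add_right, bb_S, zero_add] at b2
      rw [trace_of_add hx', Finset.sum_eq_single x (fun y _ hy => if_neg fun h => hy (Subtype.ext
          (add_left_cancel (h.trans hx.symm)))) (fun h => absurd (Finset.mem_univ _) h),
        if_pos hx] at b1
      have hη := sg_mul_self (bb c.1 x.1)
      generalize sg (bb c.1 x.1) = η at *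
      linear_combination (3 / 7) * b1 - (4 * η * sg s / 7) * b2 -
        (16 / 7 * fS u d * sg s * sg s) * hη - (16 / 7 * fS u d) * hσ
    · rw [Finset.sum_eq_zero fun x _ => if_neg fun h => e' ⟨x, h⟩] at b1
      rcases trace_even hd (Ne.symm e) with h | h <;> rw [h] at b1 <;> linarith
  · rintro ⟨h1, h2, h3⟩
    refine U_ext ?_ (funext fun e => ?_) (by rw [wW_amul, (R_ax_fix s c _).2 h3])
    · rw [mA_amul, h1, h2 c (two_zmod _), mul_zero, zero_mul, add_zero, smul_zero, mul_zero,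
        zero_smul, add_zero]
    · rw [fS_amul, h1, zero_mul, trace_zero, mul_zero, ite_self, add_zero,
        Finset.sum_eq_zero fun d _ => ?_, add_zero]
      · rcases z2 (bb c.1 e.1 + bb e.1 c.1) with h | h
        · rw [h2 e h, mul_zero]
        · rw [trace_odd h, one_mul]
      · split_ifs with h
        · rw [h2 d (polar_of_add h), mul_zero]
        · rfl

/-- The eigenvalue-one space of the multiplication by the axis is the `-1` space of `tv`. -/
theorem eig_one (s : ZMod 2) (c : S) (u : U) :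
    (∀ w, F (ax s c) u w = B u w) ↔ tv s c u = -u := by
  rw [tv_neg, ← amul_fix]
  simp only [F_ax]
  exact ⟨B_ext, fun h w => by rw [h]⟩

theorem tv_mul_self (s : ZMod 2) (c : S) : tv s c * tv s c = 1 := by
  rw [tv, ← map_mul, qe_mul, two_zmod, two_zmod, bb_S, add_zero, rho_qe_zero]

theorem tv_mem_Aut (s : ZMod 2) (c : S) : tv s c ∈ Aut := rho_mem_Aut _

theorem invol_ext {a b : U ≃ₗ[ℝ] U} (ha : a ∈ Aut) (hb : b ∈ Aut) (ha2 : a * a = 1)
    (hb2 : b * b = 1) (h : ∀ u, a u = -u ↔ b u = -u) : a = b := by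
  have k1 : ∀ {a : U ≃ₗ[ℝ] U}, a * a = 1 → ∀ v, a (v - a v) = -(v - a v) := fun {a} ha v => by
    rw [map_sub, ← LinearEquiv.mul_apply, ha, neg_sub]; rfl
  have k2 : ∀ {a : U ≃ₗ[ℝ] U}, a ∈ Aut → ∀ v e, a e = -e → B (a v) e = -B v e :=
    fun {a} ha v e he => by
      rw [← ha.1 v e, he, B_comm _ (-e), B_neg_left, neg_neg, B_comm]
  refine LinearEquiv.ext fun v => sub_eq_zero.1 (B_self_eq_zero ?_)
  have : a (a v - b v) = -(a v - b v) := by
    have := (h _).2 (k1 hb2 v)
    rw [show a v - b v = (v - b v) - (v - a v) by abel, map_sub, this, k1 ha2]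
    abel
  rw [B_sub_left, k2 ha _ _ this, k2 hb _ _ ((h _).1 this), sub_self]

theorem conj_tv {g : U ≃ₗ[ℝ] U} (hg : g ∈ Aut) {s t : ZMod 2} {c d : S}
    (h : g (ax s c) = ax t d) : g * tv s c * g⁻¹ = tv t d := by
  refine invol_ext (mul_mem (mul_mem hg (tv_mem_Aut _ _)) (inv_mem hg)) (tv_mem_Aut _ _)
    (by rw [conj_mul, tv_mul_self, mul_one, mul_inv_cancel]) (tv_mul_self _ _) fun u => ?_
  obtain ⟨u, rfl⟩ := g.surjective u
  rw [← eig_one, ← LinearEquiv.mul_apply, inv_mul_cancel_right, LinearEquiv.mul_apply, ← map_neg,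
    g.injective.eq_iff, ← eig_one, ← h]
  refine ⟨fun e w => ?_, fun e w => by rw [← hg.2.1, e, hg.1]⟩
  obtain ⟨w, rfl⟩ := g.surjective w
  rw [hg.2.1, e, hg.1]

theorem tv_mul_tv (c : S) : tv 0 c * tv 1 c = zz := by
  rw [tv, tv, ← map_mul, qe_mul, two_zmod c.1, bb_S, two_zmod, add_zero, add_zero, add_zero, zz]

theorem mem_GG_of_fix {g : U ≃ₗ[ℝ] U} (hg : g ∈ Aut) {c : S} (h0 : g (ax 0 c) = ax 0 c)
    (h1 : g (ax 1 c) = ax 1 c) : g ∈ GG :=
  mem_GG_of_comm hg (by
    rw [← mul_inv_eq_iff_eq_mul, ← tv_mul_tv c, ← conj_mul, conj_tv hg h0, conj_tv hg h1])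

end H10.Mon
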