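import Mathlib
import Cfsg.Agent.H10.MEig

/-! # Simplicity; statements S0467, S0469. -/

set_option autoImplicit false
set_option linter.all false

namespace H10.Mon

open Cfsg H9 Matrix
open scoped commutatorElement

theorem four_bot {G : Type*} [Group G] (N : Subgroup G) [N.Normal] [Finite N] {a b : G}
    (ha : a * a = 1) (hb : b * b = 1) (h1 : ∀ n ∈ N, a * n * a⁻¹ = n → n = 1)
    (h2 : ∀ n ∈ N, b * n * b⁻¹ = n → n = 1) (h3 : ∀ n ∈ N, a * b * n * (a * b)⁻¹ = n → n = 1) :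
    N = ⊥ := by
  have k : ∀ {a : G}, a * a = 1 → (∀ n ∈ N, a * n * a⁻¹ = n → n = 1) →
      ∀ n ∈ N, a * n * a⁻¹ = n⁻¹ := fun {a} ha h n hn => by
    have := MonoidHom.FixedPointFree.coe_eq_inv_of_involutive
      (φ := (MulAut.conjNormal a : MulAut N))
      (fun m hm => Subtype.ext (h m m.2 (congrArg Subtype.val hm))) fun m => by
        rw [← MulAut.mul_apply, ← map_mul, ha, map_one, MulAut.one_apply]
    exact congrArg Subtype.val (congrFun this ⟨n, hn⟩)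
  refine (Subgroup.eq_bot_iff_forall _).2 fun n hn => h3 n hn ?_
  rw [show a * b * n * (a * b)⁻¹ = a * (b * n * b⁻¹) * a⁻¹ by group, k hb h2 n hn,
    k ha h1 _ (N.inv_mem hn), inv_inv]

/-- A four-group acting without fixed points modulo `Z`. -/
theorem four_amb {G : Type*} [Group G] {H N Z : Subgroup G} [Finite H] (hN : N ≤ H)
    (hNn : ∀ g ∈ H, ∀ n ∈ N, g * n * g⁻¹ ∈ N) (hZ : ∀ g ∈ H, ∀ n ∈ Z, g * n * g⁻¹ ∈ Z) {a b : G}
    (ha : a ∈ H) (hb : b ∈ H) (ha2 : a * a = 1) (hb2 : b * b = 1)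
    (h1 : ∀ n ∈ N, a * n * a⁻¹ * n⁻¹ ∈ Z → n ∈ Z) (h2 : ∀ n ∈ N, b * n * b⁻¹ * n⁻¹ ∈ Z → n ∈ Z)
    (h3 : ∀ n ∈ N, a * b * n * (a * b)⁻¹ * n⁻¹ ∈ Z → n ∈ Z) : N ≤ Z := by
  haveI : (N.subgroupOf H).Normal := ⟨fun n hn g => hNn g g.2 n hn⟩
  haveI : (Z.subgroupOf H).Normal := ⟨fun n hn g => hZ g g.2 n hn⟩
  let π := QuotientGroup.mk' (Z.subgroupOf H)
  haveI : ((N.subgroupOf H).map π).Normal :=
    Subgroup.Normal.map inferInstance π (QuotientGroup.mk'_surjective _)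
  have k : ∀ {a : H}, (∀ n ∈ N, a * n * (a : G)⁻¹ * n⁻¹ ∈ Z → n ∈ Z) →
      ∀ n ∈ (N.subgroupOf H).map π, π a * n * (π a)⁻¹ = n → n = 1 := by
    rintro a h _ ⟨n, hn, rfl⟩ e
    rw [← mul_inv_eq_one, ← map_inv, ← map_inv, ← map_mul, ← map_mul, ← map_mul] at e
    exact (QuotientGroup.eq_one_iff _).2
      (h n hn ((QuotientGroup.eq_one_iff (N := Z.subgroupOf H) (a * n * a⁻¹ * n⁻¹)).1 e))
  have := four_bot ((N.subgroupOf H).map π) (a := π ⟨a, ha⟩) (b := π ⟨b, hb⟩)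
    (by rw [← map_mul, show (⟨a, ha⟩ : H) * ⟨a, ha⟩ = 1 from Subtype.ext ha2, map_one])
    (by rw [← map_mul, show (⟨b, hb⟩ : H) * ⟨b, hb⟩ = 1 from Subtype.ext hb2, map_one])
    (k h1) (k h2) (by rw [← map_mul]; exact k (a := ⟨a, ha⟩ * ⟨b, hb⟩) h3)
  intro n hn
  have h4 : π ⟨n, hN hn⟩ ∈ (N.subgroupOf H).map π := ⟨_, hn, rfl⟩
  rw [this] at h4
  exact (QuotientGroup.eq_one_iff (N := Z.subgroupOf H) _).1 h4

theorem MM_le_Aut {τ : U ≃ₗ[ℝ] U} (h : Tri τ) : MM τ ≤ Aut :=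
  sup_le GG_le_Aut (Subgroup.zpowers_le.2 h.aut)

theorem GG_le_MM (τ : U ≃ₗ[ℝ] U) : GG ≤ MM τ := le_sup_left
theorem rho_mem_MM (τ : U ≃ₗ[ℝ] U) (g : GT) : rho g ∈ MM τ := GG_le_MM τ ⟨g, rfl⟩
theorem tau_mem_MM (τ : U ≃ₗ[ℝ] U) : τ ∈ MM τ :=
  (le_sup_right : _ ≤ MM τ) (Subgroup.mem_zpowers τ)

theorem exists_polar_one {c : C} (h : c ≠ 0) : ∃ d, bb c d + bb d c = 1 := by
  by_contra hc
  push Not at hc
  exact h (polar_nondeg fun d => (z2 _).resolve_right (hc d))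

theorem qe_mem_of_zz {N : Subgroup (U ≃ₗ[ℝ] U)} (hz : zz ∈ N) {s : ZMod 2} {c : C}
    (h : rho (qe s c) ∈ N) (t : ZMod 2) : rho (qe t c) ∈ N := by
  have := N.mul_mem (Subgroup.zpowers_le.2 hz (qe0_mem (t + s))) h
  rwa [← map_mul, qe_mul, zero_add, bb_zero_left, add_zero, add_assoc, two_zmod, add_zero] at this

/-- The classes whose elements lie in `N`. -/
def Wc (N : Subgroup (U ≃ₗ[ℝ] U)) (hz : zz ∈ N) : AddSubgroup C where
  carrier := {c | rho (qe 0 c) ∈ N}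
  zero_mem' := by rw [Set.mem_setOf_eq, rho_qe_zero]; exact N.one_mem
  add_mem' := fun {a b} ha hb => by
    have := N.mul_mem ha hb
    rw [← map_mul, qe_mul] at this
    exact qe_mem_of_zz hz this 0
  neg_mem' := fun {a} ha => by rwa [neg_eq_iff_add_eq_zero.2 (two_zmod a)]

theorem mem_Wc {N : Subgroup (U ≃ₗ[ℝ] U)} {hz : zz ∈ N} {c : C} :
    c ∈ Wc N hz ↔ rho (qe 0 c) ∈ N := Iff.rfl

theorem smul_mem_Wc {N : Subgroup (U ≃ₗ[ℝ] U)} {hz : zz ∈ N} {g : GT}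
    (hg : ∀ n ∈ N, rho g * n * (rho g)⁻¹ ∈ N) {c : C} (h : c ∈ Wc N hz) : co g • c ∈ Wc N hz := by
  have := hg _ h
  rw [← map_inv, ← map_mul, ← map_mul, conj_qe] at this
  exact qe_mem_of_zz hz this 0

/-- A short vector orthogonal to `vU` with inner product 16 with `vU'`. -/
def cW : ℕ := 0x00120012001000100010001200120012001000120010000e00100010001000100010001000100010001000100010000e

theorem exists_w16 : ∃ w : L, sqNorm (w : V) = 32 ∧ dU w = 0 ∧ dU' w = 16 := by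
  have h : (lv cW : V) = vc cW := lv_coe (by decide +kernel)
  refine ⟨lv cW, ?_, ?_, ?_⟩
  · rw [h, norm_vc]; decide +kernel
  · rw [dU, h, vU_eq, dot_vc]; decide +kernel
  · rw [dU', h, vU'_eq, dot_vc]; decide +kernel

theorem eq_top_of_Om (W : AddSubgroup C) (h1 : ∀ h : G0, ∀ c ∈ W, h • c ∈ W) (h2 : Om ∈ W) (c : C) :
    c ∈ W := by
  obtain ⟨w, w1, w2, w3⟩ := exists_w16
  obtain ⟨g, g1, g2⟩ := std_Uy norm_vU' norm_vU w1 (dU_vU'.trans w2.symm)
  have h3 := W.add_mem h2 (h1 g _ h2)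
  rw [Om, smul_kap, ← vU_add_vU', co_add, g1, g2, map_add, map_add, add_add_add_comm, two_zmod,
    zero_add, ← kap_neg w, ← map_add] at h3
  have h4 : sqNorm ((vU' + -w : L) : V) = 32 := by
    rw [AddSubgroup.coe_add, sqNorm_add, norm_vU', norm_negL, w1, dot_negR, ← dU', w3]; norm_num
  refine C_induction W.zero_mem (fun d => ?_) (fun _ _ => W.add_mem) c
  obtain ⟨h, rfl⟩ := trans_S ⟨_, _, h4, rfl⟩ d
  exact h1 h _ h3

theorem comm_mem {G : Type*} [Group G] {N : Subgroup G} {n q : G} (hn : n ∈ N)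
    (h : q * n⁻¹ * q⁻¹ ∈ N) : ⁅n, q⁆ ∈ N := by
  rw [commutatorElement_def, mul_assoc, mul_assoc, ← mul_assoc q]
  exact N.mul_mem hn h

theorem rho_commutator (g : GT) (t : ZMod 2) (d : C) :
    ∃ s, ⁅rho g, rho (qe t d)⁆ = rho (qe s (co g • d + d)) :=
  ⟨_, by rw [← map_commutatorElement, commutatorElement_def, conj_qe, qe_inv, qe_mul]⟩

theorem xO_mul_self {τ : U ≃ₗ[ℝ] U} (h : Tri τ) : xO * xO = 1 := by
  rw [← h.zz_conj, conj_mul, zz_mul_self, mul_one, mul_inv_cancel]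

theorem conj_comm {G : Type*} [Group G] (x z n : G) :
    x * z * x⁻¹ * n * (x * z * x⁻¹)⁻¹ * n⁻¹ =
      x * (z * (x⁻¹ * n * x⁻¹⁻¹) * z⁻¹ * (x⁻¹ * n * x⁻¹⁻¹)⁻¹) * x⁻¹ := by group

/-- If `z` has no fixed points on `N` modulo `Z`, then `N ≤ Z`. -/
theorem le_of_fpf {τ : U ≃ₗ[ℝ] U} (h : Tri τ) {H N Z : Subgroup (U ≃ₗ[ℝ] U)} [Finite H]
    (hN : N ≤ H) (hNn : ∀ g ∈ H, ∀ n ∈ N, g * n * g⁻¹ ∈ N)
    (hZ : ∀ g ∈ H, ∀ n ∈ Z, g * n * g⁻¹ ∈ Z) (hz : zz ∈ H) (hτ : τ ∈ H)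
    (h1 : ∀ n ∈ N, zz * n * zz⁻¹ * n⁻¹ ∈ Z → n ∈ Z) : N ≤ Z := by
  have k : ∀ {a}, (∀ n ∈ N, a * n * a⁻¹ * n⁻¹ ∈ Z → n ∈ Z) →
      ∀ n ∈ N, τ * a * τ⁻¹ * n * (τ * a * τ⁻¹)⁻¹ * n⁻¹ ∈ Z → n ∈ Z := fun {a} ha n hn e => by
    rw [conj_comm] at e
    have e1 := hZ _ (H.inv_mem hτ) _ e
    rw [inv_inv τ, ← mul_assoc, ← mul_assoc, inv_mul_cancel, one_mul, inv_mul_cancel_right] at e1
    have e2 := hZ _ hτ _ (ha _ (hNn _ (H.inv_mem hτ) _ hn) (by rwa [inv_inv]))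
    rwa [inv_inv, ← mul_assoc, ← mul_assoc, mul_inv_cancel, one_mul, mul_inv_cancel_right] at e2
  have h2 := k h1
  rw [h.zz_conj] at h2
  have h3 := k h2
  rw [h.xO_conj] at h3
  exact four_amb hN hNn hZ hz (h.zz_conj ▸ H.mul_mem (H.mul_mem hτ hz) (H.inv_mem hτ)) zz_mul_self
    (xO_mul_self h) h1 h2 h3

theorem normal_MM {τ : U ≃ₗ[ℝ] U} (h : Tri τ) [Finite (MM τ)] {N : Subgroup (U ≃ₗ[ℝ] U)}
    (hN : N ≤ MM τ) (hn : ∀ g ∈ MM τ, ∀ n ∈ N, g * n * g⁻¹ ∈ N) (h1 : N ≠ ⊥) : MM τ ≤ N := by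
  have hq : ∀ {n}, n ∈ N → ∀ g, ⁅n, rho g⁆ ∈ N := fun hn' g =>
    comm_mem hn' (hn _ (rho_mem_MM τ g) _ (N.inv_mem hn'))
  obtain ⟨n, n1, n2, n3⟩ : ∃ n ∈ N, n ∈ GG ∧ n ≠ 1 := by
    by_contra hc
    push Not at hc
    refine h1 (le_bot_iff.1 (le_of_fpf h hN hn (fun g _ n hn => by
      rw [Subgroup.mem_bot.1 hn, mul_one, mul_inv_cancel]; exact one_mem _)
      (rho_mem_MM τ _) (tau_mem_MM τ) fun n hn e => hc n hn (mem_GG_of_comm (MM_le_Aut h (hN hn)) ?_)))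
    rw [Subgroup.mem_bot, mul_inv_eq_one, mul_inv_eq_iff_eq_mul] at e
    exact e.symm
  have hz : zz ∈ N := by
    by_contra hz
    have k : ∀ s c, rho (qe s c) ∈ N → rho (qe s c) = 1 := fun s c hc => by
      by_cases e : c = 0
      · rw [e] at hc ⊢
        rcases z2 s with rfl | rfl
        exacts [rho_qe_zero, absurd hc hz]
      · obtain ⟨d, hd⟩ := exists_polar_one e
        have := hq hc (qe 0 d)
        rw [qe_commutator, hd] at this
        exact absurd this hz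
    rcases cent_QQ n2 (fun q hq' => by
      obtain ⟨t, d, rfl⟩ := mem_QQ.1 hq'
      obtain ⟨g, rfl⟩ := n2
      have := hq n1 (qe t d)
      obtain ⟨s, hs⟩ := rho_commutator g t d
      rw [hs] at this
      exact commutatorElement_eq_one_iff_mul_comm.1 (hs.trans (k _ _ this))) with e | e
    exacts [n3 e, hz (e ▸ n1)]
  have hW := eq_top_of_Om (Wc N hz) (fun g c hc => by
    obtain ⟨g, rfl⟩ := co_surj g
    exact smul_mem_Wc (hn _ (rho_mem_MM τ g)) hc)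
    (by rw [mem_Wc, ← xO, ← h.zz_conj]; exact hn _ (tau_mem_MM τ) _ hz)
  have hG : GG ≤ N := by
    obtain ⟨c, g, -, e1, e2⟩ := h.out
    have a1 : rho g ∈ N := e1 ▸ hn _ (tau_mem_MM τ) _ (hW c)
    haveI : (N.comap rho).Normal := ⟨fun n hn' g => by
      rw [Subgroup.mem_comap, map_mul, map_mul, map_inv]; exact hn _ (rho_mem_MM τ g) _ hn'⟩
    haveI : ((N.comap rho).map co).Normal := Subgroup.Normal.map inferInstance co co_surj
    have a2 : neg1 ∈ (N.comap rho).map co :=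
      ⟨m1, by rw [SetLike.mem_coe, Subgroup.mem_comap, rho_m1]; exact N.one_mem, co_m1⟩
    rcases normal_G0 _ a2 with a3 | a3
    · exact absurd (mem_center_G0.2 ((eq_of_card_two a3 a2).1 ⟨g, a1, rfl⟩)) e2
    · rintro _ ⟨g, rfl⟩
      obtain ⟨k, k1, k2⟩ : co g ∈ (N.comap rho).map co := a3 ▸ Subgroup.mem_top _
      obtain ⟨t, c, e⟩ := (co_eq_one (g := k⁻¹ * g)).1 (by
        rw [map_mul, map_inv, k2, inv_mul_cancel])
      rw [← mul_inv_cancel_left k g, map_mul, e]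
      exact N.mul_mem k1 (qe_mem_of_zz hz (hW c) t)
  refine sup_le hG (Subgroup.zpowers_le.2 ?_)
  obtain ⟨c, hc⟩ := h.inv
  have := comm_mem (hW c) (hn _ (tau_mem_MM τ) _ (N.inv_mem (hW c)))
  rwa [commutatorElement_def, hc, ← mul_one (τ⁻¹ * τ⁻¹), ← h.cube, pow_succ, sq, ← mul_assoc,
    show τ⁻¹ * τ⁻¹ * (τ * τ) = 1 by group, one_mul] at this

theorem simple_of_amb {G : Type*} [Group G] {H : Subgroup G} (h0 : H ≠ ⊥)
    (h : ∀ N ≤ H, (∀ g ∈ H, ∀ n ∈ N, g * n * g⁻¹ ∈ N) → N ≠ ⊥ → H ≤ N) : IsSimpleGroup H := by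
  haveI := (Subgroup.nontrivial_iff_ne_bot H).2 h0
  refine ⟨fun N hN => or_iff_not_imp_left.2 fun h1 => ?_⟩
  have := h (N.map H.subtype) (Subgroup.map_subtype_le N)
    (by rintro g hg _ ⟨n, hn, rfl⟩; exact ⟨_, hN.conj_mem n hn ⟨g, hg⟩, rfl⟩)
    fun e => h1 ((Subgroup.map_eq_bot_iff_of_injective _ H.subtype_injective).1 e)
  rw [eq_top_iff]
  intro x _
  obtain ⟨n, hn, e⟩ := this x.2
  exact (Subtype.ext e : n = x) ▸ hn

theorem simple_MM {τ : U ≃ₗ[ℝ] U} (h : Tri τ) [Finite (MM τ)] : IsSimpleGroup (MM τ) :=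
  simple_of_amb (fun e => zz_ne_one (Subgroup.mem_bot.1 (e ▸ rho_mem_MM τ _)))
    fun _ => normal_MM h

theorem exists_GL {W : Type*} [AddCommGroup W] [Module ℝ W] [Module.Finite ℝ W] {n : ℕ}
    (hn : Module.finrank ℝ W = n) {G : Type*} [Group G] (f : G →* Module.End ℝ W)
    (hf : Function.Injective f) : ∃ H : Subgroup (GL (Fin n) ℝ), Nonempty (G ≃* H) := by
  let b := Module.finBasisOfFinrankEq ℝ W hn
  let φ : G →* GL (Fin n) ℝ := ((LinearMap.toMatrixAlgEquiv b).toMulEquiv.toMonoidHom.comp f).toHomUnits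
  exact ⟨φ.range, ⟨MonoidHom.ofInjective fun x y e =>
    hf ((LinearMap.toMatrixAlgEquiv b).injective (congrArg Units.val e))⟩⟩

theorem exists_GL' {W : Type*} [AddCommGroup W] [Module ℝ W] [Module.Finite ℝ W] {n : ℕ}
    (hn : Module.finrank ℝ W = n) {G : Type*} [Group G] (f : G →* Module.End ℝ W)
    (hf : Function.Injective f) (h : Cfsg.IsM G) : ∃ H : Subgroup (GL (Fin n) ℝ), Cfsg.IsM H := by
  obtain ⟨H, ⟨e⟩⟩ := exists_GL hn f hf
  haveI := h.1
  exact ⟨H, e.symm.isSimpleGroup, (Nat.card_congr e.toEquiv).symm.trans h.2⟩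

theorem finrank_U : Module.finrank ℝ U = 196884 := by
  rw [Module.finrank_fintype_fun_eq_card, Fintype.card_sum, Fintype.card_sum, Fintype.card_prod,
    Sym2.card, card_P, card_K, card_S]
  norm_num [Nat.choose]

/-- The inner product with `one`. -/
noncomputable def trL : U →ₗ[ℝ] ℝ where
  toFun u := B u one
  map_add' u v := B_add_left u v one
  map_smul' a u := B_smul_left a u one

theorem trL_apply (u : U) : trL u = B u one := rfl

theorem trL_one : trL one = 24 := by rw [trL_apply, B_one, mA_one, trace_one, card_P]; norm_num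

theorem finrank_ker : Module.finrank ℝ (LinearMap.ker trL) = 196883 := by
  have := Module.Dual.finrank_ker_add_one_of_ne_zero (f := trL) fun h => by
    have := trL_one
    rw [h, LinearMap.zero_apply] at this
    norm_num at this
  rw [finrank_U] at this
  omega

theorem trL_aut {g : U ≃ₗ[ℝ] U} (hg : g ∈ Aut) (u : U) : trL (g u) = trL u := by
  rw [trL_apply, trL_apply, ← hg.1 u, hg.2.2]

/-- The action on the orthogonal complement of `one`. -/
noncomputable def resA : Aut →* Module.End ℝ (LinearMap.ker trL) where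
  toFun g := g.1.toLinearMap.restrict fun u hu => (trL_aut g.2 u).trans hu
  map_one' := rfl
  map_mul' _ _ := rfl

theorem resA_inj : Function.Injective resA := (injective_iff_map_eq_one _).2 fun g hg =>
  Subtype.ext (LinearEquiv.ext fun v => by
    have h1 : v - (trL v / 24) • one ∈ LinearMap.ker trL := by
      rw [LinearMap.mem_ker, map_sub, map_smul, trL_one, smul_eq_mul]; ring
    have h2 : g.1 (v - (trL v / 24) • one) = v - (trL v / 24) • one :=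
      congrArg Subtype.val (LinearMap.congr_fun hg ⟨_, h1⟩)
    rw [map_sub, map_smul, g.2.2.2, sub_left_inj] at h2
    exact h2)

theorem s0467 {τ : U ≃ₗ[ℝ] U} (h : Tri τ)
    (hc : Nat.card (MM τ) = 808017424794512875886459904961710757005754368000000000) :
    ∃ H : Subgroup (GL (Fin 196883) ℝ), Cfsg.IsM H := by
  haveI : Finite (MM τ) := Nat.finite_of_card_ne_zero (by rw [hc]; norm_num)
  exact exists_GL' finrank_ker (resA.comp (Subgroup.inclusion (MM_le_Aut h)))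
    (resA_inj.comp (Subgroup.inclusion_injective _)) ⟨simple_MM h, hc⟩

theorem xs_comap {G G' : Type*} [Group G] [Group G'] {p : ℕ} {f : G' →* G}
    (hf : Function.Injective f) {z : G'} {K : Subgroup G} (h : H3.XS p (f z) K)
    (hK : K ≤ f.range) : H3.XS p z (K.comap f) := by
  have k : ∀ {x}, f x ∈ Subgroup.zpowers (f z) → x ∈ Subgroup.zpowers z := fun ⟨n, hn⟩ =>
    ⟨n, hf (by rw [map_zpow]; exact hn)⟩
  refine ⟨(orderOf_injective f hf z).symm.trans h.ord, h.mem,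
    fun x hx => hf (by rw [map_mul, map_mul]; exact h.central _ hx),
    fun x hx y hy => k (by rw [map_commutatorElement]; exact h.comm _ hx _ hy),
    fun x hx => k (by rw [map_pow]; exact h.pow _ hx),
    fun x hx e => k (h.center_le _ hx fun y hy => ?_)⟩
  obtain ⟨y, rfl⟩ := hK hy
  exact (e y hy).map f

/-- The central involution as an element of `MM τ`. -/
noncomputable def zM (τ : U ≃ₗ[ℝ] U) : MM τ := ⟨zz, rho_mem_MM τ _⟩

theorem mem_cent_zM {τ : U ≃ₗ[ℝ] U} (h : Tri τ) {x : MM τ} :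
    x ∈ Subgroup.centralizer ({zM τ} : Set (MM τ)) ↔ x.1 ∈ GG := by
  rw [Subgroup.mem_centralizer_singleton_iff]
  refine ⟨fun e => mem_GG_of_comm (MM_le_Aut h x.2) (congrArg Subtype.val e), ?_⟩
  rintro ⟨g, hg⟩
  exact Subtype.ext (by have := zz_comm g; rwa [hg] at this)

theorem cent_zM {τ : U ≃ₗ[ℝ] U} (h : Tri τ) :
    Subgroup.centralizer ({zM τ} : Set (MM τ)) = GG.subgroupOf (MM τ) :=
  Subgroup.ext fun _ => mem_cent_zM h

theorem s0469 {τ : U ≃ₗ[ℝ] U} (h : Tri τ)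
    (hc : Nat.card (MM τ) = 808017424794512875886459904961710757005754368000000000) :
    ∃ (G : Type) (_ : Group G) (_ : Finite G), Cfsg.IsM G ∧ ∃ z : G, orderOf z = 2 ∧
      ∃ (Q : Subgroup (Subgroup.centralizer ({z} : Set G))) (_ : Q.Normal), Nat.card Q = 2 ^ 25 ∧
        Cfsg.IsExtraspecial 2 Q ∧ Cfsg.IsCo1 ((Subgroup.centralizer ({z} : Set G)) ⧸ Q) := by
  haveI : Finite (MM τ) := Nat.finite_of_card_ne_zero (by rw [hc]; norm_num)
  refine ⟨MM τ, inferInstance, inferInstance, ⟨simple_MM h, hc⟩, zM τ,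
    (Subgroup.orderOf_coe _).symm.trans orderOf_zz, ?_⟩
  rw [cent_zM h]
  let e := Subgroup.subgroupOfEquivOfLe (GG_le_MM τ)
  let f : GG.subgroupOf (MM τ) →* (U ≃ₗ[ℝ] U) := GG.subtype.comp e.toMonoidHom
  have hf : Function.Injective f := GG.subtype_injective.comp e.injective
  have hr : QQ ≤ f.range := fun q hq => ⟨e.symm ⟨q, QQ_le_GG hq⟩, rfl⟩
  have hk : (piG.comp e.toMonoidHom).ker = QQ.comap f := by
    rw [← MonoidHom.comap_ker, ker_piG]; rfl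
  have c1 : Nat.card (QQ.comap f) = 2 ^ 25 := by
    rw [← Subgroup.card_map_of_injective hf, Subgroup.map_comap_eq_self hr, card_QQ]
  have hX := xs_comap hf (z := e.symm ⟨zz, QQ_le_GG xs_QQ.mem⟩) xs_QQ hr
  have := simple_Co1
  let q := QuotientGroup.quotientKerEquivOfSurjective (piG.comp e.toMonoidHom)
    (piG_surj.comp e.surjective)
  refine ⟨(piG.comp e.toMonoidHom).ker, inferInstance, hk ▸ c1, hk ▸ xs_extra hX fun a => ?_,
    q.isSimpleGroup, (Nat.card_congr q.toEquiv).trans card_Co1⟩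
  rw [← a, Nat.card_zpowers, hX.ord] at c1
  norm_num at c1

end H10.Mon
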