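import Mathlib
import Cfsg.Prelude.Def_SporadicB
import Cfsg.Agent.H9.TT
import Cfsg.Agent.H10.MSimple

/-! # The centraliser `2.B`; statement S0468. -/

set_option autoImplicit false
set_option linter.all false

namespace H10.Mon

open Cfsg H9 Matrix MulAction
open scoped commutatorElement

/-- The class of a coded vector. -/
def kapC (n : ℕ) : C := (fun j => ((dotC n (fC.getD j 0) / 8 : ℤ) : ZMod 2),
  fun j => ((dotC n (eC.getD j 0) / 8 : ℤ) : ZMod 2))

theorem kap_code {x : L} {n : ℕ} (h : (x : V) = vc n) : kap x = kapC n := by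
  refine Prod.ext (funext fun j => ?_) (funext fun j => ?_)
  · rw [kap_fst, ip_apply, h, fL_coe, dot_vc]; rfl
  · rw [kap_snd, ip_apply, h, eL_coe, dot_vc]; rfl

theorem c0_val : c0.1 = kap vU' := rfl

theorem c0_code : c0.1 = kapC cU' := kap_code vU'_eq

def sv1 : List (List ℕ) := [[0x0010001000100010001000100010001000100010001000100010001000100010001000100010001000100014000c0010, 0x0010000e001200100012001000100012001000100012001000100010001000100012000e001000120010001000100010, 0x001000100010000e0010001200100010000e001000100012000e000e0012001200100010001000100010001000100010],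
  [0x0010001000100010001000100010001000100010001000100010001000100010001000100010001000100014000c0010, 0x001000100012001200100012001000100012001000100012001000100010001000100012000e0010000e001000100010, 0x0010001000100010000e0010001200100010000e001000100012000e0012000e00120010001000100010001000100010, 0x00140010001000100010001000100010001000100010001000100010001000100010001000100010001000100010000c],
  [0x0010001000100010001000100010001000100010001000100010001000100010001000100010001000100014000c0010, 0x0010000e001000100010001000120012001000120012001000100010001000100010001000120012000e001000100010, 0x001000100010000e0010001200100010000e001000100012000e000e0012001200100010001000100010001000100010],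
  [0x0010001000100010001000100010001000100010001000100010001000100010001000100010001000100014000c0010, 0x0010000e001000100010001000120012001000120012001000100010001000100010001000120012000e001000100010, 0x00100010001200120012001000100010000e0010001000100010000e000e0010000e0012001000100010001000100010, 0x00140010001000100010001000100010001000100010001000100010001000100010001000100010001000100010000c],
  [0x001200100010001000120012001200100012001000120010001000100010001000100010001000100010001000120012],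
  [],
  [0x0010001200100012001000100010001000100010000e001200100010001000100010000e0010000e000e001000120010],
  [0x00100012001000100012001000100010000e0010001000120010001000100010000e000e00100010000e001200100010],
  [0x00100010001000120012000e001000100010001000100012001000100010000e001000100010000e000e001200100010],
  [0x00100010001000120010001000120010000e0010001000120010000e001000100010000e0010000e0010001200100010],
  [0x000e0010001200100010001200100012001200100010001000100010001000100010001000120010001000120010000e],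
  [0x0010001000120010001200100012000e00100010000e0010001000100010001000100010001200100010001200120010, 0x00110011000f00130011000f00110011000f00110011000f00110011001100110011000f000f0011000f001100110011]]

def sv2 : List (List ℕ) := [[0x00100010001000100010001000100010001000140010001000100010000c001000100010001000100010001000100010],
  [0x001000100010001400100010001000100010001000100010001000100010001000100010001000140010001000100010, 0x00140010001000100010001000100010001000100010001000100010001000100010001000100010001000100010000c],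
  [0x001000100010001000100010001000100010001000100010001000100010001000100010001000140010001000140010, 0x001000100010001000100010001400100010001000100010001000100010001400100010001000100010001000100010],
  [0x00100010001000100010001000100010001000100010001000140010000c001000100010001000100010001000100010],
  [0x001000100010001000100010001000100010001000100010001000100010001000100010001400100014001000100010, 0x00100010001000140010001000100010000c001000100010001000100010001000100010001000100010001000100010, 0x00140010001000100010001000100010001000100010001000100010001000100010001000100010001000100010000c],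
  [0x001000100010001000100010001000100010001000100014000c00100010001000100010001000100010001000100010],
  [0x001000100010001000100010001000100010001000100010001000100010001000100014001000140010001000100010, 0x0010001000100010001400100010001000100010000c0010001000100010001000100010001000100010001000100010, 0x00140010001000100010001000100010001000100010001000100010001000100010001000100010001000100010000c],
  [0x001000100010001000100010001000100010001000100010001000100010001000100014001000100014001000100010, 0x001000100010001000140010001400100010001000100010001000100010001000100010001000100010001000100010],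
  [0x001000100010001000100010001000100010001000100010001400100010000c00100010001000100010001000100010],
  [0x00100010001000100010001000100010001000100010001000100014000c001000100010001000100010001000100010],
  [0x001000100010001000100010001000100010001400100010001000100010001000100010000c00100010001000100010],
  [0x001400100010001000100010001000100010001000100010001000100010001000100010001000100010001000100014, 0x00140010001000100010001000100010001000100010001000100010001000100010001000100010001000100010000c]]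

/-- The coded vector is short and orthogonal or equal to `vU'`. -/
def okS (n : ℕ) : Bool :=
  inL n && decide (dotC n n = 32) && (decide (dotC cU' n = 0) || Nat.beq n cU')

/-- A class not orthogonal to `c0`. -/
def bs : C := (Pi.single 5 1, 0)

theorem sv_ok : (sv1 ++ sv2).all (fun l => l.all okS) = true := by decide +kernel

theorem sv1_sum : ∀ j : Fin 12, ((Pi.single j 1, 0) : C) +
    (bb (Pi.single j 1, 0) (kapC cU') + bb (kapC cU') (Pi.single j 1, 0)) • bs =
      ((sv1.getD j []).map kapC).sum := by decide +kernel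

theorem sv2_sum : ∀ j : Fin 12, ((0, Pi.single j 1) : C) +
    (bb (0, Pi.single j 1) (kapC cU') + bb (kapC cU') (0, Pi.single j 1)) • bs =
      ((sv2.getD j []).map kapC).sum := by decide +kernel

theorem C_basis (T : AddSubgroup C) (h1 : ∀ j, ((Pi.single j 1, 0) : C) ∈ T)
    (h2 : ∀ j, ((0, Pi.single j 1) : C) ∈ T) (c : C) : c ∈ T := by
  rw [← kap_sec c, sec, map_add, map_sum, map_sum]
  refine T.add_mem (T.sum_mem fun j _ => ?_) (T.sum_mem fun j _ => ?_)
  · rw [map_nsmul, kap_eL]; exact T.nsmul_mem (h1 j) _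
  · rw [map_nsmul, kap_fL]; exact T.nsmul_mem (h2 j) _

theorem span_perp (W : AddSubgroup C) (h0 : c0.1 ∈ W)
    (h : ∀ y : L, sqNorm (y : V) = 32 → dU' y = 0 → kap y ∈ W) {c : C}
    (hc : bb c c0.1 + bb c0.1 c = 0) : c ∈ W := by
  have k : ∀ l ∈ sv1 ++ sv2, (l.map kapC).sum ∈ W := fun l hl => by
    refine W.list_sum_mem fun x hx => ?_
    obtain ⟨n, hn, rfl⟩ := List.mem_map.1 hx
    have := List.all_eq_true.1 (List.all_eq_true.1 sv_ok l hl) n hn
    simp only [okS, Bool.and_eq_true, Bool.or_eq_true, decide_eq_true_eq, Nat.beq_eq] at this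
    obtain ⟨⟨a1, a2⟩, a3 | rfl⟩ := this
    · rw [← kap_code (lv_coe a1)]
      exact h _ (by rw [lv_coe a1, norm_vc, a2]) (by rw [dU', lv_coe a1, vU'_eq, dot_vc, a3])
    · rwa [← c0_code]
  let φ : C →+ C := AddMonoidHom.mk' (fun c => c + (bb c c0.1 + bb c0.1 c) • bs) fun a b => by
    rw [bb_add_left, bb_add_right, add_add_add_comm (bb a c0.1), add_smul, add_add_add_comm]
  have := C_basis (W.comap φ) (fun j => by
      change _ + _ ∈ W
      rw [c0_code, sv1_sum]
      exact k _ (List.mem_append_left _ (by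
        rw [List.getD_eq_getElem _ _ j.2]; exact List.getElem_mem _)))
    (fun j => by
      change _ + _ ∈ W
      rw [c0_code, sv2_sum]
      exact k _ (List.mem_append_right _ (by
        rw [List.getD_eq_getElem _ _ j.2]; exact List.getElem_mem _))) c
  change _ + _ ∈ W at this
  rwa [hc, zero_smul, add_zero] at this

theorem perp_perp {e : C} (h : ∀ d, bb d c0.1 + bb c0.1 d = 0 → bb e d + bb d e = 0) :
    e = 0 ∨ e = c0.1 := by
  obtain ⟨b, hb⟩ := exists_polar_one (S_ne_zero c0)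
  have h2 : (2 : ZMod 2) = 0 := rfl
  have k : ∀ d, bb d c0.1 + bb c0.1 d = 1 → bb e d + bb d e = bb e b + bb b e := fun d hd => by
    have := h (d + b) (by rw [bb_add_left, bb_add_right]; linear_combination hd + hb + h2)
    rw [bb_add_left, bb_add_right] at this
    linear_combination this - (bb e b + bb b e) * h2
  rcases z2 (bb e b + bb b e) with a | a
  · refine .inl (polar_nondeg fun d => ?_)
    rcases z2 (bb d c0.1 + bb c0.1 d) with a' | a'
    exacts [h d a', (k d a').trans a]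
  · refine .inr (add_eq_zero_C.1 (polar_nondeg fun d => ?_))
    rw [bb_add_left, bb_add_right]
    rcases z2 (bb d c0.1 + bb c0.1 d) with a' | a'
    · linear_combination h d a' + a'
    · linear_combination k d a' + a + a' + h2

theorem exists_perp_one {e : C} (h0 : e ≠ 0) (h1 : e ≠ c0.1) :
    ∃ d, bb d c0.1 + bb c0.1 d = 0 ∧ bb e d + bb d e = 1 := by
  by_contra hc
  push Not at hc
  exact (perp_perp fun d hd => (z2 _).resolve_right (hc d hd)).elim h0 h1

theorem fix_c0 {h : G0} : h • c0.1 = c0.1 ↔ h • vU' = vU' ∨ h • vU' = -vU' := by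
  rw [c0_val, smul_kap]
  refine ⟨fun e => eq_or_neg norm_vU' (by rw [co_norm, norm_vU']; norm_num) e.symm, ?_⟩
  rintro (e | e) <;> rw [e]
  exact kap_neg _

theorem simple_C2' : IsSimpleGroup (stabilizer G0 vU') := by
  obtain ⟨g, hg⟩ := std32 vU' norm_vU'
  exact (simple_card_transport g C2 _ (fun a => by
    rw [mem_stabilizer_iff, mem_stabilizer_iff, ← hg, conj_fix_iff]) simple_C2 card_C2).1

theorem tr_C2' {x y : L} (hx : sqNorm (x : V) = 32) (hy : sqNorm (y : V) = 32)
    (h : dU' x = dU' y) : ∃ g : G0, g • vU' = vU' ∧ g • x = y := by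
  obtain ⟨g, hg⟩ := std32 vU' norm_vU'
  obtain ⟨k, k1, k2⟩ := std_Uy (b := g⁻¹ • x) (by rw [co_norm, hx]) norm_vU' hy (by
    rw [dU, ← co_dot_left, hg]; exact h)
  exact ⟨k * g⁻¹, by rw [mul_smul, ← hg, inv_smul_smul, k1, hg], by rw [mul_smul, k2]⟩

theorem perp_smul {h : G0} (e : h • c0.1 = c0.1) (d : C) :
    bb (h • d) c0.1 + bb c0.1 (h • d) = bb d c0.1 + bb c0.1 d := by
  rw [← bb_smul h d, e]

/-- The elements acting trivially on `c0^⊥ / c0`. -/
def Kk : Subgroup (stabilizer G0 vU') where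
  carrier := {h | ∀ d, bb d c0.1 + bb c0.1 d = 0 → h.1 • d = d ∨ h.1 • d = d + c0.1}
  one_mem' d _ := .inl (one_smul _ _)
  mul_mem' := fun {a b} ha hb d hd => by
    have e := fix_c0.2 (.inl a.2)
    rw [Subgroup.coe_mul, mul_smul]
    rcases hb d hd with h | h <;> rw [h]
    · exact ha d hd
    · rw [smul_add, e]
      rcases ha d hd with h | h <;> rw [h]
      exacts [.inr rfl, .inl (by rw [add_assoc, two_zmod, add_zero])]
  inv_mem' := fun {a} ha d hd => by
    have e := fix_c0.2 (.inl a.2)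
    rw [Subgroup.coe_inv, inv_smul_eq_iff, inv_smul_eq_iff, smul_add, e]
    rcases ha d hd with h | h <;> rw [h]
    exacts [.inl rfl, .inr (by rw [add_assoc, two_zmod, add_zero])]

instance : Kk.Normal := ⟨fun a ha g d hd => by
  have e := fix_c0.2 (.inl g.2)
  have := ha ((g⁻¹).1 • d) (by rw [perp_smul (fix_c0.2 (.inl (g⁻¹).2)), hd])
  rw [Subgroup.coe_mul, Subgroup.coe_mul, mul_smul, mul_smul]
  rcases this with h | h <;> rw [h]
  · exact .inl (smul_inv_smul _ _)
  · exact .inr (by rw [smul_add, e, Subgroup.coe_inv, smul_inv_smul])⟩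

/-- A short vector orthogonal to `vU` and `vU'`. -/
def cY : ℕ := 0x001000100010001000100010001000100010001000100010001000100010001000100010001000100010001400140010

theorem exists_y0 : ∃ w : L, sqNorm (w : V) = 32 ∧ dU w = 0 ∧ dU' w = 0 := by
  have h : (lv cY : V) = vc cY := lv_coe (by decide +kernel)
  refine ⟨lv cY, ?_, ?_, ?_⟩
  · rw [h, norm_vc]; decide +kernel
  · rw [dU, h, vU_eq, dot_vc]; decide +kernel
  · rw [dU', h, vU'_eq, dot_vc]; decide +kernel

theorem norm_e8 : sqNorm (e8 none : V) = 64 := by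
  rw [← vU_add_vU', AddSubgroup.coe_add, sqNorm_add, norm_vU, norm_vU', dot_vU_vU']; norm_num

theorem Om_ne {x : L} (hx : sqNorm (x : V) = 32) : kap x ≠ Om := fun h => by
  have := norm_e8
  rcases eq_or_neg hx norm_e8.le h with e | e <;> rw [e] at this
  · omega
  · rw [norm_negL] at this; omega

theorem Om_ne_zero : Om ≠ 0 := fun h => by
  rw [Om_eq] at h
  simpa using congrFun (congrArg Prod.snd h) 11

theorem perp_kap {x : L} (h : dU' x % 16 = 0) : bb (kap x) c0.1 + bb c0.1 (kap x) = 0 := by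
  rw [c0_val, ← ip_kap, ip_comm, ip_apply, ← dU', show dU' x / 8 = 2 * (dU' x / 16) by omega]
  push_cast
  rw [show (2 : ZMod 2) = 0 from rfl, zero_mul]

theorem Kk_eq : Kk = ⊥ := by
  haveI := simple_C2'
  refine (Subgroup.Normal.eq_bot_or_eq_top (inferInstance : Kk.Normal)).resolve_right fun h => ?_
  obtain ⟨y, y1, y2, y3⟩ := exists_y0
  obtain ⟨g, g1, g2⟩ := tr_C2' norm_vU y1 (dU'_vU.trans y3.symm)
  have := (h ▸ Subgroup.mem_top (⟨g, g1⟩ : stabilizer G0 vU') : _ ∈ Kk) (kap vU)
    (perp_kap (by rw [dU'_vU]; rfl))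
  simp only [smul_kap, g2] at this
  rcases this with e | e
  · rcases eq_or_neg norm_vU (by rw [y1]; norm_num) e.symm with e | e <;> rw [e] at y2
    · rw [dU_vU] at y2; omega
    · rw [dU, dot_negR, ← dU, dU_vU] at y2; omega
  · rw [c0_val, ← map_add, vU_add_vU'] at e
    exact Om_ne y1 e

theorem center_of_perp {h : G0} (h0 : h • c0.1 = c0.1)
    (e : ∀ d, bb d c0.1 + bb c0.1 d = 0 → h • d = d ∨ h • d = d + c0.1) :
    h ∈ Subgroup.center G0 := by
  rw [mem_center_G0]
  rcases fix_c0.1 h0 with a | a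
  · have : (⟨h, a⟩ : stabilizer G0 vU') ∈ Kk := e
    rw [Kk_eq] at this
    exact .inl (congrArg Subtype.val (Subgroup.mem_bot.1 this))
  · have : (⟨neg1 * h, by rw [mem_stabilizer_iff, mul_smul, a, neg1_smul, neg_neg]⟩ :
        stabilizer G0 vU') ∈ Kk := fun d hd => by
      simp only [mul_smul, neg1_smul_C]; exact e d hd
    rw [Kk_eq] at this
    have h1 : neg1 * h = 1 := congrArg Subtype.val (Subgroup.mem_bot.1 this)
    exact .inr (mul_left_cancel (h1.trans neg1_mul_self.symm))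

theorem tt_eq : tv 1 c0 = rho (qe 0 c0.1) := by rw [tv, two_zmod]

/-- The centraliser of `tv 1 c0`. -/
noncomputable def HH (τ : U ≃ₗ[ℝ] U) : Subgroup (U ≃ₗ[ℝ] U) :=
  MM τ ⊓ Subgroup.centralizer {tv 1 c0}

variable {τ : U ≃ₗ[ℝ] U}

theorem mem_HH {g : U ≃ₗ[ℝ] U} : g ∈ HH τ ↔ g ∈ MM τ ∧ g * tv 1 c0 * g⁻¹ = tv 1 c0 := by
  rw [HH, Subgroup.mem_inf, Subgroup.mem_centralizer_singleton_iff, mul_inv_eq_iff_eq_mul]

theorem HH_le : HH τ ≤ MM τ := inf_le_left

theorem rho_mem_HH {g : GT} : rho g ∈ HH τ ↔ ep g c0.1 = 0 ∧ co g • c0.1 = c0.1 := by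
  rw [mem_HH, tt_eq, ← map_inv, ← map_mul, ← map_mul, conj_qe, zero_add]
  exact ⟨fun h => rho_qe_inj h.2, fun h => ⟨rho_mem_MM τ g, by rw [h.1, h.2]⟩⟩

theorem qe_mem_HH {s : ZMod 2} {d : C} : rho (qe s d) ∈ HH τ ↔ bb d c0.1 + bb c0.1 d = 0 := by
  rw [rho_mem_HH, ep_qe, co_qe, one_smul, and_iff_left rfl]

theorem zz_mem_HH : zz ∈ HH τ := qe_mem_HH.2 (by rw [bb_zero_left, bb_zero_right, add_zero])

theorem tt_mem_HH : tv 1 c0 ∈ HH τ := tt_eq ▸ qe_mem_HH.2 (two_zmod _)

theorem tau_mem_HH (h : Tri τ) : τ ∈ HH τ := mem_HH.2 ⟨tau_mem_MM τ, conj_tv h.aut h.fix⟩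

theorem exists_lift {h : G0} (e : h • c0.1 = c0.1) : ∃ g, co g = h ∧ rho g ∈ HH τ := by
  obtain ⟨g, rfl⟩ := co_surj h
  rcases z2 (ep g c0.1) with a | a
  · exact ⟨g, rfl, rho_mem_HH.2 ⟨a, e⟩⟩
  · obtain ⟨b, hb⟩ := exists_polar_one (S_ne_zero c0)
    have : co (g * qe 0 b) = co g := by rw [map_mul, co_qe, mul_one]
    exact ⟨g * qe 0 b, this, rho_mem_HH.2 ⟨by
      rw [ep_mul, ep_qe, co_qe, one_smul, a, add_comm (bb b _), hb, two_zmod], by rw [this, e]⟩⟩

theorem exists_stab {g : GT} (hg : rho g ∈ HH τ) : ∃ k, rho k = rho g ∧ co k • vU' = vU' := by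
  rcases fix_c0.1 (rho_mem_HH.1 hg).2 with a | a
  · exact ⟨g, rfl, a⟩
  · exact ⟨g * m1, by rw [map_mul, rho_m1, mul_one], by
      rw [map_mul, co_m1, mul_smul, neg1_smul, co_neg, a, neg_neg]⟩

theorem cent_Q0 (h : Tri τ) {y : U ≃ₗ[ℝ] U} (hy : y ∈ HH τ)
    (e : ∀ s d, bb d c0.1 + bb c0.1 d = 0 → y * rho (qe s d) = rho (qe s d) * y) :
    ∃ s, y = rho (qe s 0) ∨ y = rho (qe s c0.1) := by
  obtain ⟨g, rfl⟩ := mem_GG_of_comm (MM_le_Aut h (HH_le hy))
    (e 1 0 (by rw [bb_zero_left, bb_zero_right, add_zero]))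
  obtain ⟨s, c, a⟩ := mem_QQ.1 (rho_mem_QQ.2 (center_of_perp (rho_mem_HH.1 hy).2
    fun d hd => .inl (comm_qe (e 0 d hd)).2))
  rw [a] at e ⊢
  rcases perp_perp (e := c) fun d hd => by rw [← ep_qe s]; exact (comm_qe (e 0 d hd)).1 with b | b
  exacts [⟨s, .inl (by rw [b])⟩, ⟨s, .inr (by rw [b])⟩]

theorem not_conj (hne : ∀ g ∈ MM τ, g * zz * g⁻¹ ≠ tv 1 c0) {g : U ≃ₗ[ℝ] U} (hg : g ∈ MM τ)
    (s : ZMod 2) : g * zz * g⁻¹ ≠ rho (qe s c0.1) := fun e => by
  rcases z2 s with rfl | rfl
  · exact hne g hg (e.trans tt_eq.symm)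
  · obtain ⟨b, hb⟩ := exists_polar_one (S_ne_zero c0)
    refine hne _ (mul_mem (rho_mem_MM τ (qe 0 b)) hg) ?_
    rw [_root_.mul_inv_rev, mul_assoc _ g, mul_assoc, ← mul_assoc (g * zz), e, ← map_inv, ← map_mul,
      ← map_mul, ← mul_assoc, conj_qe, ep_qe, add_comm (bb b _), hb, co_qe, one_smul, two_zmod,
      tt_eq]

theorem comm_of_conj (h : Tri τ) (hne : ∀ g ∈ MM τ, g * zz * g⁻¹ ≠ tv 1 c0) {x : U ≃ₗ[ℝ] U}
    (hx : x ∈ HH τ) (e : ∀ s d, bb d c0.1 + bb c0.1 d = 0 →
      x⁻¹ * rho (qe s d) * x * zz = zz * (x⁻¹ * rho (qe s d) * x)) : x * zz = zz * x := by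
  obtain ⟨s, a | a⟩ := cent_Q0 h (mul_mem (mul_mem hx zz_mem_HH) (inv_mem hx)) fun s d hd => by
    calc _ = x * (zz * (x⁻¹ * rho (qe s d) * x)) * x⁻¹ := by group
      _ = _ := by rw [← e s d hd]; group
  · rcases z2 s with rfl | rfl
    · rw [rho_qe_zero, conj_eq_one_iff] at a
      exact absurd a zz_ne_one
    · exact mul_inv_eq_iff_eq_mul.1 a
  · exact absurd a (not_conj hne (HH_le hx) s)

theorem mem_zpowers_invol {G : Type*} [Group G] {t x : G} (ht : t * t = 1)
    (hx : x ∈ Subgroup.zpowers t) : x = 1 ∨ x = t := by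
  obtain ⟨n, rfl⟩ := hx
  have h2 : t ^ (2 : ℤ) = 1 := by rw [zpow_two, ht]
  rcases Int.even_or_odd' n with ⟨k, rfl | rfl⟩
  · exact .inl (by simp only [_root_.zpow_mul, h2, _root_.one_zpow])
  · exact .inr (by simp only [_root_.zpow_add, _root_.zpow_mul, h2, _root_.one_zpow, one_mul,
      zpow_one])

theorem frattini_HH (h : Tri τ) [Finite (HH τ)] (hne : ∀ g ∈ MM τ, g * zz * g⁻¹ ≠ tv 1 c0)
    {N : Subgroup (U ≃ₗ[ℝ] U)} (hn : ∀ g ∈ HH τ, ∀ n ∈ N, g * n * g⁻¹ ∈ N)
    (hG : ∀ g, rho g ∈ HH τ → rho g ∈ N) : HH τ ≤ N := by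
  have hC : ∀ x ∈ HH τ, x * zz = zz * x → x ∈ N := fun x hx e => by
    obtain ⟨g, rfl⟩ := mem_GG_of_comm (MM_le_Aut h (HH_le hx)) e
    exact hG g hx
  obtain ⟨P, hP⟩ := (extraspecial_QQ.1.1.comap_subtype (K := HH τ)).exists_le_sylow
  have hq : ∀ s {d} (hd : bb d c0.1 + bb c0.1 d = 0),
      (⟨rho (qe s d), qe_mem_HH.2 hd⟩ : HH τ) ∈ (P : Subgroup (HH τ)) := fun s d hd =>
    hP (qe_mem_QQ s d)
  let K : Subgroup P :=
    (Subgroup.centralizer {(⟨zz, zz_mem_HH⟩ : HH τ)}).subgroupOf (P : Subgroup (HH τ))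
  have mK : ∀ x : P, x ∈ K ↔ x.1.1 * zz = zz * x.1.1 := fun x => by
    rw [Subgroup.mem_subgroupOf, Subgroup.mem_centralizer_singleton_iff, Subtype.ext_iff]; rfl
  have hK : K = ⊤ := by
    by_contra hK
    haveI := P.2.isNilpotent
    obtain ⟨x, x1, x2⟩ := SetLike.exists_of_lt
      (normalizerCondition_of_isNilpotent K (lt_top_iff_ne_top.2 hK))
    exact x2 ((mK x).2 (comm_of_conj h hne x.1.2 fun s d hd =>
      (mK _).1 ((Subgroup.mem_normalizer_iff''.1 x1 ⟨_, hq s hd⟩).1 ((mK _).2 (zz_comm _)))))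
  have hP2 : ∀ x ∈ (P : Subgroup (HH τ)), x.1 * zz = zz * x.1 := fun x hx =>
    (mK ⟨x, hx⟩).1 (hK ▸ Subgroup.mem_top _)
  haveI : (N.subgroupOf (HH τ)).Normal := ⟨fun n hn' g => hn g g.2 n hn'⟩
  have := Sylow.normalizer_sup_eq_top' (N := N.subgroupOf (HH τ)) P fun x hx => hC _ x.2 (hP2 x hx)
  rw [sup_eq_right.2 fun x hx => hC _ x.2 (comm_of_conj h hne x.2 fun s d hd =>
    hP2 _ ((Subgroup.mem_normalizer_iff''.1 hx _).1 (hq s hd)))] at this
  exact Subgroup.subgroupOf_eq_top.1 this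

theorem normal_HH (h : Tri τ) [Finite (HH τ)] (hne : ∀ g ∈ MM τ, g * zz * g⁻¹ ≠ tv 1 c0)
    {N : Subgroup (U ≃ₗ[ℝ] U)} (hN : N ≤ HH τ) (hn : ∀ g ∈ HH τ, ∀ n ∈ N, g * n * g⁻¹ ∈ N)
    (ht : tv 1 c0 ∈ N) (h1 : ¬ N ≤ Subgroup.zpowers (tv 1 c0)) : HH τ ≤ N := by
  have hq : ∀ {n g}, n ∈ N → g ∈ HH τ → ⁅n, g⁆ ∈ N := fun hn' hg =>
    comm_mem hn' (hn _ hg _ (N.inv_mem hn'))
  obtain ⟨n, n1, ⟨g, rfl⟩, n3⟩ : ∃ n ∈ N, n ∈ GG ∧ n ∉ Subgroup.zpowers (tv 1 c0) := by
    by_contra hc
    push Not at hc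
    refine h1 (le_of_fpf h hN hn (fun g hg n hn => ?_) zz_mem_HH (tau_mem_HH h) fun n hn e => ?_)
    · rcases mem_zpowers_invol (tv_mul_self _ _) hn with rfl | rfl
      · rw [mul_one, mul_inv_cancel]; exact one_mem _
      · rw [(mem_HH.1 hg).2]; exact hn
    · rcases mem_zpowers_invol (tv_mul_self _ _) e with e | e
      · rw [mul_inv_eq_one, mul_inv_eq_iff_eq_mul] at e
        exact hc n hn (mem_GG_of_comm (MM_le_Aut h (HH_le (hN hn))) e.symm)
      · refine absurd ?_ (not_conj hne (HH_le (hN hn)) 1)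
        rw [inv_eq_of_mul_eq_one_right zz_mul_self, mul_assoc, mul_assoc, ← eq_inv_mul_iff_mul_eq,
          inv_eq_of_mul_eq_one_right zz_mul_self, tt_eq, ← mul_assoc] at e
        rw [e, zz, ← map_mul, qe_mul, bb_zero_left, add_zero, add_zero, zero_add]
  have hz : zz ∈ N := by
    by_contra hz
    have k : ∀ s c, rho (qe s c) ∈ N → c = 0 ∨ c = c0.1 := fun s c hc => by
      by_contra e
      rw [not_or] at e
      obtain ⟨d, d1, d2⟩ := exists_perp_one e.1 e.2
      have := hq hc ((qe_mem_HH (s := 0)).2 d1)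
      rw [qe_commutator, d2] at this
      exact hz this
    obtain ⟨s, c, a⟩ := mem_QQ.1 (rho_mem_QQ.2 (center_of_perp (rho_mem_HH.1 (hN n1)).2
      fun d hd => by
        have := hq n1 ((qe_mem_HH (s := 0)).2 hd)
        obtain ⟨s, hs⟩ := rho_commutator g 0 d
        rw [hs] at this
        exact (k _ _ this).imp add_eq_zero_C.1 fun e => by
          rw [← e, add_comm (_ • d), ← add_assoc, two_zmod, zero_add]))
    rw [a] at n1 n3
    rcases k _ _ n1 with rfl | rfl <;> rcases z2 s with rfl | rfl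
    · exact n3 (rho_qe_zero ▸ one_mem _)
    · exact hz n1
    · exact n3 (tt_eq ▸ Subgroup.mem_zpowers _)
    · have := N.mul_mem n1 ht
      rw [tt_eq, ← map_mul, qe_mul, two_zmod, bb_S, add_zero, add_zero] at this
      exact hz this
  have hW : ∀ {c}, bb c c0.1 + bb c0.1 c = 0 → c ∈ Wc N hz := by
    have a1 : c0.1 ∈ Wc N hz := by rwa [mem_Wc, ← tt_eq]
    have a2 : Om ∈ Wc N hz := by
      rw [mem_Wc, ← xO, ← h.zz_conj]; exact hn _ (tau_mem_HH h) _ hz
    have a3 := (Wc N hz).add_mem a2 a1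
    rw [Om, ← vU_add_vU', map_add, c0_val, add_assoc, two_zmod, add_zero] at a3
    refine fun {c} => span_perp _ a1 fun y y1 y2 => ?_
    obtain ⟨k, k1, rfl⟩ := tr_C2' norm_vU y1 (dU'_vU.trans y2.symm)
    obtain ⟨k, rfl, k2⟩ := exists_lift (τ := τ) (fix_c0.2 (.inl k1))
    rw [← smul_kap]
    exact smul_mem_Wc (hn _ k2) a3
  refine frattini_HH h hne hn fun g hg => ?_
  let A : Subgroup (stabilizer G0 vU') := ((N.comap rho).map co).subgroupOf _
  have hA : A.Normal := ⟨by
    rintro a ⟨k, k1, k2⟩ b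
    obtain ⟨l, l1, l2⟩ := exists_lift (τ := τ) (fix_c0.2 (.inl b.2))
    exact ⟨l * k * l⁻¹, by
      rw [SetLike.mem_coe, Subgroup.mem_comap, map_mul, map_mul, map_inv]; exact hn _ l2 _ k1, by
      rw [map_mul, map_mul, map_inv, l1, k2]; rfl⟩⟩
  haveI := simple_C2'
  rcases hA.eq_bot_or_eq_top with a | a
  · obtain ⟨c, k, k0, e1, e2⟩ := h.out
    have a1 : rho k ∈ N := e1 ▸ hn _ (tau_mem_HH h) _ (hW k0)
    obtain ⟨l, l1, l2⟩ := exists_stab (hN a1)
    have : (⟨co l, l2⟩ : stabilizer G0 vU') ∈ A := ⟨l, by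
      rw [SetLike.mem_coe, Subgroup.mem_comap, l1]; exact a1, rfl⟩
    rw [a] at this
    have a2 : co l = 1 := congrArg Subtype.val (Subgroup.mem_bot.1 this)
    exact absurd (rho_mem_QQ.1 (l1 ▸ rho_mem_QQ.2 (a2 ▸ one_mem _))) e2
  · obtain ⟨l, l1, l2⟩ := exists_stab hg
    obtain ⟨k, k1, k2⟩ : (⟨co l, l2⟩ : stabilizer G0 vU') ∈ A := a ▸ Subgroup.mem_top _
    obtain ⟨t, c, e⟩ := (co_eq_one (g := k⁻¹ * l)).1 (by
      rw [map_mul, map_inv, k2]; exact inv_mul_cancel _)
    have a1 : rho (qe t c) ∈ HH τ := by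
      rw [← e, map_mul, map_inv, l1]; exact mul_mem (inv_mem (hN k1)) hg
    rw [← l1, ← mul_inv_cancel_left k l, map_mul, e]
    exact N.mul_mem k1 (qe_mem_of_zz hz (hW (qe_mem_HH.1 a1)) t)

theorem tt_ne_one : tv 1 c0 ≠ 1 := fun e =>
  S_ne_zero c0 (rho_qe_inj (tt_eq.symm.trans (e.trans rho_qe_zero.symm))).2

theorem orderOf_tt : orderOf (tv 1 c0) = 2 := orderOf_eq_prime (by rw [sq, tv_mul_self]) tt_ne_one

theorem center_HH (h : Tri τ) :
    Subgroup.center (HH τ) = (Subgroup.zpowers (tv 1 c0)).subgroupOf (HH τ) := by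
  ext x
  rw [Subgroup.mem_center_iff, Subgroup.mem_subgroupOf]
  constructor
  · intro hx
    have k : ¬ τ * zz = zz * τ := fun e => by
      rw [← mul_inv_eq_iff_eq_mul, h.zz_conj] at e
      exact absurd (rho_qe_inj e).1 (by decide)
    have a0 : τ * x = x * τ := congrArg Subtype.val (hx ⟨τ, tau_mem_HH h⟩)
    obtain ⟨s, a | a⟩ := cent_Q0 h x.2 fun s d hd =>
      (congrArg Subtype.val (hx ⟨_, qe_mem_HH.2 hd⟩)).symm <;> rw [a] at a0 ⊢ <;>
      rcases z2 s with rfl | rfl
    · exact rho_qe_zero ▸ one_mem _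
    · exact absurd a0 k
    · exact tt_eq ▸ Subgroup.mem_zpowers _
    · have a1 : zz = rho (qe 1 c0.1) * tv 1 c0 := by
        rw [tt_eq, ← map_mul, qe_mul, two_zmod, bb_S, add_zero, add_zero, zz]
      refine absurd ?_ k
      rw [a1, ← mul_assoc, a0, mul_assoc, mul_inv_eq_iff_eq_mul.1 (mem_HH.1 (tau_mem_HH h)).2,
        mul_assoc]
  · intro hx g
    refine Subtype.ext ?_
    rcases mem_zpowers_invol (tv_mul_self _ _) hx with e | e <;>
      rw [Subgroup.coe_mul, Subgroup.coe_mul, e]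
    · rw [mul_one, one_mul]
    · exact mul_inv_eq_iff_eq_mul.1 (mem_HH.1 g.2).2

theorem simple_quot {G : Type*} [Group G] {H : Subgroup G} {t : G} (ht : t ∈ H)
    [((Subgroup.zpowers t).subgroupOf H).Normal] (h0 : ¬ H ≤ Subgroup.zpowers t)
    (h : ∀ N ≤ H, (∀ g ∈ H, ∀ n ∈ N, g * n * g⁻¹ ∈ N) → t ∈ N → ¬ N ≤ Subgroup.zpowers t → H ≤ N) :
    IsSimpleGroup (H ⧸ (Subgroup.zpowers t).subgroupOf H) := by
  haveI : Nontrivial (H ⧸ (Subgroup.zpowers t).subgroupOf H) :=
    QuotientGroup.nontrivial_iff.2 fun e => h0 (Subgroup.subgroupOf_eq_top.1 e)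
  refine ⟨fun N hN => or_iff_not_imp_left.2 fun h1 => ?_⟩
  have := h ((N.comap (QuotientGroup.mk' _)).map H.subtype) (Subgroup.map_subtype_le _)
    (by rintro g hg _ ⟨n, hn, rfl⟩; exact ⟨_, (hN.comap _).conj_mem n hn ⟨g, hg⟩, rfl⟩)
    ⟨⟨t, ht⟩, by
      rw [SetLike.mem_coe, Subgroup.mem_comap, QuotientGroup.mk'_apply,
        (QuotientGroup.eq_one_iff _).2 (Subgroup.mem_subgroupOf.2 (Subgroup.mem_zpowers t))]
      exact N.one_mem, rfl⟩
    fun e => h1 ((Subgroup.eq_bot_iff_forall _).2 fun x hx => by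
      obtain ⟨x, rfl⟩ := QuotientGroup.mk_surjective x
      exact (QuotientGroup.eq_one_iff _).2 (e ⟨x, hx, rfl⟩))
  rw [eq_top_iff]
  intro x _
  obtain ⟨x, rfl⟩ := QuotientGroup.mk_surjective x
  obtain ⟨n, hn, e⟩ := this x.2
  exact (Subtype.ext e : n = x) ▸ hn

theorem nonsplit_HH (h : Tri τ) (L : Subgroup (HH τ)) :
    ¬ (Subgroup.center (HH τ)).IsComplement' L := fun hL => by
  have h2 : L.index = 2 := by
    rw [hL.index_eq_card, center_HH h, Nat.card_congr (Subgroup.subgroupOfEquivOfLe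
      (Subgroup.zpowers_le.2 tt_mem_HH)).toEquiv, Nat.card_zpowers, orderOf_tt]
  have k : ∀ {a b}, a ∈ HH τ → b ∈ HH τ → ⁅a, b⁆ ∈ L.map (HH τ).subtype := fun {a b} ha hb =>
    ⟨⁅(⟨a, ha⟩ : HH τ), (⟨b, hb⟩ : HH τ)⁆, by
      simp only [SetLike.mem_coe, commutatorElement_def, Subgroup.mul_mem_iff_of_index_two h2,
        inv_mem_iff]
      tauto, rfl⟩
  have hz : zz ∈ L.map (HH τ).subtype := by
    obtain ⟨d, d1, d2⟩ := exists_perp_one Om_ne_zero (Om_ne norm_vU').symm
    have := k (h.zz_conj ▸ mul_mem (mul_mem (tau_mem_HH h) zz_mem_HH) (inv_mem (tau_mem_HH h)))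
      ((qe_mem_HH (s := 0)).2 d1)
    rwa [xO, qe_commutator, d2] at this
  obtain ⟨g, g1, g2⟩ := tr_C2' norm_w0 (y := vU' + -w0) (by
    rw [AddSubgroup.coe_add, sqNorm_add, norm_vU', norm_negL, norm_w0, dot_negR, ← dU', dU'_w0]
    norm_num) (by
    rw [dU'_w0, dU', AddSubgroup.coe_add, dot_add_right, dot_negR, ← dU', ← dU', dU'_w0, dU'_vU']
    norm_num)
  obtain ⟨g, rfl, g3⟩ := exists_lift (τ := τ) (fix_c0.2 (.inl g1))
  have a1 := k g3 ((qe_mem_HH (s := 0)).2 (perp_kap (x := w0) (by rw [dU'_w0]; rfl)))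
  obtain ⟨s, hs⟩ := rho_commutator g 0 (kap w0)
  rw [hs, smul_kap, g2, map_add, kap_neg, add_assoc, two_zmod, add_zero, ← c0_val] at a1
  obtain ⟨x, x1, x2⟩ := qe_mem_of_zz hz a1 0
  rw [← tt_eq, Subgroup.subtype_apply] at x2
  have a2 : x ∈ Subgroup.center (HH τ) := by
    rw [center_HH h, Subgroup.mem_subgroupOf, x2]; exact Subgroup.mem_zpowers _
  rw [Subgroup.disjoint_def.1 hL.disjoint a2 x1] at x2
  exact tt_ne_one x2.symm

/-- The involution of the axis as an element of `MM τ`. -/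
noncomputable def tM (τ : U ≃ₗ[ℝ] U) : MM τ := ⟨tv 1 c0, HH_le tt_mem_HH⟩

theorem cent_tM : Subgroup.centralizer ({tM τ} : Set (MM τ)) = (HH τ).subgroupOf (MM τ) := by
  ext x
  rw [Subgroup.mem_centralizer_singleton_iff, Subgroup.mem_subgroupOf, mem_HH,
    mul_inv_eq_iff_eq_mul, and_iff_right x.2, Subtype.ext_iff]
  rfl

theorem s0468 {τ : U ≃ₗ[ℝ] U} (h : Tri τ)
    (hc : Nat.card (MM τ) = 808017424794512875886459904961710757005754368000000000)
    (hX : (MulAction.orbit (MM τ) (ax 1 c0)).ncard = 97239461142009186000)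
    (hu : ∀ g ∈ MM τ, g * tv 1 c0 * g⁻¹ = tv 1 c0 → g (ax 1 c0) = ax 1 c0)
    (ho : ∀ g ∈ MM τ, orderOf (tv 1 c0 * (g * tv 1 c0 * g⁻¹)) ≤ 6) :
    ∃ (G : Type) (_ : Group G) (_ : Finite G), Cfsg.IsM G ∧ ∃ D : Set G,
      (∃ d ∈ D, D = conjugatesOf d) ∧ Nat.card D = 97239461142009186000 ∧
      (∀ d ∈ D, orderOf d = 2) ∧ (∀ d ∈ D, ∀ e ∈ D, orderOf (d * e) ≤ 6) ∧
      ∀ d ∈ D, ∃ (K : Type) (_ : Group K), Cfsg.IsB K ∧
        Cfsg.IsNonsplitDoubleCover (Subgroup.centralizer ({d} : Set G)) K := by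
  haveI : Finite (MM τ) := Nat.finite_of_card_ne_zero (by rw [hc]; norm_num)
  haveI : Finite (HH τ) := Finite.of_injective _ (Subgroup.inclusion_injective HH_le)
  have h1 : (Subgroup.centralizer ({tM τ} : Set (MM τ))).index = 97239461142009186000 := by
    rw [← hX, ← MulAction.index_stabilizer, cent_tM]
    congr 1
    ext x
    rw [Subgroup.mem_subgroupOf, mem_HH, and_iff_right x.2]
    exact ⟨hu _ x.2, conj_tv (MM_le_Aut h x.2)⟩
  have h2 := (Subgroup.centralizer ({tM τ} : Set (MM τ))).index_mul_card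
  rw [h1, hc] at h2
  have hne : ∀ g ∈ MM τ, g * zz * g⁻¹ ≠ tv 1 c0 := fun g hg e => by
    obtain ⟨f⟩ := centralizer_equiv_of_conj (a := zM τ) (d := tM τ)
      (isConj_iff.2 ⟨⟨g, hg⟩, Subtype.ext e⟩)
    rw [← Nat.card_congr f.toEquiv, cent_zM h,
      Nat.card_congr (Subgroup.subgroupOfEquivOfLe (GG_le_MM τ)).toEquiv, card_GG] at h2
    norm_num at h2
  let e : Subgroup.centralizer ({tM τ} : Set (MM τ)) ≃* HH τ :=
    (MulEquiv.subgroupCongr cent_tM).trans (Subgroup.subgroupOfEquivOfLe HH_le)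
  rw [Nat.card_congr e.toEquiv] at h2
  haveI : ((Subgroup.zpowers (tv 1 c0)).subgroupOf (HH τ)).Normal := center_HH h ▸ inferInstance
  have h3 : Nat.card ((Subgroup.zpowers (tv 1 c0)).subgroupOf (HH τ)) = 2 := by
    rw [Nat.card_congr (Subgroup.subgroupOfEquivOfLe (Subgroup.zpowers_le.2 tt_mem_HH)).toEquiv,
      Nat.card_zpowers, orderOf_tt]
  have h4 := Subgroup.card_eq_card_quotient_mul_card_subgroup
    ((Subgroup.zpowers (tv 1 c0)).subgroupOf (HH τ))
  rw [h3] at h4
  refine ⟨MM τ, inferInstance, inferInstance, ⟨simple_MM h, hc⟩, conjugatesOf (tM τ),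
    ⟨_, mem_conjugatesOf_self, rfl⟩, (card_conjugatesOf _).trans h1, fun d hd => ?_,
    fun d hd d' hd' => ?_, fun d hd => ?_⟩
  · obtain ⟨g, rfl⟩ := isConj_iff.1 hd
    rw [← MulAut.conj_apply, MulEquiv.orderOf_eq]
    exact (Subgroup.orderOf_coe _).symm.trans orderOf_tt
  · obtain ⟨g, rfl⟩ := isConj_iff.1 hd
    obtain ⟨k, rfl⟩ := isConj_iff.1 hd'
    rw [show g * tM τ * g⁻¹ * (k * tM τ * k⁻¹) =
      g * (tM τ * ((g⁻¹ * k) * tM τ * (g⁻¹ * k)⁻¹)) * g⁻¹ by group, ← MulAut.conj_apply,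
      MulEquiv.orderOf_eq, ← Subgroup.orderOf_coe]
    exact ho _ (g⁻¹ * k).2
  · obtain ⟨f⟩ := centralizer_equiv_of_conj hd
    refine ⟨HH τ ⧸ (Subgroup.zpowers (tv 1 c0)).subgroupOf (HH τ), inferInstance,
      ⟨simple_quot tt_mem_HH (fun a => ?_) fun N => normal_HH h hne, ?_⟩,
      nonsplit_congr (e.symm.trans f) ⟨center_HH h ▸ h3,
        ⟨QuotientGroup.quotientMulEquivOfEq (center_HH h)⟩, nonsplit_HH h⟩⟩
    · rw [Subgroup.subgroupOf_eq_top.2 a, Subgroup.card_top] at h3
      rw [h3] at h2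
      norm_num at h2
    · generalize Nat.card (HH τ ⧸ (Subgroup.zpowers (tv 1 c0)).subgroupOf (HH τ)) = n at h4
      rw [h4] at h2
      omega

end H10.Mon
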