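import Mathlib
import Cfsg.Agent.H10.MD6

/-! Kernel checks of the triples. -/

set_option autoImplicit false
set_option linter.all false
set_option maxRecDepth 100000
set_option Elab.async false

namespace H10.Mon

theorem tdc0 : (td 0).chk = true := by decide +kernel
theorem tdc1 : (td 1).chk = true := by decide +kernel
theorem tdc2 : (td 2).chk = true := by decide +kernel
theorem tdc3 : (td 3).chk = true := by decide +kernel
theorem tdc4 : (td 4).chk = true := by decide +kernel
theorem tdc5 : (td 5).chk = true := by decide +kernel
theorem tdc6 : (td 6).chk = true := by decide +kernel
theorem tdc7 : (td 7).chk = true := by decide +kernel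
theorem tdc8 : (td 8).chk = true := by decide +kernel
theorem tdc9 : (td 9).chk = true := by decide +kernel
theorem tdc10 : (td 10).chk = true := by decide +kernel
theorem tdc11 : (td 11).chk = true := by decide +kernel
theorem tdc12 : (td 12).chk = true := by decide +kernel
theorem tdc13 : (td 13).chk = true := by decide +kernel
theorem tdc14 : (td 14).chk = true := by decide +kernel
theorem tdc15 : (td 15).chk = true := by decide +kernel
theorem tdc16 : (td 16).chk = true := by decide +kernel
theorem tdc17 : (td 17).chk = true := by decide +kernel
theorem tdc18 : (td 18).chk = true := by decide +kernel
theorem tdc19 : (td 19).chk = true := by decide +kernel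
theorem tdc20 : (td 20).chk = true := by decide +kernel
theorem tdc21 : (td 21).chk = true := by decide +kernel
theorem tdc22 : (td 22).chk = true := by decide +kernel
theorem tdc23 : (td 23).chk = true := by decide +kernel
theorem tdc24 : (td 24).chk = true := by decide +kernel
theorem tdc25 : (td 25).chk = true := by decide +kernel
theorem tdc26 : (td 26).chk = true := by decide +kernel
theorem tdc27 : (td 27).chk = true := by decide +kernel
theorem tdc28 : (td 28).chk = true := by decide +kernel
theorem tdc29 : (td 29).chk = true := by decide +kernel
theorem tdc30 : (td 30).chk = true := by decide +kernel

end H10.Mon
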