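import Mathlib
import Cfsg.Agent.H10.MD6

/-! Kernel checks of the triples. -/

set_option autoImplicit false
set_option linter.all false
set_option maxRecDepth 100000
set_option Elab.async false

namespace H10.Mon

theorem tdc31 : (td 31).chk = true := by decide +kernel
theorem tdc32 : (td 32).chk = true := by decide +kernel
theorem tdc33 : (td 33).chk = true := by decide +kernel
theorem tdc34 : (td 34).chk = true := by decide +kernel
theorem tdc35 : (td 35).chk = true := by decide +kernel
theorem tdc36 : (td 36).chk = true := by decide +kernel
theorem tdc37 : (td 37).chk = true := by decide +kernel
theorem tdc38 : (td 38).chk = true := by decide +kernel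
theorem tdc39 : (td 39).chk = true := by decide +kernel
theorem tdc40 : (td 40).chk = true := by decide +kernel
theorem tdc41 : (td 41).chk = true := by decide +kernel
theorem tdc42 : (td 42).chk = true := by decide +kernel
theorem tdc43 : (td 43).chk = true := by decide +kernel
theorem tdc44 : (td 44).chk = true := by decide +kernel
theorem tdc45 : (td 45).chk = true := by decide +kernel
theorem tdc46 : (td 46).chk = true := by decide +kernel
theorem tdc47 : (td 47).chk = true := by decide +kernel
theorem tdc48 : (td 48).chk = true := by decide +kernel
theorem tdc49 : (td 49).chk = true := by decide +kernel
theorem tdc50 : (td 50).chk = true := by decide +kernel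
theorem tdc51 : (td 51).chk = true := by decide +kernel
theorem tdc52 : (td 52).chk = true := by decide +kernel
theorem tdc53 : (td 53).chk = true := by decide +kernel
theorem tdc54 : (td 54).chk = true := by decide +kernel
theorem tdc55 : (td 55).chk = true := by decide +kernel
theorem tdc56 : (td 56).chk = true := by decide +kernel
theorem tdc57 : (td 57).chk = true := by decide +kernel
theorem tdc58 : (td 58).chk = true := by decide +kernel
theorem tdc59 : (td 59).chk = true := by decide +kernel
theorem tdc60 : (td 60).chk = true := by decide +kernel
theorem tdc61 : (td 61).chk = true := by decide +kernel

end H10.Mon
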