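import Mathlib
import Cfsg.Agent.H10.MD6

/-! Kernel checks of the triples. -/

set_option autoImplicit false
set_option linter.all false
set_option maxRecDepth 100000
set_option Elab.async false

namespace H10.Mon

theorem tdc62 : (td 62).chk = true := by decide +kernel
theorem tdc63 : (td 63).chk = true := by decide +kernel
theorem tdc64 : (td 64).chk = true := by decide +kernel
theorem tdc65 : (td 65).chk = true := by decide +kernel
theorem tdc66 : (td 66).chk = true := by decide +kernel
theorem tdc67 : (td 67).chk = true := by decide +kernel
theorem tdc68 : (td 68).chk = true := by decide +kernel
theorem tdc69 : (td 69).chk = true := by decide +kernel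
theorem tdc70 : (td 70).chk = true := by decide +kernel
theorem tdc71 : (td 71).chk = true := by decide +kernel
theorem tdc72 : (td 72).chk = true := by decide +kernel
theorem tdc73 : (td 73).chk = true := by decide +kernel
theorem tdc74 : (td 74).chk = true := by decide +kernel
theorem tdc75 : (td 75).chk = true := by decide +kernel
theorem tdc76 : (td 76).chk = true := by decide +kernel
theorem tdc77 : (td 77).chk = true := by decide +kernel
theorem tdc78 : (td 78).chk = true := by decide +kernel
theorem tdc79 : (td 79).chk = true := by decide +kernel
theorem tdc80 : (td 80).chk = true := by decide +kernel
theorem tdc81 : (td 81).chk = true := by decide +kernel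
theorem tdc82 : (td 82).chk = true := by decide +kernel
theorem tdc83 : (td 83).chk = true := by decide +kernel
theorem tdc84 : (td 84).chk = true := by decide +kernel
theorem tdc85 : (td 85).chk = true := by decide +kernel
theorem tdc86 : (td 86).chk = true := by decide +kernel
theorem tdc87 : (td 87).chk = true := by decide +kernel
theorem tdc88 : (td 88).chk = true := by decide +kernel
theorem tdc89 : (td 89).chk = true := by decide +kernel
theorem tdc90 : (td 90).chk = true := by decide +kernel
theorem tdc91 : (td 91).chk = true := by decide +kernel
theorem tdc92 : (td 92).chk = true := by decide +kernel

end H10.Mon
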