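import Mathlib
import Cfsg.Agent.H10.MD6

/-! Kernel checks of the triples. -/

set_option autoImplicit false
set_option linter.all false
set_option maxRecDepth 100000
set_option Elab.async false

namespace H10.Mon

theorem tdc93 : (td 93).chk = true := by decide +kernel
theorem tdc94 : (td 94).chk = true := by decide +kernel
theorem tdc95 : (td 95).chk = true := by decide +kernel
theorem tdc96 : (td 96).chk = true := by decide +kernel
theorem tdc97 : (td 97).chk = true := by decide +kernel
theorem tdc98 : (td 98).chk = true := by decide +kernel
theorem tdc99 : (td 99).chk = true := by decide +kernel
theorem tdc100 : (td 100).chk = true := by decide +kernel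
theorem tdc101 : (td 101).chk = true := by decide +kernel
theorem tdc102 : (td 102).chk = true := by decide +kernel
theorem tdc103 : (td 103).chk = true := by decide +kernel
theorem tdc104 : (td 104).chk = true := by decide +kernel
theorem tdc105 : (td 105).chk = true := by decide +kernel
theorem tdc106 : (td 106).chk = true := by decide +kernel
theorem tdc107 : (td 107).chk = true := by decide +kernel
theorem tdc108 : (td 108).chk = true := by decide +kernel
theorem tdc109 : (td 109).chk = true := by decide +kernel
theorem tdc110 : (td 110).chk = true := by decide +kernel
theorem tdc111 : (td 111).chk = true := by decide +kernel
theorem tdc112 : (td 112).chk = true := by decide +kernel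
theorem tdc113 : (td 113).chk = true := by decide +kernel
theorem tdc114 : (td 114).chk = true := by decide +kernel
theorem tdc115 : (td 115).chk = true := by decide +kernel
theorem tdc116 : (td 116).chk = true := by decide +kernel
theorem tdc117 : (td 117).chk = true := by decide +kernel
theorem tdc118 : (td 118).chk = true := by decide +kernel
theorem tdc119 : (td 119).chk = true := by decide +kernel
theorem tdc120 : (td 120).chk = true := by decide +kernel
theorem tdc121 : (td 121).chk = true := by decide +kernel
theorem tdc122 : (td 122).chk = true := by decide +kernel

end H10.Mon
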