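import Mathlib
import Cfsg.Agent.H10.MTri

/-!
# The triality element before its invariance is known; spanning vectors
-/

set_option autoImplicit false
set_option linter.all false

namespace H10.Mon

open Cfsg H9 Matrix

/-- The centraliser of the four-group `⟨zz, xO⟩`. -/
def NE : Subgroup GT where
  carrier := {g | co g • Om = Om ∧ ep g Om = 0}
  one_mem' := ⟨by rw [map_one, one_smul], ep_one _⟩
  mul_mem' := fun {a b} ha hb => ⟨by rw [map_mul, mul_smul, hb.1, ha.1], by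
    rw [ep_mul, hb.1, ha.2, hb.2, add_zero]⟩
  inv_mem' := fun {a} ha => by
    have h1 : co a⁻¹ • Om = Om := by rw [map_inv, inv_smul_eq_iff, ha.1]
    refine ⟨h1, ?_⟩
    have := ep_mul a a⁻¹ Om
    rwa [mul_inv_cancel, ep_one, h1, ha.2, add_zero, eq_comm] at this

/-- The operator identities. -/
structure Pre (τ : U ≃ₗ[ℝ] U) : Prop where
  cube : τ ^ 3 = 1
  zz_conj : τ * zz * τ⁻¹ = xO
  xO_conj : τ * xO * τ⁻¹ = zz * xO
  inv : ∃ c : C, c.1 11 = 1 ∧ rho (qe 0 c) * τ * (rho (qe 0 c))⁻¹ = τ⁻¹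
  perm : ∀ c ∈ g24, ∃ (g : GT) (σ : M24), (σ : Equiv.Perm P) = H9.pm c ∧ co g = permHom σ ∧
    τ * rho g * τ⁻¹ ∈ GG
  oct : ∃ (g : GT) (o : GC), (o.1.card = 8 ∨ o.1.card = 16) ∧ co g = mono 1 o ∧ τ * rho g * τ⁻¹ ∈ GG
  xo : τ * rho (qe 0 (kap (eL 0))) * τ⁻¹ ∈ GG
  one : τ one = one

noncomputable def aS (c : S) : U := mk (pm c) 0 0
noncomputable def xS (c : S) : U := mk 0 (Pi.single c 1) 0
noncomputable def wB (p : P × K) : U := mk 0 0 (Pi.single p 1)
noncomputable def eA (i j : P) : U := mk (Matrix.single i j 1 + Matrix.single j i 1) 0 0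

/-- `τ` preserves the value of `F` on the triple. -/
def Inv (τ : U ≃ₗ[ℝ] U) (u v w : U) : Prop := F (τ u) (τ v) (τ w) = F u v w

/-- `R` contains representatives of the even short classes under the stabiliser of `b` in `N0`. -/
def Reps (b : S) (R : Set S) : Prop :=
  ∀ c : S, c.1.1 11 = 0 → ∃ h ∈ N0, h • b = b ∧ ∃ r ∈ R, h • r = c

/-- The checks with base class `b`. -/
structure Chk (τ : U ≃ₗ[ℝ] U) (b : S) (R : Set S) : Prop where
  reps : Reps b R
  sss : ∀ r ∈ R, ∀ e : S, e.1 = b.1 + r.1 ∨ e.1 = b.1 + r.1 + Om → Inv τ (xS b) (xS r) (xS e)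
  ssa : ∀ r ∈ R, r.1.1 = 0 → ∀ e : S, e.1 = b.1 ∨ e.1 = b.1 + Om → Inv τ (xS b) (xS e) (aS r)

/-- The stabiliser of a vector. -/
noncomputable def Stb (a : U) : Subgroup GT := (MulAction.stabilizer (U ≃ₗ[ℝ] U) a).comap rho

theorem mem_Stb {a : U} {g : GT} : g ∈ Stb a ↔ rho g a = a := Iff.rfl

/-- The orbit of a class under the stabiliser of a vector. -/
def Orb (a : U) (c : C) : Set C := {d | ∃ t ∈ Stb a, co t • c = d}

end H10.Mon
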