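import Mathlib
import Cfsg.Agent.H10.MGrp
import Cfsg.Agent.H10.MBaby
import Cfsg.Agent.H10.MPre

/-! # Generation of `N0`; `τ` normalises `NE`. -/

set_option autoImplicit false
set_option linter.all false

namespace H10.Mon

open Cfsg H9 Matrix
open scoped symmDiff Pointwise

theorem mono_eq (σ : M24) (c : GC) : mono σ c = mono 1 c * permHom σ := by
  rw [permHom_apply, mono_mul]
  exact congrArg₂ mono (one_mul _).symm (Subtype.ext (by simp [gc0]; exact (symmDiff_bot _).symm))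

theorem perm_mul_mono (σ : M24) (c : GC) :
    permHom σ * mono 1 c = mono 1 ⟨(σ : Equiv.Perm P) • c.1, H9.smul_mem_GC σ.2 c.2⟩ * permHom σ := by
  rw [← mono_eq, permHom_apply, mono_mul]
  exact congrArg₂ mono (mul_one _) (Subtype.ext (by simp [gc0]))

theorem mono_one_mul (c d : GC) :
    mono 1 c * mono 1 d = mono 1 ⟨c.1 ∆ d.1, symmDiff_mem_GC c.2 d.2⟩ := by
  rw [mono_mul]
  exact congrArg₂ mono (mul_one _) (Subtype.ext (by simp))

theorem neg1_eq : neg1 = mono 1 ⟨Finset.univ, univ_mem_GC⟩ := co_ext fun v => Subtype.ext (by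
  rw [neg1_smul, mono_smul]
  funext i
  simp only [signedPerm, Finset.mem_univ, if_true]
  rfl)

theorem N0_le {H : Subgroup G0} (h1 : neg1 ∈ H)
    (h2 : ∀ c ∈ g24, ∃ σ : M24, (σ : Equiv.Perm P) = H9.pm c ∧ permHom σ ∈ H)
    (h3 : ∃ o : GC, (o.1.card = 8 ∨ o.1.card = 16) ∧ mono 1 o ∈ H) : N0 ≤ H := by
  have a1 : ∀ σ : M24, permHom σ ∈ H := fun σ => by
    have : cl g24 ≤ (H.comap permHom).map M24.subtype := by
      rw [cl, Subgroup.closure_le]
      rintro _ ⟨c, hc, rfl⟩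
      obtain ⟨σ, e, hσ⟩ := h2 c hc
      exact ⟨σ, hσ, e⟩
    rw [cl_g24] at this
    obtain ⟨σ', e1, e2⟩ := this σ.2
    exact (Subtype.ext e2 : σ' = σ) ▸ e1
  let A : Finset P → Prop := fun c => ∃ h : c ∈ GC, mono 1 ⟨c, h⟩ ∈ H
  have a2 : ∀ c d, A c → A d → A (c ∆ d) := by
    rintro c d ⟨hc, e1⟩ ⟨hd, e2⟩
    exact ⟨_, mono_one_mul ⟨c, hc⟩ ⟨d, hd⟩ ▸ H.mul_mem e1 e2⟩
  have a3 : ∃ o ∈ octads, A o := by
    obtain ⟨o, e | e, ho⟩ := h3
    · exact ⟨o.1, ⟨o.2, e⟩, o.2, ho⟩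
    · refine ⟨o.1 ∆ Finset.univ, ⟨symmDiff_mem_GC o.2 univ_mem_GC, ?_⟩,
        a2 _ _ ⟨o.2, ho⟩ ⟨_, neg1_eq ▸ h1⟩⟩
      rw [show o.1 ∆ Finset.univ = o.1ᶜ from symmDiff_top _, Finset.card_compl, e, card_P]
  have a4 : ∀ o ∈ octads, A o := fun o ho => by
    obtain ⟨o', ho', hc, e⟩ := a3
    obtain ⟨σ, hσ, rfl⟩ := M24_trans_octads ho' ho
    have := H.mul_mem (a1 ⟨σ, hσ⟩) e
    rw [perm_mul_mono] at this
    exact ⟨_, (H.mul_mem_cancel_right (a1 _)).1 this⟩
  intro g hg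
  obtain ⟨σ, ⟨c, hc⟩, rfl⟩ := mem_N0_iff.1 hg
  obtain ⟨m, hm, rfl⟩ := mem_GC_iff.1 hc
  have : A (ofMask (cw m)) := by
    rw [(cw_facts hm).1]
    refine lin_induction (fun n => A (ofMask n)) ?_ (fun a b => ?_) _
      (fun b hb => a4 _ (basL_octads b hb)) m
    · rw [show ofMask 0 = ∅ by ext p; simp]
      exact ⟨empty_mem_GC, by rw [show mono 1 ⟨∅, empty_mem_GC⟩ = 1 from mono_one]; exact H.one_mem⟩
    · simp only [ofMask_xor]; exact a2 _ _
  rw [mono_eq]
  exact H.mul_mem this.2 (a1 σ)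

theorem fL_four : ∀ (j : Fin 12) (i : P), (fL j : V) i % 4 = 0 := fun j => by
  rw [fL_coe]; revert j; decide +kernel

theorem kap_fst_zero {x : L} (h : ∀ i, (x : V) i % 4 = 0) : (kap x).1 = 0 := funext fun j => by
  obtain ⟨m, hm⟩ : (16 : ℤ) ∣ dotInt (x : V) (fL j : V) := Finset.dvd_sum fun i _ =>
    mul_dvd_mul (Int.dvd_of_emod_eq_zero (h i)) (Int.dvd_of_emod_eq_zero (fL_four j i))
  rw [kap_fst, ip_apply, hm, show 16 * m / 8 = 2 * m by omega]
  push_cast
  rw [show (2 : ZMod 2) = 0 from rfl, zero_mul, Pi.zero_apply]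

theorem exists_four {c : C} (hc : c.1 = 0) : ∃ x : L, kap x = c ∧ ∀ i, (x : V) i % 4 = 0 := by
  refine ⟨sec c, kap_sec c, fun i => Int.emod_eq_zero_of_dvd ?_⟩
  simp only [sec, hc, Pi.zero_apply, ZMod.val_zero, zero_smul, Finset.sum_const_zero, zero_add,
    AddSubgroup.val_finset_sum, Finset.sum_apply, AddSubgroup.coe_nsmul, Pi.smul_apply]
  exact Finset.dvd_sum fun j _ => by
    rw [nsmul_eq_mul]; exact (Int.dvd_of_emod_eq_zero (fL_four j i)).mul_left _

theorem fst_smul_zero {h : G0} (hh : h ∈ N0) {c : C} (hc : c.1 = 0) : (h • c).1 = 0 := by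
  obtain ⟨x, rfl, hx⟩ := exists_four hc
  obtain ⟨σ, d, rfl⟩ := mem_N0_iff.1 hh
  rw [smul_kap]
  refine kap_fst_zero fun i => ?_
  have := hx (σ.1.symm i)
  rw [mono_smul, signedPerm]
  split_ifs <;> omega

theorem odd_eq (c : C) : c.1 11 = bb c Om + bb Om c := by
  rw [Om_eq, bb, bb, dotProduct_single, mul_one, zero_dotProduct, add_zero]

theorem odd_smul {h : G0} (hh : h ∈ N0) (c : C) : (h • c).1 11 = c.1 11 := by
  rw [odd_eq, odd_eq, ← bb_smul h c, fix_Om.2 hh]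

theorem norm_eL : ∀ j : Fin 12, sqNorm (eL j : V) = 32 := fun j => by
  rw [eL_coe, norm_vc]; revert j; decide +kernel

theorem shp_one {x : L} (hx : sqNorm (x : V) = 32) (h : shp (x : V) = 1) : (kap x).1 11 = 1 := by
  obtain ⟨g, hg, e⟩ := tr_N0 x (eL 11) hx (norm_eL _) (by
    rw [h, eL_coe, shp_vc]; decide +kernel)
  rw [← odd_smul hg, smul_kap, e, kap_eL]; rfl

theorem shp_two {x : L} (hx : sqNorm (x : V) = 32) (h : shp (x : V) = 2) :
    (kap x).1 ≠ 0 ∧ (kap x).1 11 = 0 := by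
  obtain ⟨g, hg, e⟩ := tr_N0 x (eL 0) hx (norm_eL _) (by
    rw [h, eL_coe, shp_vc]; decide +kernel)
  refine ⟨fun h0 => ?_, by rw [← odd_smul hg, smul_kap, e, kap_eL]; rfl⟩
  have := fst_smul_zero hg h0
  rw [smul_kap, e, kap_eL] at this
  simpa using congrFun this 0

theorem shp_cases (c : S) : (shp (rep c : V) = 0 ∧ c.1.1 = 0) ∨
    (shp (rep c : V) = 1 ∧ c.1.1 11 = 1) ∨ (shp (rep c : V) = 2 ∧ c.1.1 ≠ 0 ∧ c.1.1 11 = 0) := by
  rw [← kap_rep]
  rcases shp_lt (rep c : V) with h | h | h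
  exacts [.inl ⟨h, kap_fst_zero (shp_eq_zero.1 h)⟩, .inr (.inl ⟨h, shp_one (rep_norm c) h⟩),
    .inr (.inr ⟨h, shp_two (rep_norm c) h⟩)]

/-- `N0` has three orbits on the short classes. -/
theorem trans_N0 {c d : S} (h1 : c.1.1 = 0 ↔ d.1.1 = 0) (h2 : c.1.1 11 = d.1.1 11) :
    ∃ h ∈ N0, h • c = d := by
  have : shp (rep c : V) = shp (rep d : V) := by
    have k : ∀ {c : S}, c.1.1 = 0 → c.1.1 11 ≠ 1 := fun h => by rw [h]; exact zero_ne_one
    rcases shp_cases c with ⟨a, b⟩ | ⟨a, b⟩ | ⟨a, b⟩ <;>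
      rcases shp_cases d with ⟨a', b'⟩ | ⟨a', b'⟩ | ⟨a', b'⟩
    · rw [a, a']
    · exact absurd b' (k (h1.1 b))
    · exact absurd (h1.1 b) b'.1
    · exact absurd b (k (h1.2 b'))
    · rw [a, a']
    · rw [h2, b'.2] at b; exact absurd b zero_ne_one
    · exact absurd (h1.2 b') b.1
    · rw [← h2, b.2] at b'; exact absurd b' zero_ne_one
    · rw [a, a']
  obtain ⟨h, hh, e⟩ := tr_N0 (rep c) (rep d) (rep_norm c) (rep_norm d) this
  exact ⟨h, hh, Subtype.ext (by rw [smul_val, ← kap_rep, smul_kap, e, kap_rep])⟩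

theorem mem_NE {g : GT} : g ∈ NE ↔ co g • Om = Om ∧ ep g Om = 0 := Iff.rfl

theorem qe_mem_NE {t : ZMod 2} {c : C} : qe t c ∈ NE ↔ c.1 11 = 0 := by
  rw [mem_NE, co_qe, one_smul, ep_qe, ← odd_eq, and_iff_right rfl]

theorem mem_NE_iff {g : GT} : g ∈ NE ↔ rho g * xO = xO * rho g := by
  refine ⟨fun h => ?_, fun h => (comm_qe h).symm⟩
  rw [← mul_inv_eq_iff_eq_mul, xO, ← map_inv, ← map_mul, ← map_mul, conj_qe, h.1, h.2, add_zero]

theorem NE_or {g : GT} (h : co g • Om = Om) {c : C} (hc : c.1 11 = 1) :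
    g ∈ NE ∨ g * qe 0 c ∈ NE := by
  rcases z2 (ep g Om) with a | a
  · exact .inl ⟨h, a⟩
  · exact .inr ⟨by rw [map_mul, co_qe, mul_one, h], by
      rw [ep_mul, ep_qe, ← odd_eq, hc, co_qe, one_smul, a, two_zmod]⟩

theorem exists_NE {h : G0} (hh : h ∈ N0) : ∃ g ∈ NE, co g = h := by
  obtain ⟨g, rfl⟩ := co_surj h
  rcases NE_or (fix_Om.2 hh) (c := (Pi.single 11 1, 0)) rfl with a | a
  exacts [⟨g, a, rfl⟩, ⟨_, a, by rw [map_mul, co_qe, mul_one]⟩]

def oaC : List ℕ := [0x0010000e001200120012001000120012001000120010001000100010000e001000100010001000100010001000100010,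
  0x00120010001200120010001000100010001200100012001000100010001000100010000e00100012001000100010000e,
  0x001000120010001000100012001000120012001000120010001000100010001000100012001000100012001000100012,
  0x000e0010001000120012001000100010001200120012001000120010000e001000100010001000100010001000100010,
  0x000e0012001000100010001000100012001000100012001000100010001000100010001000100012001000120012000e,
  0x00100010000e001000100012001000100012001200120012000e00100010001000100010001000100010001000100012,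
  0x00120010001200120012001000120010000e001000100010001000100010001000100010001000100012000e00100010,
  0x001200120010001000100010001000120010001000120010001000100010001000100010001000120010001200120012,
  0x000e00120010001200120012001200100010001000100010001200100010000e00100010001000100010001000100010,
  0x000e0012001000100012001000120010001200100010001200100012000e001000100010001000100010001000100010,
  0x000e00100012001200100012001200100010001200120010001000100010001000100010000e00100010001000100010]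

theorem oa_ok : ∀ j : Fin 12, j ≠ 11 → inL (oaC.getD j 0) = true ∧
    dotC (oaC.getD j 0) (oaC.getD j 0) = 32 ∧ shpC (oaC.getD j 0) = 2 ∧
    dotC (fC.getD j 0) (fC.getD j 0) = 2 * dotC (oaC.getD j 0) (fC.getD j 0) := by decide +kernel

theorem span_even (W : AddSubgroup C) (h0 : Om ∈ W)
    (h : ∀ c : S, c.1.1 ≠ 0 → c.1.1 11 = 0 → c.1 ∈ W) {c : C} (hc : c.1 11 = 0) : c ∈ W := by
  let φ : C →+ C := AddMonoidHom.mk' (fun c => c + c.1 11 • ((Pi.single 11 1, 0) : C)) fun a b => by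
    rw [Prod.fst_add, Pi.add_apply, add_smul, add_add_add_comm]
  have := C_basis (W.comap φ) (fun j => by
      change _ + (Pi.single j 1 : K) 11 • _ ∈ W
      by_cases e : j = 11
      · rw [e, Pi.single_eq_same, one_smul, two_zmod]; exact W.zero_mem
      · rw [Pi.single_eq_of_ne' e, zero_smul, add_zero, ← kap_eL]
        exact h ⟨_, _, norm_eL j, rfl⟩ (by
          simp only [kap_eL]; exact fun h0 => by simpa using congrFun h0 j)
          (by simp only [kap_eL]; exact Pi.single_eq_of_ne' e _))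
    (fun j => by
      change _ + (0 : ZMod 2) • _ ∈ W
      rw [zero_smul, add_zero]
      by_cases e : j = 11
      · rwa [e, ← Om_eq]
      · obtain ⟨a1, a2, a3, a4⟩ := oa_ok j e
        have b1 : sqNorm (lv (oaC.getD j 0) : V) = 32 := by rw [lv_coe a1, norm_vc, a2]
        have b2 := shp_two b1 (by rw [lv_coe a1, shp_vc, a3])
        have b3 : sqNorm ((lv (oaC.getD j 0) - fL j : L) : V) = 32 := by
          rw [AddSubgroup.coe_sub, sqNorm_sub, b1, lv_coe a1, fL_coe, norm_vc, dot_vc, a4]; ring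
        have b4 : kap (lv (oaC.getD j 0) - fL j) = kap (lv (oaC.getD j 0)) + (0, Pi.single j 1) := by
          rw [sub_eq_add_neg, map_add, kap_neg, kap_fL]
        have := W.add_mem (h ⟨_, _, b1, rfl⟩ b2.1 b2.2) (h ⟨_, _, b3, rfl⟩
          (by simp only [b4, Prod.fst_add, add_zero]; exact b2.1)
          (by simp only [b4, Prod.fst_add, add_zero]; exact b2.2))
        simp only [b4] at this
        rwa [← add_assoc, two_zmod, zero_add] at this) c
  change _ + _ ∈ W at this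
  rwa [hc, zero_smul, add_zero] at this

variable {τ : U ≃ₗ[ℝ] U}

theorem xO_sq : xO * xO = 1 := by
  rw [xO, ← map_mul, qe_mul, two_zmod Om, Om_eq, bb, zero_dotProduct, add_zero, add_zero,
    rho_qe_zero]

theorem xO_zz : xO * zz = zz * xO := zz_comm _

theorem Pre.zx_conj (h : Pre τ) : τ * (zz * xO) * τ⁻¹ = zz := by
  rw [← conj_mul, h.zz_conj, h.xO_conj, ← mul_assoc, xO_zz, mul_assoc, xO_sq, mul_one]

theorem Pre.inv_eq (h : Pre τ) : τ⁻¹ = τ * τ := by
  rw [inv_eq_iff_mul_eq_one, ← h.cube, pow_succ', sq]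

theorem Pre.conj {τ : U ≃ₗ[ℝ] U} (h : Pre τ) {g : GT} (hg : g ∈ NE) :
    ∃ g' ∈ NE, τ * rho g * τ⁻¹ = rho g' := by
  let N : Subgroup (U ≃ₗ[ℝ] U) := GG.comap (MulAut.conj τ).toMonoidHom
  have mN : ∀ {x}, x ∈ N ↔ τ * x * τ⁻¹ ∈ GG := Iff.rfl
  have hz : zz ∈ N := mN.2 (h.zz_conj ▸ ⟨_, rfl⟩)
  have a1 : ∀ k, rho k ∈ N → k ∈ NE := fun k hk => by
    obtain ⟨l, hl⟩ := mN.1 hk
    have := zz_comm l
    rw [hl, ← h.zx_conj, conj_mul, conj_mul, mul_left_inj, mul_right_inj, ← mul_assoc, zz_comm,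
      mul_assoc, mul_assoc, mul_right_inj] at this
    exact mem_NE_iff.2 this
  have a2 : N0 ≤ (N.comap rho).map co := N0_le
    ⟨m1, by rw [SetLike.mem_coe, Subgroup.mem_comap, rho_m1]; exact N.one_mem, co_m1⟩
    (fun c hc => by
      obtain ⟨g, σ, e1, e2, e3⟩ := h.perm c hc
      exact ⟨σ, e1, g, e3, e2⟩)
    (by obtain ⟨g, o, e1, e2, e3⟩ := h.oct; exact ⟨o, e1, g, e3, e2⟩)
  have a3 : ∀ {c : C}, c.1 11 = 0 → c ∈ Wc N hz := fun {c} => span_even _
    (mN.2 (by rw [← xO, h.xO_conj]; exact GG.mul_mem ⟨_, rfl⟩ ⟨_, rfl⟩)) fun d d1 d2 => by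
      obtain ⟨k, hk, rfl⟩ := trans_N0 (c := ⟨_, _, norm_eL 0, rfl⟩) (d := d) (by
        simp only [kap_eL]
        exact iff_of_false (fun h0 => by simpa using congrFun h0 0) d1)
        (by simp only [kap_eL]; rw [d2]; rfl)
      obtain ⟨k, k1, rfl⟩ := a2 hk
      exact smul_mem_Wc (fun n hn => N.mul_mem (N.mul_mem k1 hn) (N.inv_mem k1)) h.xo
  obtain ⟨k, k1, k2⟩ := a2 (fix_Om.1 hg.1)
  obtain ⟨t, c, e⟩ := (co_eq_one (g := k⁻¹ * g)).1 (by rw [map_mul, map_inv, k2, inv_mul_cancel])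
  have a4 : rho g ∈ N := by
    rw [← mul_inv_cancel_left k g, map_mul, e]
    exact N.mul_mem k1 (qe_mem_of_zz hz (a3 (qe_mem_NE.1
      (e ▸ NE.mul_mem (NE.inv_mem (a1 k k1)) hg))) t)
  obtain ⟨l, hl⟩ := mN.1 a4
  refine ⟨l, mem_NE_iff.2 ?_, hl.symm⟩
  rw [hl, ← h.zz_conj, conj_mul, conj_mul, zz_comm]

theorem Pre.conj' {τ : U ≃ₗ[ℝ] U} (h : Pre τ) {g : GT} (hg : g ∈ NE) :
    ∃ g' ∈ NE, τ⁻¹ * rho g * τ = rho g' := by
  obtain ⟨k, hk, e1⟩ := h.conj hg
  obtain ⟨l, hl, e2⟩ := h.conj hk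
  refine ⟨l, hl, ?_⟩
  rw [← e2, ← e1]
  conv_lhs => rw [← inv_inv τ, inv_inv τ⁻¹, h.inv_eq]
  group

end H10.Mon
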