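import Mathlib
import Cfsg.Agent.H10.MAut
import Cfsg.Agent.H10.MGen

/-! # Invariance of `F` from finitely many checks. -/

set_option autoImplicit false
set_option linter.all false

namespace H10.Mon

open Cfsg H9 Matrix
open scoped Kronecker

/-! ### Spanning vectors -/

/-- The embedding of the symmetric matrices. -/
noncomputable def aL : Matrix P P ℝ →ₗ[ℝ] U where
  toFun A := mk A 0 0
  map_add' A B := U_ext (by ext i j; simp [mA, mk]; ring) (by simp) (by simp)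
  map_smul' a A := U_ext (by ext i j; simp [mA, mk]; ring) (by simp) (by simp)

/-- The embedding of the functions on the short classes. -/
noncomputable def sL : (S → ℝ) →ₗ[ℝ] U where
  toFun f := mk 0 f 0
  map_add' A B := U_ext (by ext i j; simp [mA, mk]) (by simp only [fS_add, fS_mk])
    (by simp only [wW_add, wW_mk, add_zero])
  map_smul' a A := U_ext (by ext i j; simp [mA, mk]) (by simp only [fS_smul, fS_mk, RingHom.id_apply])
    (by simp only [wW_smul, wW_mk, smul_zero])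

theorem mA_aL {A : Matrix P P ℝ} (h : Aᵀ = A) : mA (aL A) = A := mA_mk h _ _
theorem fS_aL (A : Matrix P P ℝ) : fS (aL A) = 0 := fS_mk _ _ _
theorem wW_aL (A : Matrix P P ℝ) : wW (aL A) = 0 := wW_mk _ _ _
theorem mA_sL (f : S → ℝ) : mA (sL f) = 0 := mA_mk transpose_zero _ _
theorem fS_sL (f : S → ℝ) : fS (sL f) = f := fS_mk _ _ _
theorem wW_sL (f : S → ℝ) : wW (sL f) = 0 := wW_mk _ _ _
theorem aS_eq (c : S) : aS c = aL (pm c) := rfl
theorem xS_eq (c : S) : xS c = sL (Pi.single c 1) := rfl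
theorem wB_eq (p : P × K) : wB p = WvL (Pi.single p 1) := rfl
theorem eA_eq (i j : P) : eA i j = aL (single i j 1 + single j i 1) := rfl
theorem mA_aS (c : S) : mA (aS c) = pm c := mA_aL (pm_symm c)
theorem fS_aS (c : S) : fS (aS c) = 0 := fS_aL _
theorem wW_aS (c : S) : wW (aS c) = 0 := wW_aL _
theorem mA_xS (c : S) : mA (xS c) = 0 := mA_sL _
theorem fS_xS (c : S) : fS (xS c) = Pi.single c 1 := fS_sL _
theorem wW_xS (c : S) : wW (xS c) = 0 := wW_sL _
theorem mA_wB (p : P × K) : mA (wB p) = 0 := mA_Wv _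
theorem fS_wB (p : P × K) : fS (wB p) = 0 := fS_Wv _
theorem wW_wB (p : P × K) : wW (wB p) = Pi.single p 1 := wW_Wv _

theorem aL_single (i j : P) (x : ℝ) : aL (single i j x) = (x / 2) • eA i j :=
  U_ext (by
    ext k l
    simp only [aL, mA, mk, eA, LinearMap.coe_mk, AddHom.coe_mk, of_apply, Sum.elim_inl, Sym2.lift_mk,
      Pi.smul_apply, smul_eq_mul, Matrix.add_apply, single_apply, and_comm (a := j = k),
      and_comm (a := j = l)]
    split_ifs <;> ring)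
    (by rw [fS_aL, fS_smul, eA_eq, fS_aL, smul_zero]) (by rw [wW_aL, wW_smul, eA_eq, wW_aL, smul_zero])

theorem mem_of_eA {M : Submodule ℝ U} (h : ∀ i j, eA i j ∈ M) {u : U} (h1 : fS u = 0)
    (h2 : wW u = 0) : u ∈ M := by
  have e : u = aL (mA u) := U_ext (mA_aL (mA_symm u)).symm (by rw [h1, fS_aL]) (by rw [h2, wW_aL])
  rw [e]
  exact Matrix.induction_on' (P := fun A => aL A ∈ M) (mA u) (by rw [map_zero]; exact M.zero_mem)
    (fun p q hp hq => by rw [map_add]; exact M.add_mem hp hq)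
    fun i j x => by rw [aL_single]; exact M.smul_mem _ (h i j)

theorem exists_BC {i j : P} (h : i ≠ j) {a : ℤ} (ha : a = 1 ∨ a = -1) : ∃ c : S, c.1.1 = 0 ∧
    pm c = (2 : ℝ) • (single i i 1 + single j j 1 + (a : ℝ) • (single i j 1 + single j i 1)) := by
  have h4 : ∀ k, (4 : ℤ) ∣ (Pi.single i 4 + Pi.single j (4 * a) : V) k := fun k => by
    simp only [Pi.add_apply, Pi.single_apply]
    split_ifs <;> omega
  let x : L := ⟨Pi.single i 4 + Pi.single j (4 * a), mem_L_of_four h4 (by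
    simp only [Pi.add_apply, Finset.sum_add_distrib, Finset.sum_pi_single', Finset.mem_univ, if_true]
    omega)⟩
  have hx : sqNorm (x : V) = 32 := by
    change sqNorm (_ + _) = _
    rw [sqNorm_add, sqNorm_single, sqNorm_single, dot_single_left, Pi.single_eq_of_ne h]
    rcases ha with rfl | rfl <;> norm_num
  refine ⟨⟨kap x, x, hx, rfl⟩, kap_fst_zero fun k => Int.emod_eq_zero_of_dvd (h4 k), ?_⟩
  have hr : rv x = (4 : ℝ) • Pi.single i 1 + (4 * a : ℝ) • Pi.single j 1 := by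
    ext k
    simp only [rv, x, Pi.add_apply, Pi.single_apply, Pi.smul_apply, smul_eq_mul]
    split_ifs <;> push_cast <;> ring
  have a2 : (a : ℝ) * a = 1 := by rcases ha with rfl | rfl <;> norm_num
  refine (pm_eq hx rfl).trans ?_
  rw [hr]
  simp only [single_eq_single_vecMulVec_single, add_vecMulVec, vecMulVec_add, smul_vecMulVec,
    vecMulVec_smul]
  linear_combination (norm := module) (2 * a2) • vecMulVec (Pi.single j (1 : ℝ)) (Pi.single j (1 : ℝ))

theorem eA_mem {M : Submodule ℝ U} (h : ∀ c : S, c.1.1 = 0 → aS c ∈ M) (i j : P) : eA i j ∈ M := by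
  have k : ∀ {i j : P}, i ≠ j → aL (single i j 1 + single j i 1) ∈ M ∧
      aL (single i i 1 + single j j 1) ∈ M := fun {i j} hij => by
    obtain ⟨c, c1, c2⟩ := exists_BC hij (Or.inl rfl)
    obtain ⟨d, d1, d2⟩ := exists_BC hij (Or.inr rfl)
    have e1 : (single i j 1 + single j i 1 : Matrix P P ℝ) = (1 / 4 : ℝ) • (pm c - pm d) := by
      rw [c2, d2]; push_cast; module
    have e2 : (single i i 1 + single j j 1 : Matrix P P ℝ) = (1 / 4 : ℝ) • (pm c + pm d) := by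
      rw [c2, d2]; push_cast; module
    rw [e1, e2, map_smul, map_smul, map_sub, map_add]
    exact ⟨M.smul_mem _ (M.sub_mem (h c c1) (h d d1)), M.smul_mem _ (M.add_mem (h c c1) (h d d1))⟩
  by_cases e : i = j
  · subst e
    obtain ⟨j, k', h1, h2, h3⟩ : ∃ j k : P, i ≠ j ∧ i ≠ k ∧ j ≠ k := by revert i; decide
    have : (single i i 1 + single i i 1 : Matrix P P ℝ) = (single i i 1 + single j j 1) +
        (single i i 1 + single k' k' 1) - (single j j 1 + single k' k' 1) := by abel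
    rw [eA_eq, this, map_sub, map_add]
    exact M.sub_mem (M.add_mem (k h1).2 (k h2).2) (k h3).2
  · exact (k e).1

theorem mem_of_plus {M : Submodule ℝ U} (h1 : ∀ c : S, c.1.1 = 0 → aS c ∈ M) (h2 : ∀ c, xS c ∈ M)
    {u : U} (h : wW u = 0) : u ∈ M := by
  have e : u = aL (mA u) + sL (fS u) :=
    U_ext (by rw [mA_add, mA_aL (mA_symm u), mA_sL, add_zero])
      (by rw [fS_add, fS_aL, fS_sL, zero_add]) (by rw [h, wW_add, wW_aL, wW_sL, add_zero])
  rw [e]
  refine M.add_mem (mem_of_eA (eA_mem h1) (fS_aL _) (wW_aL _)) ?_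
  exact Pi.single_induction (fun f => sL f ∈ M) (fS u) (by rw [map_zero]; exact M.zero_mem)
    (fun p q hp hq => by rw [map_add]; exact M.add_mem hp hq) fun c x => by
      rw [← mul_one x, ← smul_eq_mul, Pi.single_smul, map_smul]; exact M.smul_mem _ (h2 c)

theorem mem_of_minus {M : Submodule ℝ U} (h : ∀ p, wB p ∈ M) {u : U} (h1 : mA u = 0)
    (h2 : fS u = 0) : u ∈ M := by
  have e : u = WvL (wW u) := U_ext (h1.trans (mA_Wv _).symm) (h2.trans (fS_Wv _).symm) (wW_Wv _).symm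
  rw [e]
  exact Pi.single_induction (fun f => WvL f ∈ M) (wW u) (by rw [map_zero]; exact M.zero_mem)
    (fun p q hp hq => by rw [map_add]; exact M.add_mem hp hq) fun c x => by
      rw [← mul_one x, ← smul_eq_mul, Pi.single_smul, map_smul]; exact M.smul_mem _ (h c)

theorem rho_aS (g : GT) (c : S) : rho g (aS c) = aS (co g • c) :=
  U_ext (by rw [mA_rho, mA_aS, mA_aS, pm_smul])
    (by
      ext d
      obtain ⟨d, rfl⟩ := MulAction.surjective (co g) d
      rw [fS_rho, fS_aS, fS_aS, Pi.zero_apply, Pi.zero_apply, mul_zero])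
    (by rw [wW_rho, wW_aS, wW_aS, mulVec_zero])

theorem rho_xS (g : GT) (c : S) : rho g (xS c) = sg (ep g c.1) • xS (co g • c) :=
  U_ext (by rw [mA_rho, mA_smul, mA_xS, mA_xS, mul_zero, zero_mul, smul_zero])
    (by
      ext d
      obtain ⟨d, rfl⟩ := MulAction.surjective (co g) d
      rw [fS_rho, fS_smul, fS_xS, fS_xS, Pi.smul_apply, smul_eq_mul]
      by_cases e : d = c
      · rw [e, Pi.single_eq_same, Pi.single_eq_same]
      · rw [Pi.single_eq_of_ne e, Pi.single_eq_of_ne ((MulAction.injective (co g)).ne e), mul_zero,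
          mul_zero])
    (by rw [wW_rho, wW_smul, wW_xS, wW_xS, mulVec_zero, smul_zero])

theorem qe_aS (t : ZMod 2) (d : C) (c : S) : rho (qe t d) (aS c) = sg 0 • aS c := by
  rw [rho_aS, co_qe, one_smul, sg_zero, one_smul]

theorem qe_xS (t : ZMod 2) (d : C) (c : S) :
    rho (qe t d) (xS c) = sg (bb d c.1 + bb c.1 d) • xS c := by
  rw [rho_xS, co_qe, one_smul, ep_qe]

theorem qe_wB (t : ZMod 2) (d : C) (j : P) (u : K) :
    rho (qe t d) (wB (j, u)) = sg (t + d.2 ⬝ᵥ (u + d.1)) • wB (j, u + d.1) :=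
  U_ext (by rw [mA_qe, mA_smul, mA_wB, mA_wB, smul_zero])
    (by ext c; rw [fS_qe, fS_smul, fS_wB, fS_wB, smul_zero, Pi.zero_apply, mul_zero])
    (by
      ext ⟨k, v⟩
      rw [wW_qe, wW_smul, wW_wB, wW_wB, mulVec_single_one, Pi.smul_apply, Pi.smul_apply, col_apply,
        kroneckerMap_apply, one_apply, xm, of_apply, Pi.single_apply, sg_add]
      simp only [Prod.mk.injEq, add_eq_add_swap (v := u), smul_eq_mul]
      by_cases e1 : k = j <;> by_cases e2 : v = u + d.1 <;> simp only [e1, e2, if_true, if_false,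
        and_true, and_false, true_and, false_and, mul_zero, zero_mul, mul_one, one_mul])

theorem fS_rho_zero (g : GT) {u : U} (h : fS u = 0) : fS (rho g u) = 0 := by
  ext d
  obtain ⟨d, rfl⟩ := MulAction.surjective (co g) d
  rw [fS_rho, h, Pi.zero_apply, Pi.zero_apply, mul_zero]

theorem mA_rho_zero (g : GT) {u : U} (h : mA u = 0) : mA (rho g u) = 0 := by
  rw [mA_rho, h, mul_zero, zero_mul]

theorem wW_rho_zero (g : GT) {u : U} (h : wW u = 0) : wW (rho g u) = 0 := by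
  rw [wW_rho, h, mulVec_zero]

/-! ### The predicate `Inv` -/

variable {τ : U ≃ₗ[ℝ] U}

theorem Inv.s12 {u v w : U} (h : Inv τ u v w) : Inv τ v u w := by
  rw [Inv, F_swap12, h, F_swap12]

theorem Inv.s23 {u v w : U} (h : Inv τ u v w) : Inv τ u w v := by
  rw [Inv, F_swap23, h, F_swap23]

theorem Inv.s13 {u v w : U} (h : Inv τ u v w) : Inv τ w v u := h.s12.s23.s12

/-- The vectors with invariant products. -/
def IS (τ : U ≃ₗ[ℝ] U) (v w : U) : Submodule ℝ U where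
  carrier := {u | Inv τ u v w}
  zero_mem' := by
    change F _ _ _ = F _ _ _
    rw [map_zero, ← zero_smul ℝ (0 : U), F_smul_left, F_smul_left, zero_mul, zero_mul]
  add_mem' := fun {a b} ha hb => by
    change F _ _ _ = F _ _ _
    rw [map_add, F_add_left, F_add_left, ha, hb]
  smul_mem' := fun a u h => by
    change F _ _ _ = F _ _ _
    rw [map_smul, F_smul_left, F_smul_left, h]

theorem Inv.sg1 {u v w : U} (h : Inv τ u v w) (s : ZMod 2) : Inv τ (sg s • u) v w :=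
  (IS τ v w).smul_mem _ h

theorem Inv.of_sg {u v w : U} {a b c : ZMod 2} (h : Inv τ (sg a • u) (sg b • v) (sg c • w)) :
    Inv τ u v w := by
  have := (((h.sg1 a).s12.sg1 b).s13.sg1 c).s13.s12
  simpa only [smul_smul, sg_mul_self, one_smul] using this

theorem Pre.rho_inv (h : Pre τ) {g : GT} (hg : g ∈ NE) {u v w : U} (e : Inv τ u v w) :
    Inv τ (rho g u) (rho g v) (rho g w) := by
  obtain ⟨l, -, hl⟩ := h.conj hg
  have k : ∀ x, τ (rho g x) = rho l (τ x) := fun x => by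
    rw [← LinearEquiv.mul_apply, mul_inv_eq_iff_eq_mul.1 hl, LinearEquiv.mul_apply]
  rw [Inv, k, k, k, F_rho, F_rho, e]

theorem Pre.sign (h : Pre τ) {g : GT} (hg : g ∈ NE) {u v w : U} {a b c : ZMod 2}
    (h1 : rho g u = sg a • u) (h2 : rho g v = sg b • v) (h3 : rho g w = sg c • w)
    (e : a + b + c = 1) : Inv τ u v w := by
  obtain ⟨l, -, hl⟩ := h.conj hg
  have k : ∀ {x s}, rho g x = sg s • x → rho l (τ x) = sg s • τ x := fun {x s} hx => by
    rw [← LinearEquiv.mul_apply, ← mul_inv_eq_iff_eq_mul.1 hl, LinearEquiv.mul_apply, hx, map_smul]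
  have z : ∀ {g u v w}, rho g u = sg a • u → rho g v = sg b • v → rho g w = sg c • w →
      F u v w = 0 := fun {g u v w} h1 h2 h3 => by
    have := F_rho g u v w
    rw [h1, h2, h3, F_smul_left, F_smul_mid, F_smul_right, ← mul_assoc, ← mul_assoc, ← sg_add,
      ← sg_add, e, sg_one] at this
    linarith
  rw [Inv, z h1 h2 h3, z (k h1) (k h2) (k h3)]

theorem exists_even {e : C} (h0 : e ≠ 0) (h1 : e ≠ Om) : ∃ d : C, d.1 11 = 0 ∧ bb d e + bb e d = 1 := by
  by_cases a : e.1 = 0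
  · by_contra! k
    have : ∀ j, j ≠ 11 → e.2 j = 0 := fun j hj => by
      have := k (Pi.single j 1, 0) (Pi.single_eq_of_ne hj.symm _)
      rw [bb, bb, single_dotProduct, dotProduct_zero, one_mul, add_zero] at this
      exact (z2 _).resolve_right this
    rcases z2 (e.2 11) with b | b
    · refine h0 (Prod.ext a (funext fun j => ?_))
      by_cases hj : j = 11
      · rw [hj, b]; rfl
      · exact this j hj
    · refine h1 (Om_eq ▸ Prod.ext a (funext fun j => ?_))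
      by_cases hj : j = 11
      · rw [hj, b]; exact (Pi.single_eq_same (M := fun _ => ZMod 2) 11 1).symm
      · rw [this j hj]; exact (Pi.single_eq_of_ne (M := fun _ => ZMod 2) hj 1).symm
  · obtain ⟨j, hj⟩ := Function.ne_iff.1 a
    refine ⟨(0, Pi.single j 1), rfl, ?_⟩
    rw [bb, bb, zero_dotProduct, dotProduct_single, mul_one, zero_add]
    exact (z2 _).resolve_left hj

theorem S_ne_Om (c : S) : c.1 ≠ Om := kap_rep c ▸ Om_ne (rep_norm c)

section checks

variable (h : Pre τ) {bB bT bX : S} {RB RT RX : Set S}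

theorem move {b : S} {R : Set S} (hR : Reps b R) {c d : S} (h1 : b.1.1 = 0 ↔ c.1.1 = 0)
    (h2 : b.1.1 11 = c.1.1 11) (hd : d.1.1 11 = 0) :
    ∃ g ∈ NE, ∃ r ∈ R, co g • b = c ∧ co g • r = d ∧ (d.1.1 = 0 → r.1.1 = 0) := by
  obtain ⟨k, k1, rfl⟩ := trans_N0 h1 h2
  obtain ⟨l, l1, l2, r, r1, r2⟩ := hR (k⁻¹ • d) ((odd_smul (N0.inv_mem k1) _).trans hd)
  obtain ⟨g, g1, g2⟩ := exists_NE (N0.mul_mem k1 l1)
  have e : co g • r = d := by rw [g2, mul_smul, r2, smul_inv_smul]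
  refine ⟨g, g1, r, r1, by rw [g2, mul_smul, l2], e, fun z => ?_⟩
  have := fst_smul_zero (N0.inv_mem (N0.mul_mem k1 l1)) z
  rwa [← e, g2, smul_val, inv_smul_smul] at this

theorem move' (hB : bB.1.1 = 0) (hT : bT.1.1 ≠ 0 ∧ bT.1.1 11 = 0) (hX : bX.1.1 11 = 1)
    (cB : Chk τ bB RB) (cT : Chk τ bT RT) (cX : Chk τ bX RX) (c : S) {d : S} (hd : d.1.1 11 = 0) :
    ∃ b R, Chk τ b R ∧ ∃ g ∈ NE, ∃ r ∈ R, co g • b = c ∧ co g • r = d ∧ (d.1.1 = 0 → r.1.1 = 0) := by
  by_cases a : c.1.1 = 0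
  · exact ⟨bB, RB, cB, move cB.reps (iff_of_true hB a) (by rw [hB, a]) hd⟩
  rcases z2 (c.1.1 11) with b | b
  · exact ⟨bT, RT, cT, move cT.reps (iff_of_false hT.1 a) (by rw [hT.2, b]) hd⟩
  · exact ⟨bX, RX, cX, move cX.reps (iff_of_false (fun e => by
      rw [e] at hX; exact zero_ne_one hX) a) (by rw [hX, b]) hd⟩

include h

theorem Pre.aaa (hB : bB.1.1 = 0) (cB : Chk τ bB RB)
    (aaa : ∀ r ∈ RB, r.1.1 = 0 → ∀ i j, Inv τ (aS bB) (aS r) (eA i j)) {c d : S} (hc : c.1.1 = 0)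
    (hd : d.1.1 = 0) (e : S) : Inv τ (aS c) (aS d) (aS e) := by
  obtain ⟨g, g1, r, r1, rfl, rfl, r2⟩ := move cB.reps (iff_of_true hB hc) (by rw [hB, hc])
    (show d.1.1 11 = 0 by rw [hd]; rfl)
  obtain ⟨e, rfl⟩ := MulAction.surjective (co g) e
  rw [← rho_aS, ← rho_aS, ← rho_aS]
  exact h.rho_inv g1 (Inv.s13 (mem_of_eA (M := IS τ (aS r) (aS bB))
    (fun i j => (aaa r r1 (r2 hd) i j).s13) (fS_aS e) (wW_aS e)))

theorem Pre.aax (c d e : S) : Inv τ (aS c) (aS d) (xS e) := by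
  obtain ⟨k, k1, k2⟩ := exists_even (S_ne_zero e) (S_ne_Om e)
  exact h.sign (qe_mem_NE.2 k1) (qe_aS 0 k c) (qe_aS 0 k d) (qe_xS 0 k e)
    (by rw [k2, zero_add, zero_add])

theorem Pre.xxa (hB : bB.1.1 = 0) (hT : bT.1.1 ≠ 0 ∧ bT.1.1 11 = 0) (hX : bX.1.1 11 = 1)
    (cB : Chk τ bB RB) (cT : Chk τ bT RT) (cX : Chk τ bX RX) (c e : S) {d : S} (hd : d.1.1 = 0) :
    Inv τ (xS c) (xS e) (aS d) := by
  obtain ⟨b, R, cb, g, g1, r, r1, rfl, rfl, r2⟩ := move' hB hT hX cB cT cX c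
    (show d.1.1 11 = 0 by rw [hd]; rfl)
  obtain ⟨e, rfl⟩ := MulAction.surjective (co g) e
  have : Inv τ (xS b) (xS e) (aS r) := by
    by_cases a : e.1 = b.1 ∨ e.1 = b.1 + Om
    · exact cb.ssa r r1 (r2 hd) e a
    · rw [not_or] at a
      obtain ⟨k, k1, k2⟩ := exists_even (e := b.1 + e.1) (fun z => a.1 (add_eq_zero_C.1 z).symm)
        fun z => a.2 (add_eq_swap.1 z).symm
      refine h.sign (qe_mem_NE.2 k1) (qe_xS 0 k b) (qe_xS 0 k e) (qe_aS 0 k r) ?_
      rw [← k2, bb_add_left, bb_add_right]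
      ring
  have := h.rho_inv g1 this
  rw [rho_xS, rho_xS, rho_aS, ← one_smul ℝ (aS _), ← sg_zero] at this
  exact this.of_sg

theorem Pre.xxx_w {c d e : S} (h0 : c.1 + d.1 + e.1 ≠ 0) (h1 : c.1 + d.1 + e.1 ≠ Om) :
    Inv τ (xS c) (xS d) (xS e) := by
  obtain ⟨k, k1, k2⟩ := exists_even h0 h1
  refine h.sign (qe_mem_NE.2 k1) (qe_xS 0 k c) (qe_xS 0 k d) (qe_xS 0 k e) ?_
  rw [← k2, bb_add_left, bb_add_right, bb_add_left, bb_add_right]
  ring

theorem Pre.xxx0 (hB : bB.1.1 = 0) (hT : bT.1.1 ≠ 0 ∧ bT.1.1 11 = 0) (hX : bX.1.1 11 = 1)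
    (cB : Chk τ bB RB) (cT : Chk τ bT RT) (cX : Chk τ bX RX) (c e : S) {d : S} (hd : d.1.1 11 = 0) :
    Inv τ (xS c) (xS d) (xS e) := by
  obtain ⟨b, R, cb, g, g1, r, r1, rfl, rfl, -⟩ := move' hB hT hX cB cT cX c hd
  obtain ⟨e, rfl⟩ := MulAction.surjective (co g) e
  have : Inv τ (xS b) (xS r) (xS e) := by
    by_cases a : e.1 = b.1 + r.1 ∨ e.1 = b.1 + r.1 + Om
    · exact cb.sss r r1 e a
    · rw [not_or] at a
      exact h.xxx_w (fun z => a.1 (add_eq_zero_C.1 z).symm) fun z => a.2 (add_eq_swap.1 z).symm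
  have := h.rho_inv g1 this
  rw [rho_xS, rho_xS, rho_xS] at this
  exact this.of_sg

theorem Pre.xxx (hB : bB.1.1 = 0) (hT : bT.1.1 ≠ 0 ∧ bT.1.1 11 = 0) (hX : bX.1.1 11 = 1)
    (cB : Chk τ bB RB) (cT : Chk τ bT RT) (cX : Chk τ bX RX) (c d e : S) :
    Inv τ (xS c) (xS d) (xS e) := by
  rcases z2 (d.1.1 11) with hd | hd
  · exact h.xxx0 hB hT hX cB cT cX c e hd
  rcases z2 (c.1.1 11) with hc | hc
  · exact (h.xxx0 hB hT hX cB cT cX d e hc).s12
  rcases z2 (e.1.1 11) with he | he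
  · exact (h.xxx0 hB hT hX cB cT cX c d he).s23
  have : (c.1 + d.1 + e.1).1 11 = 1 := by
    rw [Prod.fst_add, Prod.fst_add, Pi.add_apply, Pi.add_apply, hc, hd, he]; rfl
  exact h.xxx_w (fun z => by rw [z] at this; exact zero_ne_one this)
    fun z => by rw [z, Om_eq] at this; exact zero_ne_one this

theorem Pre.ppp (hB : bB.1.1 = 0) (hT : bT.1.1 ≠ 0 ∧ bT.1.1 11 = 0) (hX : bX.1.1 11 = 1)
    (cB : Chk τ bB RB) (cT : Chk τ bT RT) (cX : Chk τ bX RX)
    (aaa : ∀ r ∈ RB, r.1.1 = 0 → ∀ i j, Inv τ (aS bB) (aS r) (eA i j)) {u v w : U}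
    (hu : wW u = 0) (hv : wW v = 0) (hw : wW w = 0) : Inv τ u v w := by
  have xxa := fun c e d => h.xxa hB hT hX cB cT cX c e (d := d)
  refine mem_of_plus (M := IS τ v w) (fun c hc => Inv.s12 ?_) (fun c => Inv.s12 ?_) hu
  · refine mem_of_plus (M := IS τ _ w) (fun d hd => Inv.s13 ?_) (fun d => Inv.s13 ?_) hv
    · exact mem_of_plus (M := IS τ _ _) (fun e he => (h.aaa hB cB aaa hc hd e).s13.s23)
        (fun e => (h.aax d c e).s13) hw
    · exact mem_of_plus (M := IS τ _ _) (fun e he => h.aax e c d)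
        (fun e => (xxa e d c hc).s23) hw
  · refine mem_of_plus (M := IS τ _ w) (fun d hd => Inv.s13 ?_) (fun d => Inv.s13 ?_) hv
    · exact mem_of_plus (M := IS τ _ _) (fun e he => (h.aax e d c).s23) (fun e => xxa e c d hd) hw
    · exact mem_of_plus (M := IS τ _ _) (fun e he => (xxa d c e he).s13)
        (fun e => h.xxx hB hT hX cB cT cX e c d) hw

theorem Pre.xww_w {c : S} {j k : P} {u v : K} (e : c.1.1 + u + v ≠ 0) :
    Inv τ (xS c) (wB (j, u)) (wB (k, v)) := by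
  obtain ⟨i, hi⟩ := Function.ne_iff.1 e
  have q : ∀ (j : P) (u : K), rho (qe 0 (0, Pi.single i 1)) (wB (j, u)) = sg (u i) • wB (j, u) :=
    fun j u => by rw [qe_wB, add_zero, zero_add, single_dotProduct, one_mul]
  refine h.sign (qe_mem_NE.2 rfl) (qe_xS 0 _ c) (q j u) (q k v) ?_
  rw [bb, bb, zero_dotProduct, dotProduct_single, mul_one, zero_add]
  exact (z2 _).resolve_left hi

theorem Pre.xww0 (xyz : ∀ j k : P, Inv τ (xS bX) (wB (j, 0)) (wB (k, bX.1.1))) (j k : P) {u : K}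
    (hu : u 11 = 0) (v : K) : Inv τ (xS bX) (wB (j, u)) (wB (k, v)) := by
  have : Inv τ (xS bX) (wB (j, 0)) (wB (k, v + u)) := by
    by_cases a : v + u = bX.1.1
    · rw [a]; exact xyz j k
    · refine h.xww_w fun z => a ?_
      rw [add_zero] at z
      rw [← add_zero (v + u), ← z, add_comm bX.1.1, ← add_assoc, two_zmod, zero_add]
  have := h.rho_inv (qe_mem_NE (t := 0) (c := (u, 0)) |>.2 hu) this
  rw [qe_xS, qe_wB, qe_wB, zero_add u, add_assoc v, two_zmod, add_zero v] at this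
  exact this.of_sg

theorem Pre.xmm (hX : bX.1.1 11 = 1)
    (xyz : ∀ j k : P, Inv τ (xS bX) (wB (j, 0)) (wB (k, bX.1.1))) {c : S} (hc : c.1.1 11 = 1)
    (p q : P × K) : Inv τ (xS c) (wB p) (wB q) := by
  have h1 : ∀ p q, Inv τ (xS bX) (wB p) (wB q) := fun ⟨j, u⟩ ⟨k, v⟩ => by
    rcases z2 (u 11) with hu | hu
    · exact h.xww0 xyz j k hu v
    rcases z2 (v 11) with hv | hv
    · exact (h.xww0 xyz k j hv u).s23
    refine h.xww_w fun z => ?_
    have := congrFun z 11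
    rw [Pi.add_apply, Pi.add_apply, hX, hu, hv] at this
    exact absurd this (by decide)
  have n : ∀ {c : S}, c.1.1 11 = 1 → c.1.1 ≠ 0 := fun hc e => by rw [e] at hc; exact zero_ne_one hc
  obtain ⟨k, k1, rfl⟩ := trans_N0 (iff_of_false (n hX) (n hc)) (hX.trans hc.symm)
  obtain ⟨g, g1, rfl⟩ := exists_NE k1
  have h2 : Inv τ (xS bX) (rho g⁻¹ (wB p)) (rho g⁻¹ (wB q)) :=
    Inv.s12 (mem_of_minus (M := IS τ _ _) (fun p' => Inv.s13 (mem_of_minus (M := IS τ _ _)
      (fun q' => (h1 q' p').s12) (mA_rho_zero _ (mA_wB q)) (fS_rho_zero _ (fS_wB q))))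
      (mA_rho_zero _ (mA_wB p)) (fS_rho_zero _ (fS_wB p)))
  have := h.rho_inv g1 h2
  rw [rho_xS, ← LinearEquiv.mul_apply, ← LinearEquiv.mul_apply, ← map_mul, mul_inv_cancel, map_one,
    LinearEquiv.coe_one, id, id] at this
  simpa only [smul_smul, sg_mul_self, one_smul] using this.sg1 (ep g bX.1)

end checks

/-- The joint eigenspaces of the four-group. -/
def Ev (s t : ZMod 2) (u : U) : Prop := zz u = sg s • u ∧ xO u = sg t • u

theorem Pre.ev (h : Pre τ) {s t : ZMod 2} {u : U} (e : Ev s t u) : Ev (s + t) s (τ u) :=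
  ⟨by rw [← LinearEquiv.mul_apply, ← mul_inv_eq_iff_eq_mul.1 h.zx_conj, LinearEquiv.mul_apply,
      LinearEquiv.mul_apply, e.2, map_smul, e.1, smul_smul, map_smul, add_comm, sg_add],
    by rw [← LinearEquiv.mul_apply, ← mul_inv_eq_iff_eq_mul.1 h.zz_conj, LinearEquiv.mul_apply,
      e.1, map_smul]⟩

theorem Ev.plus {t : ZMod 2} {u : U} (e : Ev 0 t u) : wW u = 0 :=
  zz_fix.1 (by rw [e.1, sg_zero, one_smul])

theorem ev_aS (c : S) : Ev 0 0 (aS c) := ⟨qe_aS _ _ c, qe_aS _ _ c⟩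

theorem ev_xS (c : S) : Ev 0 (c.1.1 11) (xS c) :=
  ⟨(qe_xS _ _ c).trans (by rw [bb_zero_left, bb_zero_right, add_zero]),
    (qe_xS _ _ c).trans (by rw [odd_eq, add_comm])⟩

theorem ev_wB (p : P × K) : Ev 1 (p.2 11) (wB p) :=
  ⟨(qe_wB _ _ p.1 p.2).trans (by rw [Prod.snd_zero, Prod.fst_zero, zero_dotProduct, add_zero, add_zero]),
    (qe_wB _ _ p.1 p.2).trans (by rw [Om_eq, add_zero, zero_add, single_dotProduct, one_mul])⟩

theorem Pre.pmm (h : Pre τ) (A : ∀ {u v w : U}, wW u = 0 → wW v = 0 → wW w = 0 → Inv τ u v w)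
    {u : U} (hu : Ev 0 0 u) (p q : P × K) : Inv τ u (wB p) (wB q) := by
  obtain ⟨c, -, c2⟩ := h.inv
  have A' : ∀ {u v w : U}, wW u = 0 → wW v = 0 → wW w = 0 → Inv τ⁻¹ u v w := fun h1 h2 h3 => by
    rw [Inv, ← c2, ← map_inv]
    simp only [LinearEquiv.mul_apply]
    rw [F_rho, A (wW_rho_zero _ h1) (wW_rho_zero _ h2) (wW_rho_zero _ h3), F_rho]
  have k : ∀ x, τ⁻¹ (τ x) = x := τ.symm_apply_apply
  have Z : ∀ {u v w : U}, Ev 0 0 u → Ev 1 1 v → Ev 1 1 w → Inv τ u v w := fun h1 h2 h3 => by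
    have := A' (h.ev h1).plus (h.ev h2).plus (h.ev h3).plus
    rw [Inv, k, k, k] at this
    exact this.symm
  have k3 : ∀ x, τ (τ (τ x)) = x := fun x => by
    rw [← LinearEquiv.mul_apply τ τ x, ← h.inv_eq]; exact τ.apply_symm_apply x
  have Y : ∀ {u v w : U}, Ev 0 0 u → Ev 1 0 v → Ev 1 0 w → Inv τ u v w := fun h1 h2 h3 => by
    have a := Z (h.ev h1) (h.ev h2) (h.ev h3)
    have b := A (h.ev (h.ev h1)).plus (h.ev (h.ev h2)).plus (h.ev (h.ev h3)).plus
    rw [Inv, k3, k3, k3] at b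
    exact (b.trans a).symm
  have e1 := ev_wB p
  have e2 := ev_wB q
  have m : qe 0 Om ∈ NE := qe_mem_NE.2 (by rw [Om_eq]; rfl)
  rcases z2 (p.2 11) with a | a <;> rcases z2 (q.2 11) with b | b <;> rw [a] at e1 <;> rw [b] at e2
  · exact Y hu e1 e2
  · exact h.sign m hu.2 e1.2 e2.2 rfl
  · exact h.sign m hu.2 e1.2 e2.2 rfl
  · exact Z hu e1 e2

theorem Pre.aut {τ : U ≃ₗ[ℝ] U} (h : Pre τ) {bB bT bX : S} {RB RT RX : Set S}
    (hB : bB.1.1 = 0) (hT : bT.1.1 ≠ 0 ∧ bT.1.1 11 = 0) (hX : bX.1.1 11 = 1)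
    (cB : Chk τ bB RB) (cT : Chk τ bT RT) (cX : Chk τ bX RX)
    (aaa : ∀ r ∈ RB, r.1.1 = 0 → ∀ i j, Inv τ (aS bB) (aS r) (eA i j))
    (xyz : ∀ j k : P, Inv τ (xS bX) (wB (j, 0)) (wB (k, bX.1.1))) : τ ∈ Aut := by
  have A : ∀ {u v w : U}, wW u = 0 → wW v = 0 → wW w = 0 → Inv τ u v w :=
    h.ppp hB hT hX cB cT cX aaa
  have M0 : ∀ {u : U}, wW u = 0 → ∀ p q, Inv τ u (wB p) (wB q) := fun hu p q =>
    mem_of_plus (M := IS τ _ _) (fun c _ => h.pmm A (ev_aS c) p q) (fun c =>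
      (z2 (c.1.1 11)).elim (fun e => h.pmm A (e ▸ ev_xS c) p q) fun e => h.xmm hX xyz e p q) hu
  have M : ∀ {u : U}, wW u = 0 → ∀ a b, Inv τ u (Wv a) (Wv b) := fun hu a b =>
    Inv.s12 (mem_of_minus (M := IS τ _ _) (fun p' => Inv.s13 (mem_of_minus (M := IS τ _ _)
      (fun q' => (M0 hu q' p').s12) (mA_Wv b) (fS_Wv b))) (mA_Wv a) (fS_Wv a))
  have m : qe 1 0 ∈ NE := qe_mem_NE.2 rfl
  have zp : ∀ {u : U}, wW u = 0 → rho (qe 1 0) u = sg 0 • u := fun hu => by
    rw [sg_zero, one_smul]; exact zz_fix.2 hu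
  have zm : ∀ a, rho (qe 1 0) (Wv a) = sg 1 • Wv a := fun a => by
    rw [sg_one, neg_smul, one_smul]; exact zz_neg.2 ⟨mA_Wv a, fS_Wv a⟩
  have sp : ∀ {N : Submodule ℝ U}, (∀ u, wW u = 0 → u ∈ N) → (∀ a, Wv a ∈ N) → ∀ u, u ∈ N :=
    fun {N} h1 h2 u => by
      rw [← sub_add_cancel u (Wv (wW u))]
      exact N.add_mem (h1 _ (by rw [wW_sub, wW_Wv, sub_self])) (h2 _)
  refine mem_Aut_of (fun u v w => ?_) h.one
  refine sp (N := IS τ v w) (fun u hu => Inv.s12 ?_) (fun a => Inv.s12 ?_) u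
  · refine sp (N := IS τ _ w) (fun v hv => Inv.s13 ?_) (fun b => Inv.s13 ?_) v
    · exact sp (N := IS τ _ _) (fun w hw => A hw hu hv)
        (fun c => h.sign m (zm c) (zp hu) (zp hv) rfl) w
    · exact sp (N := IS τ _ _) (fun w hw => h.sign m (zp hw) (zp hu) (zm b) rfl)
        (fun c => (M hu c b).s12) w
  · refine sp (N := IS τ _ w) (fun v hv => Inv.s13 ?_) (fun b => Inv.s13 ?_) v
    · exact sp (N := IS τ _ _) (fun w hw => h.sign m (zp hw) (zm a) (zp hv) rfl)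
        (fun c => (M hv a c).s13) w
    · exact sp (N := IS τ _ _) (fun w hw => M hw a b)
        (fun c => h.sign m (zm c) (zm a) (zm b) rfl) w

end H10.Mon
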