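import Mathlib
import Cfsg.Agent.H29.Planes

/-!
# Vectors of dyadic numbers in bit planes; programs; register expressions
-/

set_option autoImplicit false
set_option linter.all false

namespace H10.Mon

open H29

/-- Bit planes in two's complement. -/
inductive Pl : Type
  | sgn (s : ℕ) : Pl
  | cons (a : ℕ) (t : Pl) : Pl

def bz (a p : ℕ) : ℤ := if a.testBit p then 1 else 0

def Pl.val : Pl → ℕ → ℤ
  | .sgn s, p => -bz s p
  | .cons a t, p => bz a p + 2 * t.val p

noncomputable def Pl.map (f : ℕ → ℕ) (P : Pl) : Pl :=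
  Pl.rec (fun s => .sgn (f s)) (fun a _ ih => .cons (f a) ih) P

theorem Pl.val_map {f : ℕ → ℕ} {p q : ℕ} (h : ∀ a, (f a).testBit p = a.testBit q) :
    ∀ P : Pl, (P.map f).val p = P.val q
  | .sgn s => by change -bz _ _ = -bz _ _; rw [bz, bz, h]
  | .cons a t => by
    change bz _ _ + 2 * (t.map f).val p = bz _ _ + 2 * _; rw [bz, bz, h, Pl.val_map h t]

theorem Pl.val_map0 {f : ℕ → ℕ} {p : ℕ} (h : ∀ a, (f a).testBit p = false) :
    ∀ P : Pl, (P.map f).val p = 0
  | .sgn s => by change -bz _ _ = _; simp [bz, h]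
  | .cons a t => by change bz _ _ + 2 * (t.map f).val p = _; simp [bz, h, Pl.val_map0 h t]

theorem Pl.val_xor (m p : ℕ) : ∀ P : Pl, (P.map fun a => Nat.xor a m).val p + bz m p =
    if m.testBit p then -P.val p else P.val p
  | .sgn s => by
    change -bz _ _ + _ = if _ then - -bz _ _ else -bz _ _
    simp only [bz, xor_eq, Nat.testBit_xor]
    cases s.testBit p <;> cases m.testBit p <;> simp
  | .cons a t => by
    have := Pl.val_xor m p t
    change bz _ _ + 2 * (t.map _).val p + _ = if _ then -(bz _ _ + 2 * _) else bz _ _ + 2 * _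
    simp only [bz, xor_eq, Nat.testBit_xor] at this ⊢
    revert this
    cases a.testBit p <;> cases m.testBit p <;> simp <;> omega

noncomputable def Pl.inc (P : Pl) : ℕ → Pl :=
  Pl.rec (motive := fun _ => ℕ → Pl)
    (fun s c => let x := Nat.xor s c; .cons x (.sgn (Nat.land s x)))
    (fun a _ ih c => .cons (Nat.xor a c) (ih (Nat.land a c))) P

theorem Pl.val_inc (p : ℕ) : ∀ (P : Pl) (c : ℕ), (P.inc c).val p = P.val p + bz c p
  | .sgn s, c => by
    change bz (Nat.xor s c) p + 2 * -bz (Nat.land s (Nat.xor s c)) p = -bz s p + _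
    simp only [bz, xor_eq, land_eq, Nat.testBit_xor, Nat.testBit_and]
    cases s.testBit p <;> cases c.testBit p <;> simp
  | .cons a t, c => by
    change bz (Nat.xor a c) p + 2 * (t.inc (Nat.land a c)).val p = bz a p + 2 * t.val p + _
    rw [Pl.val_inc p t]
    simp only [bz, xor_eq, land_eq, Nat.testBit_xor, Nat.testBit_and]
    cases a.testBit p <;> cases c.testBit p <;> simp <;> omega

noncomputable def Pl.addS (s : ℕ) (Q : Pl) : ℕ → Pl :=
  Pl.rec (motive := fun _ => ℕ → Pl)
    (fun r c => let x := Nat.xor s r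
      .cons (Nat.xor x c) (.sgn (Nat.xor x (Nat.lor (Nat.land s r) (Nat.land x c)))))
    (fun b _ ih c => let x := Nat.xor s b
      .cons (Nat.xor x c) (ih (Nat.lor (Nat.land s b) (Nat.land x c)))) Q

theorem Pl.val_addS (s p : ℕ) : ∀ (Q : Pl) (c : ℕ), (addS s Q c).val p = -bz s p + Q.val p + bz c p
  | .sgn r, c => by
    change bz (Nat.xor (Nat.xor s r) c) p + 2 * -bz (Nat.xor (Nat.xor s r)
      (Nat.lor (Nat.land s r) (Nat.land (Nat.xor s r) c))) p = _ + -bz r p + _
    simp only [bz, xor_eq, land_eq, lor_eq, Nat.testBit_xor, Nat.testBit_and, Nat.testBit_or]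
    cases s.testBit p <;> cases r.testBit p <;> cases c.testBit p <;> simp
  | .cons b u, c => by
    change bz (Nat.xor (Nat.xor s b) c) p + 2 * (addS s u
      (Nat.lor (Nat.land s b) (Nat.land (Nat.xor s b) c))).val p = _ + (bz b p + 2 * u.val p) + _
    rw [Pl.val_addS s p u]
    simp only [bz, xor_eq, land_eq, lor_eq, Nat.testBit_xor, Nat.testBit_and, Nat.testBit_or]
    cases s.testBit p <;> cases b.testBit p <;> cases c.testBit p <;> simp <;> omega

noncomputable def Pl.add (P : Pl) : Pl → ℕ → Pl :=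
  Pl.rec (motive := fun _ => Pl → ℕ → Pl) (fun s Q c => addS s Q c)
    (fun a t ih Q c => Pl.rec (motive := fun _ => Pl) (fun r => addS r (.cons a t) c)
      (fun b u _ => let x := Nat.xor a b
        .cons (Nat.xor x c) (ih u (Nat.lor (Nat.land a b) (Nat.land x c)))) Q) P

theorem Pl.val_add (p : ℕ) : ∀ (P Q : Pl) (c : ℕ), (P.add Q c).val p = P.val p + Q.val p + bz c p
  | .sgn s, Q, c => Pl.val_addS s p Q c
  | .cons a t, .sgn r, c => by
    change (addS r (.cons a t) c).val p = _ + -bz r p + _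
    rw [Pl.val_addS]; ring
  | .cons a t, .cons b u, c => by
    change bz (Nat.xor (Nat.xor a b) c) p + 2 * (t.add u
      (Nat.lor (Nat.land a b) (Nat.land (Nat.xor a b) c))).val p =
      bz a p + 2 * t.val p + (bz b p + 2 * u.val p) + _
    rw [Pl.val_add p t]
    simp only [bz, xor_eq, land_eq, lor_eq, Nat.testBit_xor, Nat.testBit_and, Nat.testBit_or]
    cases a.testBit p <;> cases b.testBit p <;> cases c.testBit p <;> simp <;> omega

noncomputable def Pl.trim (P : Pl) : Pl :=
  Pl.rec (fun s => .sgn s) (fun a _ ih => Pl.rec (motive := fun _ => Pl)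
    (fun s => Bool.rec (.cons a (.sgn s)) (.sgn s) (Nat.beq a s))
    (fun b u _ => .cons a (.cons b u)) ih) P

theorem Pl.val_trim (p : ℕ) : ∀ P : Pl, P.trim.val p = P.val p
  | .sgn s => rfl
  | .cons a t => by
    have ih := Pl.val_trim p t
    change Pl.val (Pl.rec (motive := fun _ => Pl)
      (fun s => Bool.rec (.cons a (.sgn s)) (.sgn s) (Nat.beq a s))
      (fun b u _ => .cons a (.cons b u)) t.trim) p = bz a p + 2 * t.val p
    rw [← ih]
    cases t.trim with
    | sgn s =>
      cases h : Nat.beq a s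
      · simp only [h]; rfl
      · simp only [h]; rw [H29.beq_true.1 h]; change -bz s p = bz s p + 2 * -bz s p; ring
    | cons b u => rfl

noncomputable def Pl.up (k : ℕ) (P : Pl) : Pl := Nat.rec P (fun _ ih => .cons 0 ih) k

theorem Pl.val_up (p : ℕ) (P : Pl) : ∀ k, (P.up k).val p = 2 ^ k * P.val p
  | 0 => by simp [Pl.up]
  | k + 1 => by
    change bz 0 p + 2 * (P.up k).val p = _
    rw [Pl.val_up p P k]; simp [bz]; ring

noncomputable def Pl.force {α : Type} (P : Pl) : (Pl → α) → α :=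
  Pl.rec (motive := fun _ => (Pl → α) → α) (fun s k => seqN s fun s => k (.sgn s))
    (fun a _ ih k => seqN a fun a => ih fun t => k (.cons a t)) P

@[simp] theorem Pl.force_eq {α : Type} : ∀ (P : Pl) (k : Pl → α), P.force k = k P
  | .sgn s, k => seqN_eq s fun s => k (.sgn s)
  | .cons a t, k => (seqN_eq a fun a => t.force fun t => k (.cons a t)).trans (Pl.force_eq t _)

noncomputable def Pl.beq (P : Pl) : Pl → Bool :=
  Pl.rec (motive := fun _ => Pl → Bool)
    (fun s Q => Pl.rec (motive := fun _ => Bool) (fun r => Nat.beq s r) (fun _ _ _ => false) Q)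
    (fun a _ ih Q => Pl.rec (motive := fun _ => Bool) (fun _ => false)
      (fun b u _ => and2 (Nat.beq a b) (ih u)) Q) P

theorem Pl.eq_of_beq : ∀ {P Q : Pl}, P.beq Q = true → P = Q
  | .sgn s, .sgn r, h => by rw [H29.beq_true.1 (show Nat.beq s r = true from h)]
  | .sgn s, .cons _ _, h => absurd h Bool.false_ne_true
  | .cons _ _, .sgn _, h => absurd h Bool.false_ne_true
  | .cons a t, .cons b u, h => by
    obtain ⟨h1, h2⟩ := and2_true.1 (show and2 (Nat.beq a b) (t.beq u) = true from h)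
    rw [H29.beq_true.1 h1, Pl.eq_of_beq h2]

/-- The support. -/
noncomputable def Pl.nz (P : Pl) : ℕ := Pl.rec (fun s => s) (fun a _ ih => Nat.lor a ih) P

theorem Pl.val_nz {p : ℕ} : ∀ {P : Pl}, P.nz.testBit p = false → P.val p = 0
  | .sgn s, h => by change -bz s p = 0; simp [bz, show s.testBit p = false from h]
  | .cons a t, h => by
    change (a ||| t.nz).testBit p = false at h
    rw [Nat.testBit_or, Bool.or_eq_false_iff] at h
    change bz a p + 2 * t.val p = 0
    simp [bz, h.1, Pl.val_nz h.2]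

/-- A vector: planes and a binary exponent. -/
structure Vec : Type where
  e : ℕ
  P : Pl

noncomputable def Vec.val (v : Vec) (p : ℕ) : ℝ := (v.P.val p : ℝ) / 2 ^ v.e

noncomputable def Vec.norm (P : Pl) : ℕ → Vec :=
  Pl.rec (motive := fun _ => ℕ → Vec)
    (fun s e => Bool.rec ⟨e, .sgn s⟩ ⟨0, .sgn 0⟩ (Nat.beq s 0))
    (fun a t ih e => Nat.rec (motive := fun _ => Vec) ⟨0, .cons a t⟩
      (fun e' _ => Bool.rec ⟨e, .cons a t⟩ (ih e') (Nat.beq a 0)) e) P

theorem Vec.val_norm (p : ℕ) : ∀ (P : Pl) (e : ℕ), (Vec.norm P e).val p = (P.val p : ℝ) / 2 ^ e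
  | .sgn s, e => by
    change Vec.val (Bool.rec ⟨e, .sgn s⟩ ⟨0, .sgn 0⟩ (Nat.beq s 0)) p = _
    cases h : Nat.beq s 0
    · rfl
    · rw [H29.beq_true.1 h]; simp [Vec.val, Pl.val, bz]
  | .cons a t, 0 => rfl
  | .cons a t, e + 1 => by
    change Vec.val (Bool.rec ⟨e + 1, .cons a t⟩ (Vec.norm t e) (Nat.beq a 0)) p = _
    cases h : Nat.beq a 0
    · rfl
    · rw [H29.beq_true.1 h]
      change (Vec.norm t e).val p = _
      rw [Vec.val_norm p t e]; simp [Pl.val, bz]; field_simp; ring

noncomputable def Vec.force {α : Type} (v : Vec) (k : Vec → α) : α :=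
  Vec.rec (fun e P => lit e fun e => P.force fun P => k ⟨e, P⟩) v

@[simp] theorem Vec.force_eq {α : Type} (v : Vec) (k : Vec → α) : v.force k = k v := by
  cases v; simp [Vec.force]

noncomputable def Vec.map (f : ℕ → ℕ) (v : Vec) : Vec := Vec.rec (fun e P => ⟨e, P.map f⟩) v

noncomputable def Vec.add (u v : Vec) : Vec :=
  Vec.rec (fun e P => Vec.rec (fun f Q =>
    ((P.up (Nat.sub f e)).add (Q.up (Nat.sub e f)) 0).force fun R =>
      Vec.norm R.trim (Nat.add e (Nat.sub f e))) v) u

theorem Vec.val_add (u v : Vec) (p : ℕ) : (u.add v).val p = u.val p + v.val p := by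
  obtain ⟨e, P⟩ := u
  obtain ⟨f, Q⟩ := v
  simp only [Vec.add, Pl.force_eq, Vec.val_norm]
  simp only [Pl.val_trim, Pl.val_add, Pl.val_up, Vec.val, bz, Nat.zero_testBit, Nat.sub_eq,
    Nat.add_eq]
  rcases le_total e f with h | h
  · obtain ⟨k, rfl⟩ := Nat.exists_eq_add_of_le h
    simp [pow_add]; field_simp
  · obtain ⟨k, rfl⟩ := Nat.exists_eq_add_of_le h
    simp [pow_add]; field_simp

noncomputable def Vec.beq (u v : Vec) : Bool :=
  Vec.rec (fun e P => Vec.rec (fun f Q => and2 (Nat.beq e f) (P.beq Q)) v) u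

theorem Vec.eq_of_beq {u v : Vec} (h : u.beq v = true) : u = v := by
  obtain ⟨e, P⟩ := u
  obtain ⟨f, Q⟩ := v
  obtain ⟨h1, h2⟩ := and2_true.1 (show and2 (Nat.beq e f) (P.beq Q) = true from h)
  rw [H29.beq_true.1 h1, Pl.eq_of_beq h2]

/-- Operations on one register. -/
inductive Op : Type
  | sw (d m : ℕ) : Op
  | ng (m : ℕ) : Op
  | bf (d m : ℕ) : Op
  | hf : Op

noncomputable def Op.step (o : Op) (v : Vec) : Vec :=
  Vec.rec (fun e P => Op.rec (fun d m => ⟨e, P.map (dswap d m)⟩)
    (fun m => ((P.map fun a => Nat.xor a m).inc m).force fun R => ⟨e, R.trim⟩)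
    (fun d m => let M := Nat.shiftLeft m d
      ((P.map (dswap d m)).add (P.map fun a => Nat.xor a M) M).force fun R => ⟨e, R.trim⟩)
    (Vec.norm P (Nat.succ e)) o) v

noncomputable def Op.sem : Op → (ℕ → ℝ) → ℕ → ℝ
  | .sw d m, x, p => x (swapFun d m p)
  | .ng m, x, p => if m.testBit p then -x p else x p
  | .bf d m, x, p => x (swapFun d m p) + if (m <<< d).testBit p then -x p else x p
  | .hf, x, p => x p / 2

/-- The operation is well formed and acts on the positions below `N`. -/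
noncomputable def Op.ok (N : ℕ) (o : Op) : Bool :=
  Op.rec (fun d m => and2 (Nat.beq (Nat.land m (Nat.shiftLeft m d)) 0)
      (Nat.beq (Nat.shiftRight (Nat.shiftLeft m d) N) 0))
    (fun m => Nat.beq (Nat.shiftRight m N) 0)
    (fun d m => and2 (Nat.beq (Nat.land m (Nat.shiftLeft m d)) 0)
      (Nat.beq (Nat.shiftRight (Nat.shiftLeft m d) N) 0)) true o

theorem ok2 {N d m : ℕ} (h : and2 (Nat.beq (Nat.land m (Nat.shiftLeft m d)) 0)
    (Nat.beq (Nat.shiftRight (Nat.shiftLeft m d) N) 0) = true) :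
    m &&& (m <<< d) = 0 ∧ (m <<< d) >>> N = 0 := by
  rw [and2_true, H29.beq_true, H29.beq_true] at h; exact h

theorem Op.val_step {N : ℕ} : ∀ {o : Op}, o.ok N = true → ∀ v : Vec, (o.step v).val = o.sem v.val
  | .sw d m, h, ⟨e, P⟩ => by
    funext p
    change ((P.map (dswap d m)).val p : ℝ) / _ = (P.val _ : ℝ) / _
    rw [Pl.val_map fun a => testBit_dswap (ok2 h).1 a p]; rfl
  | .ng m, h, ⟨e, P⟩ => by
    funext p
    simp only [Op.step, Pl.force_eq, Vec.val, Pl.val_trim, Pl.val_inc, Pl.val_xor, Op.sem]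
    split_ifs <;> simp [neg_div]
  | .bf d m, h, ⟨e, P⟩ => by
    funext p
    simp only [Op.step, Pl.force_eq, Vec.val, Pl.val_trim, Pl.val_add, add_assoc, Pl.val_xor,
      Op.sem, shl_eq]
    rw [Pl.val_map fun a => testBit_dswap (ok2 h).1 a p]
    split_ifs <;> simp [neg_div, add_div]
  | .hf, h, ⟨e, P⟩ => by
    funext p
    change (Vec.norm P (e + 1)).val p = (P.val p : ℝ) / 2 ^ e / 2
    rw [Vec.val_norm, pow_succ, div_div]

noncomputable def run (π : List Op) : Vec → Vec :=
  List.rec (motive := fun _ => Vec → Vec) (fun v => v) (fun o _ ih v => (o.step v).force ih) π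

noncomputable def sem : List Op → (ℕ → ℝ) → ℕ → ℝ
  | [], x => x
  | o :: π, x => sem π (o.sem x)

noncomputable def okP (N : ℕ) (π : List Op) : Bool := allL π (Op.ok N)

theorem okP_cons {N : ℕ} {o : Op} {π : List Op} :
    okP N (o :: π) = true ↔ o.ok N = true ∧ okP N π = true := and2_true

theorem val_run {N : ℕ} : ∀ {π : List Op}, okP N π = true → ∀ v : Vec, (run π v).val = sem π v.val
  | [], _, _ => rfl
  | o :: π, h, v => by
    change ((o.step v).force (run π)).val = _
    rw [Vec.force_eq, val_run (okP_cons.1 h).2, Op.val_step (okP_cons.1 h).1]; rfl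

theorem sem_append : ∀ (π ρ : List Op) (x : ℕ → ℝ), sem (π ++ ρ) x = sem ρ (sem π x)
  | [], _, _ => rfl
  | o :: π, ρ, x => sem_append π ρ _

theorem Op.sem_add (o : Op) (x y : ℕ → ℝ) : o.sem (x + y) = o.sem x + o.sem y := by
  funext p
  cases o <;> simp only [Op.sem, Pi.add_apply] <;> (try split_ifs) <;> ring

theorem Op.sem_smul (o : Op) (a : ℝ) (x : ℕ → ℝ) : o.sem (a • x) = a • o.sem x := by
  funext p
  cases o <;> simp only [Op.sem, Pi.smul_apply, smul_eq_mul] <;> (try split_ifs) <;> ring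

theorem sem_add : ∀ (π : List Op) (x y : ℕ → ℝ), sem π (x + y) = sem π x + sem π y
  | [], _, _ => rfl
  | o :: π, x, y => by rw [sem, Op.sem_add, sem_add π]; rfl

theorem sem_smul : ∀ (π : List Op) (a : ℝ) (x : ℕ → ℝ), sem π (a • x) = a • sem π x
  | [], _, _ => rfl
  | o :: π, a, x => by rw [sem, Op.sem_smul, sem_smul π]; rfl

noncomputable def semL (π : List Op) : (ℕ → ℝ) →ₗ[ℝ] (ℕ → ℝ) where
  toFun := sem π
  map_add' := sem_add π
  map_smul' := sem_smul π

/-- Expressions in three registers. -/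
inductive Ex : Type
  | r0 : Ex
  | r1 : Ex
  | r2 : Ex
  | shr (k : ℕ) (e : Ex) : Ex
  | shl (k : ℕ) (e : Ex) : Ex
  | msk (m : ℕ) (e : Ex) : Ex
  | run (π : List Op) (e : Ex) : Ex
  | adE (e f : Ex) : Ex
  | adD (e f : Ex) : Ex

structure St : Type where
  a : Vec
  s : Vec
  w : Vec

abbrev R3 : Type := (ℕ → ℝ) × (ℕ → ℝ) × (ℕ → ℝ)

noncomputable def St.val (x : St) : R3 := (x.a.val, x.s.val, x.w.val)

noncomputable def Ex.eval (a s w : Vec) (e : Ex) : Vec :=
  Ex.rec a s w (fun k _ ih => ih.map fun x => Nat.shiftRight x k)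
    (fun k _ ih => ih.map fun x => Nat.shiftLeft x k) (fun m _ ih => ih.map fun x => Nat.land x m)
    (fun π _ ih => H10.Mon.run π ih) (fun _ _ i j => i.add j) (fun _ _ i j => i.add j) e

noncomputable def Ex.sem (x : R3) : Ex → ℕ → ℝ
  | .r0 => x.1
  | .r1 => x.2.1
  | .r2 => x.2.2
  | .shr k e => fun p => e.sem x (k + p)
  | .shl k e => fun p => if k ≤ p then e.sem x (p - k) else 0
  | .msk m e => fun p => if m.testBit p then e.sem x p else 0
  | .run π e => H10.Mon.sem π (e.sem x)
  | .adE e f => e.sem x + f.sem x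
  | .adD e f => e.sem x + f.sem x

noncomputable def Ex.ok (e : Ex) : Bool :=
  Ex.rec true true true (fun _ _ ih => ih) (fun _ _ ih => ih) (fun _ _ ih => ih)
    (fun π _ ih => and2 (okP 98304 π) ih) (fun _ _ i j => and2 i j) (fun _ _ i j => and2 i j) e

theorem Vec.val_map {f : ℕ → ℕ} {p q : ℕ} (h : ∀ a, (f a).testBit p = a.testBit q) (v : Vec) :
    (v.map f).val p = v.val q := by
  cases v; simp only [Vec.map, Vec.val, Pl.val_map h]

theorem Vec.val_map0 {f : ℕ → ℕ} {p : ℕ} (h : ∀ a, (f a).testBit p = false) (v : Vec) :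
    (v.map f).val p = 0 := by
  cases v; simp [Vec.map, Vec.val, Pl.val_map0 h]

theorem Ex.val_eval (a s w : Vec) : ∀ {e : Ex}, e.ok = true →
    (e.eval a s w).val = e.sem (a.val, s.val, w.val)
  | .r0, _ => rfl
  | .r1, _ => rfl
  | .r2, _ => rfl
  | .shr k e, h => by
    funext p
    rw [Ex.sem, ← Ex.val_eval a s w (e := e) h]
    exact Vec.val_map (fun x => Nat.testBit_shiftRight x) _
  | .shl k e, h => by
    funext p
    rw [Ex.sem, ← Ex.val_eval a s w (e := e) h]
    beta_reduce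
    split_ifs with h1
    · exact Vec.val_map (fun x => by simp [Nat.testBit_shiftLeft, h1]) _
    · exact Vec.val_map0 (fun x => by simp [Nat.testBit_shiftLeft, h1]) _
  | .msk m e, h => by
    funext p
    rw [Ex.sem, ← Ex.val_eval a s w (e := e) h]
    beta_reduce
    split_ifs with h1
    · exact Vec.val_map (fun x => by simp [land_eq, h1]) _
    · exact Vec.val_map0 (fun x => by simp [land_eq, h1]) _
  | .run π e, h => by
    obtain ⟨h1, h2⟩ := and2_true.1 h
    rw [Ex.sem, ← Ex.val_eval a s w h2]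
    exact val_run h1 _
  | .adE e f, h => by
    obtain ⟨h1, h2⟩ := and2_true.1 h
    rw [Ex.sem, ← Ex.val_eval a s w h1, ← Ex.val_eval a s w h2]
    exact funext (Vec.val_add _ _)
  | .adD e f, h => by
    obtain ⟨h1, h2⟩ := and2_true.1 h
    rw [Ex.sem, ← Ex.val_eval a s w h1, ← Ex.val_eval a s w h2]
    exact funext (Vec.val_add _ _)

theorem Ex.sem_add (x y : R3) : ∀ e : Ex, e.sem (x + y) = e.sem x + e.sem y
  | .r0 => rfl
  | .r1 => rfl
  | .r2 => rfl
  | .shr k e => by funext p; simp [Ex.sem, Ex.sem_add x y e]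
  | .shl k e => by funext p; simp only [Ex.sem, Ex.sem_add x y e, Pi.add_apply]; split_ifs <;> simp
  | .msk m e => by funext p; simp only [Ex.sem, Ex.sem_add x y e, Pi.add_apply]; split_ifs <;> simp
  | .run π e => by rw [Ex.sem, Ex.sem_add x y e, H10.Mon.sem_add]; rfl
  | .adE e f => by simp only [Ex.sem, Ex.sem_add x y e, Ex.sem_add x y f]; abel
  | .adD e f => by simp only [Ex.sem, Ex.sem_add x y e, Ex.sem_add x y f]; abel

theorem Ex.sem_smul (a : ℝ) (x : R3) : ∀ e : Ex, e.sem (a • x) = a • e.sem x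
  | .r0 => rfl
  | .r1 => rfl
  | .r2 => rfl
  | .shr k e => by funext p; simp [Ex.sem, Ex.sem_smul a x e]
  | .shl k e => by funext p; simp [Ex.sem, Ex.sem_smul a x e]
  | .msk m e => by funext p; simp [Ex.sem, Ex.sem_smul a x e]
  | .run π e => by rw [Ex.sem, Ex.sem_smul a x e, H10.Mon.sem_smul]; rfl
  | .adE e f => by simp only [Ex.sem, Ex.sem_smul a x e, Ex.sem_smul a x f, smul_add]
  | .adD e f => by simp only [Ex.sem, Ex.sem_smul a x e, Ex.sem_smul a x f, smul_add]

/-- A move: new values of the three registers. -/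
structure Mv : Type where
  a : Ex
  s : Ex
  w : Ex

noncomputable def Mv.ok (m : Mv) : Bool := and2 m.a.ok (and2 m.s.ok m.w.ok)

noncomputable def Mv.sem (m : Mv) : R3 →ₗ[ℝ] R3 where
  toFun x := (m.a.sem x, m.s.sem x, m.w.sem x)
  map_add' x y := by simp [Ex.sem_add]
  map_smul' a x := by simp [Ex.sem_smul]

noncomputable def Mv.step {α : Type} (m : Mv) (x : St) (k : St → α) : α :=
  Mv.rec (fun ea es ew => St.rec (fun a s w => (ea.eval a s w).force fun a' =>
    (es.eval a s w).force fun s' => (ew.eval a s w).force fun w' => k ⟨a', s', w'⟩) x) m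

theorem Mv.step_eq {α : Type} (m : Mv) (x : St) (k : St → α) :
    m.step x k = k ⟨m.a.eval x.a x.s x.w, m.s.eval x.a x.s x.w, m.w.eval x.a x.s x.w⟩ := by
  cases m; cases x; simp [Mv.step]

/-- Apply the moves of a word from left to right. -/
noncomputable def runW (mv : ℕ → Mv) (w : List ℕ) : St → St :=
  List.rec (motive := fun _ => St → St) (fun x => x) (fun c _ ih x => (mv c).step x ih) w

noncomputable def semW (mv : ℕ → Mv) : List ℕ → R3 →ₗ[ℝ] R3
  | [] => LinearMap.id
  | c :: w => (semW mv w).comp (mv c).sem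

theorem val_runW {mv : ℕ → Mv} (h : ∀ c, (mv c).ok = true) :
    ∀ (w : List ℕ) (x : St), (runW mv w x).val = semW mv w x.val
  | [], _ => rfl
  | c :: w, x => by
    obtain ⟨h1, h2⟩ := and2_true.1 (h c)
    obtain ⟨h2, h3⟩ := and2_true.1 h2
    change ((mv c).step x (runW mv w)).val = _
    rw [Mv.step_eq, val_runW h w, St.val, Ex.val_eval _ _ _ h1, Ex.val_eval _ _ _ h2,
      Ex.val_eval _ _ _ h3]
    rfl

noncomputable def St.beq (x y : St) : Bool :=
  St.rec (fun a s w => St.rec (fun a' s' w' =>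
    and2 (a.beq a') (and2 (s.beq s') (w.beq w'))) y) x

theorem St.eq_of_beq {x y : St} (h : x.beq y = true) : x = y := by
  obtain ⟨a, s, w⟩ := x
  obtain ⟨a', s', w'⟩ := y
  obtain ⟨h1, h2⟩ := and2_true.1 (show and2 (a.beq a') (and2 (s.beq s') (w.beq w')) = true from h)
  obtain ⟨h2, h3⟩ := and2_true.1 h2
  rw [Vec.eq_of_beq h1, Vec.eq_of_beq h2, Vec.eq_of_beq h3]

end H10.Mon
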