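import Mathlib
import Cfsg.Agent.H10.MVec

/-!
# Programs: locality, matrices, tensor products, monomial programs, dependency labels
-/

set_option autoImplicit false
set_option linter.all false

namespace H10.Mon

open H29

theorem tb_hi {m d N : ℕ} (h : (m <<< d) >>> N = 0) {p : ℕ} (hp : (m <<< d).testBit p = true) :
    p < N := by
  by_contra h1
  have := congrArg (fun x => Nat.testBit x (p - N)) h
  simp only [Nat.testBit_shiftRight, Nat.zero_testBit] at this
  rw [show N + (p - N) = p by omega, hp] at this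
  exact absurd this (by simp)

theorem tb_zero {m N : ℕ} (h : m >>> N = 0) {p : ℕ} (hp : N ≤ p) : m.testBit p = false := by
  by_contra h1
  have := tb_hi (d := 0) (m := m) h (by simpa using h1)
  omega

theorem swapFun_eq (d m p : ℕ) : swapFun d m p =
    if m.testBit p then p + d else if (m <<< d).testBit p then p - d else p := by
  simp [swapFun, Nat.testBit_shiftLeft]

theorem swap_lt {m d N : ℕ} (h : (m <<< d) >>> N = 0) {p : ℕ} (hp : p < N) : swapFun d m p < N := by
  rw [swapFun_eq]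
  split_ifs with h1 h2
  · exact tb_hi h (by simp [Nat.testBit_shiftLeft, h1])
  · omega
  · exact hp

theorem Op.sem_local {N : ℕ} {x y : ℕ → ℝ} (hxy : ∀ p < N, x p = y p) :
    ∀ {o : Op}, o.ok N = true → ∀ p < N, o.sem x p = o.sem y p
  | .sw d m, h, p, hp => hxy _ (swap_lt (ok2 h).2 hp)
  | .ng m, h, p, hp => by simp only [Op.sem, hxy p hp]
  | .bf d m, h, p, hp => by simp only [Op.sem, hxy p hp, hxy _ (swap_lt (ok2 h).2 hp)]
  | .hf, h, p, hp => by simp only [Op.sem, hxy p hp]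

theorem sem_local {N : ℕ} : ∀ {π : List Op}, okP N π = true → ∀ {x y : ℕ → ℝ},
    (∀ p < N, x p = y p) → ∀ p < N, sem π x p = sem π y p
  | [], _, _, _, h => h
  | o :: π, h, _, _, hxy => sem_local (okP_cons.1 h).2 (Op.sem_local hxy (okP_cons.1 h).1)

theorem Op.sem_supp {N : ℕ} {x : ℕ → ℝ} (hx : ∀ p, N ≤ p → x p = 0) :
    ∀ {o : Op}, o.ok N = true → ∀ p, N ≤ p → o.sem x p = 0
  | .sw d m, h, p, hp => by rw [Op.sem, swapFun_fix (ok2 h).2 hp, hx p hp]
  | .ng m, h, p, hp => by simp [Op.sem, hx p hp]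
  | .bf d m, h, p, hp => by simp [Op.sem, swapFun_fix (ok2 h).2 hp, hx p hp]
  | .hf, h, p, hp => by simp [Op.sem, hx p hp]

theorem sem_supp {N : ℕ} : ∀ {π : List Op}, okP N π = true → ∀ {x : ℕ → ℝ},
    (∀ p, N ≤ p → x p = 0) → ∀ p, N ≤ p → sem π x p = 0
  | [], _, _, h => h
  | o :: π, h, _, hx => sem_supp (okP_cons.1 h).2 (Op.sem_supp hx (okP_cons.1 h).1)

theorem sem_mat {N : ℕ} {π : List Op} (h : okP N π = true) (x : ℕ → ℝ) {i : ℕ} (hi : i < N) :
    sem π x i = ∑ j ∈ Finset.range N, sem π (Pi.single j 1) i * x j := by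
  rw [sem_local h (y := ∑ j ∈ Finset.range N, x j • Pi.single j 1) (fun p hp => by
    simp [Finset.sum_apply, Pi.single_apply, hp]) i hi]
  change semL π _ i = _
  simp only [map_sum, map_smul, Finset.sum_apply, Pi.smul_apply, smul_eq_mul, mul_comm]
  rfl

theorem Op.ok_mono {N N' : ℕ} (hN : N ≤ N') : ∀ {o : Op}, o.ok N = true → o.ok N' = true := by
  have key : ∀ a : ℕ, a >>> N = 0 → a >>> N' = 0 := fun a h => by
    obtain ⟨k, rfl⟩ := Nat.exists_eq_add_of_le hN
    rw [Nat.shiftRight_add, h, Nat.zero_shiftRight]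
  intro o h
  cases o with
  | sw d m => exact and2_true.2 ⟨H29.beq_true.2 (ok2 h).1, H29.beq_true.2 (key _ (ok2 h).2)⟩
  | ng m => exact H29.beq_true.2 (key _ (H29.beq_true.1 h))
  | bf d m => exact and2_true.2 ⟨H29.beq_true.2 (ok2 h).1, H29.beq_true.2 (key _ (ok2 h).2)⟩
  | hf => rfl

/-! ### Tensor products -/

/-- Each of the 24 low bits of `m` is blown up to a block of `B` bits. -/
noncomputable def expand (B m : ℕ) (n : ℕ) : ℕ :=
  Nat.rec 0 (fun i ih => Bool.rec ih (Nat.lor ih (Nat.shiftLeft (ones B) (Nat.mul i B)))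
    (Nat.beq (Nat.land (Nat.shiftRight m i) 1) 1)) n

theorem bit_beq (m i : ℕ) : Nat.beq (Nat.land (Nat.shiftRight m i) 1) 1 = m.testBit i := by
  rw [Bool.eq_iff_iff, H29.beq_true, land_eq, shr_eq, Nat.and_one_is_mod, Nat.testBit,
    Nat.one_and_eq_mod_two]
  simp

theorem tb_expand {B : ℕ} (m : ℕ) {i u : ℕ} (hu : u < B) :
    ∀ n, (expand B m n).testBit (i * B + u) = (decide (i < n) && m.testBit i)
  | 0 => by simp [expand]
  | n + 1 => by
    change Nat.testBit (Bool.rec (expand B m n) (Nat.lor (expand B m n)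
      (Nat.shiftLeft (ones B) (Nat.mul n B))) (Nat.beq (Nat.land (Nat.shiftRight m n) 1) 1)) _ = _
    have e : (ones B <<< (n * B)).testBit (i * B + u) = decide (i = n) := by
      rw [Nat.testBit_shiftLeft, testBit_ones, ← Bool.decide_and, decide_eq_decide]
      constructor
      · rintro ⟨h1, h2⟩
        have : i * B < (n + 1) * B := by rw [add_mul]; omega
        have : n * B < (i + 1) * B := by rw [add_mul]; omega
        have := Nat.lt_of_mul_lt_mul_right ‹i * B < _›
        have := Nat.lt_of_mul_lt_mul_right ‹n * B < _›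
        omega
      · rintro rfl; omega
    rw [bit_beq]
    cases h : m.testBit n
    · simp only [tb_expand m hu n]
      by_cases h1 : i = n
      · simp [h1, h]
      · simp [show i < n + 1 ↔ i < n by omega]
    · simp only [lor_eq, shl_eq, Nat.mul_eq, Nat.testBit_or, tb_expand m hu n, e]
      by_cases h1 : i = n
      · simp [h1, h]
      · simp [show i < n + 1 ↔ i < n by omega, h1]

def dbl (k m : ℕ) : ℕ := Nat.lor m (Nat.shiftLeft m k)

/-- 24 copies of `m`. -/
def repl (B m : ℕ) : ℕ :=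
  let a := dbl (Nat.mul 4 B) (dbl (Nat.mul 2 B) (dbl B m))
  Nat.lor (dbl (Nat.mul 8 B) a) (Nat.shiftLeft a (Nat.mul 16 B))

/-- `a` consists of `n` copies of `m`. -/
def Rep (B m n a : ℕ) : Prop :=
  ∀ i u, u < B → a.testBit (i * B + u) = (decide (i < n) && m.testBit u)

theorem Rep.lor {B m n k a b : ℕ} (ha : Rep B m n a) (hb : Rep B m k b) :
    Rep B m (n + k) (a ||| b <<< (n * B)) := fun i u hu => by
  rw [Nat.testBit_or, Nat.testBit_shiftLeft, ha i u hu]
  by_cases h : i < n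
  · have : (i + 1) * B ≤ n * B := Nat.mul_le_mul_right B h
    rw [add_mul] at this
    simp [h, show ¬ i * B + u ≥ n * B by omega, show i < n + k by omega]
  · obtain ⟨j, rfl⟩ := Nat.exists_eq_add_of_le (not_lt.1 h)
    rw [show (n + j) * B + u - n * B = j * B + u by rw [add_mul]; omega, hb j u hu]
    simp [show (n + j) * B + u ≥ n * B by rw [add_mul]; omega]

theorem rep_repl {B m : ℕ} (h : m >>> B = 0) : Rep B m 24 (repl B m) := by
  have h1 : Rep B m 1 m := fun i u hu => by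
    rcases i with _ | i
    · simp
    · rw [tb_zero h (by rw [add_mul]; omega)]; simp
  have h2 := h1.lor h1
  rw [one_mul] at h2
  have h4 := h2.lor h2
  have h8 := h4.lor h4
  exact (h8.lor h8).lor h8

noncomputable def Op.lft (B : ℕ) (o : Op) : Op :=
  Op.rec (fun d m => .sw (Nat.mul d B) (expand B m 24)) (fun m => .ng (expand B m 24))
    (fun d m => .bf (Nat.mul d B) (expand B m 24)) .hf o

noncomputable def Op.rgt (B : ℕ) (o : Op) : Op :=
  Op.rec (fun d m => .sw d (repl B m)) (fun m => .ng (repl B m)) (fun d m => .bf d (repl B m)) .hf o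

noncomputable def mapL {α β : Type} (f : α → β) (l : List α) (r : List β) : List β :=
  List.rec r (fun a _ ih => f a :: ih) l

theorem mapL_eq {α β : Type} (f : α → β) (r : List β) : ∀ l, mapL f l r = l.map f ++ r
  | [] => rfl
  | a :: l => congrArg (f a :: ·) (mapL_eq f r l)

theorem tb_expand' {B m : ℕ} (h : m >>> 24 = 0) {i u : ℕ} (hu : u < B) :
    (expand B m 24).testBit (i * B + u) = m.testBit i := by
  rw [tb_expand m hu]
  by_cases h1 : i < 24
  · simp [h1]
  · simp [h1, tb_zero h (not_lt.1 h1)]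

theorem shr_of_shl {m d N : ℕ} (h : (m <<< d) >>> N = 0) : m >>> N = 0 :=
  Nat.eq_of_testBit_eq fun i => by
    rw [Nat.testBit_shiftRight, Nat.zero_testBit]
    by_contra h1
    have := tb_hi h (p := N + i + d) (by simpa [Nat.testBit_shiftLeft] using h1)
    omega

theorem lft_hi {B d m : ℕ} (h : (m <<< d) >>> 24 = 0) {i u : ℕ} (hu : u < B) :
    (expand B m 24 <<< (d * B)).testBit (i * B + u) = (m <<< d).testBit i := by
  rw [Nat.testBit_shiftLeft, Nat.testBit_shiftLeft]
  by_cases h1 : d ≤ i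
  · obtain ⟨j, rfl⟩ := Nat.exists_eq_add_of_le h1
    rw [show (d + j) * B + u - d * B = j * B + u by rw [add_mul]; omega,
      tb_expand' (shr_of_shl h) hu]
    simp [show (d + j) * B + u ≥ d * B by rw [add_mul]; omega]
  · have : (i + 1) * B ≤ d * B := Nat.mul_le_mul_right B (not_le.1 h1)
    rw [add_mul] at this
    simp [h1, show ¬ i * B + u ≥ d * B by omega]

theorem lft_swap {B d m : ℕ} (h : (m <<< d) >>> 24 = 0) {i u : ℕ} (hu : u < B) :
    swapFun (d * B) (expand B m 24) (i * B + u) = swapFun d m i * B + u := by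
  rw [swapFun_eq, swapFun_eq, lft_hi h hu, tb_expand' (shr_of_shl h) hu]
  split_ifs with h1 h2
  · ring
  · have : d ≤ i := by simp [Nat.testBit_shiftLeft] at h2; exact h2.1
    obtain ⟨j, rfl⟩ := Nat.exists_eq_add_of_le this
    rw [add_mul, Nat.add_sub_cancel_left]; omega
  · rfl

theorem Op.sem_lft {B u : ℕ} (hu : u < B) (x : ℕ → ℝ) : ∀ {o : Op}, o.ok 24 = true →
    (fun i => (o.lft B).sem x (i * B + u)) = o.sem fun i => x (i * B + u)
  | .sw d m, h => funext fun i => congrArg x (lft_swap (ok2 h).2 hu)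
  | .ng m, h => funext fun i => by
    simp only [Op.lft, Op.sem, tb_expand' (H29.beq_true.1 h) hu]
  | .bf d m, h => funext fun i => by
    simp only [Op.lft, Op.sem, Nat.mul_eq, lft_swap (ok2 h).2 hu, lft_hi (ok2 h).2 hu]
  | .hf, h => rfl

theorem sem_lft {B u : ℕ} (hu : u < B) : ∀ {π : List Op}, okP 24 π = true → ∀ (x : ℕ → ℝ) (i : ℕ),
    sem (π.map (Op.lft B)) x (i * B + u) = sem π (fun i => x (i * B + u)) i
  | [], _, _, _ => rfl
  | o :: π, h, x, i => by
    rw [List.map_cons, sem, sem_lft hu (okP_cons.1 h).2, Op.sem_lft hu x (okP_cons.1 h).1, sem]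

theorem rgt_hi {B d m : ℕ} (h : (m <<< d) >>> B = 0) {i u : ℕ} (hi : i < 24) (hu : u < B) :
    (repl B m <<< d).testBit (i * B + u) = (m <<< d).testBit u := by
  have hr := rep_repl (shr_of_shl h)
  rw [Nat.testBit_shiftLeft, Nat.testBit_shiftLeft]
  by_cases h1 : d ≤ u
  · rw [Nat.add_sub_assoc h1, hr i _ (by omega)]
    simp [hi, h1, show i * B + u ≥ d by omega]
  · by_cases h2 : d ≤ i * B + u
    · have hB : 0 < B := by omega
      have e := Nat.div_add_mod' (i * B + u - d) B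
      have hl := Nat.mod_lt (i * B + u - d) hB
      rw [← e, hr _ _ hl]
      by_cases h3 : m.testBit ((i * B + u - d) % B) = true
      · exfalso
        have h4 := tb_hi h (p := (i * B + u - d) % B + d) (by simpa [Nat.testBit_shiftLeft] using h3)
        have h5 : ((i * B + u - d) / B * B + ((i * B + u - d) % B + d)) % B = (i * B + u) % B := by
          congr 1; omega
        rw [Nat.mul_add_mod_of_lt h4, Nat.mul_add_mod_of_lt hu] at h5
        omega
      · simp [h1, h3]
    · simp [h1, h2]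

theorem rgt_swap {B d m : ℕ} (h : (m <<< d) >>> B = 0) {i u : ℕ} (hi : i < 24) (hu : u < B) :
    swapFun d (repl B m) (i * B + u) = i * B + swapFun d m u := by
  rw [swapFun_eq, swapFun_eq, rgt_hi h hi hu, rep_repl (shr_of_shl h) i u hu]
  simp only [hi, decide_true, Bool.true_and]
  split_ifs with h1 h2
  · ring
  · have : d ≤ u := by simp [Nat.testBit_shiftLeft] at h2; exact h2.1
    omega
  · rfl

theorem Op.sem_rgt {B i : ℕ} (hi : i < 24) (x : ℕ → ℝ) : ∀ {o : Op}, o.ok B = true → ∀ u < B,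
    (o.rgt B).sem x (i * B + u) = o.sem (fun u => x (i * B + u)) u
  | .sw d m, h, u, hu => congrArg x (rgt_swap (ok2 h).2 hi hu)
  | .ng m, h, u, hu => by
    simp [Op.rgt, Op.sem, rep_repl (H29.beq_true.1 h) i u hu, hi]
  | .bf d m, h, u, hu => by
    simp only [Op.rgt, Op.sem, rgt_swap (ok2 h).2 hi hu, rgt_hi (ok2 h).2 hi hu]
  | .hf, h, u, hu => rfl

theorem sem_rgt {B i : ℕ} (hi : i < 24) : ∀ {π : List Op}, okP B π = true → ∀ (x : ℕ → ℝ),
    ∀ u < B, sem (π.map (Op.rgt B)) x (i * B + u) = sem π (fun u => x (i * B + u)) u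
  | [], _, _, _, _ => rfl
  | o :: π, h, x, u, hu => by
    rw [List.map_cons, sem, sem_rgt hi (okP_cons.1 h).2 _ u hu, sem]
    exact sem_local (okP_cons.1 h).2 (Op.sem_rgt hi x (okP_cons.1 h).1) u hu

/-- The program of the tensor product. -/
noncomputable def ten (B : ℕ) (ρ κ : List Op) : List Op :=
  mapL (Op.lft B) ρ (mapL (Op.rgt B) κ [])

theorem sem_ten {B : ℕ} {ρ κ : List Op} (hρ : okP 24 ρ = true) (hκ : okP B κ = true) (x : ℕ → ℝ)
    {i u : ℕ} (hi : i < 24) (hu : u < B) : sem (ten B ρ κ) x (i * B + u) =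
      ∑ j ∈ Finset.range 24, ∑ v ∈ Finset.range B,
        sem ρ (Pi.single j 1) i * sem κ (Pi.single v 1) u * x (j * B + v) := by
  rw [ten, mapL_eq, mapL_eq, List.append_nil, sem_append, sem_rgt hi hκ _ u hu, sem_mat hκ _ hu,
    Finset.sum_comm]
  refine Finset.sum_congr rfl fun v hv => ?_
  rw [sem_lft (Finset.mem_range.1 hv) hρ, sem_mat hρ _ hi, Finset.mul_sum]
  exact Finset.sum_congr rfl fun j _ => by ring

/-! ### Monomial programs -/

noncomputable def Op.mono (o : Op) : Bool :=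
  Op.rec (fun _ _ => true) (fun _ => true) (fun _ _ => false) false o

noncomputable def Op.σ : Op → ℕ → ℕ
  | .sw d m => swapFun d m
  | _ => id

noncomputable def σP : List Op → ℕ → ℕ
  | [] => id
  | o :: π => fun p => o.σ (σP π p)

/-- Move a plane. -/
noncomputable def pull (π : List Op) : ℕ → ℕ :=
  List.rec (motive := fun _ => ℕ → ℕ) (fun a => a) (fun o _ ih a =>
    Op.rec (fun d m => seqN (dswap d m a) ih) (fun _ => ih a) (fun _ _ => ih a) (ih a) o) π

/-- The sign plane. -/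
noncomputable def sgP (π : List Op) : ℕ → ℕ :=
  List.rec (motive := fun _ => ℕ → ℕ) (fun a => a) (fun o _ ih a =>
    Op.rec (fun d m => seqN (dswap d m a) ih) (fun m => ih (Nat.xor a m)) (fun _ _ => ih a)
      (ih a) o) π

theorem tb_pull {N : ℕ} : ∀ {π : List Op}, okP N π = true → ∀ a p : ℕ,
    (pull π a).testBit p = a.testBit (σP π p)
  | [], _, _, _ => rfl
  | .sw d m :: π, h, a, p => by
    change (seqN (dswap d m a) (pull π)).testBit p = _
    rw [seqN_eq, tb_pull (okP_cons.1 h).2, testBit_dswap (ok2 (okP_cons.1 h).1).1]; rfl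
  | .ng m :: π, h, a, p => tb_pull (okP_cons.1 h).2 a p
  | .bf d m :: π, h, a, p => tb_pull (okP_cons.1 h).2 a p
  | .hf :: π, h, a, p => tb_pull (okP_cons.1 h).2 a p

theorem allL_cons {α : Type} {a : α} {l : List α} {f : α → Bool} :
    allL (a :: l) f = true ↔ f a = true ∧ allL l f = true := and2_true

def sb (a p : ℕ) : ℝ := if a.testBit p then -1 else 1

theorem sem_mono' {N : ℕ} : ∀ {π : List Op}, okP N π = true → allL π Op.mono = true →
    ∀ (s : ℕ) (x : ℕ → ℝ) (p : ℕ), sem π (fun q => sb s q * x q) p = sb (sgP π s) p * x (σP π p)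
  | [], _, _, _, _, _ => rfl
  | .sw d m :: π, h, h', s, x, p => by
    change sem π _ p = sb (seqN (dswap d m s) (sgP π)) p * _
    rw [seqN_eq]
    refine Eq.trans ?_ (sem_mono' (okP_cons.1 h).2 (allL_cons.1 h').2 (dswap d m s)
      (fun q => x (swapFun d m q)) p)
    congr 1
    funext q
    simp only [Op.sem, sb, testBit_dswap (ok2 (okP_cons.1 h).1).1]
  | .ng m :: π, h, h', s, x, p => by
    refine Eq.trans ?_ (sem_mono' (okP_cons.1 h).2 (allL_cons.1 h').2 (Nat.xor s m) x p)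
    change sem π _ p = _
    congr 1
    funext q
    simp only [Op.sem, sb, xor_eq, Nat.testBit_xor]
    cases s.testBit q <;> cases m.testBit q <;> simp
  | .bf d m :: π, _, h', _, _, _ => absurd (allL_cons.1 h').1 Bool.false_ne_true
  | .hf :: π, _, h', _, _, _ => absurd (allL_cons.1 h').1 Bool.false_ne_true

theorem sem_mono {N : ℕ} {π : List Op} (h : okP N π = true) (h' : allL π Op.mono = true)
    (x : ℕ → ℝ) (p : ℕ) : sem π x p = sb (sgP π 0) p * x (σP π p) := by
  rw [← sem_mono' h h']; simp [sb]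

theorem Op.σ_lt {N : ℕ} {p : ℕ} (hp : p < N) : ∀ {o : Op}, o.ok N = true → o.σ p < N
  | .sw d m, h => swap_lt (ok2 h).2 hp
  | .ng _, _ => hp
  | .bf _ _, _ => hp
  | .hf, _ => hp

theorem σP_lt {N : ℕ} {p : ℕ} (hp : p < N) : ∀ {π : List Op}, okP N π = true → σP π p < N
  | [], _ => hp
  | o :: π, h => Op.σ_lt (σP_lt hp (okP_cons.1 h).2) (okP_cons.1 h).1

theorem Op.σ_inj {N : ℕ} : ∀ {o : Op}, o.ok N = true → Function.Injective o.σ
  | .sw d m, h => (swapFun_invol (ok2 h).1).injective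
  | .ng _, _ => Function.injective_id
  | .bf _ _, _ => Function.injective_id
  | .hf, _ => Function.injective_id

theorem σP_inj {N : ℕ} : ∀ {π : List Op}, okP N π = true → Function.Injective (σP π)
  | [], _ => Function.injective_id
  | o :: π, h => (Op.σ_inj (okP_cons.1 h).1).comp (σP_inj (okP_cons.1 h).2)

/-! ### Dependency labels -/

noncomputable def Op.lab (o : Op) (r : List Op) : List Op :=
  Op.rec (fun d m => .sw d m :: r) (fun _ => r) (fun _ _ => r) r o

noncomputable def labP (π : List Op) : List Op := List.rec [] (fun o _ ih => o.lab ih) π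

noncomputable def labOkP (π : List Op) : Vec → Bool :=
  List.rec (motive := fun _ => Vec → Bool) (fun _ => true) (fun o _ ih v =>
    Op.rec (fun d m => (v.map (dswap d m)).force ih) (fun _ => ih v)
      (fun d m => and2 ((v.map (dswap d m)).beq v) (ih v)) (ih v) o) π

noncomputable def Ex.lab (e : Ex) : Ex :=
  Ex.rec .r0 .r1 .r2 (fun k _ ih => .shr k ih) (fun k _ ih => .shl k ih) (fun m _ ih => .msk m ih)
    (fun π _ ih => .run (labP π) ih) (fun _ _ i _ => i) (fun _ _ i j => .adD i j) e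

noncomputable def Ex.labOk (a s w : Vec) (e : Ex) : Bool :=
  Ex.rec true true true (fun _ _ ih => ih) (fun _ _ ih => ih) (fun _ _ ih => ih)
    (fun π e ih => and2 ih (labOkP π (e.lab.eval a s w)))
    (fun e f i j => and2 i (and2 j ((e.lab.eval a s w).beq (f.lab.eval a s w))))
    (fun e f i j => and2 i (and2 j
      (Nat.beq (Nat.land (e.lab.eval a s w).P.nz (f.lab.eval a s w).P.nz) 0))) e

theorem okP_lab {N : ℕ} : ∀ {π : List Op}, okP N π = true → okP N (labP π) = true
  | [], _ => rfl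
  | .sw d m :: π, h => okP_cons.2 ⟨(okP_cons.1 h).1, okP_lab (okP_cons.1 h).2⟩
  | .ng m :: π, h => okP_lab (π := π) (okP_cons.1 h).2
  | .bf d m :: π, h => okP_lab (π := π) (okP_cons.1 h).2
  | .hf :: π, h => okP_lab (π := π) (okP_cons.1 h).2

theorem Ex.ok_lab : ∀ {e : Ex}, e.ok = true → e.lab.ok = true
  | .r0, _ => rfl
  | .r1, _ => rfl
  | .r2, _ => rfl
  | .shr _ e, h => Ex.ok_lab (e := e) h
  | .shl _ e, h => Ex.ok_lab (e := e) h
  | .msk _ e, h => Ex.ok_lab (e := e) h
  | .run π e, h => and2_true.2 ⟨okP_lab (and2_true.1 h).1, Ex.ok_lab (and2_true.1 h).2⟩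
  | .adE e f, h => Ex.ok_lab (e := e) (and2_true.1 h).1
  | .adD e f, h => and2_true.2 ⟨Ex.ok_lab (and2_true.1 h).1, Ex.ok_lab (and2_true.1 h).2⟩

/-- `x` vanishes where the label is `b`. -/
def Van1 (l x : ℕ → ℝ) (b : ℝ) : Prop := ∀ p, l p = b → x p = 0

def Van (l x : R3) (b : ℝ) : Prop := Van1 l.1 x.1 b ∧ Van1 l.2.1 x.2.1 b ∧ Van1 l.2.2 x.2.2 b

theorem van_run {N : ℕ} {b : ℝ} : ∀ {π : List Op}, okP N π = true → ∀ {v : Vec} {x : ℕ → ℝ},
    labOkP π v = true → Van1 v.val x b → Van1 (sem (labP π) v.val) (sem π x) b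
  | [], _, _, _, _, h => h
  | .sw d m :: π, h, v, x, h1, h2 => by
    have e : (v.map (dswap d m)).val = (Op.sw d m).sem v.val := funext fun p =>
      Vec.val_map (fun a => testBit_dswap (ok2 (okP_cons.1 h).1).1 a p) v
    change Van1 (sem (labP π) ((Op.sw d m).sem v.val)) (sem π ((Op.sw d m).sem x)) b
    rw [← e]
    exact van_run (okP_cons.1 h).2 ((Vec.force_eq _ _).symm.trans h1) (e ▸ fun p hp => h2 _ hp)
  | .ng m :: π, h, v, x, h1, h2 =>
    van_run (okP_cons.1 h).2 h1 fun p hp => by simp [Op.sem, h2 p hp]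
  | .bf d m :: π, h, v, x, h1, h2 => by
    obtain ⟨h3, h4⟩ := and2_true.1 h1
    refine van_run (okP_cons.1 h).2 h4 fun p hp => ?_
    have e := Vec.val_map (fun a => testBit_dswap (ok2 (okP_cons.1 h).1).1 a p) v
    rw [Vec.eq_of_beq h3] at e
    simp [Op.sem, h2 p hp, h2 _ (e.symm.trans hp)]
  | .hf :: π, h, v, x, h1, h2 =>
    van_run (okP_cons.1 h).2 h1 fun p hp => by simp [Op.sem, h2 p hp]

theorem Vec.val_nz {v : Vec} {p : ℕ} (h : v.P.nz.testBit p = false) : v.val p = 0 := by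
  simp [Vec.val, Pl.val_nz h]

theorem Ex.van {a s w : Vec} {x : R3} (h0 : Van (a.val, s.val, w.val) x 0) :
    ∀ {e : Ex}, e.ok = true → e.labOk a s w = true → ∀ {b : ℝ}, Van (a.val, s.val, w.val) x b →
      Van1 (e.lab.sem (a.val, s.val, w.val)) (e.sem x) b ∧
      Van1 (e.lab.sem (a.val, s.val, w.val)) (e.sem x) 0
  | .r0, _, _, _, h => ⟨h.1, h0.1⟩
  | .r1, _, _, _, h => ⟨h.2.1, h0.2.1⟩
  | .r2, _, _, _, h => ⟨h.2.2, h0.2.2⟩
  | .shr k e, h1, h2, _, h => by
    have := Ex.van h0 (e := e) h1 h2 h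
    exact ⟨fun p hp => this.1 _ hp, fun p hp => this.2 _ hp⟩
  | .shl k e, h1, h2, _, h => by
    have := Ex.van h0 (e := e) h1 h2 h
    constructor <;> intro p hp <;> simp only [Ex.lab, Ex.sem] at hp ⊢ <;> split_ifs at hp ⊢
    exacts [this.1 _ hp, rfl, this.2 _ hp, rfl]
  | .msk m e, h1, h2, _, h => by
    have := Ex.van h0 (e := e) h1 h2 h
    constructor <;> intro p hp <;> simp only [Ex.lab, Ex.sem] at hp ⊢ <;> split_ifs at hp ⊢
    exacts [this.1 _ hp, rfl, this.2 _ hp, rfl]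
  | .run π e, h1, h2, _, h => by
    obtain ⟨h3, h4⟩ := and2_true.1 h1
    obtain ⟨h5, h6⟩ := and2_true.1 h2
    have := Ex.van h0 h4 h5 h
    rw [← Ex.val_eval a s w (Ex.ok_lab h4)] at this
    have t1 := van_run h3 h6 this.1
    have t2 := van_run h3 h6 this.2
    rw [Ex.val_eval a s w (Ex.ok_lab h4)] at t1 t2
    exact ⟨t1, t2⟩
  | .adE e f, h1, h2, _, h => by
    obtain ⟨h3, h4⟩ := and2_true.1 h1
    obtain ⟨h5, h6⟩ := and2_true.1 h2
    obtain ⟨h6, h7⟩ := and2_true.1 h6
    have t1 := Ex.van h0 h3 h5 h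
    have t2 := Ex.van h0 h4 h6 h
    rw [← Ex.val_eval a s w (Ex.ok_lab h4), ← Vec.eq_of_beq h7,
      Ex.val_eval a s w (Ex.ok_lab h3)] at t2
    exact ⟨fun p hp => by simp [Ex.sem, t1.1 p hp, t2.1 p hp],
      fun p hp => by simp [Ex.sem, t1.2 p hp, t2.2 p hp]⟩
  | .adD e f, h1, h2, _, h => by
    obtain ⟨h3, h4⟩ := and2_true.1 h1
    obtain ⟨h5, h6⟩ := and2_true.1 h2
    obtain ⟨h6, h7⟩ := and2_true.1 h6
    have t1 := Ex.van h0 h3 h5 h
    have t2 := Ex.van h0 h4 h6 h
    have key : ∀ p, e.lab.sem (a.val, s.val, w.val) p = 0 ∨ f.lab.sem (a.val, s.val, w.val) p = 0 := by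
      intro p
      have := congrArg (fun x => Nat.testBit x p) (H29.beq_true.1 h7)
      simp only [land_eq, Nat.testBit_and, Nat.zero_testBit, Bool.and_eq_false_iff] at this
      rw [← Ex.val_eval a s w (Ex.ok_lab h3), ← Ex.val_eval a s w (Ex.ok_lab h4)]
      exact this.imp Vec.val_nz Vec.val_nz
    constructor <;> intro p hp <;> change e.lab.sem _ p + f.lab.sem _ p = _ at hp <;>
      change e.sem x p + f.sem x p = 0 <;> rcases key p with k | k <;> rw [k] at hp
    · rw [t1.2 p k, t2.1 p (by simpa using hp), add_zero]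
    · rw [t2.2 p k, t1.1 p (by simpa using hp), add_zero]
    · rw [t1.2 p k, t2.2 p (by simpa using hp), add_zero]
    · rw [t2.2 p k, t1.2 p (by simpa using hp), add_zero]

noncomputable def Mv.lab (m : Mv) : Mv := ⟨m.a.lab, m.s.lab, m.w.lab⟩

noncomputable def labOkW (mv : ℕ → Mv) (w : List ℕ) : St → Bool :=
  List.rec (motive := fun _ => St → Bool) (fun _ => true) (fun c _ ih x =>
    and2 ((mv c).a.labOk x.a x.s x.w) (and2 ((mv c).s.labOk x.a x.s x.w)
      (and2 ((mv c).w.labOk x.a x.s x.w) ((mv c).lab.step x ih)))) w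

theorem Mv.ok_lab {m : Mv} (h : m.ok = true) : m.lab.ok = true := by
  obtain ⟨h1, h2⟩ := and2_true.1 h
  obtain ⟨h2, h3⟩ := and2_true.1 h2
  exact and2_true.2 ⟨Ex.ok_lab h1, and2_true.2 ⟨Ex.ok_lab h2, Ex.ok_lab h3⟩⟩

theorem van_word {mv : ℕ → Mv} (h : ∀ c, (mv c).ok = true) {b : ℝ} : ∀ (w : List ℕ) {l : St} {x : R3},
    labOkW mv w l = true → Van l.val x 0 → Van l.val x b →
      Van (runW (fun c => (mv c).lab) w l).val (semW mv w x) b
  | [], _, _, _, _, h2 => h2
  | c :: w, l, x, h1, h0, h2 => by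
    obtain ⟨k1, k2⟩ := and2_true.1 (h c)
    obtain ⟨k2, k3⟩ := and2_true.1 k2
    obtain ⟨l1, l2⟩ := and2_true.1 h1
    obtain ⟨l2, l3⟩ := and2_true.1 l2
    obtain ⟨l3, l4⟩ := and2_true.1 l3
    have t1 := Ex.van h0 k1 l1 h2
    have t2 := Ex.van h0 k2 l2 h2
    have t3 := Ex.van h0 k3 l3 h2
    rw [← Ex.val_eval _ _ _ (Ex.ok_lab k1)] at t1
    rw [← Ex.val_eval _ _ _ (Ex.ok_lab k2)] at t2
    rw [← Ex.val_eval _ _ _ (Ex.ok_lab k3)] at t3
    change Van ((mv c).lab.step l (runW (fun c => (mv c).lab) w)).val _ b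
    rw [Mv.step_eq] at l4 ⊢
    exact van_word h w l4 ⟨t1.2, t2.2, t3.2⟩ ⟨t1.1, t2.1, t3.1⟩

/-- Two words agree on `x` if they agree on enough test vectors. -/
theorem semW_eq {mv : ℕ → Mv} (h : ∀ c, (mv c).ok = true) {w1 w2 : List ℕ} {l : St}
    (h1 : labOkW mv w1 l = true) (h2 : labOkW mv w2 l = true)
    (h3 : runW (fun c => (mv c).lab) w1 l = runW (fun c => (mv c).lab) w2 l)
    {n : ℕ} {t : ℕ → R3} (ht : ∀ j < n, semW mv w1 (t j) = semW mv w2 (t j)) {x : R3}
    (hx : ∀ b, ∃ c : ℕ → ℝ, Van l.val (x - ∑ j ∈ Finset.range n, c j • t j) 0 ∧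
      Van l.val (x - ∑ j ∈ Finset.range n, c j • t j) b) : semW mv w1 x = semW mv w2 x := by
  have key : ∀ b, Van (runW (fun c => (mv c).lab) w2 l).val (semW mv w1 x - semW mv w2 x) b := by
    intro b
    obtain ⟨c, c0, cb⟩ := hx b
    have t1 := van_word h w1 h1 c0 cb
    have t2 := van_word h w2 h2 c0 cb
    rw [h3] at t1
    have e : semW mv w1 x - semW mv w2 x = semW mv w1 (x - ∑ j ∈ Finset.range n, c j • t j) -
        semW mv w2 (x - ∑ j ∈ Finset.range n, c j • t j) := by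
      simp only [map_sub, map_sum, map_smul]
      rw [Finset.sum_congr rfl fun j hj => by rw [ht j (Finset.mem_range.1 hj)]]
      abel
    rw [e]
    generalize x - ∑ j ∈ Finset.range n, c j • t j = y at t1 t2
    exact ⟨fun p hp => by simp [t1.1 p hp, t2.1 p hp], fun p hp => by
      simp [t1.2.1 p hp, t2.2.1 p hp], fun p hp => by simp [t1.2.2 p hp, t2.2.2 p hp]⟩
  rw [← sub_eq_zero]
  exact Prod.ext (funext fun p => (key _).1 p rfl) (Prod.ext (funext fun p => (key _).2.1 p rfl)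
    (funext fun p => (key _).2.2 p rfl))

end H10.Mon
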