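import Mathlib
import Cfsg.Agent.H10.MTen
import Cfsg.Agent.H10.MD0
import Cfsg.Agent.H10.MD1
import Cfsg.Agent.H10.MD2
import Cfsg.Agent.H10.MD3
import Cfsg.Agent.H10.MD4

/-!
# The letters and the triality move
-/

set_option autoImplicit false
set_option linter.all false

namespace H10.Mon

open H29

/-- Data of a letter: matrix in `Co0`, images of the basis modulo 2, signs on the basis,
Hadamard flag, programs on rows, on the module of dimension 4096 and on the short classes. -/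
structure Lt : Type where
  M : List ℕ
  C : List ℕ
  lam : ℕ
  had : Bool
  ρ : List Op
  κ : List Op
  σ : List Op

noncomputable def revL {α : Type} (l : List α) : List α → List α :=
  List.rec (motive := fun _ => List α → List α) (fun r => r) (fun a _ ih r => ih (a :: r)) l

noncomputable def hadP : List Op :=
  [.bf 1 (lowPat 12 0), .bf 2 (lowPat 12 1), .bf 4 (lowPat 12 2), .bf 8 (lowPat 12 3), .hf, .hf]

noncomputable def Lt.κ' (L : Lt) : List Op := Bool.rec L.κ (mapL id L.κ hadP) L.had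

noncomputable def Lt.mv (L : Lt) : Mv :=
  ⟨.run (ten 24 L.ρ L.ρ) .r0, .run L.σ .r1, .run (ten 4096 L.ρ L.κ') .r2⟩

noncomputable def hCI : List ℕ := [1, 2, 4, 8, 16, 32, 64, 128, 256, 512, 1024, 2048, 4096, 8192, 16384, 32768, 65536, 131072, 262144, 524288, 1048576, 2097152, 4194304, 8388608]

noncomputable def ltF (j : ℕ) : Lt :=
  ⟨hMI, hCI, Nat.shiftLeft 4096 j, false, [], [.ng (idp 12 j)], [.ng (nth 0 CP (Nat.add 12 j))]⟩

noncomputable def ltE (j : ℕ) : Lt :=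
  ⟨hMI, hCI, Nat.shiftLeft 1 j, false, [], [.sw (Nat.shiftLeft 1 j) (lowPat 12 j)], [.ng (nth 0 CP j)]⟩

noncomputable def ltZ : Lt := ⟨hMI, hCI, 0, false, [], [.ng (ones 4096)], []⟩

noncomputable def ltL : List Lt := [
  ⟨hM0, hC0, lm0, false, rh0, kp0, sg0⟩,
  ⟨hM1, hC1, lm1, false, rh1, kp1, sg1⟩,
  ⟨hM2, hC2, lm2, false, rh2, kp2, sg2⟩,
  ⟨hM3, hC3, lm3, false, rh3, kp3, sg3⟩,
  ⟨hM4, hC4, lm4, false, rh4, kp4, sg4⟩,
  ⟨hM5, hC5, lm5, false, rh5, kp5, sg5⟩,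
  ⟨hM6, hC6, lm6, false, rh6, kp6, sg6⟩,
  ⟨hM7, hC7, lm7, false, rh7, kp7, sg7⟩,
  ⟨hM8, hC8, lm8, false, revL rh0 [], revL kp0 [], revL sg0 []⟩,
  ⟨hM9, hC9, lm9, false, revL rh1 [], revL kp1 [], revL sg1 []⟩,
  ⟨hM10, hC10, lm10, false, revL rh2 [], revL kp2 [], revL sg2 []⟩,
  ⟨hM11, hC11, lm11, false, revL rh3 [], revL kp3 [], revL sg3 []⟩,
  ⟨hM12, hC12, lm12, false, revL rh4 [], revL kp4 [], revL sg4 []⟩,
  ⟨hM13, hC13, lm13, false, revL rh5 [], revL kp5 [], revL sg5 []⟩,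
  ⟨hM14, hC14, lm14, false, revL rh6 [], revL kp6 [], revL sg6 []⟩,
  ⟨hM15, hC15, lm15, false, revL rh7 [], revL kp7 [], revL sg7 []⟩,
  ⟨hM16, hC16, lm16, true, rh16, kp16, sg16⟩,
  ⟨hM17, hC17, lm17, false, rh17, kp17, sg17⟩,
  ⟨hM18, hC18, lm18, false, rh18, kp18, sg18⟩,
  ⟨hM19, hC19, lm19, false, rh19, kp19, sg19⟩,
  ⟨hM20, hC20, lm20, false, rh20, kp20, sg20⟩,
  ⟨hM21, hC21, lm21, false, rh21, kp21, sg21⟩,
  ⟨hM22, hC22, lm22, false, rh22, kp22, sg22⟩,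
  ⟨hM23, hC23, lm23, false, rh23, kp23, sg23⟩,
  ⟨hM24, hC24, lm24, false, rh24, kp24, sg24⟩,
  ⟨hM25, hC25, lm25, false, rh25, kp25, sg25⟩,
  ⟨hM26, hC26, lm26, false, rh26, kp26, sg26⟩,
  ⟨hM27, hC27, lm27, false, rh27, kp27, sg27⟩,
  ltF 0,
  ltF 1,
  ltF 2,
  ltF 3,
  ltF 4,
  ltF 5,
  ltF 6,
  ltF 7,
  ltF 8,
  ltF 9,
  ltF 10,
  ltF 11,
  ltE 0,
  ltE 1,
  ltE 2,
  ltE 3,
  ltE 4,
  ltE 5,
  ltE 6,
  ltE 7,
  ltE 8,
  ltE 9,
  ltE 10,
  ltE 11,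
  ltZ]

noncomputable def lt (c : ℕ) : Lt := nth ltZ ltL c

noncomputable def mX : ℕ := repl 4096 (ones 2048)
noncomputable def mT : ℕ := Nat.land (Nat.shiftLeft mX 2048) (ones 97728)
noncomputable def lowT (j : ℕ) : ℕ := Nat.land (lowPat 17 j) mT
noncomputable def swT (j : ℕ) : Op :=
  .sw (Nat.shiftLeft 1 j) (Nat.land (Nat.land (idp 17 j) (lowPat 17 (Nat.succ j))) mT)
noncomputable def lowW (j : ℕ) : Op := .sw (Nat.shiftLeft 1 j) (repl 4096 (lowPat 12 j))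

noncomputable def tA : Ex := .run tNA .r0
noncomputable def ta : Ex := .msk (ones 276) tA
noncomputable def tb : Ex := .msk (ones 276) (.shr 97728 .r1)
noncomputable def tc : Ex := .msk (ones 276) (.shr 98004 .r1)
noncomputable def tan : Ex := .run [.hf] (.adE tb (.run [.ng (ones 276)] tc))
noncomputable def th : Ex := .run [.hf] (.adE tb tc)
noncomputable def tT : Ex := .run [.ng tD2, .bf 1 (lowT 0), .bf 2 (lowT 1), .bf 4 (lowT 2),
  .bf 8 (lowT 3), .bf 16 (lowT 4), .bf 32 (lowT 5), .hf, .hf, .hf, swT 0, swT 2, swT 4, .ng tD1]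
  (.msk mT .r1)
noncomputable def tW : Ex := .run [.ng tSW, lowW 1, lowW 4, lowW 6] .r2

noncomputable def tauM : Mv :=
  ⟨.run (revL tNA []) (.adD (.adD tan (.shl 276 tan)) (.shl 552 (.msk (ones 24) (.shr 552 tA)))),
    .adD (.adD (.msk mX (.shr 2048 tW)) tT)
      (.shl 97728 (.adD (.adE ta th) (.shl 276 (.adE ta (.run [.ng (ones 276)] th))))),
    .adD (.run [.ng tSX] (.msk mX .r1)) (.shl 2048 (.msk mX tW))⟩

noncomputable def mv (c : ℕ) : Mv := Bool.rec (lt c).mv tauM (Nat.beq c 53)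

end H10.Mon
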