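import Mathlib
import Cfsg.Agent.H10.MGrp
import Cfsg.Agent.H10.MPre
import Cfsg.Agent.H10.MMov

/-!
# Coordinates: numbers for classes, rows and positions; the registers of a vector
-/

set_option autoImplicit false
set_option linter.all false

namespace H10.Mon

open Cfsg H9 H29 Matrix

def bt (n j : ℕ) : ZMod 2 := if n.testBit j then 1 else 0

theorem bt_xor (a b j : ℕ) : bt (a ^^^ b) j = bt a j + bt b j := by
  simp only [bt, Nat.testBit_xor]
  cases a.testBit j <;> cases b.testBit j <;> decide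

theorem bt_and (a b j : ℕ) : bt (a &&& b) j = bt a j * bt b j := by
  simp only [bt, Nat.testBit_and]
  cases a.testBit j <;> cases b.testBit j <;> decide

theorem bt_zero (j : ℕ) : bt 0 j = 0 := by simp [bt]

theorem bt_inj {a i b j : ℕ} (h : bt a i = bt b j) : a.testBit i = b.testBit j := by
  revert h; simp only [bt]
  cases a.testBit i <;> cases b.testBit j <;> decide

theorem bt_congr {a i b j : ℕ} (h : a.testBit i = b.testBit j) : bt a i = bt b j := by
  simp only [bt, h]

theorem sb_eq (a p : ℕ) : sb a p = sg (bt a p) := by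
  simp only [sb, bt]; split_ifs <;> rfl

/-- The element of `K` with number `u`. -/
def dK (u : ℕ) : K := fun j => bt u j

/-- The class with number `n`: bits `12..23` are the first component. -/
def dec (n : ℕ) : C := (fun j => bt n (12 + j), fun j => bt n j)

theorem dK_xor (a b : ℕ) : dK (a ^^^ b) = dK a + dK b := funext fun j => bt_xor a b j

theorem dec_xor (a b : ℕ) : dec (a ^^^ b) = dec a + dec b :=
  Prod.ext (funext fun j => bt_xor a b _) (funext fun j => bt_xor a b _)

theorem dec_zero : dec 0 = 0 := Prod.ext (funext fun j => bt_zero _) (funext fun j => bt_zero _)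

theorem dec_fst (n : ℕ) : (dec n).1 = dK (n >>> 12) :=
  funext fun j => bt_congr (Nat.testBit_shiftRight n).symm

theorem dec_snd (n : ℕ) : (dec n).2 = dK n := rfl

theorem eq_of_bits {k a b : ℕ} (ha : a < 2 ^ k) (hb : b < 2 ^ k)
    (h : ∀ j < k, a.testBit j = b.testBit j) : a = b :=
  Nat.eq_of_testBit_eq fun j => by
    by_cases hj : j < k
    · exact h j hj
    · have := Nat.pow_le_pow_right (n := 2) (by norm_num) (not_lt.1 hj)
      rw [Nat.testBit_lt_two_pow (by omega), Nat.testBit_lt_two_pow (by omega)]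

theorem dK_inj {a b : ℕ} (ha : a < 4096) (hb : b < 4096) (h : dK a = dK b) : a = b :=
  eq_of_bits (k := 12) ha hb fun j hj => bt_inj (congrFun h ⟨j, hj⟩)

theorem dec_bits {a b : ℕ} (h : dec a = dec b) : ∀ j < 24, a.testBit j = b.testBit j := fun j hj => by
  by_cases h1 : j < 12
  · exact bt_inj (congrFun (congrArg Prod.snd h) ⟨j, h1⟩)
  · have := bt_inj (congrFun (congrArg Prod.fst h) ⟨j - 12, by omega⟩)
    simpa [show 12 + (j - 12) = j by omega] using this

theorem dec_inj {a b : ℕ} (ha : a < 2 ^ 24) (hb : b < 2 ^ 24) (h : dec a = dec b) : a = b :=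
  eq_of_bits ha hb (dec_bits h)

theorem dec_congr {a b : ℕ} (h : ∀ j < 24, a.testBit j = b.testBit j) : dec a = dec b :=
  Prod.ext (funext fun j => bt_congr (h _ (by omega))) (funext fun j => bt_congr (h _ (by omega)))

theorem dK_bij : Function.Bijective fun u : Fin 4096 => dK u :=
  (Fintype.bijective_iff_injective_and_card _).2
    ⟨fun a b h => Fin.ext (dK_inj a.2 b.2 h), by simp⟩

theorem dK_surj (u : K) : ∃ n < 4096, dK n = u := by
  obtain ⟨n, h⟩ := dK_bij.2 u; exact ⟨n, n.2, h⟩

theorem sum_K {M : Type*} [AddCommMonoid M] (f : K → M) :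
    ∑ u, f u = ∑ n ∈ Finset.range 4096, f (dK n) := by
  rw [← dK_bij.sum_comp, Finset.sum_range]

theorem dec_surj (c : C) : ∃ n < 2 ^ 24, dec n = c := by
  obtain ⟨a, ha, h1⟩ := dK_surj c.1
  obtain ⟨b, hb, h2⟩ := dK_surj c.2
  refine ⟨a * 4096 + b, by omega, Prod.ext ?_ ?_⟩
  · rw [dec_fst, ← h1, Nat.shiftRight_eq_div_pow]; congr 1; omega
  · rw [dec_snd, ← h2]
    funext j
    refine bt_congr ?_
    rw [show a * 4096 + b = 2 ^ 12 * a + b by omega, Nat.testBit_two_pow_mul_add a hb]
    simp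

/-- The order of the rows. -/
def ord : List ℕ :=
  [23, 0, 1, 2, 4, 13, 16, 22, 3, 5, 14, 17, 6, 7, 19, 21, 9, 10, 15, 20, 8, 11, 12, 18]

/-- The point of row `r`. -/
noncomputable def ro (r : ℕ) : P := pt (nth 0 ord r)

theorem ro_bij : Function.Bijective fun r : Fin 24 => ro r := by
  unfold ro; decide +kernel

theorem ro_inj {a b : ℕ} (ha : a < 24) (hb : b < 24) (h : ro a = ro b) : a = b :=
  congrArg Fin.val (ro_bij.1 (a₁ := ⟨a, ha⟩) (a₂ := ⟨b, hb⟩) h)

theorem ro_surj (p : P) : ∃ r < 24, ro r = p := by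
  obtain ⟨n, h⟩ := ro_bij.2 p; exact ⟨n, n.2, h⟩

theorem sum_ro {M : Type*} [AddCommMonoid M] (f : P → M) :
    ∑ p, f p = ∑ r ∈ Finset.range 24, f (ro r) := by
  rw [← ro_bij.sum_comp, Finset.sum_range]

theorem ix_ro {r : ℕ} (h : r < 24) : ix (ro r) = nth 0 ord r :=
  ix_pt (by revert r; decide +kernel)

/-- The class at position `p` of 24 bit planes. -/
noncomputable def cv (Q : List ℕ) (p : ℕ) : C :=
  (fun j => bt (nth 0 Q (12 + j)) p, fun j => bt (nth 0 Q j) p)

/-- The class at position `p` of the second register. -/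
noncomputable def cls (p : ℕ) : C := cv CP p

/-- The number of the class at position `p` of the planes. -/
noncomputable def cdv (Q : List ℕ) (p : ℕ) : ℕ :=
  List.rec 0 (fun a _ ih =>
    Nat.add (Nat.land (Nat.shiftRight a p) 1) (Nat.mul 2 ih)) Q

theorem tb_cdv (p : ℕ) : ∀ (Q : List ℕ) (j : ℕ), (cdv Q p).testBit j = (nth 0 Q j).testBit p
  | [], j => by simp [cdv, nth]
  | a :: Q, 0 => by
    change Nat.testBit ((a >>> p &&& 1) + 2 * cdv Q p) 0 = a.testBit p
    rw [Nat.testBit_zero, Nat.and_one_is_mod, Nat.testBit, Nat.one_and_eq_mod_two]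
    rw [Bool.eq_iff_iff]; simp only [decide_eq_true_eq, bne_iff_ne]; omega
  | a :: Q, j + 1 => by
    change Nat.testBit ((a >>> p &&& 1) + 2 * cdv Q p) (j + 1) = (nth 0 Q j).testBit p
    rw [Nat.testBit_succ, ← tb_cdv p Q j, Nat.and_one_is_mod]
    congr 1; omega

theorem dec_cdv (Q : List ℕ) (p : ℕ) : dec (cdv Q p) = cv Q p :=
  Prod.ext (funext fun j => bt_congr (tb_cdv p Q _)) (funext fun j => bt_congr (tb_cdv p Q _))

def IsS (c : C) : Prop := ∃ x : L, sqNorm (x : V) = 32 ∧ kap x = c

/-- The short class. -/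
def toS (c : C) (h : IsS c) : S := ⟨c, h⟩

@[simp] theorem toS_val (c : C) (h : IsS c) : (toS c h).1 = c := rfl

theorem isS_val (c : S) : IsS c.1 := c.2

theorem IsS.smul {c : C} (hc : IsS c) (h : G0) : IsS (h • c) := (h • toS c hc).2

theorem isS_smul {c : C} {h : G0} : IsS (h • c) ↔ IsS c :=
  ⟨fun e => by simpa using e.smul h⁻¹, fun e => e.smul h⟩

open Classical in
/-- The coordinate at a class, zero if the class is not short. -/
noncomputable def fX (v : U) (c : C) : ℝ := if h : IsS c then fS v (toS c h) else 0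

theorem fX_S (v : U) (c : S) : fX v c.1 = fS v c := dif_pos c.2

theorem fX_rho (g : GT) (v : U) (c : C) : fX (rho g v) (co g • c) = sg (ep g c) * fX v c := by
  by_cases h : IsS c
  · exact (fX_S _ (co g • toS c h)).trans ((fS_rho g v (toS c h)).trans (by rw [← fX_S]; rfl))
  · rw [fX, fX, dif_neg h, dif_neg (mt isS_smul.1 h), mul_zero]

/-- The registers of a vector. -/
noncomputable def Φ : U →ₗ[ℝ] R3 where
  toFun v := (fun p => if p < 576 then mA v (ro (p / 24)) (ro (p % 24)) else 0,
    fun p => if p < 98280 then fX v (cls p) else 0,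
    fun p => if p < 98304 then wW v (ro (p / 4096), dK (p % 4096)) else 0)
  map_add' u v := by
    refine Prod.ext ?_ (Prod.ext ?_ ?_) <;> funext p <;>
      simp only [Prod.fst_add, Prod.snd_add, Pi.add_apply, fX] <;> split_ifs <;> simp
  map_smul' a v := by
    refine Prod.ext ?_ (Prod.ext ?_ ?_) <;> funext p <;>
      simp only [Prod.smul_fst, Prod.smul_snd, Pi.smul_apply, fX, RingHom.id_apply] <;>
      split_ifs <;> simp

theorem Φ_a (v : U) (p : ℕ) :
    (Φ v).1 p = if p < 576 then mA v (ro (p / 24)) (ro (p % 24)) else 0 := rfl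
theorem Φ_s (v : U) (p : ℕ) : (Φ v).2.1 p = if p < 98280 then fX v (cls p) else 0 := rfl
theorem Φ_w (v : U) (p : ℕ) :
    (Φ v).2.2 p = if p < 98304 then wW v (ro (p / 4096), dK (p % 4096)) else 0 := rfl

theorem Φ_a' (v : U) {i j : ℕ} (hi : i < 24) (hj : j < 24) :
    (Φ v).1 (i * 24 + j) = mA v (ro i) (ro j) := by
  rw [Φ_a, if_pos (by omega), show (i * 24 + j) / 24 = i by omega, show (i * 24 + j) % 24 = j by omega]

theorem Φ_w' (v : U) {i u : ℕ} (hi : i < 24) (hu : u < 4096) :
    (Φ v).2.2 (i * 4096 + u) = wW v (ro i, dK u) := by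
  rw [Φ_w, if_pos (by omega), show (i * 4096 + u) / 4096 = i by omega,
    show (i * 4096 + u) % 4096 = u by omega]

/-- The registers that come from a vector. -/
structure Good (x : R3) : Prop where
  symm : ∀ i < 24, ∀ j < 24, x.1 (i * 24 + j) = x.1 (j * 24 + i)
  a : ∀ p, 576 ≤ p → x.1 p = 0
  s : ∀ p, 98280 ≤ p → x.2.1 p = 0
  w : ∀ p, 98304 ≤ p → x.2.2 p = 0

theorem good_Φ (v : U) : Good (Φ v) :=
  ⟨fun i hi j hj => by
    rw [Φ_a' v hi hj, Φ_a' v hj hi]; exact congrFun (congrFun (mA_symm v) _) _,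
   fun p hp => if_neg (not_lt.2 hp), fun p hp => if_neg (not_lt.2 hp),
   fun p hp => if_neg (not_lt.2 hp)⟩

/-- The move `m` computes the operator `g`. -/
def Real (m : Mv) (g : U ≃ₗ[ℝ] U) : Prop := ∀ v, m.sem (Φ v) = Φ (g v)

/-- The list holds the numbers of the images of the basis. -/
def Cols (h : G0) (Cs : List ℕ) : Prop :=
  Cs.length = 24 ∧ ∀ j < 24, h • dec (2 ^ j) = dec (nth 0 Cs j)

/-- Matrix times vector. -/
noncomputable def apC (Cs : List ℕ) : ℕ → ℕ :=
  List.rec (motive := fun _ => ℕ → ℕ) (fun _ => 0) (fun a _ ih n =>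
    lit (Nat.shiftRight n 1) fun m =>
      Bool.rec (ih m) (Nat.xor a (ih m)) (Nat.beq (Nat.land n 1) 1)) Cs

theorem dec_apC_aux (h : G0) : ∀ (Cs : List ℕ) (k n : ℕ), k + Cs.length = 24 →
    (∀ j < Cs.length, h • dec (2 ^ (k + j)) = dec (nth 0 Cs j)) →
    dec (apC Cs n) = h • dec (n <<< k)
  | [], k, n, h1, _ => by
    rw [show dec (n <<< k) = dec 0 from dec_congr fun j hj => by
      simp at h1; simp [Nat.testBit_shiftLeft, show ¬ j ≥ k by omega], dec_zero, smul_zero]
    exact dec_zero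
  | a :: Cs, k, n, h1, h2 => by
    have ih := dec_apC_aux h Cs (k + 1) (n >>> 1) (by simp at h1; omega) fun j hj => by
      rw [show k + 1 + j = k + (j + 1) by omega]; exact h2 (j + 1) (by simp; omega)
    have h0 : h • dec (2 ^ k) = dec a := h2 0 (by simp)
    change dec (Bool.rec (apC Cs (n >>> 1)) (a ^^^ apC Cs (n >>> 1))
      (Nat.beq (Nat.land (Nat.shiftRight n 0) 1) 1)) = _
    rw [bit_beq]
    cases hb : n.testBit 0
    · simp only []
      rw [ih]; congr 1
      refine dec_congr fun j _ => ?_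
      simp only [Nat.testBit_shiftLeft, Nat.testBit_shiftRight]
      rcases lt_trichotomy j k with e | rfl | e
      · simp [show ¬ j ≥ k by omega, show ¬ j ≥ k + 1 by omega]
      · simp [hb]
      · simp [show j ≥ k by omega, show j ≥ k + 1 by omega, show 1 + (j - (k + 1)) = j - k by omega]
    · simp only []
      rw [dec_xor, ih, ← h0, ← smul_add, ← dec_xor]; congr 1
      refine dec_congr fun j _ => ?_
      simp only [Nat.testBit_shiftLeft, Nat.testBit_shiftRight, Nat.testBit_xor, Nat.testBit_two_pow]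
      rcases lt_trichotomy j k with e | rfl | e
      · simp [show ¬ j ≥ k by omega, show ¬ j ≥ k + 1 by omega, show k ≠ j by omega]
      · simp [hb]
      · simp [show j ≥ k by omega, show j ≥ k + 1 by omega, show 1 + (j - (k + 1)) = j - k by omega,
          show k ≠ j by omega]

theorem Cols.ap {h : G0} {Cs : List ℕ} (hc : Cols h Cs) (n : ℕ) : dec (apC Cs n) = h • dec n :=
  dec_apC_aux h Cs 0 n (by rw [hc.1]) fun j hj => by rw [zero_add]; exact hc.2 j (hc.1 ▸ hj)

/-- Product of matrices: `mulC A B` belongs to `a * b`. -/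
noncomputable def mulC (A B : List ℕ) : List ℕ :=
  List.rec [] (fun b _ ih => apC A b :: ih) B

theorem mulC_eq (A : List ℕ) : ∀ B, mulC A B = B.map (apC A)
  | [] => rfl
  | b :: B => congrArg (apC A b :: ·) (mulC_eq A B)

theorem Cols.mul {a b : G0} {A B : List ℕ} (ha : Cols a A) (hb : Cols b B) :
    Cols (a * b) (mulC A B) :=
  ⟨by rw [mulC_eq, List.length_map, hb.1], fun j hj => by
    rw [mul_smul, hb.2 j hj, ← ha.ap, mulC_eq, nth_eq, nth_eq, List.getD_eq_getElem _ _ (by
      rw [hb.1]; exact hj), List.getD_eq_getElem _ _ (by rw [List.length_map, hb.1]; exact hj),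
      List.getElem_map]⟩

theorem cols_one : Cols 1 hCI :=
  ⟨rfl, fun j hj => by rw [one_smul]; congr 1; revert j; decide +kernel⟩

theorem dec_Om : dec 2048 = Om := by rw [Om_eq]; decide +kernel

end H10.Mon
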