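import Mathlib
import Cfsg.Agent.H10.MPh0

/-!
# Programs on the module of dimension 4096
-/

set_option autoImplicit false
set_option linter.all false

namespace H10.Mon

open Cfsg H9 H29 Matrix

theorem bt_apC (p : ℕ) : ∀ (Q : List ℕ) (m : ℕ),
    bt (apC Q m) p = ∑ j ∈ Finset.range Q.length, bt m j * bt (nth 0 Q j) p
  | [], m => bt_zero _
  | a :: Q, m => by
    rw [List.length_cons, Finset.sum_range_succ']
    change bt (Bool.rec (apC Q (m >>> 1)) (a ^^^ apC Q (m >>> 1))
      (Nat.beq (Nat.land (Nat.shiftRight m 0) 1) 1)) p =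
      ∑ j ∈ Finset.range Q.length, bt m (j + 1) * bt (nth 0 Q j) p + bt m 0 * bt a p
    have e : ∀ j, bt m (j + 1) = bt (m >>> 1) j := fun j =>
      bt_congr (by rw [Nat.testBit_shiftRight, add_comm])
    simp only [e, ← bt_apC p Q, bit_beq]
    cases hb : m.testBit 0
    · simp [bt, hb]
    · simp only [bt_xor]; rw [add_comm]; simp [bt, hb]

theorem tb_lowPat (k j i : ℕ) : (lowPat k j).testBit i = (decide (i < 2 ^ k) && !i.testBit j) := by
  rw [lowPat, xor_eq, Nat.testBit_xor, testBit_ones, testBit_idp, shl_eq, Nat.one_shiftLeft]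
  cases decide (i < 2 ^ k) <;> simp

theorem ok_swp : allN 12 (fun j => (Op.sw (Nat.shiftLeft 1 j) (lowPat 12 j)).ok 4096) = true := by
  decide +kernel

theorem swap_xor {j u : ℕ} (hj : j < 12) (hu : u < 4096) :
    swapFun (1 <<< j) (lowPat 12 j) u = u ^^^ 2 ^ j := by
  have : allN 12 (fun j => allN 12 fun i => Nat.beq (dswap (Nat.shiftLeft 1 j) (lowPat 12 j) (idp 12 i))
    (Bool.rec (idp 12 i) (lowPat 12 i) (Nat.beq j i))) = true := by decide +kernel
  have h0 := ok2 (allN_true.1 ok_swp j hj)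
  have h1 : swapFun (1 <<< j) (lowPat 12 j) u < 2 ^ 12 := swap_lt h0.2 hu
  refine eq_of_bits h1 (Nat.xor_lt_two_pow (n := 12) hu (Nat.pow_lt_pow_right (by norm_num) hj))
    fun i hi => ?_
  have := congrArg (fun a => Nat.testBit a u) (H29.beq_true.1 (allN_true.1 (allN_true.1 this j hj) i hi))
  simp only [testBit_dswap h0.1, testBit_idp] at this
  rw [shl_eq, decide_eq_true h1, Bool.true_and] at this
  rw [this, Nat.testBit_xor, Nat.testBit_two_pow]
  by_cases e : j = i
  · simp [e, tb_lowPat, hu]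
  · simp [show Nat.beq j i = false from Bool.eq_false_iff.2 (mt H29.beq_true.1 e), e, testBit_idp, hu]

theorem σP_fix {N p : ℕ} (hp : N ≤ p) : ∀ {π : List Op}, okP N π = true → σP π p = p
  | [], _ => rfl
  | o :: π, h => by
    change o.σ (σP π p) = p
    rw [σP_fix hp (okP_cons.1 h).2]
    cases o with
    | sw d m => exact swapFun_fix (ok2 (okP_cons.1 h).1).2 hp
    | _ => rfl

theorem okP_append {N : ℕ} : ∀ {π ρ : List Op}, okP N π = true → okP N ρ = true →
    okP N (π ++ ρ) = true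
  | [], _, _, h => h
  | o :: π, _, h, h' => okP_cons.2 ⟨(okP_cons.1 h).1, okP_append (okP_cons.1 h).2 h'⟩

/-- Two programs agree if they agree on enough test vectors. -/
theorem sem_eq {N : ℕ} {π ρ : List Op} (h1 : okP N π = true) (h2 : okP N ρ = true) {l : Vec}
    (l1 : labOkP π l = true) (l2 : labOkP ρ l = true) (l3 : run (labP π) l = run (labP ρ) l)
    {n : ℕ} {t : ℕ → ℕ → ℝ} (ht : ∀ j < n, sem π (t j) = sem ρ (t j)) {x : ℕ → ℝ}
    (hx : ∀ b, ∃ c : ℕ → ℝ, Van1 l.val (x - ∑ j ∈ Finset.range n, c j • t j) b) :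
    sem π x = sem ρ x := by
  funext p
  obtain ⟨c, hc⟩ := hx ((run (labP π) l).val p)
  have t1 := van_run h1 l1 hc p (by rw [val_run (okP_lab h1)])
  have t2 := van_run h2 l2 hc p (by rw [l3, val_run (okP_lab h2)])
  change semL π _ p = 0 at t1
  change semL ρ _ p = 0 at t2
  simp only [map_sub, map_sum, map_smul] at t1 t2
  rw [Finset.sum_congr rfl fun j hj => by
    rw [show semL π (t j) = semL ρ (t j) from ht j (Finset.mem_range.1 hj)]] at t1
  exact (sub_eq_zero.1 t1).trans (sub_eq_zero.1 t2).symm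

/-- Nonnegative numbers from planes. -/
noncomputable def plOf (l : List ℕ) : Pl := List.rec (.sgn 0) (fun a _ ih => .cons a ih) l

theorem plOf_inj {p q : ℕ} : ∀ {l : List ℕ}, (plOf l).val p = (plOf l).val q →
    ∀ a ∈ l, a.testBit p = a.testBit q
  | [], _, _, h => absurd h (by simp)
  | a :: l, h, b, hb => by
    change bz a p + 2 * (plOf l).val p = bz a q + 2 * (plOf l).val q at h
    have h1 : a.testBit p = a.testBit q := by
      revert h; simp only [bz]; cases a.testBit p <;> cases a.testBit q <;> simp <;> omega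
    rcases List.mem_cons.1 hb with rfl | hb
    · exact h1
    · exact plOf_inj (by simp only [bz, h1] at h; omega) b hb

noncomputable def ids : List ℕ := [idp 12 0, idp 12 1, idp 12 2, idp 12 3, idp 12 4, idp 12 5,
  idp 12 6, idp 12 7, idp 12 8, idp 12 9, idp 12 10, idp 12 11]

noncomputable def xS1 (c k : ℕ) : List Op → List Op :=
  Nat.rec (motive := fun _ => List Op → List Op) (fun r => r) (fun j ih r =>
    Bool.rec (ih r) (.sw (Nat.shiftLeft 1 j) (lowPat 12 j) :: ih r)
      (Nat.beq (Nat.land (Nat.shiftRight c j) 1) 1)) k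

/-- The program of `± x_c`. -/
noncomputable def xP (t c : ℕ) : List Op :=
  xS1 (Nat.shiftRight c 12) 12 [.ng (apC (ones 4096 :: ids) (Nat.add (Nat.mul 2 c) t))]

theorem sem_xS1 {c : ℕ} {r : List Op} (hr : okP 4096 r = true) : ∀ k ≤ 12,
    okP 4096 (xS1 c k r) = true ∧ ∀ (x : ℕ → ℝ), ∀ u < 4096,
      sem (xS1 c k r) x u = sem r (fun v => x (v ^^^ c % 2 ^ k)) u
  | 0, _ => ⟨hr, fun x u _ => by simp [xS1, Nat.mod_one]⟩
  | k + 1, hk => by
    obtain ⟨h1, h2⟩ := sem_xS1 (c := c) hr k (by omega)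
    have e : xS1 c (k + 1) r = Bool.rec (xS1 c k r) (.sw (1 <<< k) (lowPat 12 k) :: xS1 c k r)
      (c.testBit k) := by rw [← bit_beq]; rfl
    rw [e]
    cases hb : c.testBit k
    · refine ⟨h1, fun x u hu => (h2 x u hu).trans ?_⟩
      refine congrFun (congrArg (sem r) (funext fun v => congrArg x (congrArg (v ^^^ ·) ?_))) u
      refine Nat.eq_of_testBit_eq fun i => ?_
      simp only [Nat.testBit_mod_two_pow]
      by_cases hi : i = k
      · simp [hi, hb]
      · simp [show i < k + 1 ↔ i < k by omega]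
    · refine ⟨okP_cons.2 ⟨allN_true.1 ok_swp k (by omega), h1⟩, fun x u hu => ?_⟩
      refine (h2 _ u hu).trans (sem_local hr (fun v hv => ?_) u hu)
      have : c % 2 ^ k < 2 ^ 12 := lt_of_lt_of_le (Nat.mod_lt _ (by positivity))
        (Nat.pow_le_pow_right (by norm_num) (by omega))
      change x (swapFun _ _ _) = _
      rw [swap_xor (by omega) (Nat.xor_lt_two_pow (n := 12) hv this), Nat.xor_assoc]
      congr 2
      refine Nat.eq_of_testBit_eq fun i => ?_
      simp only [Nat.testBit_mod_two_pow, Nat.testBit_xor, Nat.testBit_two_pow]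
      by_cases hi : i = k
      · simp [hi, hb]
      · simp [show i < k + 1 ↔ i < k by omega, Ne.symm hi]

theorem bt_ids {j u : ℕ} (hj : j < 12) (hu : u < 4096) : bt (nth 0 ids j) u = bt u j :=
  bt_congr (by
    rw [show nth 0 ids j = idp 12 j by interval_cases j <;> rfl, testBit_idp]; simp [hu])

theorem apC_hi {N : ℕ} : ∀ (Q : List ℕ), (∀ a ∈ Q, a >>> N = 0) → ∀ m, apC Q m >>> N = 0
  | [], _, _ => Nat.zero_shiftRight _
  | a :: Q, h, m => by
    have ih := apC_hi Q (fun b hb => h b (List.mem_cons_of_mem _ hb)) (m >>> 1)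
    change (Bool.rec (apC Q (m >>> 1)) (a ^^^ apC Q (m >>> 1)) (Nat.beq (Nat.land m 1) 1) : ℕ) >>> N = 0
    cases Nat.beq (Nat.land m 1) 1
    · exact ih
    · simp only [Nat.shiftRight_xor_distrib, ih, h a List.mem_cons_self]; rfl

theorem xP_ng (m : ℕ) : okP 4096 [.ng (apC (ones 4096 :: ids) m)] = true :=
  okP_cons.2 ⟨H29.beq_true.2 (apC_hi _ (by decide +kernel) _), rfl⟩

theorem ok_xP (t c : ℕ) : okP 4096 (xP t c) = true := (sem_xS1 (xP_ng _) 12 le_rfl).1

theorem sem_xP {t : ℕ} (ht : t < 2) (c : ℕ) (x : ℕ → ℝ) {u : ℕ} (hu : u < 4096) :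
    sem (xP t c) x u = sg (bt t 0) * (sg ((dec c).2 ⬝ᵥ dK u) * x (u ^^^ (c >>> 12) % 2 ^ 12)) := by
  rw [xP, (sem_xS1 (xP_ng _) 12 le_rfl).2 x u hu]
  have e : bt (apC (ones 4096 :: ids) (2 * c + t)) u = (dec c).2 ⬝ᵥ dK u + bt t 0 := by
    rw [bt_apC, List.length_cons, Finset.sum_range_succ', dotProduct,
      show ids.length = 12 from rfl, Finset.sum_range]
    congr 1
    · refine Finset.sum_congr rfl fun j _ => ?_
      change bt _ _ * bt (nth 0 ids j) u = bt c j * bt u j
      rw [bt_ids j.2 hu]; congr 1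
      exact bt_congr (by rw [Nat.testBit_succ]; congr 1; omega)
    · change bt _ _ * bt (ones 4096) u = _
      rw [show bt (ones 4096) u = 1 by simp [bt, testBit_ones, hu], mul_one]
      exact bt_congr (by simp only [Nat.testBit_zero]; congr 1; rw [eq_iff_iff]; omega)
  rw [← mul_assoc, ← sg_add, add_comm, ← e, ← sb_eq]
  change (if Nat.testBit _ u then -_ else _) = sb _ u * _
  rw [sb]; split_ifs <;> simp_all

/-- A vector as a register. -/
def lK (w : K → ℝ) : ℕ → ℝ := fun v => if v < 4096 then w (dK v) else 0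

theorem lK_supp (w : K → ℝ) : ∀ p, 4096 ≤ p → lK w p = 0 := fun p hp => if_neg (not_lt.2 hp)

theorem lK_inj {v w : K → ℝ} (h : lK v = lK w) : v = w := funext fun u => by
  obtain ⟨n, hn, rfl⟩ := dK_surj u
  simpa [lK, hn] using congrFun h n

theorem lK_smul (a : ℝ) (w : K → ℝ) : lK (a • w) = a • lK w := by
  funext v; simp [lK]

theorem lK_xm {t : ℕ} (ht : t < 2) (c : ℕ) (w : K → ℝ) :
    lK ((sg (bt t 0) • xm (dec c)) *ᵥ w) = sem (xP t c) (lK w) := by
  funext u
  by_cases hu : u < 4096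
  · have : (c >>> 12) % 2 ^ 12 < 2 ^ 12 := Nat.mod_lt _ (by positivity)
    rw [sem_xP ht c _ hu, lK, lK, if_pos hu, if_pos (Nat.xor_lt_two_pow (n := 12) hu this),
      smul_mulVec, Pi.smul_apply, smul_eq_mul, dK_xor, show dK ((c >>> 12) % 2 ^ 12) = (dec c).1 by
        rw [dec_fst]; exact funext fun j => bt_congr (by
          rw [Nat.testBit_mod_two_pow, decide_eq_true j.2, Bool.true_and])]
    congr 1
    simp only [mulVec, dotProduct, xm, of_apply, ite_mul, zero_mul, Finset.sum_ite_eq',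
      Finset.mem_univ, if_true]
  · rw [sem_supp (ok_xP t c) (lK_supp w) u (not_lt.1 hu), lK_supp _ u (not_lt.1 hu)]

noncomputable def en (u : K) : ℕ := (dK_surj u).choose

theorem en_lt (u : K) : en u < 4096 := (dK_surj u).choose_spec.1
theorem dK_en (u : K) : dK (en u) = u := (dK_surj u).choose_spec.2
theorem en_dK {u : ℕ} (h : u < 4096) : en (dK u) = u := dK_inj (en_lt _) h (dK_en _)

/-- The matrix of a program. -/
noncomputable def mP (π : List Op) : Matrix K K ℝ := of fun u v => sem π (Pi.single (en v) 1) (en u)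

theorem mP_apply (π : List Op) {u v : ℕ} (hu : u < 4096) (hv : v < 4096) :
    mP π (dK u) (dK v) = sem π (Pi.single v 1) u := by rw [mP, of_apply, en_dK hu, en_dK hv]

theorem lK_mP {π : List Op} (h : okP 4096 π = true) (w : K → ℝ) :
    lK (mP π *ᵥ w) = sem π (lK w) := by
  funext u
  by_cases hu : u < 4096
  · rw [sem_mat h _ hu, lK, if_pos hu, mulVec, dotProduct, sum_K]
    refine Finset.sum_congr rfl fun v hv => ?_
    rw [mP_apply π hu (Finset.mem_range.1 hv), lK, if_pos (Finset.mem_range.1 hv)]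
  · rw [sem_supp h (lK_supp w) u (not_lt.1 hu), lK_supp _ u (not_lt.1 hu)]

noncomputable def selB (j i : ℕ) : ℕ :=
  Bool.rec (lowPat 12 i) (idp 12 i) (Nat.beq (Nat.land (Nat.shiftRight j i) 1) 1)

/-- The positions below 4096 that are congruent to `j` modulo 16. -/
noncomputable def tm (j : ℕ) : ℕ :=
  Nat.land (Nat.land (selB j 0) (selB j 1)) (Nat.land (selB j 2) (selB j 3))

theorem tb_selB (j i p : ℕ) :
    (selB j i).testBit p = (decide (p < 4096) && (p.testBit i == j.testBit i)) := by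
  rw [selB, bit_beq]
  cases j.testBit i
  · simp [tb_lowPat]
  · simp [testBit_idp]

theorem tb_tm {j : ℕ} (hj : j < 16) (p : ℕ) : (tm j).testBit p = true ↔ p < 4096 ∧ p % 16 = j := by
  simp only [tm, land_eq, Nat.testBit_and, tb_selB, Bool.and_eq_true, decide_eq_true_eq, beq_iff_eq]
  constructor
  · rintro ⟨⟨⟨h, h0⟩, -, h1⟩, ⟨-, h2⟩, -, h3⟩
    refine ⟨h, eq_of_bits (k := 4) (Nat.mod_lt _ (by norm_num)) hj fun i hi => ?_⟩
    rw [show 16 = 2 ^ 4 from rfl, Nat.testBit_mod_two_pow]
    rw [decide_eq_true hi, Bool.true_and]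
    interval_cases i <;> assumption
  · rintro ⟨h, rfl⟩
    simp only [h, show 16 = 2 ^ 4 from rfl, Nat.testBit_mod_two_pow]
    simp

noncomputable def labK (π : List Op) : Vec :=
  ⟨0, plOf [pull π (idp 12 4), pull π (idp 12 5), pull π (idp 12 6), pull π (idp 12 7),
    pull π (idp 12 8), pull π (idp 12 9), pull π (idp 12 10), pull π (idp 12 11)]⟩

noncomputable def tstK (π : List Op) (j : ℕ) : Vec := ⟨0, .cons (pull π (tm j)) (.sgn 0)⟩

theorem val_one (a p : ℕ) : (Vec.mk 0 (.cons a (.sgn 0))).val p = if a.testBit p then 1 else 0 := by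
  simp only [Vec.val, Pl.val, bz]; split_ifs <;> simp_all

theorem hx_K {π : List Op} (h : okP 4096 π = true) {x : ℕ → ℝ} (hx : ∀ p, 4096 ≤ p → x p = 0)
    (b : ℝ) : ∃ c : ℕ → ℝ,
      Van1 (labK π).val (x - ∑ j ∈ Finset.range 16, c j • (tstK π j).val) b := by
  classical
  refine ⟨fun j => if h : ∃ q < 4096, (labK π).val q = b ∧ σP π q % 16 = j then x h.choose else 0,
    fun p hp => ?_⟩
  have e : ∀ j ∈ Finset.range 16, (tstK π j).val p =
      if σP π p < 4096 ∧ σP π p % 16 = j then 1 else 0 := fun j hj => by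
    rw [tstK, val_one, tb_pull h]; simp only [tb_tm (Finset.mem_range.1 hj)]
  simp only [Pi.sub_apply, Finset.sum_apply, Pi.smul_apply, smul_eq_mul]
  rw [Finset.sum_congr rfl fun j hj => by rw [e j hj]]
  by_cases h1 : p < 4096
  · have h2 := σP_lt h1 h
    have h3 : ∃ q < 4096, (labK π).val q = b ∧ σP π q % 16 = σP π p % 16 := ⟨p, h1, hp, rfl⟩
    simp only [h2, true_and, mul_ite, mul_one, mul_zero, Finset.sum_ite_eq, Finset.mem_range,
      Nat.mod_lt _ (show 0 < 16 by norm_num), if_true, dif_pos h3]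
    obtain ⟨h4, h5, h6⟩ := h3.choose_spec
    generalize h3.choose = q at h4 h5 h6
    rw [← hp] at h5
    simp only [labK, Vec.val, pow_zero, div_one, Int.cast_inj] at h5
    have h7 := plOf_inj h5
    simp only [List.forall_mem_cons, tb_pull h, testBit_idp, show σP π p < 2 ^ 12 from h2,
      show σP π q < 2 ^ 12 from σP_lt h4 h, decide_true, Bool.true_and] at h7
    rw [σP_inj h (eq_of_bits (k := 12) (σP_lt h4 h) h2 fun i hi => ?_), sub_self]
    have := congrArg (fun a => Nat.testBit a i) h6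
    simp only [show 16 = 2 ^ 4 from rfl, Nat.testBit_mod_two_pow] at this
    interval_cases i <;> simp_all
  · simp [σP_fix (not_lt.1 h1) h, h1, hx p (not_lt.1 h1)]

/-- The check that two programs agree. -/
noncomputable def eqK (l : Vec) (T : List Vec) (π ρ : List Op) : Bool :=
  and2 (labOkP π l) (and2 (labOkP ρ l) (and2 ((run (labP π) l).beq (run (labP ρ) l))
    (allL T fun t => (run π t).beq (run ρ t))))

noncomputable def tsts (π : List Op) : List Vec := [tstK π 0, tstK π 1, tstK π 2, tstK π 3,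
  tstK π 4, tstK π 5, tstK π 6, tstK π 7, tstK π 8, tstK π 9, tstK π 10, tstK π 11, tstK π 12,
  tstK π 13, tstK π 14, tstK π 15]

theorem eqK_sound {π0 π ρ : List Op} (h0 : okP 4096 π0 = true) (h1 : okP 4096 π = true)
    (h2 : okP 4096 ρ = true) (h : eqK (labK π0) (tsts π0) π ρ = true) (w : K → ℝ) :
    sem π (lK w) = sem ρ (lK w) := by
  simp only [eqK, and2_true, allL_true] at h
  refine sem_eq h1 h2 h.1 h.2.1 (Vec.eq_of_beq h.2.2.1) (fun j hj => ?_) (hx_K h0 (lK_supp w))
  rw [← val_run h1, ← val_run h2, Vec.eq_of_beq (h.2.2.2 _ (by interval_cases j <;> simp [tsts]))]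

noncomputable def forceV {α : Type} (T : List Vec) : (List Vec → α) → α :=
  List.rec (motive := fun _ => (List Vec → α) → α) (fun k => k [])
    (fun a _ ih k => a.force fun a => ih fun r => k (a :: r)) T

theorem forceV_eq {α : Type} : ∀ (T : List Vec) (k : List Vec → α), forceV T k = k T
  | [], _ => rfl
  | a :: T, k => (Vec.force_eq a fun a => forceV T fun r => k (a :: r)).trans (forceV_eq T _)

noncomputable def sqS (P : Pl) (n : ℕ) : ℕ :=
  Nat.rec 0 (fun i ih => Nat.add ih (Nat.pow (P.val i).natAbs 2)) n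

theorem sqS_eq (P : Pl) : ∀ n, (sqS P n : ℝ) = ∑ i ∈ Finset.range n, (P.val i : ℝ) ^ 2
  | 0 => by simp [sqS]
  | n + 1 => by
    rw [Finset.sum_range_succ, ← sqS_eq P n]
    change ((sqS P n + (P.val n).natAbs ^ 2 : ℕ) : ℝ) = _
    push_cast; simp

/-- The check of the intertwining relations. -/
noncomputable def chkK (π0 κ : List Op) (Cs : List ℕ) (lam : ℕ) : Bool :=
  and2 (okP 4096 π0) (and2 (okP 4096 κ) (and2
    ((run κ ⟨0, .cons 1 (.sgn 0)⟩).force fun v => Nat.beq (sqS v.P 4096) (Nat.pow 4 v.e))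
    ((labK π0).force fun l => forceV (tsts π0) fun T => allN 24 fun j =>
      eqK l T (mapL id (xP 0 (Nat.pow 2 j)) κ)
        (mapL id κ (xP (Nat.land (Nat.shiftRight lam j) 1) (nth 0 Cs j))))))

theorem mat_ext_lK {A B : Matrix K K ℝ} (h : ∀ w, lK (A *ᵥ w) = lK (B *ᵥ w)) : A = B :=
  Matrix.toLin'.injective (LinearMap.ext fun w => lK_inj (h w))

theorem dec_induction {p : C → Prop} (h0 : p 0) (h1 : ∀ j < 24, p (dec (2 ^ j)))
    (h2 : ∀ c d, p c → p d → p (c + d)) (c : C) : p c := by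
  obtain ⟨n, hn, rfl⟩ := dec_surj c
  have : ∀ k ≤ 24, ∀ n < 2 ^ k, p (dec n) := by
    intro k
    induction k with
    | zero => intro _ n hn; rw [show n = 0 by omega, dec_zero]; exact h0
    | succ k ih =>
      intro hk n hn
      by_cases h : n < 2 ^ k
      · exact ih (by omega) n h
      · have h3 : n - 2 ^ k < 2 ^ k := by rw [pow_succ] at hn; omega
        have := h2 _ _ (h1 k (by omega)) (ih (by omega) _ h3)
        rw [← dec_xor] at this
        convert this using 2
        refine Nat.eq_of_testBit_eq fun i => ?_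
        conv_lhs => rw [show n = 2 ^ k * 1 + (n - 2 ^ k) by omega, Nat.testBit_two_pow_mul_add 1 h3]
        rw [Nat.testBit_xor, Nat.testBit_two_pow]
        split_ifs with h4
        · simp [show k ≠ i by omega]
        · rw [Nat.testBit_lt_two_pow (lt_of_lt_of_le h3
            (Nat.pow_le_pow_right (by norm_num) (not_lt.1 h4))), Bool.xor_false, Bool.eq_iff_iff,
            Nat.testBit_one_eq_true_iff_self_eq_zero, decide_eq_true_eq]
          omega
  exact this 24 le_rfl n hn

theorem chkK_sound {π0 κ : List Op} {Cs : List ℕ} {lam : ℕ} (hc : chkK π0 κ Cs lam = true) {h : G0}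
    (hh : Cols h Cs) : okP 4096 κ = true ∧
      ∃ g : GT, co g = h ∧ nm g = mP κ ∧ ∀ j < 24, ep g (dec (2 ^ j)) = bt lam j := by
  simp only [chkK, and2_true, Vec.force_eq, forceV_eq, allN_true, mapL_eq, List.map_id] at hc
  obtain ⟨h0, h1, h2, h3⟩ := hc
  have b : ∀ j < 24, mP κ * xm (dec (2 ^ j)) = sg (bt lam j) • (xm (h • dec (2 ^ j)) * mP κ) := by
    intro j hj
    refine mat_ext_lK fun w => ?_
    have ht : Nat.land (Nat.shiftRight lam j) 1 < 2 := by
      rw [land_eq, Nat.and_one_is_mod]; omega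
    have e := eqK_sound h0 (okP_append (ok_xP _ _) h1) (okP_append h1 (ok_xP _ _)) (h3 j hj) w
    rw [sem_append, sem_append, ← lK_xm (by norm_num), ← lK_mP h1, ← lK_mP h1, ← lK_xm ht,
      bt_zero, sg_zero, one_smul, mulVec_mulVec, mulVec_mulVec, ← hh.2 j hj] at e
    rw [← Matrix.smul_mul, show bt lam j = bt (Nat.land (Nat.shiftRight lam j) 1) 0 from
      bt_congr (by simp [land_eq])]
    exact e
  have a : ∀ c, ∃ t, mP κ * xm c = sg t • (xm (h • c) * mP κ) := by
    refine dec_induction ⟨0, by simp [xm_zero]⟩ (fun j hj => ⟨_, b j hj⟩) ?_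
    rintro c d ⟨s, hs⟩ ⟨t, ht⟩
    refine ⟨bb c d + (s + (t + bb (h • c) (h • d))), ?_⟩
    have : xm (c + d) = sg (bb c d) • (xm c * xm d) := by
      rw [xm_mul, smul_smul, sg_mul_self, one_smul]
    rw [this, Matrix.mul_smul, ← mul_assoc, hs, Matrix.smul_mul, mul_assoc, ht,
      Matrix.mul_smul, ← mul_assoc, xm_mul, Matrix.smul_mul, smul_add]
    simp only [smul_smul, sg_add]
  obtain ⟨r, hr⟩ := scalar_of_comm (n := (mP κ)ᵀ * mP κ) fun c => by
    obtain ⟨t, ht⟩ := a c
    have e := congrArg transpose ht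
    rw [transpose_mul, transpose_smul, transpose_mul] at e
    have e2 : xm c * (mP κ)ᵀ = sg t • ((mP κ)ᵀ * xm (h • c)) := by
      rw [xm_transpose, xm_transpose, bb_smul_self, Matrix.smul_mul, Matrix.mul_smul,
        smul_comm] at e
      exact smul_right_injective _ (sg_ne _) e
    rw [mul_assoc, ht, ← mul_assoc (xm c), e2, Matrix.mul_smul, Matrix.smul_mul, mul_assoc]
  have r1 : r = 1 := by
    have e := congrFun (congrFun hr (dK 0)) (dK 0)
    rw [Matrix.smul_apply, one_apply_eq, smul_eq_mul, mul_one, mul_apply, sum_K] at e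
    rw [← e, Finset.sum_congr rfl fun u hu => by
      rw [transpose_apply, mP_apply κ (Finset.mem_range.1 hu) (by norm_num), ← sq,
        show (Pi.single 0 1 : ℕ → ℝ) = (Vec.mk 0 (.cons 1 (.sgn 0))).val from funext fun p => by
          rw [val_one, Pi.single_apply]; simp [Nat.testBit_one_eq_true_iff_self_eq_zero],
        ← val_run h1, Vec.val, div_pow]]
    rw [← Finset.sum_div, ← sqS_eq, H29.beq_true.1 h2, ← pow_mul, mul_comm, pow_mul]
    simp; norm_num
  rw [r1, one_smul] at hr
  exact ⟨h1, ⟨(⟨mP κ, (mem_orthogonalGroup_iff' _ _).2 hr⟩, h), a⟩, rfl, rfl,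
    fun j hj => ep_eq (b j hj)⟩

end H10.Mon
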