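import Mathlib
import Cfsg.Agent.H10.MBaby
import Cfsg.Agent.H10.MPh1
import Cfsg.Agent.H29.Ext

/-!
# The check of a letter
-/

set_option autoImplicit false
set_option linter.all false

namespace H10.Mon

open Cfsg H9 H29 Matrix
open scoped Kronecker

/-- The code of the basis vector number `j`. -/
noncomputable def bC (j : ℕ) : ℕ := nth 0 (fC ++ eC) j

theorem bC_ok : ∀ j < 24, inL (bC j) = true ∧ dotC (bC j) (bC j) ≤ 255 ∧ kapC (bC j) = dec (2 ^ j) := by
  decide +kernel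

noncomputable def unitV (j : ℕ) : Vec := ⟨0, .cons (Nat.shiftLeft 1 j) (.sgn 0)⟩

theorem val_unitV (j : ℕ) : (unitV j).val = Pi.single j 1 := funext fun p => by
  rw [unitV, val_one, Pi.single_apply, shl_eq, Nat.one_shiftLeft, Nat.testBit_two_pow]
  simp [eq_comm]

noncomputable def chkA (M Cs : List ℕ) (ρ : List Op) : Bool :=
  and2 (isCo M) (and2 (Nat.beq Cs.length 24) (and2
    (allN 24 fun j => fh (app M (bC j)) fun n => decide (kapC n = dec (nth 0 Cs j)))
    (and2 (okP 24 ρ) (and2 (okP 576 (ten 24 ρ ρ))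
      (allN 24 fun j => fh (app M (cE (nth 0 ord j))) fun n => (run ρ (unitV j)).force fun v =>
        allN 24 fun i => decide (8 * v.P.val i = ((dg n (nth 0 ord i) : ℤ) - 16) * 2 ^ v.e))))))

theorem chkA_sound {M Cs : List ℕ} {ρ : List Op} (h : chkA M Cs ρ = true) :
    isCo M = true ∧ Cols (coM M) Cs ∧ okP 24 ρ = true ∧ okP 576 (ten 24 ρ ρ) = true ∧
      ∀ i < 24, ∀ j < 24, sem ρ (Pi.single j 1) i = hm (coM M) (ro i) (ro j) := by
  simp only [chkA, and2_true, allN_true, fh_eq, Vec.force_eq, decide_eq_true_eq] at h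
  obtain ⟨h1, h2, h3, h4, h5, h6⟩ := h
  refine ⟨h1, ⟨H29.beq_true.1 h2, fun j hj => ?_⟩, h4, h5, fun i hi j hj => ?_⟩
  · obtain ⟨b1, b2, b3⟩ := bC_ok j hj
    rw [← h3 j hj, ← b3, ← kap_code (lv_coe b1), smul_kap]
    exact kap_code (coM_smul h1 (lv_coe b1) (by rw [lv_coe b1, norm_vc]; exact b2))
  · rw [← val_unitV, ← val_run h4, hm_apply, rv, coM_smul h1 (e8_eq _)
      (by rw [e8_coe, sqNorm_single]; norm_num), vc, ix_ro hi, ix_ro hj, Vec.val,
      div_eq_div_iff (by positivity) (by norm_num), mul_comm]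
    exact_mod_cast h6 j hj i hi

noncomputable def mapF {α : Type} (f : ℕ → ℕ) (l : List ℕ) : (List ℕ → α) → α :=
  List.rec (motive := fun _ => (List ℕ → α) → α) (fun k => k [])
    (fun a _ ih k => seqN (f a) fun b => ih fun r => k (b :: r)) l

theorem mapF_eq {α : Type} (f : ℕ → ℕ) : ∀ (l : List ℕ) (k : List ℕ → α), mapF f l k = k (l.map f)
  | [], _ => rfl
  | a :: l, k => (seqN_eq (f a) fun b => mapF f l fun r => k (b :: r)).trans (mapF_eq f l _)

/-- The cocycle on numbers. -/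
noncomputable def bbN (a b : ℕ) : ℕ :=
  apC [1, 1, 1, 1, 1, 1, 1, 1, 1, 1, 1, 1] (Nat.land (Nat.shiftRight a 12) b)

theorem bt_bbN (a b : ℕ) : bt (bbN a b) 0 = bb (dec a) (dec b) := by
  rw [bbN, bt_apC, show bb (dec a) (dec b) = ∑ j ∈ Finset.range 12, bt a (12 + j) * bt b j from
    (Finset.sum_range (n := 12) fun j => bt a (12 + j) * bt b j).symm]
  refine Finset.sum_congr rfl fun j hj => ?_
  rw [land_eq, bt_and, show bt (Nat.shiftRight a 12) j = bt a (12 + j) from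
    bt_congr (Nat.testBit_shiftRight a)]
  have := Finset.mem_range.1 hj
  change j < 12 at this
  interval_cases j <;> exact mul_one _

/-- The plane of the signs. -/
noncomputable def epP (F : ℕ) (Q Cs : List ℕ) (lam : ℕ) (k : ℕ) : ℕ :=
  Nat.rec 0 (fun k ih => Nat.xor ih (Nat.land (nth 0 Q k) (apC (F :: Q) (Nat.add
    (Nat.mul 2 (Nat.land (cdv (mapL (fun a => bbN a (nth 0 Cs k)) Cs []) 0) (ones k)))
    (Nat.land (Nat.shiftRight lam k) 1))))) k

theorem nth_map {f : ℕ → ℕ} {l : List ℕ} {j : ℕ} (h : j < l.length) :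
    nth 0 (l.map f) j = f (nth 0 l j) := by
  rw [nth_eq, nth_eq, List.getD_eq_getElem _ _ (by simpa using h), List.getD_eq_getElem _ _ h,
    List.getElem_map]

theorem dec_pow {j : ℕ} (hj : j < 24) (i : Fin 12) :
    ((dec (2 ^ j)).1 i = if j = 12 + i then 1 else 0) ∧ (dec (2 ^ j)).2 i = if j = i then 1 else 0 := by
  simp [dec, bt, Nat.testBit_two_pow]

theorem bb_pow {i j : ℕ} (h : i < j) (hj : j < 24) : bb (dec (2 ^ i)) (dec (2 ^ j)) = 0 := by
  rw [bb, dotProduct]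
  refine Finset.sum_eq_zero fun k _ => ?_
  rw [(dec_pow (h.trans hj) k).1, (dec_pow hj k).2]
  split_ifs <;> first | omega | simp

theorem dec_sum (n : ℕ) : dec n = ∑ j ∈ Finset.range 24, bt n j • dec (2 ^ j) := by
  refine Prod.ext (funext fun i => ?_) (funext fun i => ?_)
  · rw [Prod.fst_sum, Finset.sum_apply, Finset.sum_congr rfl fun j hj => by
      rw [Prod.smul_fst, Pi.smul_apply, (dec_pow (Finset.mem_range.1 hj) i).1]]
    simp [show 12 + (i : ℕ) < 24 by omega, dec]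
  · rw [Prod.snd_sum, Finset.sum_apply, Finset.sum_congr rfl fun j hj => by
      rw [Prod.smul_snd, Pi.smul_apply, (dec_pow (Finset.mem_range.1 hj) i).2]]
    simp [show (i : ℕ) < 24 by omega, dec]

theorem smul_sum_C (h : G0) (a : ℕ → ZMod 2) (c : ℕ → C) : ∀ k,
    h • ∑ j ∈ Finset.range k, a j • c j = ∑ j ∈ Finset.range k, a j • h • c j
  | 0 => smul_zero _
  | k + 1 => by
    rw [Finset.sum_range_succ, Finset.sum_range_succ, smul_add, smul_sum_C h a c k]
    rcases z2 (a k) with e | e <;> simp [e]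

theorem bb_sum (a : ℕ → ZMod 2) (c : ℕ → C) (d : C) (k : ℕ) :
    bb (∑ j ∈ Finset.range k, a j • c j) d = ∑ j ∈ Finset.range k, a j * bb (c j) d := by
  simp only [← bbL_apply, map_sum, map_smul, LinearMap.sum_apply, LinearMap.smul_apply, smul_eq_mul]

theorem bt_epP {g : GT} {F : ℕ} {Q Cs : List ℕ} {lam p : ℕ} (hc : Cols (co g) Cs)
    (hl : ∀ j < 24, ep g (dec (2 ^ j)) = bt lam j) (hQ : Q.length = 24) (hF : bt F p = 1) :
    ∀ k ≤ 24, bt (epP F Q Cs lam k) p =
      ep g (∑ j ∈ Finset.range k, bt (nth 0 Q j) p • dec (2 ^ j))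
  | 0, _ => (bt_zero _).trans (ep_zero g).symm
  | k + 1, hk => by
    change bt (epP F Q Cs lam k ^^^ (nth 0 Q k &&& apC (F :: Q) (2 * (cdv (mapL (fun a =>
      bbN a (nth 0 Cs k)) Cs []) 0 &&& ones k) + (lam >>> k &&& 1)))) p = _
    rw [bt_xor, bt_and, bt_epP hc hl hQ hF k (by omega), Finset.sum_range_succ]
    rcases z2 (bt (nth 0 Q k) p) with e | e
    · simp [e]
    rw [e, one_mul, one_smul, ep_add, hl k (by omega), smul_sum_C, bb_sum, bb_sum,
      Finset.sum_eq_zero (f := fun j => _ * bb (dec (2 ^ j)) (dec (2 ^ k))) fun j hj => by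
        rw [bb_pow (Finset.mem_range.1 hj) (by omega), mul_zero],
      add_zero, add_assoc, bt_apC, List.length_cons, Finset.sum_range_succ', add_comm (bt lam k), hQ]
    refine congrArg (_ + ·) (congrArg₂ (· + ·) ?_ ?_)
    · rw [← Finset.sum_subset (Finset.range_subset_range.2 (show k ≤ 24 by omega))]
      · refine Finset.sum_congr rfl fun j hj => ?_
        have hj := Finset.mem_range.1 hj
        rw [mul_comm, hc.2 j (by omega), hc.2 k (by omega), ← bt_bbN]
        refine congrArg (bt (nth 0 Q j) p * ·) (bt_congr ?_)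
        rw [Nat.testBit_succ, Nat.and_one_is_mod, show ∀ a b : ℕ, (2 * a + b % 2) / 2 = a by omega,
          Nat.testBit_and, testBit_ones, tb_cdv, mapL_eq, List.append_nil,
          nth_map (by rw [hc.1]; omega)]
        simp [hj]
      · intro j _ hj
        rw [show bt _ (j + 1) = 0 from ?_, zero_mul]
        rw [bt, Nat.testBit_succ, Nat.and_one_is_mod,
          show ∀ a b : ℕ, (2 * a + b % 2) / 2 = a by omega, Nat.testBit_and, testBit_ones]
        simp [show ¬ j < k by simpa using hj]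
    · change _ * bt F p = _
      rw [hF, mul_one]
      refine bt_congr ?_
      rw [Nat.and_one_is_mod, Nat.testBit_zero, show ∀ a b : ℕ, (2 * a + b % 2) % 2 = b % 2 by omega,
        ← Nat.testBit_zero, Nat.testBit_shiftRight, add_zero]

noncomputable def chkS (Q Cs : List ℕ) (lam : ℕ) (σ : List Op) : Bool :=
  and2 (okP 98304 σ) (and2 (allL σ Op.mono) (seqN (ones 98280) fun F =>
    and2 (Nat.beq (pull σ F) F) (mapF (pull σ) Q fun Q' =>
      and2 (allN 24 fun i => Nat.beq (nth 0 Q i) (apC Q' (cdv Cs i)))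
        (Nat.beq (epP F Q' Cs lam 24) (sgP σ 0)))))

theorem cv_sum (Q : List ℕ) (p : ℕ) :
    cv Q p = ∑ j ∈ Finset.range 24, bt (nth 0 Q j) p • dec (2 ^ j) := by
  rw [← dec_cdv, dec_sum]
  exact Finset.sum_congr rfl fun j _ => by rw [bt_congr (tb_cdv p Q j)]

theorem chkS_sound {g : GT} {Q Cs : List ℕ} {lam : ℕ} {σ : List Op} (h : chkS Q Cs lam σ = true)
    (hQ : Q.length = 24) (hc : Cols (co g) Cs) (hl : ∀ j < 24, ep g (dec (2 ^ j)) = bt lam j) :
    okP 98304 σ = true ∧ (∀ p, σP σ p < 98280 ↔ p < 98280) ∧ ∀ p, cv Q p = co g • cv Q (σP σ p) ∧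
      ∀ x : ℕ → ℝ, p < 98280 → sem σ x p = sg (ep g (cv Q (σP σ p))) * x (σP σ p) := by
  simp only [chkS, and2_true, seqN_eq, mapF_eq, allN_true, H29.beq_true] at h
  obtain ⟨h1, h2, h3, h4, h5⟩ := h
  have e : ∀ p, ∀ j < 24, bt (nth 0 (Q.map (pull σ)) j) p = bt (nth 0 Q j) (σP σ p) :=
    fun p j hj => by rw [nth_map (hQ ▸ hj)]; exact bt_congr (tb_pull h1 _ _)
  refine ⟨h1, fun p => ?_, fun p => ⟨?_, fun x hp => ?_⟩⟩
  · simpa only [tb_pull h1, testBit_ones, decide_eq_decide] using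
      congrArg (fun a => Nat.testBit a p) h3
  · rw [← dec_cdv Q (σP σ p), ← hc.ap, ← dec_cdv]
    refine dec_congr fun i hi => bt_inj ?_
    rw [bt_congr (tb_cdv p Q i), h4 i hi, bt_apC, bt_apC, List.length_map, hQ, hc.1]
    refine Finset.sum_congr rfl fun j hj => ?_
    rw [e p j (Finset.mem_range.1 hj), mul_comm, bt_congr (tb_cdv _ _ _), bt_congr (tb_cdv _ _ _)]
  · rw [sem_mono h1 h2, sb_eq, ← h5, bt_epP hc hl (by rw [List.length_map, hQ])
      (by simp [bt, testBit_ones, hp]) 24 le_rfl, cv_sum,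
      Finset.sum_congr rfl fun j hj => by rw [e p j (Finset.mem_range.1 hj)]]

theorem CP_len : CP.length = 24 := by decide +kernel

noncomputable def Lt.cA (L : Lt) : Bool := chkA L.M L.C L.ρ
noncomputable def Lt.cK (L : Lt) : Bool := chkK (revL L.κ []) L.κ' L.C L.lam
noncomputable def Lt.cS (L : Lt) : Bool := and2 (chkS CP L.C L.lam L.σ) L.mv.ok

theorem Lt.sound {L : Lt} (hA : L.cA = true) (hK : L.cK = true) (hS : L.cS = true) :
    ∃ g : GT, co g = coM L.M ∧ Cols (co g) L.C ∧ Real L.mv (rho g) ∧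
    (∀ u < 4096, ∀ v < 4096, nm g (dK u) (dK v) = sem L.κ' (Pi.single v 1) u) ∧
    ∀ p < 98280, σP L.σ p < 98280 ∧ cls p = co g • cls (σP L.σ p) := by
  obtain ⟨-, a2, a3, a4, a5⟩ := chkA_sound hA
  obtain ⟨k1, g, k2, k3, k4⟩ := chkK_sound hK a2
  rw [← k2] at a2 a5
  obtain ⟨hS, hok⟩ := and2_true.1 hS
  obtain ⟨s1, s2, s3⟩ := chkS_sound hS CP_len a2 k4
  have w1 : okP 98304 (ten 4096 L.ρ L.κ') = true :=
    (and2_true.1 (and2_true.1 (and2_true.1 hok).2).2).1
  have k5 : ∀ u < 4096, ∀ v < 4096, nm g (dK u) (dK v) = sem L.κ' (Pi.single v 1) u :=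
    fun u hu v hv => by rw [k3, mP_apply _ hu hv]
  refine ⟨g, k2, a2, fun v => Prod.ext (funext fun p => ?_) (Prod.ext (funext fun p => ?_)
    (funext fun p => ?_)), k5, fun p hp => ⟨(s2 p).2 hp, (s3 p).1⟩⟩
  · change sem (ten 24 L.ρ L.ρ) (Φ v).1 p = _
    by_cases hp : p < 576
    · obtain ⟨i, j, hi, hj, rfl⟩ : ∃ i j, i < 24 ∧ j < 24 ∧ p = i * 24 + j :=
        ⟨p / 24, p % 24, by omega, by omega, by omega⟩
      rw [sem_ten a3 a3 _ hi hj, Φ_a' _ hi hj, mA_rho, mul_apply, sum_ro, Finset.sum_comm]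
      refine Finset.sum_congr rfl fun b hb => ?_
      rw [mul_apply, sum_ro, Finset.sum_mul]
      refine Finset.sum_congr rfl fun a ha => ?_
      rw [Φ_a' _ (Finset.mem_range.1 ha) (Finset.mem_range.1 hb), a5 i hi a (Finset.mem_range.1 ha),
        a5 j hj b (Finset.mem_range.1 hb), transpose_apply]
      ring
    · rw [sem_supp a4 (good_Φ v).a p (not_lt.1 hp), (good_Φ _).a p (not_lt.1 hp)]
  · change sem L.σ (Φ v).2.1 p = _
    by_cases hp : p < 98280
    · rw [(s3 p).2 _ hp, Φ_s, Φ_s, if_pos hp, if_pos ((s2 p).2 hp), cls, cls, (s3 p).1, fX_rho]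
    · rw [(good_Φ _).s p (not_lt.1 hp), sem_mono s1 (and2_true.1 (and2_true.1 hS).2).1,
        (good_Φ _).s _ (not_lt.1 (mt (s2 p).1 hp)), mul_zero]
  · change sem (ten 4096 L.ρ L.κ') (Φ v).2.2 p = _
    by_cases hp : p < 98304
    · obtain ⟨i, j, hi, hj, rfl⟩ : ∃ i j, i < 24 ∧ j < 4096 ∧ p = i * 4096 + j :=
        ⟨p / 4096, p % 4096, by omega, by omega, by omega⟩
      rw [sem_ten a3 k1 _ hi hj, Φ_w' _ hi hj, wW_rho, mulVec, dotProduct, Fintype.sum_prod_type,
        sum_ro]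
      refine Finset.sum_congr rfl fun a ha => ?_
      rw [sum_K]
      refine Finset.sum_congr rfl fun b hb => ?_
      rw [Φ_w' _ (Finset.mem_range.1 ha) (Finset.mem_range.1 hb), a5 i hi a (Finset.mem_range.1 ha),
        ← k5 j hj b (Finset.mem_range.1 hb), kronecker_apply]
    · rw [sem_supp w1 (good_Φ v).w p (not_lt.1 hp), (good_Φ _).w p (not_lt.1 hp)]

end H10.Mon
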