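import Mathlib
import Cfsg.Agent.H10.MPh2

/-! The checks of the letters. -/

set_option autoImplicit false
set_option linter.all false

namespace H10.Mon

open H29

theorem cA0 : (lt 0).cA = true := by decide +kernel
theorem cA1 : (lt 1).cA = true := by decide +kernel
theorem cA2 : (lt 2).cA = true := by decide +kernel
theorem cA3 : (lt 3).cA = true := by decide +kernel
theorem cA4 : (lt 4).cA = true := by decide +kernel
theorem cA5 : (lt 5).cA = true := by decide +kernel
theorem cA6 : (lt 6).cA = true := by decide +kernel
theorem cA7 : (lt 7).cA = true := by decide +kernel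
theorem cA8 : (lt 8).cA = true := by decide +kernel
theorem cA9 : (lt 9).cA = true := by decide +kernel
theorem cA10 : (lt 10).cA = true := by decide +kernel
theorem cA11 : (lt 11).cA = true := by decide +kernel
theorem cA12 : (lt 12).cA = true := by decide +kernel
theorem cA13 : (lt 13).cA = true := by decide +kernel
theorem cA14 : (lt 14).cA = true := by decide +kernel
theorem cA15 : (lt 15).cA = true := by decide +kernel
theorem cA16 : (lt 16).cA = true := by decide +kernel
theorem cA17 : (lt 17).cA = true := by decide +kernel
theorem cA18 : (lt 18).cA = true := by decide +kernel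
theorem cA19 : (lt 19).cA = true := by decide +kernel
theorem cA20 : (lt 20).cA = true := by decide +kernel
theorem cA21 : (lt 21).cA = true := by decide +kernel
theorem cA22 : (lt 22).cA = true := by decide +kernel
theorem cA23 : (lt 23).cA = true := by decide +kernel
theorem cA24 : (lt 24).cA = true := by decide +kernel
theorem cA25 : (lt 25).cA = true := by decide +kernel
theorem cA26 : (lt 26).cA = true := by decide +kernel
theorem cA27 : (lt 27).cA = true := by decide +kernel
theorem cA28 : (lt 28).cA = true := by decide +kernel
theorem cA29 : (lt 29).cA = true := by decide +kernel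
theorem cA30 : (lt 30).cA = true := by decide +kernel
theorem cA31 : (lt 31).cA = true := by decide +kernel
theorem cA32 : (lt 32).cA = true := by decide +kernel
theorem cA33 : (lt 33).cA = true := by decide +kernel
theorem cA34 : (lt 34).cA = true := by decide +kernel
theorem cA35 : (lt 35).cA = true := by decide +kernel
theorem cA36 : (lt 36).cA = true := by decide +kernel
theorem cA37 : (lt 37).cA = true := by decide +kernel
theorem cA38 : (lt 38).cA = true := by decide +kernel
theorem cA39 : (lt 39).cA = true := by decide +kernel
theorem cA40 : (lt 40).cA = true := by decide +kernel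
theorem cA41 : (lt 41).cA = true := by decide +kernel
theorem cA42 : (lt 42).cA = true := by decide +kernel
theorem cA43 : (lt 43).cA = true := by decide +kernel
theorem cA44 : (lt 44).cA = true := by decide +kernel
theorem cA45 : (lt 45).cA = true := by decide +kernel
theorem cA46 : (lt 46).cA = true := by decide +kernel
theorem cA47 : (lt 47).cA = true := by decide +kernel
theorem cA48 : (lt 48).cA = true := by decide +kernel
theorem cA49 : (lt 49).cA = true := by decide +kernel
theorem cA50 : (lt 50).cA = true := by decide +kernel
theorem cA51 : (lt 51).cA = true := by decide +kernel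
theorem cA52 : (lt 52).cA = true := by decide +kernel
theorem cS0 : (lt 0).cS = true := by decide +kernel
theorem cS1 : (lt 1).cS = true := by decide +kernel
theorem cS2 : (lt 2).cS = true := by decide +kernel
theorem cS3 : (lt 3).cS = true := by decide +kernel
theorem cS4 : (lt 4).cS = true := by decide +kernel
theorem cS5 : (lt 5).cS = true := by decide +kernel
theorem cS6 : (lt 6).cS = true := by decide +kernel
theorem cS7 : (lt 7).cS = true := by decide +kernel
theorem cS8 : (lt 8).cS = true := by decide +kernel
theorem cS9 : (lt 9).cS = true := by decide +kernel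
theorem cS10 : (lt 10).cS = true := by decide +kernel
theorem cS11 : (lt 11).cS = true := by decide +kernel
theorem cS12 : (lt 12).cS = true := by decide +kernel
theorem cS13 : (lt 13).cS = true := by decide +kernel
theorem cS14 : (lt 14).cS = true := by decide +kernel
theorem cS15 : (lt 15).cS = true := by decide +kernel
theorem cS16 : (lt 16).cS = true := by decide +kernel
theorem cS17 : (lt 17).cS = true := by decide +kernel
theorem cS18 : (lt 18).cS = true := by decide +kernel
theorem cS19 : (lt 19).cS = true := by decide +kernel
theorem cS20 : (lt 20).cS = true := by decide +kernel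
theorem cS21 : (lt 21).cS = true := by decide +kernel
theorem cS22 : (lt 22).cS = true := by decide +kernel
theorem cS23 : (lt 23).cS = true := by decide +kernel
theorem cS24 : (lt 24).cS = true := by decide +kernel
theorem cS25 : (lt 25).cS = true := by decide +kernel
theorem cS26 : (lt 26).cS = true := by decide +kernel
theorem cS27 : (lt 27).cS = true := by decide +kernel
theorem cS28 : (lt 28).cS = true := by decide +kernel
theorem cS29 : (lt 29).cS = true := by decide +kernel
theorem cS30 : (lt 30).cS = true := by decide +kernel
theorem cS31 : (lt 31).cS = true := by decide +kernel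
theorem cS32 : (lt 32).cS = true := by decide +kernel
theorem cS33 : (lt 33).cS = true := by decide +kernel
theorem cS34 : (lt 34).cS = true := by decide +kernel
theorem cS35 : (lt 35).cS = true := by decide +kernel
theorem cS36 : (lt 36).cS = true := by decide +kernel
theorem cS37 : (lt 37).cS = true := by decide +kernel
theorem cS38 : (lt 38).cS = true := by decide +kernel
theorem cS39 : (lt 39).cS = true := by decide +kernel
theorem cS40 : (lt 40).cS = true := by decide +kernel
theorem cS41 : (lt 41).cS = true := by decide +kernel
theorem cS42 : (lt 42).cS = true := by decide +kernel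
theorem cS43 : (lt 43).cS = true := by decide +kernel
theorem cS44 : (lt 44).cS = true := by decide +kernel
theorem cS45 : (lt 45).cS = true := by decide +kernel
theorem cS46 : (lt 46).cS = true := by decide +kernel
theorem cS47 : (lt 47).cS = true := by decide +kernel
theorem cS48 : (lt 48).cS = true := by decide +kernel
theorem cS49 : (lt 49).cS = true := by decide +kernel
theorem cS50 : (lt 50).cS = true := by decide +kernel
theorem cS51 : (lt 51).cS = true := by decide +kernel
theorem cS52 : (lt 52).cS = true := by decide +kernel

theorem cA_all : ∀ c < 53, (lt c).cA = true :=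
  lt_step (lt_step (lt_step (lt_step (lt_step (lt_step (lt_step (lt_step (lt_step (lt_step (lt_step (lt_step (lt_step (lt_step (lt_step (lt_step (lt_step (lt_step (lt_step (lt_step (lt_step (lt_step (lt_step (lt_step (lt_step (lt_step (lt_step (lt_step (lt_step (lt_step (lt_step (lt_step (lt_step (lt_step (lt_step (lt_step (lt_step (lt_step (lt_step (lt_step (lt_step (lt_step (lt_step (lt_step (lt_step (lt_step (lt_step (lt_step (lt_step (lt_step (lt_step (lt_step (lt_step lt_base cA0) cA1) cA2) cA3) cA4) cA5) cA6) cA7) cA8) cA9) cA10) cA11) cA12) cA13) cA14) cA15) cA16) cA17) cA18) cA19) cA20) cA21) cA22) cA23) cA24) cA25) cA26) cA27) cA28) cA29) cA30) cA31) cA32) cA33) cA34) cA35) cA36) cA37) cA38) cA39) cA40) cA41) cA42) cA43) cA44) cA45) cA46) cA47) cA48) cA49) cA50) cA51) cA52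

theorem cS_all : ∀ c < 53, (lt c).cS = true :=
  lt_step (lt_step (lt_step (lt_step (lt_step (lt_step (lt_step (lt_step (lt_step (lt_step (lt_step (lt_step (lt_step (lt_step (lt_step (lt_step (lt_step (lt_step (lt_step (lt_step (lt_step (lt_step (lt_step (lt_step (lt_step (lt_step (lt_step (lt_step (lt_step (lt_step (lt_step (lt_step (lt_step (lt_step (lt_step (lt_step (lt_step (lt_step (lt_step (lt_step (lt_step (lt_step (lt_step (lt_step (lt_step (lt_step (lt_step (lt_step (lt_step (lt_step (lt_step (lt_step (lt_step lt_base cS0) cS1) cS2) cS3) cS4) cS5) cS6) cS7) cS8) cS9) cS10) cS11) cS12) cS13) cS14) cS15) cS16) cS17) cS18) cS19) cS20) cS21) cS22) cS23) cS24) cS25) cS26) cS27) cS28) cS29) cS30) cS31) cS32) cS33) cS34) cS35) cS36) cS37) cS38) cS39) cS40) cS41) cS42) cS43) cS44) cS45) cS46) cS47) cS48) cS49) cS50) cS51) cS52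

theorem tauM_ok : tauM.ok = true := by decide +kernel

end H10.Mon
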