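import Mathlib
import Cfsg.Agent.H10.MPh2

/-! The checks of the letters. -/

set_option autoImplicit false
set_option linter.all false

namespace H10.Mon

open H29

theorem cK0 : (lt 0).cK = true := by decide +kernel
theorem cK1 : (lt 1).cK = true := by decide +kernel
theorem cK2 : (lt 2).cK = true := by decide +kernel
theorem cK3 : (lt 3).cK = true := by decide +kernel
theorem cK4 : (lt 4).cK = true := by decide +kernel
theorem cK5 : (lt 5).cK = true := by decide +kernel
theorem cK6 : (lt 6).cK = true := by decide +kernel
theorem cK7 : (lt 7).cK = true := by decide +kernel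
theorem cK8 : (lt 8).cK = true := by decide +kernel
theorem cK9 : (lt 9).cK = true := by decide +kernel
theorem cK10 : (lt 10).cK = true := by decide +kernel
theorem cK11 : (lt 11).cK = true := by decide +kernel
theorem cK12 : (lt 12).cK = true := by decide +kernel
theorem cK13 : (lt 13).cK = true := by decide +kernel
theorem cK14 : (lt 14).cK = true := by decide +kernel
theorem cK15 : (lt 15).cK = true := by decide +kernel
theorem cK16 : (lt 16).cK = true := by decide +kernel
theorem cK17 : (lt 17).cK = true := by decide +kernel
theorem cK18 : (lt 18).cK = true := by decide +kernel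
theorem cK19 : (lt 19).cK = true := by decide +kernel
theorem cK20 : (lt 20).cK = true := by decide +kernel
theorem cK21 : (lt 21).cK = true := by decide +kernel
theorem cK22 : (lt 22).cK = true := by decide +kernel
theorem cK23 : (lt 23).cK = true := by decide +kernel
theorem cK24 : (lt 24).cK = true := by decide +kernel
theorem cK25 : (lt 25).cK = true := by decide +kernel
theorem cK26 : (lt 26).cK = true := by decide +kernel
theorem cK27 : (lt 27).cK = true := by decide +kernel
theorem cK28 : (lt 28).cK = true := by decide +kernel
theorem cK29 : (lt 29).cK = true := by decide +kernel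
theorem cK30 : (lt 30).cK = true := by decide +kernel
theorem cK31 : (lt 31).cK = true := by decide +kernel
theorem cK32 : (lt 32).cK = true := by decide +kernel
theorem cK33 : (lt 33).cK = true := by decide +kernel
theorem cK34 : (lt 34).cK = true := by decide +kernel
theorem cK35 : (lt 35).cK = true := by decide +kernel
theorem cK36 : (lt 36).cK = true := by decide +kernel
theorem cK37 : (lt 37).cK = true := by decide +kernel
theorem cK38 : (lt 38).cK = true := by decide +kernel
theorem cK39 : (lt 39).cK = true := by decide +kernel
theorem cK40 : (lt 40).cK = true := by decide +kernel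
theorem cK41 : (lt 41).cK = true := by decide +kernel
theorem cK42 : (lt 42).cK = true := by decide +kernel
theorem cK43 : (lt 43).cK = true := by decide +kernel
theorem cK44 : (lt 44).cK = true := by decide +kernel
theorem cK45 : (lt 45).cK = true := by decide +kernel
theorem cK46 : (lt 46).cK = true := by decide +kernel
theorem cK47 : (lt 47).cK = true := by decide +kernel
theorem cK48 : (lt 48).cK = true := by decide +kernel
theorem cK49 : (lt 49).cK = true := by decide +kernel
theorem cK50 : (lt 50).cK = true := by decide +kernel
theorem cK51 : (lt 51).cK = true := by decide +kernel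
theorem cK52 : (lt 52).cK = true := by decide +kernel

theorem cK_all : ∀ c < 53, (lt c).cK = true :=
  lt_step (lt_step (lt_step (lt_step (lt_step (lt_step (lt_step (lt_step (lt_step (lt_step (lt_step (lt_step (lt_step (lt_step (lt_step (lt_step (lt_step (lt_step (lt_step (lt_step (lt_step (lt_step (lt_step (lt_step (lt_step (lt_step (lt_step (lt_step (lt_step (lt_step (lt_step (lt_step (lt_step (lt_step (lt_step (lt_step (lt_step (lt_step (lt_step (lt_step (lt_step (lt_step (lt_step (lt_step (lt_step (lt_step (lt_step (lt_step (lt_step (lt_step (lt_step (lt_step (lt_step lt_base cK0) cK1) cK2) cK3) cK4) cK5) cK6) cK7) cK8) cK9) cK10) cK11) cK12) cK13) cK14) cK15) cK16) cK17) cK18) cK19) cK20) cK21) cK22) cK23) cK24) cK25) cK26) cK27) cK28) cK29) cK30) cK31) cK32) cK33) cK34) cK35) cK36) cK37) cK38) cK39) cK40) cK41) cK42) cK43) cK44) cK45) cK46) cK47) cK48) cK49) cK50) cK51) cK52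

end H10.Mon
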