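import Mathlib
import Cfsg.Agent.H10.MPh3
import Cfsg.Agent.H10.MPh4

/-! # The letters are elements of `GT`; the registers determine the vector -/

set_option autoImplicit false
set_option linter.all false

namespace H10.Mon

open Cfsg H9 H29 Matrix

theorem lt_all {p : Lt → Prop} (h : ∀ c < 53, p (lt c)) (c : ℕ) : p (lt c) := by
  by_cases hc : c < 53
  · exact h c hc
  · rw [lt, nth_default _ (le_trans (show ltL.length ≤ 53 from le_of_eq rfl) (not_lt.1 hc))]
    exact h 52 (by norm_num)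

theorem mv_ok : ∀ c, (mv c).ok = true := fun c => by
  unfold mv
  cases Nat.beq c 53
  · exact lt_all (p := fun L => L.mv.ok = true) (fun c hc => (and2_true.1 (cS_all c hc)).2) c
  · exact tauM_ok

theorem exists_gl (c : ℕ) : ∃ g : GT, co g = coM (lt c).M ∧ Cols (co g) (lt c).C ∧
    Real (lt c).mv (rho g) ∧
    (∀ u < 4096, ∀ v < 4096, nm g (dK u) (dK v) = sem (lt c).κ' (Pi.single v 1) u) ∧
    ∀ p < 98280, σP (lt c).σ p < 98280 ∧ cls p = co g • cls (σP (lt c).σ p) :=
  Lt.sound (lt_all (p := fun L => L.cA = true) cA_all c) (lt_all (p := fun L => L.cK = true) cK_all c)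
    (lt_all (p := fun L => L.cS = true) cS_all c)

/-- The element of the letter `c`. -/
noncomputable def gl (c : ℕ) : GT := (exists_gl c).choose

theorem lt_isCo (c : ℕ) : isCo (lt c).M = true :=
  (chkA_sound (lt_all (p := fun L => L.cA = true) cA_all c)).1
theorem lt_okσ (c : ℕ) : okP 98304 (lt c).σ = true :=
  (and2_true.1 (and2_true.1 (lt_all (p := fun L => L.cS = true) cS_all c)).1).1
theorem gl_co (c : ℕ) : co (gl c) = coM (lt c).M := (exists_gl c).choose_spec.1
theorem gl_cols (c : ℕ) : Cols (co (gl c)) (lt c).C := (exists_gl c).choose_spec.2.1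
theorem gl_real (c : ℕ) : Real (lt c).mv (rho (gl c)) := (exists_gl c).choose_spec.2.2.1
theorem gl_σ (c : ℕ) {p : ℕ} (hp : p < 98280) :
    σP (lt c).σ p < 98280 ∧ cls p = co (gl c) • cls (σP (lt c).σ p) :=
  (exists_gl c).choose_spec.2.2.2.2 p hp

theorem gl_nm (c : ℕ) {u v : ℕ} (hu : u < 4096) (hv : v < 4096) :
    nm (gl c) (dK u) (dK v) = sem (lt c).κ' (Pi.single v 1) u :=
  (exists_gl c).choose_spec.2.2.2.1 u hu v hv

theorem coM_hMI : coM hMI = 1 := by
  have h : isCo hMI = true := lt_isCo 52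
  refine hm_inj (Matrix.ext fun p q => ?_)
  rw [map_one, hm_apply, rv, coM_smul h (e8_eq _) (by rw [e8_coe, sqNorm_single]; norm_num),
    one_apply, show vc (app hMI (cE (ix q))) p = if p = q then 8 else 0 by
      revert p q; decide +kernel]
  split_ifs <;> simp

theorem gl_eq_qe {c t n : ℕ} (ht : t < 2) (h1 : (lt c).M = hMI)
    (h2 : and2 (okP 4096 (lt c).κ') (eqK (labK []) (tsts []) (lt c).κ' (xP t n)) = true) :
    gl c = qe (bt t 0) (dec n) := by
  obtain ⟨h2, h3⟩ := and2_true.1 h2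
  refine GT_ext (mat_ext_lK fun w => ?_) (by rw [gl_co, h1, coM_hMI, co_qe])
  rw [nm_qe, lK_xm ht, ← eqK_sound (π0 := []) rfl h2 (ok_xP _ _) h3, ← lK_mP h2]
  congr 2
  ext u v
  obtain ⟨u, hu, rfl⟩ := dK_surj u
  obtain ⟨v, hv, rfl⟩ := dK_surj v
  rw [gl_nm c hu hv, mP_apply _ hu hv]

theorem gl_Q {j : ℕ} (hj : j < 24) : gl (28 + j) = qe 0 (dec (2 ^ j)) := by
  have : allN 24 (fun j => and2 (okP 4096 (lt (Nat.add 28 j)).κ') (eqK (labK []) (tsts [])
    (lt (Nat.add 28 j)).κ' (xP 0 (Nat.pow 2 j)))) = true := by decide +kernel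
  exact gl_eq_qe (t := 0) (by norm_num) (by interval_cases j <;> rfl) (allN_true.1 this j hj)

theorem gl_Z : gl 52 = qe 1 0 := by
  rw [← dec_zero]
  exact gl_eq_qe (t := 1) (by norm_num) rfl (by decide +kernel)

/-- The positions (inside `F`) of the class number `n`. -/
noncomputable def matchP (F : ℕ) (Q : List ℕ) : ℕ → ℕ :=
  List.rec (motive := fun _ => ℕ → ℕ) (fun _ => F) (fun a _ ih n =>
    lit (Nat.shiftRight n 1) fun m =>
      Nat.land (Bool.rec (Nat.xor F a) a (Nat.beq (Nat.land n 1) 1)) (ih m)) Q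

theorem tb_matchP {F p : ℕ} (hF : F.testBit p = true) : ∀ (Q : List ℕ) (n : ℕ),
    (∀ j < Q.length, (nth 0 Q j).testBit p = n.testBit j) → (matchP F Q n).testBit p = true
  | [], _, _ => hF
  | a :: Q, n, h => by
    change Nat.testBit ((Bool.rec (F ^^^ a) a (Nat.beq (Nat.land (Nat.shiftRight n 0) 1) 1) : ℕ) &&&
      matchP F Q (n >>> 1)) p = true
    rw [Nat.testBit_and, tb_matchP hF Q _ fun j hj => by
      rw [Nat.testBit_shiftRight, add_comm]; exact h (j + 1) (by simpa using hj), bit_beq]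
    have : a.testBit p = n.testBit 0 := h 0 (by simp)
    cases hb : n.testBit 0 <;> simp_all

theorem match_cls {p n : ℕ} (hp : p < 98280) (h : cls p = dec n) :
    (matchP (ones 98280) CP n).testBit p = true :=
  tb_matchP (by simp [testBit_ones, hp]) _ _ fun j hj => by
    rw [← tb_cdv]; exact dec_bits ((dec_cdv _ _).trans h) j (CP_len ▸ hj)

/-- Closure of a set of positions under letters. -/
noncomputable def closeS (w : List ℕ) : ℕ → ℕ :=
  List.rec (motive := fun _ => ℕ → ℕ) (fun a => a)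
    (fun c _ ih a => seqN (Nat.lor a (pull (lt c).σ a)) ih) w

theorem closeS_sound {P : ℕ → Prop} : ∀ (w : List ℕ)
    (_ : ∀ c ∈ w, ∀ p < 98280, P (σP (lt c).σ p) → P p) (a : ℕ)
    (_ : ∀ p < 98280, a.testBit p = true → P p), ∀ p < 98280, (closeS w a).testBit p = true → P p
  | [], _, _, h => h
  | c :: w, h1, a, h2 => by
    change ∀ p < 98280, (seqN (a ||| pull (lt c).σ a) (closeS w)).testBit p = true → P p
    rw [seqN_eq]
    refine closeS_sound w (fun c hc => h1 c (List.mem_cons_of_mem _ hc)) _ fun p hp h => ?_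
    rw [Nat.testBit_or, Bool.or_eq_true, tb_pull (lt_okσ c)] at h
    exact h.elim (h2 p hp) fun h => h1 c List.mem_cons_self p hp (h2 _ (gl_σ c hp).1 h)

theorem cls_c0 : cls 97728 = c0.1 := by
  rw [cls, ← dec_cdv, c0_code]; decide +kernel

theorem c0_dec : c0.1 = dec 0xbe0 := by rw [c0_code]; decide +kernel

theorem cls_key {p : ℕ} (hp : p < 98280) : IsS (cls p) ∧ ∀ q < 98280, cls q = cls p → q = p := by
  refine closeS_sound (P := fun p => IsS (cls p) ∧ ∀ q < 98280, cls q = cls p → q = p)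
    [0, 3, 4, 5, 6, 0, 3, 16, 7, 21, 6, 5, 16, 1, 2, 3, 7, 16, 6, 22, 4, 1] ?_
    (Nat.shiftLeft 1 97728) ?_ p hp ?_
  · rintro c - p hp ⟨h1, h2⟩
    rw [(gl_σ c hp).2]
    refine ⟨h1.smul _, fun q hq e => σP_inj (lt_okσ c) (h2 _ (gl_σ c hq).1 ?_)⟩
    rwa [(gl_σ c hq).2, smul_left_cancel_iff] at e
  · intro p _ h
    rw [shl_eq, Nat.one_shiftLeft, Nat.testBit_two_pow, decide_eq_true_eq] at h
    subst h
    rw [cls_c0]
    refine ⟨c0.2, fun q hq e => ?_⟩
    have := match_cls hq (e.trans c0_dec)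
    rw [show matchP (ones 98280) CP 0xbe0 = Nat.shiftLeft 1 97728 from
      H29.beq_true.1 (by decide +kernel), shl_eq, Nat.one_shiftLeft, Nat.testBit_two_pow,
      decide_eq_true_eq] at this
    exact this.symm
  · rw [show closeS _ _ = ones 98280 from H29.beq_true.1 (by decide +kernel), testBit_ones]
    exact decide_eq_true hp

theorem cls_S {p : ℕ} (hp : p < 98280) : IsS (cls p) := (cls_key hp).1

theorem cls_inj {p q : ℕ} (hp : p < 98280) (hq : q < 98280) (h : cls p = cls q) : p = q :=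
  (cls_key hq).2 p hp h

theorem cls_surj (c : S) : ∃ p < 98280, cls p = c.1 := by
  obtain ⟨p, h⟩ := ((Fintype.bijective_iff_injective_and_card
    fun p : Fin 98280 => toS (cls p) (cls_S p.2)).2
      ⟨fun a b h => Fin.ext (cls_inj a.2 b.2 (congrArg Subtype.val h)),
        by rw [card_S, Fintype.card_fin]⟩).2 c
  exact ⟨p, p.2, congrArg Subtype.val h⟩

theorem Φ_inj : Function.Injective Φ := fun u v h => by
  refine U_ext (Matrix.ext fun p q => ?_) (funext fun c => ?_) (funext fun ⟨p, k⟩ => ?_)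
  · obtain ⟨i, hi, rfl⟩ := ro_surj p
    obtain ⟨j, hj, rfl⟩ := ro_surj q
    rw [← Φ_a' u hi hj, h, Φ_a' v hi hj]
  · obtain ⟨p, hp, e⟩ := cls_surj c
    have := congrFun (congrArg (fun x : R3 => x.2.1) h) p
    simp only [Φ_s, if_pos hp, e, fX_S] at this
    exact this
  · obtain ⟨i, hi, rfl⟩ := ro_surj p
    obtain ⟨j, hj, rfl⟩ := dK_surj k
    rw [← Φ_w' u hi hj, h, Φ_w' v hi hj]

theorem exists_Φ {x : R3} (hx : Good x) : ∃ v, Φ v = x := by
  choose ri r1 r2 using ro_surj
  choose ps p1 p2 using cls_surj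
  have r3 : ∀ i < 24, ri (ro i) = i := fun i hi => ro_inj (r1 _) hi (r2 _)
  refine ⟨mk (of fun p q => x.1 (ri p * 24 + ri q)) (fun c => x.2.1 (ps c))
    (fun p => x.2.2 (ri p.1 * 4096 + en p.2)), Prod.ext (funext fun p => ?_)
      (Prod.ext (funext fun p => ?_) (funext fun p => ?_))⟩
  · rw [Φ_a]
    split_ifs with hp
    · rw [mA_mk (by ext p q; exact hx.symm _ (r1 _) _ (r1 _)), of_apply, r3 _ (by omega),
        r3 _ (by omega), Nat.div_add_mod']
    · exact (hx.a p (not_lt.1 hp)).symm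
  · rw [Φ_s]
    split_ifs with hp
    · rw [fX, dif_pos (cls_S hp), fS_mk, cls_inj (p1 _) hp (p2 _)]
    · exact (hx.s p (not_lt.1 hp)).symm
  · rw [Φ_w]
    split_ifs with hp
    · rw [wW_mk, r3 _ (by omega), en_dK (by omega), Nat.div_add_mod']
    · exact (hx.w p (not_lt.1 hp)).symm

end H10.Mon
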