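import Mathlib
import Cfsg.Agent.H10.MPhi
import Cfsg.Agent.H26.MId2

/-! The triality element and words. -/

set_option autoImplicit false

namespace H10.Mon

open Cfsg H9 H29 Matrix

theorem exists_equiv {V W : Type*} [AddCommGroup V] [Module ℝ V] [AddCommGroup W] [Module ℝ W]
    {φ : V →ₗ[ℝ] W} (hφ : Function.Injective φ) (m : W →ₗ[ℝ] W) (h : ∀ v, ∃ u, φ u = m (φ v))
    (h3 : ∀ v, m (m (m (φ v))) = φ v) : ∃ τ : V ≃ₗ[ℝ] V, ∀ v, m (φ v) = φ (τ v) := by
  choose f hf using h
  let t : V →ₗ[ℝ] V :=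
    { toFun := f
      map_add' := fun u v => hφ (by rw [map_add, hf, hf, hf, map_add, map_add])
      map_smul' := fun a v => hφ (by rw [map_smul, hf, hf, map_smul, map_smul]; rfl) }
  have h4 : ∀ v, f (f (f v)) = v := fun v => hφ (by rw [hf, hf, hf, h3])
  exact ⟨LinearEquiv.ofLinear t (t ∘ₗ t) (LinearMap.ext h4) (LinearMap.ext h4), fun v => (hf v).symm⟩

theorem semW_three (m : ℕ → Mv) (c : ℕ) (x : R3) :
    semW m [c, c, c] x = (m c).sem ((m c).sem ((m c).sem x)) := rfl

theorem exists_tau : ∃ τ : U ≃ₗ[ℝ] U, Real tauM τ :=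
  exists_equiv Φ_inj tauM.sem (fun v => exists_Φ (Id.good_tau mv_ok (good_Φ v))) fun v => by
    have := Id.id_of_chk mv_ok Id.L_cube Id.T0_cube Id.T1_cube Id.T2_cube Id.T3_cube (good_Φ v)
    rw [semW_three, show mv 53 = tauM from rfl] at this
    exact this

/-- The triality element. -/
noncomputable def tau : U ≃ₗ[ℝ] U := exists_tau.choose

theorem real_tau : Real tauM tau := exists_tau.choose_spec

/-- The operator of a letter. -/
noncomputable def el (c : ℕ) : U ≃ₗ[ℝ] U := if c = 53 then tau else rho (gl c)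

/-- The operator of a word; the first letter acts first. -/
noncomputable def wd : List ℕ → (U ≃ₗ[ℝ] U)
  | [] => 1
  | c :: w => wd w * el c

theorem real_el (c : ℕ) : Real (mv c) (el c) := by
  unfold mv el
  by_cases h : c = 53
  · subst h; exact real_tau
  · rw [if_neg h, show Nat.beq c 53 = false from Bool.eq_false_iff.2 (mt H29.beq_true.1 h)]
    exact gl_real c

theorem Φ_wd : ∀ (w : List ℕ) (v : U), Φ (wd w v) = semW mv w (Φ v)
  | [], _ => rfl
  | c :: w, v => by
    rw [wd, LinearEquiv.mul_apply, Φ_wd w, ← real_el c v]; rfl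

theorem wd_append : ∀ u w : List ℕ, wd (u ++ w) = wd w * wd u
  | [], _ => (mul_one _).symm
  | c :: u, w => by rw [List.cons_append, wd, wd, wd_append u w, mul_assoc]

theorem Φ_run {w : List ℕ} {x : St} {u : U} (hu : Φ u = x.val) :
    Φ (wd w u) = (runW mv w x).val := by rw [Φ_wd, val_runW mv_ok, hu]

theorem wd_run {w : List ℕ} {x y : St} {u v : U} (hu : Φ u = x.val) (hv : Φ v = y.val)
    (h : (runW mv w x).beq y = true) : wd w u = v :=
  Φ_inj (by rw [Φ_run hu, St.eq_of_beq h, hv])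

theorem wd_mem : ∀ w : List ℕ, wd w ∈ MM tau
  | [] => one_mem _
  | c :: w => mul_mem (wd_mem w) (by
    unfold el; split_ifs
    · exact Subgroup.mem_sup_right (Subgroup.mem_zpowers _)
    · exact Subgroup.mem_sup_left ⟨_, rfl⟩)

end H10.Mon
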