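import Mathlib
import Cfsg.Agent.H10.MTau
import Cfsg.Agent.H10.MGen

/-! The operator identities. -/

set_option autoImplicit false
set_option linter.all false
set_option maxRecDepth 100000

namespace H10.Mon

open Cfsg H9 H29 Matrix

theorem wd_eq_of_chk {u v : List ℕ} (hL : Id.chkL u v = true) (h0 : Id.chkT u v 0 16 = true)
    (h1 : Id.chkT u v 16 16 = true) (h2 : Id.chkT u v 32 16 = true)
    (h3 : Id.chkT u v 48 16 = true) : wd u = wd v :=
  LinearEquiv.ext fun x => Φ_inj (by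
    rw [Φ_wd, Φ_wd]; exact Id.id_of_chk mv_ok hL h0 h1 h2 h3 (good_Φ x))

theorem el_tau : el 53 = tau := if_pos rfl

theorem el_ne {c : ℕ} (h : c ≠ 53) : el c = rho (gl c) := if_neg h

theorem el_Q {j : ℕ} (hj : j < 24) : el (28 + j) = rho (qe 0 (dec (2 ^ j))) := by
  rw [el_ne (by omega), gl_Q hj]

theorem el_zz : el 52 = zz := by rw [el_ne (by norm_num), gl_Z, zz]

theorem el_xO : el 39 = xO := by rw [xO, ← dec_Om]; exact el_Q (j := 11) (by norm_num)

theorem wd_GG : ∀ {w : List ℕ}, 53 ∉ w → wd w ∈ GG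
  | [], _ => one_mem _
  | c :: w, h => mul_mem (wd_GG fun e => h (List.mem_cons_of_mem _ e))
    ⟨gl c, (el_ne fun e => h (e ▸ List.mem_cons_self)).symm⟩

theorem conj_of_wd {c : ℕ} {w : List ℕ} (h : wd [c, 53] = wd (53 :: w)) :
    tau * el c * tau⁻¹ = wd w := by
  simp only [wd, one_mul, el_tau] at h
  rw [h, mul_inv_cancel_right]

theorem wd_one (c : ℕ) : wd [c] = el c := one_mul _

theorem co_of_e8 {M : List ℕ} (h : isCo M = true) {σ : M24} {o : GC}
    (e : ∀ q p, vc (app M (cE (ix q))) p = if p = (σ : Equiv.Perm P) q then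
      (if p ∈ o.1 then -8 else 8) else 0) : coM M = mono σ o :=
  hm_inj (Matrix.ext fun p q => by
    rw [hm_apply, hm_apply, rv, rv, coM_smul h (e8_eq _) (by rw [e8_coe, sqNorm_single]; norm_num),
      mono_e8, e, Pi.single_apply]
    split_ifs with h1 h2 h3 h3 <;> simp_all)

theorem co_perm {i c : ℕ} (hc : c ∈ g24) (e : ∀ q p, vc (app (lt i).M (cE (ix q))) p =
    if p = pt (dig c (ix q)) then 8 else 0) :
    ∃ σ : M24, (σ : Equiv.Perm P) = H9.pm c ∧ co (gl i) = permHom σ :=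
  ⟨⟨H9.pm c, (gi24' c hc).2⟩, rfl, by
    rw [gl_co, permHom_apply]
    exact co_of_e8 (lt_isCo i) fun q p => by
      rw [e]; simp [gc0, H9.pm_apply (gi24' c hc).1]⟩

theorem o16_mem : ofMask 0x7dbfd0 ∈ GC := mem_GC_of_isCw (by decide +kernel)

theorem co_y0 : co (gl 17) = mono 1 ⟨_, o16_mem⟩ := by
  rw [gl_co]
  refine co_of_e8 (lt_isCo 17) ?_
  simp only [OneMemClass.coe_one, Equiv.Perm.one_apply, mem_ofMask]
  decide +kernel

theorem Φ_of {v : U} {x : St} (ha : ∀ p < 576, mA v (ro (p / 24)) (ro (p % 24)) = x.a.val p)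
    (hs : ∀ p < 98280, fX v (cls p) = x.s.val p) (hw : wW v = 0) (h1 : x.a.P.nz >>> 576 = 0)
    (h2 : x.s.P.nz >>> 98280 = 0) (h3 : x.w.P.nz = 0) : Φ v = x.val := by
  refine Prod.ext (funext fun p => ?_) (Prod.ext (funext fun p => ?_) (funext fun p => ?_))
  · rw [Φ_a]
    split_ifs with hp
    · exact ha p hp
    · exact (Vec.val_nz (tb_zero h1 (not_lt.1 hp))).symm
  · rw [Φ_s]
    split_ifs with hp
    · exact hs p hp
    · exact (Vec.val_nz (tb_zero h2 (not_lt.1 hp))).symm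
  · rw [Φ_w, hw]
    exact Eq.trans (by simp) (Vec.val_nz (v := x.w) (by rw [h3, Nat.zero_testBit])).symm

/-- The registers of `one`. -/
noncomputable def stOne : St :=
  ⟨⟨0, .cons (Nat.div (ones 600) (ones 25)) (.sgn 0)⟩, ⟨0, .sgn 0⟩, ⟨0, .sgn 0⟩⟩

theorem Φ_one : Φ one = stOne.val := by
  refine Φ_of (fun p hp => ?_) (fun p hp => ?_) rfl (by decide +kernel) rfl rfl
  · have : ∀ p < 576, (Pl.cons (Nat.div (ones 600) (ones 25)) (.sgn 0)).val p =
        if ro (p / 24) = ro (p % 24) then 1 else 0 := by decide +kernel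
    rw [one, mA_mk transpose_one, one_apply]
    simp only [stOne, Vec.val, this p hp]
    split_ifs <;> simp
  · rw [fX, dif_pos (cls_S hp), one, fS_mk]
    simp [stOne, Vec.val, Pl.val, bz]

theorem tau_conj {c : ℕ} {w : List ℕ} (hc : c ≠ 53) (hw : 53 ∉ w) (h : wd [c, 53] = wd (53 :: w)) :
    tau * rho (gl c) * tau⁻¹ ∈ GG := by
  rw [← el_ne hc, conj_of_wd h]; exact wd_GG hw

theorem tau_e0 : tau * rho (qe 0 (dec 4096)) * tau⁻¹ = rho (gl 17) := by
  rw [← el_ne (by norm_num), ← wd_one, ← conj_of_wd (c := 40)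
    (wd_eq_of_chk Id.L_e0 Id.T0_e0 Id.T1_e0 Id.T2_e0 Id.T3_e0)]
  exact congrArg (tau * · * tau⁻¹) (el_Q (j := 12) (by norm_num)).symm

theorem wd_κ : wd [41, 44, 46, 51] = rho (qe 0 (dec 0x852000)) := by
  have e1 := el_Q (j := 13) (by norm_num)
  have e2 := el_Q (j := 16) (by norm_num)
  have e3 := el_Q (j := 18) (by norm_num)
  have e4 := el_Q (j := 23) (by norm_num)
  simp only [wd, one_mul]
  rw [e1, e2, e3, e4, ← map_mul, ← map_mul, ← map_mul, qe_mul, qe_mul, qe_mul]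
  congr 2 <;> decide +kernel

theorem pre_tau : Pre tau where
  cube := by
    have := wd_eq_of_chk Id.L_cube Id.T0_cube Id.T1_cube Id.T2_cube Id.T3_cube
    simp only [wd, one_mul, el_tau] at this
    rw [pow_three', this]
  zz_conj := by
    rw [← el_zz, conj_of_wd (wd_eq_of_chk Id.L_zz Id.T0_zz Id.T1_zz Id.T2_zz Id.T3_zz), wd_one, el_xO]
  xO_conj := by
    rw [← el_xO, conj_of_wd (wd_eq_of_chk Id.L_xo Id.T0_xo Id.T1_xo Id.T2_xo Id.T3_xo), ← el_zz]
    simp only [wd, one_mul]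
  inv := ⟨dec 0x852000, by decide +kernel, by
    have := wd_eq_of_chk Id.L_inv Id.T0_inv Id.T1_inv Id.T2_inv Id.T3_inv
    rw [show [53, 41, 44, 46, 51, 53] = [53] ++ ([41, 44, 46, 51] ++ [53]) from rfl, wd_append,
      wd_append, wd_one, el_tau, wd_κ] at this
    rw [mul_inv_eq_iff_eq_mul, eq_inv_mul_iff_mul_eq, ← mul_assoc, this]⟩
  perm c hc := by
    have hc' := hc
    simp only [g24, List.mem_cons, List.not_mem_nil, or_false] at hc'
    rcases hc' with rfl | rfl | rfl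
    · obtain ⟨σ, h1, h2⟩ := co_perm (i := 0) hc (by decide +kernel)
      exact ⟨_, σ, h1, h2, tau_conj (by norm_num) (by decide)
        (wd_eq_of_chk Id.L_p0 Id.T0_p0 Id.T1_p0 Id.T2_p0 Id.T3_p0)⟩
    · obtain ⟨σ, h1, h2⟩ := co_perm (i := 1) hc (by decide +kernel)
      exact ⟨_, σ, h1, h2, tau_conj (by norm_num) (by decide)
        (wd_eq_of_chk Id.L_p1 Id.T0_p1 Id.T1_p1 Id.T2_p1 Id.T3_p1)⟩
    · obtain ⟨σ, h1, h2⟩ := co_perm (i := 2) hc (by decide +kernel)
      exact ⟨_, σ, h1, h2, tau_conj (by norm_num) (by decide)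
        (wd_eq_of_chk Id.L_p2 Id.T0_p2 Id.T1_p2 Id.T2_p2 Id.T3_p2)⟩
  oct := ⟨gl 17, ⟨_, o16_mem⟩, Or.inr (by rw [card_ofMask]; decide +kernel), co_y0,
    tau_conj (by norm_num) (by decide) (wd_eq_of_chk Id.L_y0 Id.T0_y0 Id.T1_y0 Id.T2_y0 Id.T3_y0)⟩
  xo := by
    rw [kap_eL, show ((Pi.single 0 1, 0) : C) = dec 4096 by decide +kernel, tau_e0]
    exact ⟨_, rfl⟩
  one := by
    rw [← el_tau, ← wd_one]
    exact wd_run Φ_one Φ_one (by decide +kernel)

/-- The registers of the axis `ax t c0` (`t = 0, 1`), in the normal form produced by `runW`. -/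
noncomputable def stAx (t : ℕ) : St :=
  ⟨⟨0, .cons 0 (.cons 0x3000003 (.sgn 0x1000002))⟩,
    ⟨0, .cons 0 (.cons 0 (Bool.rec (.sgn (Nat.shiftLeft 1 97728))
      (.cons (Nat.shiftLeft 1 97728) (.sgn 0)) (Nat.beq t 0)))⟩, ⟨0, .sgn 0⟩⟩

theorem ax_a (t : ZMod 2) (k : ℕ) {p : ℕ} (hp : p < 576) :
    mA (ax t c0) (ro (p / 24)) (ro (p % 24)) = (stAx k).a.val p := by
  have : ∀ p < 576, vc cU' (ro (p / 24)) * vc cU' (ro (p % 24)) =
      8 * (Pl.cons 0 (.cons 0x3000003 (.sgn 0x1000002))).val p := by decide +kernel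
  rw [ax, mA_mk (pm_symm _), pm_eq norm_vU' c0_val.symm, Matrix.smul_apply, vecMulVec_apply, rv, rv, vU'_eq,
    ← Int.cast_mul, this p hp]
  simp [stAx, Vec.val]

theorem ax_s (t : ZMod 2) {p : ℕ} (hp : p < 98280) :
    fX (ax t c0) (cls p) = if 97728 = p then 4 * sg t else 0 := by
  rw [fX, dif_pos (cls_S hp), ax, fS_mk, Pi.single_apply]
  refine if_congr ⟨fun h => cls_inj (by norm_num) hp ?_, fun h => Subtype.ext ?_⟩ rfl rfl
  · rw [cls_c0, ← h]; rfl
  · rw [← cls_c0, h]; rfl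

theorem bz_pt (p : ℕ) : bz (Nat.shiftLeft 1 97728) p = if 97728 = p then 1 else 0 := by
  simp only [bz, shl_eq, Nat.one_shiftLeft, Nat.testBit_two_pow, decide_eq_true_eq]

theorem Φ_ax0 : Φ (ax 0 c0) = (stAx 0).val := by
  refine Φ_of (fun p hp => ax_a 0 0 hp) (fun p hp => ?_) rfl (by decide +kernel) (by decide +kernel) rfl
  have : (stAx 0).s.val p = ((bz 0 p + 2 * (bz 0 p + 2 * (bz (Nat.shiftLeft 1 97728) p +
    2 * -bz 0 p)) : ℤ) : ℝ) / 2 ^ 0 := rfl
  rw [ax_s 0 hp, this, bz_pt]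
  split_ifs <;> simp [bz] <;> norm_num

theorem Φ_ax1 : Φ (ax 1 c0) = (stAx 1).val := by
  refine Φ_of (fun p hp => ax_a 1 1 hp) (fun p hp => ?_) rfl (by decide +kernel) (by decide +kernel) rfl
  have : (stAx 1).s.val p = ((bz 0 p + 2 * (bz 0 p + 2 * -bz (Nat.shiftLeft 1 97728) p) : ℤ) : ℝ) /
    2 ^ 0 := rfl
  rw [ax_s 1 hp, this, bz_pt]
  split_ifs <;> simp [bz] <;> norm_num

theorem tau_fix : tau (ax 1 c0) = ax 1 c0 := by
  rw [← el_tau, ← wd_one]
  exact wd_run Φ_ax1 Φ_ax1 (by decide +kernel)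

theorem tau_out : ∃ (c : C) (g : GT), bb c c0.1 + bb c0.1 c = 0 ∧
    tau * rho (qe 0 c) * tau⁻¹ = rho g ∧ co g ∉ Subgroup.center G0 := by
  refine ⟨dec 4096, gl 17, by rw [c0_dec]; decide +kernel, tau_e0, ?_⟩
  rw [mem_center_G0, co_y0, ← mono_one, neg1_eq]
  rintro (h | h) <;> have := congrArg (fun o : GC => o.1.card) (mono_inj h).2
  · simp only [card_ofMask, gc0, Finset.card_empty] at this
    revert this; decide +kernel
  · simp only [card_ofMask, Finset.card_univ] at this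
    revert this; decide +kernel

end H10.Mon
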