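import Mathlib
import Cfsg.Agent.H10.MRel
import Cfsg.Agent.H10.MInv
import Cfsg.Agent.H19.MF2
import Cfsg.Agent.H19.MFA
import Cfsg.Agent.H19.MFT
import Cfsg.Agent.H19.MFX

/-! # The triality element preserves the algebra. -/

set_option autoImplicit false

namespace H10.Mon

open Cfsg H9 H29 Matrix MF

theorem tau_aut : tau ∈ Aut := by
  obtain ⟨bB, hB⟩ := Sx.exists_S sxB_chk
  obtain ⟨bT, hT⟩ := Sx.exists_S sxT_chk
  obtain ⟨bX, hX⟩ := Sx.exists_S sxX_chk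
  exact pre_tau.aut (by rw [hB]; decide +kernel) (by rw [hT]; decide +kernel)
    (by rw [hX]; decide +kernel) (chk_of sxB_chk rsB_chk wsB_chk hB)
    (chk_of sxT_chk rsT_chk wsT_chk hT) (chk_of sxX_chk rsX_chk wsX_chk hX)
    (aaa_of taB_chk rsB_chk tAA_chk hB) (xyz_of sxX_chk xyz_chk hX)

theorem tri_tau : Tri tau :=
  ⟨tau_aut, pre_tau.cube, pre_tau.zz_conj, pre_tau.xO_conj,
    let ⟨c, _, h⟩ := pre_tau.inv; ⟨c, h⟩, tau_out, tau_fix⟩

end H10.Mon
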