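import Mathlib
import Cfsg.Agent.H10.MD6
import Cfsg.Agent.H10.MFchk
import Cfsg.Agent.H26.MCom

/-!
# Pairs of axes: values, transport along links, base cases
-/

set_option autoImplicit false
set_option linter.all false

namespace H10.Mon

open Cfsg H9 H29 Matrix

/-! ### Values -/

noncomputable def trA (a : Vec) : ℤ := 2 * (a.P.val 0 - a.P.val 1 - a.P.val 24 + a.P.val 25)

noncomputable def bChk (x : St) (v0 v1 : ℕ) : Bool :=
  St.rec (fun a s _ => and2
    (decide ((trA a * 2 ^ s.e + 4 * s.P.val 97728 * 2 ^ a.e) * 4096 = v0 * (2 ^ a.e * 2 ^ s.e)))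
    (decide ((trA a * 2 ^ s.e - 4 * s.P.val 97728 * 2 ^ a.e) * 4096 = v1 * (2 ^ a.e * 2 ^ s.e)))) x

theorem pm_c0 {i j : ℕ} (hi : i < 24) (hj : j < 24) : pm c0 (ro i) (ro j) =
    if i < 2 ∧ j < 2 then (if i = j then 2 else -2) else 0 := by
  have e : ∀ i < 24, ∀ j < 24, (Pl.cons 0 (.cons 0x3000003 (.sgn 0x1000002))).val (i * 24 + j) =
      if i < 2 ∧ j < 2 then (if i = j then 2 else -2) else 0 := by decide +kernel
  have := ax_a 0 0 (show i * 24 + j < 576 by omega)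
  rw [show (i * 24 + j) / 24 = i by omega, show (i * 24 + j) % 24 = j by omega, mA_ax] at this
  rw [this]
  change ((Pl.val (.cons 0 (.cons 0x3000003 (.sgn 0x1000002))) _ : ℤ) : ℝ) / 2 ^ 0 = _
  rw [e i hi j hj]
  split_ifs <;> norm_num

theorem B_c0 {u : U} {x : St} (h : Φ u = x.val) (t : ZMod 2) : B (ax t c0) u =
    2 * (x.a.val 0 - x.a.val 1 - x.a.val 24 + x.a.val 25) + 4 * sg t * x.s.val 97728 := by
  have ea : x.a.val = (Φ u).1 := by rw [h]; rfl
  have es : x.s.val = (Φ u).2.1 := by rw [h]; rfl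
  have e : ∀ i < 24, ∑ j ∈ Finset.range 24, pm c0 (ro i) (ro j) * mA u (ro j) (ro i) =
      if i < 2 then pm c0 (ro i) (ro 0) * mA u (ro 0) (ro i) + pm c0 (ro i) (ro 1) * mA u (ro 1) (ro i)
      else 0 := fun i hi => by
    rw [show 24 = 2 + 22 from rfl, Finset.sum_range_add, Finset.sum_eq_zero (s := Finset.range 22)
      fun j hj => by
        have := Finset.mem_range.1 hj
        rw [pm_c0 hi (by omega), if_neg (by omega), zero_mul], add_zero, Finset.sum_range_succ,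
      Finset.sum_range_one]
    split_ifs with h2
    · rfl
    · rw [pm_c0 hi (by omega), pm_c0 hi (by omega), if_neg (by omega), if_neg (by omega)]; ring
  rw [B_ax, es, Φ_s, if_pos (by norm_num), cls_c0, fX_S, trace, sum_ro]
  congr 1
  rw [Finset.sum_congr rfl fun i hi => by
      rw [diag_apply, mul_apply, sum_ro, e i (Finset.mem_range.1 hi)],
    show 24 = 2 + 22 from rfl, Finset.sum_range_add, Finset.sum_eq_zero (s := Finset.range 22)
      fun j _ => if_neg (by omega), add_zero, Finset.sum_range_succ, Finset.sum_range_one,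
    if_pos (by norm_num), if_pos (by norm_num), ea,
    show (Φ u).1 0 = _ from Φ_a' u (i := 0) (j := 0) (by norm_num) (by norm_num),
    show (Φ u).1 1 = _ from Φ_a' u (i := 0) (j := 1) (by norm_num) (by norm_num),
    show (Φ u).1 24 = _ from Φ_a' u (i := 1) (j := 0) (by norm_num) (by norm_num),
    show (Φ u).1 25 = _ from Φ_a' u (i := 1) (j := 1) (by norm_num) (by norm_num),
    pm_c0 (by norm_num) (by norm_num), pm_c0 (by norm_num) (by norm_num),
    pm_c0 (by norm_num) (by norm_num), pm_c0 (by norm_num) (by norm_num)]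
  norm_num
  ring

theorem bChk_true {u : U} {x : St} (h : Φ u = x.val) {v0 v1 : ℕ} (hb : bChk x v0 v1 = true) :
    B (ax 0 c0) u = v0 / 4096 ∧ B (ax 1 c0) u = v1 / 4096 := by
  rw [B_c0 h, B_c0 h]
  obtain ⟨a, s, w⟩ := x
  obtain ⟨h0, h1⟩ := and2_true.1 hb
  have k0 := congrArg (Int.cast : ℤ → ℝ) (of_decide_eq_true h0)
  have k1 := congrArg (Int.cast : ℤ → ℝ) (of_decide_eq_true h1)
  simp only [trA] at k0 k1
  push_cast at k0 k1
  simp only [Vec.val, sg_zero, sg_one]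
  have p1 : (2 : ℝ) ^ a.e ≠ 0 := by positivity
  have p2 : (2 : ℝ) ^ s.e ≠ 0 := by positivity
  constructor
  · field_simp; linear_combination k0
  · field_simp; linear_combination k1

theorem z2_or (s t : ZMod 2) : s = t ∨ s = t + 1 := by revert s t; decide

theorem ax_back (g : GT) (c : S) {x : S} (h : x.1 = co g • c.1) (s : ZMod 2) :
    ∃ t, ax s x = rho g (ax t c) :=
  ⟨s + ep g c.1, by rw [rho_ax, add_assoc, two_zmod, add_zero, show x = co g • c from Subtype.ext h]⟩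

/-- The two values of a short class. -/
def VL (i n v0 v1 : ℕ) : Prop := ∃ x : S, x.1 = dec n ∧ ∃ t, B (ax t x) (av i) = v0 / 4096 ∧
  B (ax (t + 1) x) (av i) = v1 / 4096

noncomputable def vChk (i : ℕ) (w : List ℕ) (n v0 v1 : ℕ) : Bool :=
  and2 (noT w) (and2 (Nat.beq (apL w n) 0xbe0) (bChk (runW mv w (rt i)) v0 v1))

theorem VL.of {i : ℕ} (w : List ℕ) {n v0 v1 : ℕ} (h : vChk i w n v0 v1 = true) : VL i n v0 v1 := by
  simp only [vChk, and2_true, H29.beq_true] at h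
  obtain ⟨h1, h2, h3⟩ := h
  obtain ⟨b0, b1⟩ := bChk_true (Φ_run (w := w) (Φ_av i)) h3
  have e : co (gw w) • dec n = c0.1 := by rw [← dec_apL, h2, c0_dec]
  have e' : ((co (gw w))⁻¹ • c0).1 = dec n := inv_smul_eq_iff.2 e.symm
  refine ⟨(co (gw w))⁻¹ • c0, e', ep (gw w) (dec n), ?_, ?_⟩
  · rw [← B_rho (gw w), rho_ax, e', two_zmod, smul_inv_smul, ← wd_gw h1, b0]
  · rw [← B_rho (gw w), rho_ax, e', add_right_comm, two_zmod, zero_add, smul_inv_smul, ← wd_gw h1, b1]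

/-- The property holds for the axes over a class with a given value. -/
def PV (i n b : ℕ) : Prop := ∀ x : S, x.1 = dec n → ∀ s, B (ax s x) (av i) = b / 4096 →
  Pr tau (ax s x) (av i)

theorem VL.cases {i n v0 v1 : ℕ} (h : VL i n v0 v1) {x : S} (hx : x.1 = dec n) (s : ZMod 2) :
    B (ax s x) (av i) = v0 / 4096 ∨ B (ax s x) (av i) = v1 / 4096 := by
  obtain ⟨y, hy, t, h0, h1⟩ := h
  obtain rfl : x = y := Subtype.ext (hx.trans hy.symm)
  rcases z2_or s t with rfl | rfl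
  exacts [Or.inl h0, Or.inr h1]

theorem div_inj {a b : ℕ} (h : (a : ℝ) / 4096 = b / 4096) : a = b := by
  rw [div_left_inj' (by norm_num)] at h; exact_mod_cast h

theorem PV.vac {i n v0 v1 b : ℕ} (h : VL i n v0 v1) (h0 : b ≠ v0) (h1 : b ≠ v1) : PV i n b :=
  fun _ hx s e => by
    rcases h.cases hx s with k | k
    exacts [absurd (div_inj (e.symm.trans k)) h0, absurd (div_inj (e.symm.trans k)) h1]

/-- What the cover needs from a seed. -/
def SO (i : ℕ) (s : ℕ × ℕ) : Prop :=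
  s.1 < 3 → ∃ c : S, c.1 = dec s.2 ∧ ZN (av i) c s.1 ∧ ∀ t, Pr tau (ax t c) (av i)

theorem SO.big {i l n : ℕ} (h : Nat.ble 3 l = true) : SO i (l, n) := fun k =>
  absurd (H29.ble_true.1 h) (not_le.2 k)

theorem SO.of {i l n v0 v1 : ℕ} (h : VL i n v0 v1) (p0 : PV i n v0) (p1 : PV i n v1)
    (hl : l = (if v0 = 0 then 1 else 0) + (if v1 = 0 then 1 else 0)) : SO i (l, n) := fun _ => by
  have h' := h
  obtain ⟨x, hx, t, h0, h1⟩ := h
  have z : ∀ {v : ℕ}, (v : ℝ) / 4096 = 0 ↔ v = 0 := by simp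
  refine ⟨x, hx, ?_, fun s => (h'.cases hx s).elim (p0 x hx s) (p1 x hx s)⟩
  subst hl
  by_cases e0 : v0 = 0 <;> by_cases e1 : v1 = 0 <;> simp only [e0, e1, if_true, if_false]
  · intro s; rcases h'.cases hx s with k | k <;> rw [k, z] <;> assumption
  · exact ⟨t, by rw [h0, z, e0], by rw [h1, Ne, z]; exact e1⟩
  · exact ⟨t + 1, by rw [h1, z, e1], by rw [add_assoc, two_zmod, add_zero, h0, Ne, z]; exact e0⟩
  · intro s; rcases h'.cases hx s with k | k <;> rw [k, Ne, z] <;> assumption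

/-! ### Transport -/

def Gen (i : ℕ) : Prop := ∀ A ∈ tgA i, ∃ t ∈ Stb (av i), Cols (co t) A

noncomputable def apT (i : ℕ) (w : List ℕ) : ℕ → ℕ :=
  List.rec (motive := fun _ => ℕ → ℕ) (fun n => n)
    (fun k _ ih n => lit (apC (nth hCI (tgA i) k) n) ih) w

theorem Gen.apT {i : ℕ} (h : Gen i) : ∀ (w : List ℕ) (n : ℕ),
    ∃ t ∈ Stb (av i), dec (apT i w n) = co t • dec n
  | [], n => ⟨1, one_mem _, by rw [map_one, one_smul]; rfl⟩
  | k :: w, n => by
    obtain ⟨t, h1, h2⟩ := nth_forall (p := fun A => ∃ t ∈ Stb (av i), Cols (co t) A) (d := hCI)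
      ⟨1, one_mem _, by rw [map_one]; exact cols_one⟩ h k
    obtain ⟨u, h3, h4⟩ := Gen.apT h w (apC (nth hCI (tgA i) k) n)
    exact ⟨u * t, mul_mem h3 h1, by rw [map_mul, mul_smul, ← h2.ap]; exact h4⟩

theorem PV.mv {i n b : ℕ} (h : Gen i) (p : PV i n b) (w : List ℕ) : PV i (apT i w n) b :=
  fun x hx s e => by
    obtain ⟨t, h1, h2⟩ := h.apT w n
    have e' : ((co t)⁻¹ • x).1 = dec n := inv_smul_eq_iff.2 (hx.trans h2)
    obtain ⟨r, hr⟩ := ax_back t ((co t)⁻¹ • x) (x := x) (by rw [e', hx, h2]) s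
    rw [hr, ← mem_Stb.1 h1] at e ⊢
    rw [B_rho] at e
    exact (Pr.map tri_tau (rho_mem_MM _ t)).2 (p _ e' r e)

/-! ### The four axes permuted by `τ` -/

noncomputable def c1 : S := co (gl 22) • c0

theorem wd22 (v : U) : wd [22] v = rho (gl 22) v := by rw [wd_one, el_ne (by norm_num)]

theorem c1_dec : c1.1 = dec 0x3e0 := by
  change co (gl 22) • c0.1 = _
  rw [c0_dec, ← (gl_cols 22).ap]
  exact congrArg dec (H29.beq_true.1 (by decide +kernel))

theorem tau_a : tau (ax 0 c0) = rho (gl 22) (ax 1 c0) := by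
  rw [← wd22, ← el_tau, ← wd_one]
  exact wd_run Φ_ax0 (Φ_run Φ_ax1) (by decide +kernel)

theorem tau_b : tau (rho (gl 22) (ax 1 c0)) = rho (gl 22) (ax 0 c0) := by
  rw [← wd22, ← wd22, ← el_tau, ← wd_one]
  exact wd_run (Φ_run Φ_ax1) (Φ_run Φ_ax0) (by decide +kernel)

theorem tau_c : tau (rho (gl 22) (ax 0 c0)) = ax 0 c0 := by
  rw [← wd22, ← el_tau, ← wd_one]
  exact wd_run (Φ_run Φ_ax0) Φ_ax0 (by decide +kernel)

def T4 (x : U) : Prop := ∃ s, x = ax s c0 ∨ x = ax s c1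

theorem T4.tau {x : U} : T4 x → T4 (tau x) := by
  rintro ⟨s, rfl | rfl⟩
  · rcases z2 s with rfl | rfl
    · exact ⟨_, Or.inr (by rw [tau_a, rho_ax]; rfl)⟩
    · exact ⟨_, Or.inl tau_fix⟩
  · obtain ⟨t, ht⟩ := ax_back (gl 22) c0 (x := c1) rfl s
    rw [ht]
    rcases z2 t with rfl | rfl
    · exact ⟨_, Or.inl tau_c⟩
    · exact ⟨_, Or.inr (by rw [tau_b, rho_ax]; rfl)⟩

theorem T4.pow {x : U} (h : T4 x) : ∀ e : ℕ, T4 ((H10.Mon.tau ^ e) x)
  | 0 => h
  | e + 1 => by rw [pow_succ']; exact (h.pow e).tau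

noncomputable def lo3 (u : List ℕ) : Bool := H29.allL u fun c => Nat.ble c 2

theorem tau_gw : ∀ {u : List ℕ}, lo3 u = true → Commute tau (rho (gw u))
  | [], _ => by rw [gw, map_one]; exact Commute.one_right _
  | c :: u, h => by
    have h1 := H29.ble_true.1 (allL_cons.1 h).1
    rw [gw, map_mul]
    exact (tau_gw (allL_cons.1 h).2).mul_right (tau_comm (by omega))

theorem PV.link0 {d : TD} (hd : d.Ok) {e e' : ℕ} (he : e < 3) (he' : e' < 3) {u : List ℕ}
    (hu : lo3 u = true) {n0 n1 n b : ℕ} (r0 : d.rel e (apL u 0xbe0) n0 = true)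
    (r1 : d.rel e (apL u 0x3e0) n1 = true)
    (r : d.rel e' (apL u 0xbe0) n = true ∨ d.rel e' (apL u 0x3e0) n = true)
    (p0 : PV (nth 0 d.i e) n0 b) (p1 : PV (nth 0 d.i e) n1 b) : PV (nth 0 d.i e') n b := by
  intro x hx s hb
  have k0 := TD.rel_true r0
  have k1 := TD.rel_true r1
  rw [dec_apL, ← c0_dec, ← mul_smul, ← map_mul] at k0
  rw [dec_apL, ← c1_dec, ← mul_smul, ← map_mul] at k1
  obtain ⟨y, hy, e1⟩ : ∃ y, T4 y ∧ ax s x = rho (d.k e' * gw u) y := by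
    rcases r with r | r
    · have k := TD.rel_true r
      rw [dec_apL, ← c0_dec, ← mul_smul, ← map_mul, ← hx] at k
      obtain ⟨t, ht⟩ := ax_back _ _ k.symm s
      exact ⟨_, ⟨t, Or.inl rfl⟩, ht⟩
    · have k := TD.rel_true r
      rw [dec_apL, ← c1_dec, ← mul_smul, ← map_mul, ← hx] at k
      obtain ⟨t, ht⟩ := ax_back _ _ k.symm s
      exact ⟨_, ⟨t, Or.inr rfl⟩, ht⟩
  set m := rho (d.k e) * tau ^ (e + 2 * e') * rho (d.k e')⁻¹ with hm
  have mM : m ∈ MM tau := mul_mem (mul_mem (rho_mem_MM _ _) (pow_mem (tau_mem_MM _) _)) (rho_mem_MM _ _)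
  have m1 : m (av (nth 0 d.i e')) = av (nth 0 d.i e) := by
    rw [← hd.root e' he', ← hd.root e he, hm, LinearEquiv.mul_apply, LinearEquiv.mul_apply,
      rho_inv_apply, ← LinearEquiv.mul_apply (tau ^ _), ← pow_add,
      show e + 2 * e' + e' = e + 3 * e' by ring, pow_add, pow_mul, tri_tau.cube, one_pow, mul_one]
  have m2 : m (ax s x) = rho (d.k e * gw u) ((tau ^ (e + 2 * e')) y) := by
    rw [e1, hm, map_mul, map_mul, LinearEquiv.mul_apply, LinearEquiv.mul_apply, LinearEquiv.mul_apply,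
      rho_inv_apply, ← LinearEquiv.mul_apply (tau ^ _), ((tau_gw hu).pow_left _).eq]
    rfl
  rw [← (MM_le_Aut tri_tau mM).1, m1, m2] at hb
  rw [← Pr.map tri_tau mM, m1, m2]
  obtain ⟨t, ht | ht⟩ := hy.pow (e + 2 * e') <;> rw [ht, rho_ax] at hb ⊢
  exacts [p0 _ k0 _ hb, p1 _ k1 _ hb]

/-- The data of a link: triple, two positions, tetrad, and three words in the stabilisers. -/
noncomputable def lChk (j e e' : ℕ) (u : List ℕ) (i s0 s1 : ℕ) (w0 w1 : List ℕ) (i' n : ℕ)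
    (w : List ℕ) (s : ℕ) : Bool :=
  and2 (and2 (Nat.ble e 2) (Nat.ble e' 2)) (and2 (lo3 u)
    (and2 (and2 (Nat.beq (nth 0 (td j).i e) i) (Nat.beq (nth 0 (td j).i e') i'))
    (and2 ((td j).rel e (apL u 0xbe0) (apT i w0 s0)) (and2 ((td j).rel e (apL u 0x3e0) (apT i w1 s1))
    (and2 ((td j).rel e' (apL u 0xbe0) n || (td j).rel e' (apL u 0x3e0) n)
      (Nat.beq (apT i' w n) s))))))

theorem PV.link {j : ℕ} (hd : (td j).Ok) (e e' : ℕ) (u : List ℕ) {i s0 s1 : ℕ} (w0 w1 : List ℕ)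
    {i' : ℕ} (n : ℕ) (w : List ℕ) {s b : ℕ} (g : Gen i) (g' : Gen i') (p0 : PV i s0 b)
    (p1 : PV i s1 b) (h : lChk j e e' u i s0 s1 w0 w1 i' n w s = true) : PV i' s b := by
  simp only [lChk, and2_true, H29.beq_true, H29.ble_true, Bool.or_eq_true] at h
  obtain ⟨⟨a1, a2⟩, a3, ⟨rfl, rfl⟩, a4, a5, a6, rfl⟩ := h
  exact (PV.link0 hd (by omega) (by omega) a3 a4 a5 a6 (p0.mv g w0) (p1.mv g w1)).mv g' w

/-! ### Base cases -/

theorem av_zero : av 0 = ax 1 c0 :=
  Φ_inj (by rw [Φ_av, Φ_ax1, St.eq_of_beq (x := rt 0) (y := stAx 1) (by decide +kernel)])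

theorem PV.nz {n b : ℕ} (h : b ≠ 0) : PV 0 n b := fun x _ s e => by
  rw [av_zero] at e ⊢
  exact pr_ax tri_tau s x fun k => absurd (div_inj (by rw [← e, k]; simp)) h

theorem PV.c0 : PV 0 0xbe0 0 := fun x hx s e => by
  obtain rfl : x = H10.Mon.c0 := Subtype.ext (hx.trans c0_dec.symm)
  rw [av_zero] at e ⊢
  refine pr_ax tri_tau s _ fun k => ⟨0, ?_⟩
  rcases z2 s with rfl | rfl
  · rfl
  · rw [(bChk_true (v0 := 0) (v1 := 131072) Φ_ax1 (by decide +kernel)).2] at k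
    norm_num at k

theorem PV.c1 : PV 0 0x3e0 0 := fun x hx s _ => by
  obtain rfl : x = H10.Mon.c1 := Subtype.ext (hx.trans c1_dec.symm)
  rw [av_zero]
  refine pr_ax tri_tau s _ fun _ => ?_
  obtain ⟨t, ht⟩ := ax_back (gl 22) H10.Mon.c0 (x := H10.Mon.c1) rfl s
  rw [ht]
  rcases z2 t with rfl | rfl
  · exact ⟨1, by rw [pow_one, tau_c]⟩
  · exact ⟨2, by rw [sq, LinearEquiv.mul_apply, tau_b, tau_c]⟩

def qA : List ℕ := [33, 34, 35, 36, 37, 39]

theorem wd_qA : wd qA = tv 1 c0 := by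
  have e1 := el_Q (j := 5) (by norm_num)
  have e2 := el_Q (j := 6) (by norm_num)
  have e3 := el_Q (j := 7) (by norm_num)
  have e4 := el_Q (j := 8) (by norm_num)
  have e5 := el_Q (j := 9) (by norm_num)
  have e6 := el_Q (j := 11) (by norm_num)
  simp only [qA, wd, one_mul]
  rw [e1, e2, e3, e4, e5, e6, ← map_mul, ← map_mul, ← map_mul, ← map_mul, ← map_mul, qe_mul, qe_mul,
    qe_mul, qe_mul, qe_mul, tv, c0_dec]
  congr 2 <;> decide +kernel

theorem wd_qB : wd (52 :: qA) = tv 0 c0 := by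
  rw [wd, wd_qA, el_zz, zz, tv, tv, ← map_mul, qe_mul, bb_zero_right, add_zero, add_zero, two_zmod,
    zero_add, add_zero]

noncomputable def St.frc (x : St) (k : St → Bool) : Bool := St.rec (fun a s w => k ⟨a, s, w⟩) x

theorem St.frc_eq (x : St) (k : St → Bool) : x.frc k = k x := by cases x; rfl

/-- Applies the involution of the axis `wd m (ax 1 c0)`; the word `m'` proposes the preimage. -/
noncomputable def invo (m m' : List ℕ) (x : St) (k : St → Bool) : Bool :=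
  (runW mv m' x).frc fun y => and2 ((runW mv m y).beq x) ((runW mv m (runW mv qA y)).frc k)

theorem invo_true {m m' : List ℕ} {x : St} {k : St → Bool} (h : invo m m' x k = true) {v : U}
    (hv : Φ v = x.val) : ∃ y, Φ ((wd m * tv 1 c0 * (wd m)⁻¹) v) = y.val ∧ k y = true := by
  rw [invo, St.frc_eq, and2_true, St.frc_eq] at h
  have e := wd_run (Φ_run (w := m') hv) hv h.1
  refine ⟨_, ?_, h.2⟩
  rw [← Φ_run (Φ_run (Φ_run hv)), wd_qA]
  conv_lhs => rw [← e]
  rw [LinearEquiv.mul_apply, LinearEquiv.mul_apply, ← LinearEquiv.mul_apply _ (wd m), inv_mul_cancel]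
  rfl

noncomputable def oChk (m m' q : List ℕ) (x : St) (k1 k2 : Bool) (v : ℕ) : Bool :=
  (runW mv m (stAx 1)).frc fun y => and2 (bChk y (v + 1) (v + 1)) ((runW mv q y).frc fun z =>
    invo m m' (Bool.rec x z k1) fun a => Bool.rec (a.beq z)
      ((runW mv q a).frc fun b => invo m m' b fun c => c.beq z) k2)

theorem oChk_true {m m' q : List ℕ} {x : St} {k1 k2 : Bool} {v : ℕ} {t : ZMod 2}
    (hq : wd q = tv t c0) (hx : Φ (ax t c0) = x.val) (h : oChk m m' q x k1 k2 v = true) :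
    Pr tau (ax t c0) (wd m (ax 1 c0)) := by
  rw [oChk, St.frc_eq, and2_true, St.frc_eq] at h
  have hy := Φ_run (w := m) Φ_ax1
  have hz := Φ_run (w := q) hy
  obtain ⟨b0, b1⟩ := bChk_true hy h.1
  have h2 := h.2
  rw [hq] at hz
  refine pr_of_ord tri_tau (wd_mem m) rfl rfl ?_ ?_
  · rcases z2 t with rfl | rfl
    · rw [b0]; positivity
    · rw [b1]; positivity
  have fin : ∀ {a : St} {u : U}, Φ u = a.val → a.beq (runW mv q (runW mv m (stAx 1))) = true →
      u = tv t c0 (wd m (ax 1 c0)) := fun h1 h2 => Φ_inj (by rw [h1, St.eq_of_beq h2, hz])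
  have two : ∀ {a : St} {u : U}, Φ u = a.val → ((runW mv q a).frc fun b => invo m m' b fun c =>
      c.beq (runW mv q (runW mv m (stAx 1)))) = true →
      (wd m * tv 1 c0 * (wd m)⁻¹) (tv t c0 u) = tv t c0 (wd m (ax 1 c0)) := fun h1 h2 => by
    rw [St.frc_eq] at h2
    obtain ⟨y, e1, e2⟩ := invo_true h2 (hq ▸ Φ_run (w := q) h1)
    exact fin e1 e2
  cases k1 <;> cases k2
  · obtain ⟨y, e1, e2⟩ := invo_true h2 hx; exact Or.inl (fin e1 e2)
  · obtain ⟨y, e1, e2⟩ := invo_true h2 hx; exact Or.inr (Or.inr (Or.inl (two e1 e2)))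
  · obtain ⟨y, e1, e2⟩ := invo_true h2 hz; exact Or.inr (Or.inl (fin e1 e2))
  · obtain ⟨y, e1, e2⟩ := invo_true h2 hz; exact Or.inr (Or.inr (Or.inr (two e1 e2)))

noncomputable def rChk (m r : List ℕ) (i n : ℕ) : Bool :=
  and2 (noT r) (and2 (Nat.beq (apL r 0xbe0) n) ((runW mv r (runW mv m (stAx 1))).beq (rt i)))

theorem PV.base {m m' r : List ℕ} {k1 k2 : Bool} {v i n : ℕ} (b : ℕ)
    (h0 : oChk m m' (52 :: qA) (stAx 0) k1 k2 v = true) (h1 : oChk m m' qA (stAx 1) k1 k2 v = true)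
    (hr : rChk m r i n = true) : PV i n b := fun x hx s _ => by
  simp only [rChk, and2_true, H29.beq_true] at hr
  obtain ⟨r1, r2, r3⟩ := hr
  obtain ⟨t, ht⟩ := ax_back (gw r) H10.Mon.c0 (x := x) (by rw [hx, ← r2, dec_apL, c0_dec]) s
  rw [ht, ← wd_run (Φ_run Φ_ax1) (Φ_av i) r3, wd_gw r1, Pr.map tri_tau (rho_mem_MM _ _)]
  rcases z2 t with rfl | rfl
  exacts [oChk_true wd_qB Φ_ax0 h0, oChk_true wd_qA Φ_ax1 h1]

end H10.Mon
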