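import Mathlib
import Cfsg.Agent.H10.MPair

/-! The values at the seeds. -/

set_option autoImplicit false
set_option linter.all false
set_option maxRecDepth 100000
set_option Elab.async false

namespace H10.Mon

theorem vl0_0 : VL 0 992 0 0 := VL.of [22] (by decide +kernel)
theorem vl0_1 : VL 0 2791 16384 16384 := VL.of [17, 10, 1, 0] (by decide +kernel)
theorem vl0_2 : VL 0 3040 0 131072 := VL.of [] (by decide +kernel)
theorem vl0_3 : VL 0 218181 4096 4096 := VL.of [12, 5, 16, 2, 15] (by decide +kernel)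
theorem vl1_0 : VL 1 1328 0 0 := VL.of [21, 2, 4] (by decide +kernel)
theorem vl1_1 : VL 1 3642 4096 4096 := VL.of [18, 0, 13] (by decide +kernel)
theorem vl1_2 : VL 1 3872 0 16384 := VL.of [22, 0, 5] (by decide +kernel)
theorem vl1_3 : VL 1 1601542 2048 2048 := VL.of [5, 4, 22, 16, 0] (by decide +kernel)
theorem vl2_0 : VL 2 1328 0 4096 := VL.of [21, 2, 4] (by decide +kernel)
theorem vl2_1 : VL 2 263 4096 16384 := VL.of [17, 10, 8] (by decide +kernel)
theorem vl2_2 : VL 2 226360 4096 4096 := VL.of [14, 2, 16, 6] (by decide +kernel)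
theorem vl2_3 : VL 2 4588168 2048 2048 := VL.of [0, 16, 10, 1, 4] (by decide +kernel)
theorem vl2_4 : VL 2 16437400 2560 2560 := VL.of [5, 22, 16, 6, 16, 4] (by decide +kernel)
theorem vl2_5 : VL 2 16439711 6656 6656 := VL.of [25, 16, 4, 16, 12] (by decide +kernel)
theorem vl3_0 : VL 3 1464 2048 2048 := VL.of [20, 15, 8, 4] (by decide +kernel)
theorem vl3_1 : VL 3 1328 4096 2048 := VL.of [21, 2, 4] (by decide +kernel)
theorem vl3_2 : VL 3 2791 4096 4096 := VL.of [17, 10, 1, 0] (by decide +kernel)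
theorem vl3_3 : VL 3 2720 0 2048 := VL.of [16, 21, 11] (by decide +kernel)
theorem vl3_4 : VL 3 1887 4096 2048 := VL.of [17, 15, 14] (by decide +kernel)
theorem vl3_5 : VL 3 3040 2048 16384 := VL.of [] (by decide +kernel)
theorem vl3_6 : VL 3 7820306 6656 2560 := VL.of [8, 3, 16, 11, 4] (by decide +kernel)
theorem vl3_7 : VL 3 4611277 2560 2560 := VL.of [17, 2, 11, 16, 15, 0] (by decide +kernel)
theorem vl3_8 : VL 3 1538084 2560 2560 := VL.of [6, 10, 27, 16, 0] (by decide +kernel)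
theorem vl3_9 : VL 3 218181 3072 3072 := VL.of [12, 5, 16, 2, 15] (by decide +kernel)
theorem vl4_0 : VL 4 2952 2048 4096 := VL.of [20, 12] (by decide +kernel)
theorem vl4_1 : VL 4 1328 2048 2048 := VL.of [21, 2, 4] (by decide +kernel)
theorem vl4_2 : VL 4 1680 4096 4096 := VL.of [21, 11] (by decide +kernel)
theorem vl4_3 : VL 4 2720 0 4096 := VL.of [16, 21, 11] (by decide +kernel)
theorem vl4_4 : VL 4 4588168 2560 2560 := VL.of [0, 16, 10, 1, 4] (by decide +kernel)
theorem vl4_5 : VL 4 226360 3072 3072 := VL.of [14, 2, 16, 6] (by decide +kernel)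
theorem vl4_6 : VL 4 2788494 2048 2048 := VL.of [3, 21, 12, 16, 5] (by decide +kernel)
theorem vl5_0 : VL 5 1328 2048 2560 := VL.of [21, 2, 4] (by decide +kernel)
theorem vl5_1 : VL 5 375 4096 2560 := VL.of [17, 4, 3, 3] (by decide +kernel)
theorem vl5_2 : VL 5 2791 6656 4096 := VL.of [17, 10, 1, 0] (by decide +kernel)
theorem vl5_3 : VL 5 992 2560 16384 := VL.of [22] (by decide +kernel)
theorem vl5_4 : VL 5 2160 0 6656 := VL.of [21, 8, 8] (by decide +kernel)
theorem vl5_5 : VL 5 1523615 4096 4096 := VL.of [5, 1, 13, 16, 3] (by decide +kernel)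
theorem vl5_6 : VL 5 5715611 2560 2560 := VL.of [20, 11, 12, 16, 4] (by decide +kernel)
theorem vl5_7 : VL 5 218181 3072 3072 := VL.of [12, 5, 16, 2, 15] (by decide +kernel)
theorem vl5_8 : VL 5 225631 2560 2560 := VL.of [14, 4, 2, 16, 6] (by decide +kernel)
theorem vl6_0 : VL 6 1257 2048 2560 := VL.of [17, 10, 3, 3] (by decide +kernel)
theorem vl6_1 : VL 6 1328 2048 2560 := VL.of [21, 2, 4] (by decide +kernel)
theorem vl6_2 : VL 6 3289 4096 2560 := VL.of [3, 16, 22] (by decide +kernel)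
theorem vl6_3 : VL 6 3072 4096 2560 := VL.of [27, 14] (by decide +kernel)
theorem vl6_4 : VL 6 1454 6656 2048 := VL.of [8, 16, 22] (by decide +kernel)
theorem vl6_5 : VL 6 2544 0 2560 := VL.of [21, 5, 8] (by decide +kernel)
theorem vl6_6 : VL 6 5839424 3072 3072 := VL.of [2, 21, 16, 6, 5] (by decide +kernel)
theorem vl6_7 : VL 6 5839406 2560 2560 := VL.of [23, 2, 16, 8, 6] (by decide +kernel)
theorem vl6_8 : VL 6 4588168 2560 2560 := VL.of [0, 16, 10, 1, 4] (by decide +kernel)
theorem vl6_9 : VL 6 218181 2560 3072 := VL.of [12, 5, 16, 2, 15] (by decide +kernel)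
theorem vl6_10 : VL 6 4588161 2048 2048 := VL.of [25, 0, 16, 4, 0] (by decide +kernel)
theorem vl7_0 : VL 7 2952 2560 2560 := VL.of [20, 12] (by decide +kernel)
theorem vl7_1 : VL 7 1328 2048 2048 := VL.of [21, 2, 4] (by decide +kernel)
theorem vl7_2 : VL 7 284 4096 4096 := VL.of [19, 12, 10, 0] (by decide +kernel)
theorem vl7_3 : VL 7 660 6656 2560 := VL.of [19, 0, 0, 5] (by decide +kernel)
theorem vl7_4 : VL 7 1168 2048 4096 := VL.of [21, 13, 3] (by decide +kernel)
theorem vl7_5 : VL 7 1470540 3072 2560 := VL.of [11, 21, 16, 7, 0] (by decide +kernel)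
theorem vl7_6 : VL 7 4588168 2560 2560 := VL.of [0, 16, 10, 1, 4] (by decide +kernel)
theorem vl7_7 : VL 7 8371778 2560 4096 := VL.of [10, 13, 2, 16, 6] (by decide +kernel)
theorem vl7_8 : VL 7 1523615 3072 3072 := VL.of [5, 1, 13, 16, 3] (by decide +kernel)
theorem vl7_9 : VL 7 31104 2048 2560 := VL.of [16, 10, 1, 4] (by decide +kernel)
theorem vl7_10 : VL 7 4611277 2560 3072 := VL.of [17, 2, 11, 16, 15, 0] (by decide +kernel)
theorem vl7_11 : VL 7 16437400 2560 2560 := VL.of [5, 22, 16, 6, 16, 4] (by decide +kernel)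
theorem vl7_12 : VL 7 16438032 2560 3072 := VL.of [16, 7, 8, 5, 16, 0] (by decide +kernel)
theorem vl7_13 : VL 7 16439684 3072 4096 := VL.of [14, 16, 5, 16, 1, 3] (by decide +kernel)
theorem vl8_0 : VL 8 2952 2560 2560 := VL.of [20, 12] (by decide +kernel)
theorem vl8_1 : VL 8 1328 3072 3072 := VL.of [21, 2, 4] (by decide +kernel)
theorem vl8_2 : VL 8 1680 2048 2048 := VL.of [21, 11] (by decide +kernel)
theorem vl8_3 : VL 8 2720 4096 2048 := VL.of [16, 21, 11] (by decide +kernel)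
theorem vl8_4 : VL 8 4588168 2560 3072 := VL.of [0, 16, 10, 1, 4] (by decide +kernel)
theorem vl9_0 : VL 9 1328 3072 2048 := VL.of [21, 2, 4] (by decide +kernel)
theorem vl9_1 : VL 9 1257 2560 2560 := VL.of [17, 10, 3, 3] (by decide +kernel)
theorem vl9_2 : VL 9 1296 2560 3072 := VL.of [21, 4, 14] (by decide +kernel)
theorem vl9_3 : VL 9 2521 4096 2560 := VL.of [17, 11, 6, 0] (by decide +kernel)
theorem vl9_4 : VL 9 1520 6656 3072 := VL.of [10, 14, 0] (by decide +kernel)
theorem vl9_5 : VL 9 3568 3072 0 := VL.of [21, 10, 14, 0] (by decide +kernel)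
theorem vl9_6 : VL 9 5838894 2560 2048 := VL.of [2, 16, 6] (by decide +kernel)
theorem vl9_7 : VL 9 219826 4096 3072 := VL.of [1, 4, 5, 16, 3] (by decide +kernel)
theorem vl9_8 : VL 9 218296 2560 2560 := VL.of [3, 8, 16, 12] (by decide +kernel)
theorem vl9_9 : VL 9 4590092 3072 3072 := VL.of [26, 0, 16, 4, 0] (by decide +kernel)
theorem vl9_10 : VL 9 4588168 2560 2560 := VL.of [0, 16, 10, 1, 4] (by decide +kernel)
theorem vl9_11 : VL 9 4589572 4096 4096 := VL.of [0, 22, 16, 4, 0] (by decide +kernel)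
theorem vl10_0 : VL 10 1328 2560 2560 := VL.of [21, 2, 4] (by decide +kernel)
theorem vl10_1 : VL 10 3642 2560 3072 := VL.of [18, 0, 13] (by decide +kernel)
theorem vl10_2 : VL 10 1464 3072 2048 := VL.of [20, 15, 8, 4] (by decide +kernel)
theorem vl10_3 : VL 10 263 2560 4096 := VL.of [17, 10, 8] (by decide +kernel)
theorem vl10_4 : VL 10 2928 4096 3072 := VL.of [21, 15, 1, 0] (by decide +kernel)
theorem vl10_5 : VL 10 3872 2048 3072 := VL.of [22, 0, 5] (by decide +kernel)
theorem vl10_6 : VL 10 1626 2560 2048 := VL.of [18, 12, 0] (by decide +kernel)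
theorem vl10_7 : VL 10 8121296 3072 3072 := VL.of [2, 22, 16, 2, 0] (by decide +kernel)
theorem vl10_8 : VL 10 8121597 2560 2560 := VL.of [2, 26, 16, 2, 0] (by decide +kernel)
theorem vl10_9 : VL 10 3183780 2048 3072 := VL.of [8, 3, 4, 16, 15, 0] (by decide +kernel)
theorem vl10_10 : VL 10 5715611 2560 3072 := VL.of [20, 11, 12, 16, 4] (by decide +kernel)
theorem vl10_11 : VL 10 1601542 2560 2560 := VL.of [5, 4, 22, 16, 0] (by decide +kernel)
theorem vl11_0 : VL 11 1464 2560 2560 := VL.of [20, 15, 8, 4] (by decide +kernel)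
theorem vl11_1 : VL 11 1040 2560 2048 := VL.of [21, 12, 2, 0] (by decide +kernel)
theorem vl11_2 : VL 11 1328 2560 2560 := VL.of [21, 2, 4] (by decide +kernel)
theorem vl11_3 : VL 11 2184 3072 2560 := VL.of [20, 12, 7, 0] (by decide +kernel)
theorem vl11_4 : VL 11 1900 2560 3072 := VL.of [19, 3, 3, 3] (by decide +kernel)
theorem vl11_5 : VL 11 176 2560 4096 := VL.of [21, 10, 6, 0] (by decide +kernel)
theorem vl11_6 : VL 11 2772 3072 3072 := VL.of [19, 3, 14, 0] (by decide +kernel)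
theorem vl11_7 : VL 11 2652 4096 2048 := VL.of [19, 2, 2, 7] (by decide +kernel)
theorem vl11_8 : VL 11 2209 2560 4096 := VL.of [17, 15, 3, 0] (by decide +kernel)
theorem vl11_9 : VL 11 2080 2048 2560 := VL.of [22, 5, 1, 4] (by decide +kernel)
theorem vl11_10 : VL 11 31104 2560 2560 := VL.of [16, 10, 1, 4] (by decide +kernel)
theorem vl11_11 : VL 11 16708838 4096 3072 := VL.of [16, 3, 15, 17, 16, 0] (by decide +kernel)
theorem vl11_12 : VL 11 29752 3072 2560 := VL.of [26, 21, 16, 6, 8] (by decide +kernel)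
theorem vl11_13 : VL 11 16765792 3072 2048 := VL.of [17, 1, 16, 10, 16, 3] (by decide +kernel)
theorem vl11_14 : VL 11 30520 2560 2560 := VL.of [2, 23, 14, 16, 7] (by decide +kernel)
theorem vl11_15 : VL 11 31360 2560 2048 := VL.of [16, 6, 2, 6] (by decide +kernel)
theorem vl11_16 : VL 11 226360 3072 2560 := VL.of [14, 2, 16, 6] (by decide +kernel)
theorem vl11_17 : VL 11 16571984 4096 2560 := VL.of [21, 16, 4, 16, 14, 4] (by decide +kernel)
theorem vl11_18 : VL 11 4588168 2560 2560 := VL.of [0, 16, 10, 1, 4] (by decide +kernel)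
theorem vl11_19 : VL 11 1995288 3072 3072 := VL.of [14, 10, 16, 14, 12] (by decide +kernel)
theorem vl11_20 : VL 11 5896792 2560 6656 := VL.of [0, 0, 16, 3] (by decide +kernel)

end H10.Mon
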