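import Mathlib
import Cfsg.Agent.H10.MD6

/-! Kernel checks of the stabiliser generators and of the norms of the roots. -/

set_option autoImplicit false
set_option linter.all false
set_option maxRecDepth 100000
set_option Elab.async false

namespace H10.Mon

theorem tgc0_0 : chkT 0 (H29.nth [] gW0 0) (H29.nth [] gA0 0) = true := by decide +kernel
theorem tgc0_1 : chkT 0 (H29.nth [] gW0 1) (H29.nth [] gA0 1) = true := by decide +kernel
theorem tgc0_2 : chkT 0 (H29.nth [] gW0 2) (H29.nth [] gA0 2) = true := by decide +kernel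
theorem tgc1_0 : chkT 1 (H29.nth [] gW1 0) (H29.nth [] gA1 0) = true := by decide +kernel
theorem tgc1_1 : chkT 1 (H29.nth [] gW1 1) (H29.nth [] gA1 1) = true := by decide +kernel
theorem tgc1_2 : chkT 1 (H29.nth [] gW1 2) (H29.nth [] gA1 2) = true := by decide +kernel
theorem tgc1_3 : chkT 1 (H29.nth [] gW1 3) (H29.nth [] gA1 3) = true := by decide +kernel
theorem tgc1_4 : chkT 1 (H29.nth [] gW1 4) (H29.nth [] gA1 4) = true := by decide +kernel
theorem tgc2_0 : chkT 2 (H29.nth [] gW2 0) (H29.nth [] gA2 0) = true := by decide +kernel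
theorem tgc2_1 : chkT 2 (H29.nth [] gW2 1) (H29.nth [] gA2 1) = true := by decide +kernel
theorem tgc2_2 : chkT 2 (H29.nth [] gW2 2) (H29.nth [] gA2 2) = true := by decide +kernel
theorem tgc3_0 : chkT 3 (H29.nth [] gW3 0) (H29.nth [] gA3 0) = true := by decide +kernel
theorem tgc3_1 : chkT 3 (H29.nth [] gW3 1) (H29.nth [] gA3 1) = true := by decide +kernel
theorem tgc4_0 : chkT 4 (H29.nth [] gW4 0) (H29.nth [] gA4 0) = true := by decide +kernel
theorem tgc4_1 : chkT 4 (H29.nth [] gW4 1) (H29.nth [] gA4 1) = true := by decide +kernel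
theorem tgc5_0 : chkT 5 (H29.nth [] gW5 0) (H29.nth [] gA5 0) = true := by decide +kernel
theorem tgc5_1 : chkT 5 (H29.nth [] gW5 1) (H29.nth [] gA5 1) = true := by decide +kernel
theorem tgc6_0 : chkT 6 (H29.nth [] gW6 0) (H29.nth [] gA6 0) = true := by decide +kernel
theorem tgc6_1 : chkT 6 (H29.nth [] gW6 1) (H29.nth [] gA6 1) = true := by decide +kernel
theorem tgc7_0 : chkT 7 (H29.nth [] gW7 0) (H29.nth [] gA7 0) = true := by decide +kernel
theorem tgc7_1 : chkT 7 (H29.nth [] gW7 1) (H29.nth [] gA7 1) = true := by decide +kernel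
theorem tgc7_2 : chkT 7 (H29.nth [] gW7 2) (H29.nth [] gA7 2) = true := by decide +kernel
theorem tgc8_0 : chkT 8 (H29.nth [] gW8 0) (H29.nth [] gA8 0) = true := by decide +kernel
theorem tgc8_1 : chkT 8 (H29.nth [] gW8 1) (H29.nth [] gA8 1) = true := by decide +kernel
theorem tgc9_0 : chkT 9 (H29.nth [] gW9 0) (H29.nth [] gA9 0) = true := by decide +kernel
theorem tgc9_1 : chkT 9 (H29.nth [] gW9 1) (H29.nth [] gA9 1) = true := by decide +kernel
theorem tgc10_0 : chkT 10 (H29.nth [] gW10 0) (H29.nth [] gA10 0) = true := by decide +kernel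
theorem tgc10_1 : chkT 10 (H29.nth [] gW10 1) (H29.nth [] gA10 1) = true := by decide +kernel
theorem tgc11_0 : chkT 11 (H29.nth [] gW11 0) (H29.nth [] gA11 0) = true := by decide +kernel
theorem tgc11_1 : chkT 11 (H29.nth [] gW11 1) (H29.nth [] gA11 1) = true := by decide +kernel

end H10.Mon
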