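import Mathlib
import Cfsg.Agent.H10.MPair
import Cfsg.Agent.H10.MK4

/-! The base cases. -/

set_option autoImplicit false
set_option linter.all false
set_option maxRecDepth 100000
set_option Elab.async false

namespace H10.Mon

theorem gen0 : Gen 0 := by
  intro A hA
  simp only [tgA, gA0, H29.nth_eq, List.getD_cons_succ, List.getD_cons_zero, List.mem_cons, List.not_mem_nil, or_false] at hA
  rcases hA with rfl | rfl | rfl
  exacts [chkT_true tgc0_0, chkT_true tgc0_1, chkT_true tgc0_2]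

theorem gen1 : Gen 1 := by
  intro A hA
  simp only [tgA, gA1, H29.nth_eq, List.getD_cons_succ, List.getD_cons_zero, List.mem_cons, List.not_mem_nil, or_false] at hA
  rcases hA with rfl | rfl | rfl | rfl | rfl
  exacts [chkT_true tgc1_0, chkT_true tgc1_1, chkT_true tgc1_2, chkT_true tgc1_3, chkT_true tgc1_4]

theorem gen2 : Gen 2 := by
  intro A hA
  simp only [tgA, gA2, H29.nth_eq, List.getD_cons_succ, List.getD_cons_zero, List.mem_cons, List.not_mem_nil, or_false] at hA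
  rcases hA with rfl | rfl | rfl
  exacts [chkT_true tgc2_0, chkT_true tgc2_1, chkT_true tgc2_2]

theorem gen3 : Gen 3 := by
  intro A hA
  simp only [tgA, gA3, H29.nth_eq, List.getD_cons_succ, List.getD_cons_zero, List.mem_cons, List.not_mem_nil, or_false] at hA
  rcases hA with rfl | rfl
  exacts [chkT_true tgc3_0, chkT_true tgc3_1]

theorem gen4 : Gen 4 := by
  intro A hA
  simp only [tgA, gA4, H29.nth_eq, List.getD_cons_succ, List.getD_cons_zero, List.mem_cons, List.not_mem_nil, or_false] at hA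
  rcases hA with rfl | rfl
  exacts [chkT_true tgc4_0, chkT_true tgc4_1]

theorem gen5 : Gen 5 := by
  intro A hA
  simp only [tgA, gA5, H29.nth_eq, List.getD_cons_succ, List.getD_cons_zero, List.mem_cons, List.not_mem_nil, or_false] at hA
  rcases hA with rfl | rfl
  exacts [chkT_true tgc5_0, chkT_true tgc5_1]

theorem gen6 : Gen 6 := by
  intro A hA
  simp only [tgA, gA6, H29.nth_eq, List.getD_cons_succ, List.getD_cons_zero, List.mem_cons, List.not_mem_nil, or_false] at hA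
  rcases hA with rfl | rfl
  exacts [chkT_true tgc6_0, chkT_true tgc6_1]

theorem gen7 : Gen 7 := by
  intro A hA
  simp only [tgA, gA7, H29.nth_eq, List.getD_cons_succ, List.getD_cons_zero, List.mem_cons, List.not_mem_nil, or_false] at hA
  rcases hA with rfl | rfl | rfl
  exacts [chkT_true tgc7_0, chkT_true tgc7_1, chkT_true tgc7_2]

theorem gen8 : Gen 8 := by
  intro A hA
  simp only [tgA, gA8, H29.nth_eq, List.getD_cons_succ, List.getD_cons_zero, List.mem_cons, List.not_mem_nil, or_false] at hA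
  rcases hA with rfl | rfl
  exacts [chkT_true tgc8_0, chkT_true tgc8_1]

theorem gen9 : Gen 9 := by
  intro A hA
  simp only [tgA, gA9, H29.nth_eq, List.getD_cons_succ, List.getD_cons_zero, List.mem_cons, List.not_mem_nil, or_false] at hA
  rcases hA with rfl | rfl
  exacts [chkT_true tgc9_0, chkT_true tgc9_1]

theorem gen10 : Gen 10 := by
  intro A hA
  simp only [tgA, gA10, H29.nth_eq, List.getD_cons_succ, List.getD_cons_zero, List.mem_cons, List.not_mem_nil, or_false] at hA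
  rcases hA with rfl | rfl
  exacts [chkT_true tgc10_0, chkT_true tgc10_1]

theorem gen11 : Gen 11 := by
  intro A hA
  simp only [tgA, gA11, H29.nth_eq, List.getD_cons_succ, List.getD_cons_zero, List.mem_cons, List.not_mem_nil, or_false] at hA
  rcases hA with rfl | rfl
  exacts [chkT_true tgc11_0, chkT_true tgc11_1]

theorem oc2_4_0 : oChk [4, 16, 1, 16, 53, 16, 15, 16, 3]
  [11, 16, 7, 16, 53, 53, 16, 9, 16, 12] (52 :: qA) (stAx 0) true true 2559 = true := by
  decide +kernel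
theorem oc2_4_1 : oChk [4, 16, 1, 16, 53, 16, 15, 16, 3]
  [11, 16, 7, 16, 53, 53, 16, 9, 16, 12] qA (stAx 1) true true 2559 = true := by
  decide +kernel
theorem bs2_4 (b : ℕ) : PV 2 16437400 b :=
  (PV.base (r := [11, 16, 7, 16, 9, 11, 41, 43, 44, 46, 47, 50, 52]) (n := 13347157) b oc2_4_0 oc2_4_1
    (by decide +kernel)).mv gen2 [1, 1, 2, 2, 2, 0, 2, 2, 0, 2, 1]

theorem oc2_3_0 : oChk [4, 16, 1, 16, 53, 16, 0]
  [8, 16, 53, 53, 16, 9, 16, 12] (52 :: qA) (stAx 0) true false 2047 = true := by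
  decide +kernel
theorem oc2_3_1 : oChk [4, 16, 1, 16, 53, 16, 0]
  [8, 16, 53, 53, 16, 9, 16, 12] qA (stAx 1) true false 2047 = true := by
  decide +kernel
theorem bs2_3 (b : ℕ) : PV 2 4588168 b :=
  (PV.base (r := [8, 16, 9, 11, 41, 43, 44, 46, 47, 50, 52]) (n := 5000958) b oc2_3_0 oc2_3_1
    (by decide +kernel)).mv gen2 [2, 2, 1, 0, 2, 1, 1, 2, 2]

theorem oc2_5_0 : oChk [4, 16, 1, 16, 53, 16, 1, 16, 12]
  [4, 16, 9, 16, 53, 53, 16, 9, 16, 12] (52 :: qA) (stAx 0) false false 6655 = true := by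
  decide +kernel
theorem oc2_5_1 : oChk [4, 16, 1, 16, 53, 16, 1, 16, 12]
  [4, 16, 9, 16, 53, 53, 16, 9, 16, 12] qA (stAx 1) false false 6655 = true := by
  decide +kernel
theorem bs2_5 (b : ℕ) : PV 2 16439711 b :=
  (PV.base (r := [4, 16, 9, 16, 9, 11, 41, 43, 44, 46, 47, 50, 52]) (n := 12749407) b oc2_5_0 oc2_5_1
    (by decide +kernel)).mv gen2 [2, 0, 2, 2, 1, 1]

theorem oc3_9_0 : oChk [4, 16, 1, 16, 53, 16, 0, 16, 53, 6, 16, 6]
  [14, 16, 14, 53, 53, 16, 8, 16, 53, 53, 16, 9, 16, 12] (52 :: qA) (stAx 0) false true 3071 = true := by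
  decide +kernel
theorem oc3_9_1 : oChk [4, 16, 1, 16, 53, 16, 0, 16, 53, 6, 16, 6]
  [14, 16, 14, 53, 53, 16, 8, 16, 53, 53, 16, 9, 16, 12] qA (stAx 1) false true 3071 = true := by
  decide +kernel
theorem bs3_9 (b : ℕ) : PV 3 218181 b :=
  (PV.base (r := [14, 16, 14, 8, 16, 8, 2, 12, 9, 29, 36, 37, 38, 44, 45, 47, 49, 50, 51, 52]) (n := 10008164) b oc3_9_0 oc3_9_1
    (by decide +kernel)).mv gen3 [0, 1, 0, 0, 0, 0, 0, 0, 1, 0, 0, 1, 0, 0, 0, 0, 0, 1, 0, 0, 0, 0]

theorem oc4_6_0 : oChk [4, 16, 1, 16, 53, 16, 11, 16, 53, 21, 16, 12, 16, 15]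
  [7, 16, 4, 16, 21, 53, 53, 16, 3, 16, 53, 53, 16, 9, 16, 12] (52 :: qA) (stAx 0) false false 2047 = true := by
  decide +kernel
theorem oc4_6_1 : oChk [4, 16, 1, 16, 53, 16, 11, 16, 53, 21, 16, 12, 16, 15]
  [7, 16, 4, 16, 21, 53, 53, 16, 3, 16, 53, 53, 16, 9, 16, 12] qA (stAx 1) false false 2047 = true := by
  decide +kernel
theorem bs4_6 (b : ℕ) : PV 4 2788494 b :=
  (PV.base (r := [7, 16, 4, 16, 21, 6, 12, 7, 8, 16, 29, 32, 37, 38, 42, 43, 45, 46, 49, 52]) (n := 7394862) b oc4_6_0 oc4_6_1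
    (by decide +kernel)).mv gen4 [1, 0, 1, 0, 1, 1, 0, 1, 1, 1, 1, 0]

end H10.Mon
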