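import Mathlib
import Cfsg.Agent.H10.MP0
import Cfsg.Agent.H10.MP1
import Cfsg.Agent.H10.MK0
import Cfsg.Agent.H10.MK1
import Cfsg.Agent.H10.MK2
import Cfsg.Agent.H10.MK3

/-! All types of pairs. -/

set_option autoImplicit false
set_option linter.all false
set_option maxRecDepth 100000
set_option Elab.async false

namespace H10.Mon

theorem pv1_0_0 : PV 1 1328 0 :=
  PV.link (j := 12) (TD.ok_of tdc12) 2 0 [0, 0, 1, 2, 0, 0, 1] [0, 2, 1, 2, 2, 1, 0, 2, 0] [0, 2] 32 [2, 1, 3, 0, 3, 3] gen0 gen1 PV.c1 PV.c1 (by decide +kernel)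
theorem pv3_3_0 : PV 3 2720 0 :=
  PV.link (j := 15) (TD.ok_of tdc15) 2 0 [0, 0, 1, 0, 1, 2] [2, 1, 2, 4, 3] [4, 1, 0, 2, 4, 2, 4] 161 [0, 0, 1, 0, 1, 0, 0, 1, 0] gen1 gen3 pv1_0_0 (PV.vac vl1_3 (by decide) (by decide)) (by decide +kernel)
theorem pv1_2_0 : PV 1 3872 0 :=
  PV.link (j := 12) (TD.ok_of tdc12) 2 0 [] [1, 0, 2, 0, 1, 2, 2, 0, 2, 2] [1, 0, 2, 0, 1, 2, 1, 2, 1] 3040 [0, 1, 2, 4, 0] gen0 gen1 (PV.vac vl0_1 (by decide) (by decide)) PV.c1 (by decide +kernel)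
theorem pv1_2_16384 : PV 1 3872 16384 :=
  PV.link (j := 12) (TD.ok_of tdc12) 2 0 [] [1, 0, 2, 0, 1, 2, 2, 0, 2, 2] [1, 0, 2, 0, 1, 2, 1, 2, 1] 3040 [0, 1, 2, 4, 0] gen0 gen1 (PV.nz (n := 2791) (by decide)) (PV.nz (n := 992) (by decide)) (by decide +kernel)
theorem pv2_0_0 : PV 2 1328 0 :=
  PV.link (j := 1) (TD.ok_of tdc1) 0 1 [0, 1, 2, 0, 2, 2, 0, 1] [0, 4, 3, 2] [1, 4, 1, 0, 2, 4, 3, 2] 3261 [1, 2, 2, 2, 1, 1, 0, 2] gen1 gen2 pv1_2_0 (PV.vac vl1_1 (by decide) (by decide)) (by decide +kernel)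
theorem pv2_1_16384 : PV 2 263 16384 :=
  PV.link (j := 1) (TD.ok_of tdc1) 0 1 [0, 1, 2, 0, 2, 2, 0, 1] [0, 4, 3, 2] [1, 4, 1, 0, 2, 4, 3, 2] 3127 [1, 2, 1] gen1 gen2 pv1_2_16384 (PV.vac vl1_1 (by decide) (by decide)) (by decide +kernel)
theorem pv3_5_16384 : PV 3 3040 16384 :=
  PV.link (j := 2) (TD.ok_of tdc2) 0 1 [0, 1, 2, 2, 0, 2, 2, 0] [0, 2, 2] [0, 2, 0, 2, 1, 1, 2, 2, 2] 3040 [] gen2 gen3 pv2_1_16384 (PV.vac vl2_3 (by decide) (by decide)) (by decide +kernel)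
theorem pv5_3_16384 : PV 5 992 16384 :=
  PV.link (j := 4) (TD.ok_of tdc4) 0 1 [0] [] [0, 0, 0, 1, 0, 1, 0, 0, 0, 0, 0, 0, 1, 0, 1, 0, 1, 0, 0] 992 [] gen3 gen5 pv3_5_16384 (PV.vac vl3_7 (by decide) (by decide)) (by decide +kernel)
theorem pv2_1_4096 : PV 2 263 4096 :=
  PV.link (j := 0) (TD.ok_of tdc0) 0 1 [0, 0, 2, 0, 0, 0, 1] [0, 1, 0, 2, 2, 2, 0, 1, 0, 2, 2, 2, 2] [2] 1055 [2, 1, 2, 1, 0] gen0 gen2 (PV.nz (n := 218181) (by decide)) (PV.nz (n := 2791) (by decide)) (by decide +kernel)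
theorem pv2_0_4096 : PV 2 1328 4096 :=
  PV.link (j := 0) (TD.ok_of tdc0) 0 1 [0, 1, 0, 1, 2, 2] [1, 0, 2, 2, 2, 1, 2, 1] [0, 2, 1, 2, 0, 2, 2, 0] 3538 [1, 2, 2, 1, 1, 0, 2] gen0 gen2 (PV.nz (n := 992) (by decide)) (PV.nz (n := 218181) (by decide)) (by decide +kernel)
theorem pv4_3_0 : PV 4 2720 0 :=
  PV.link (j := 3) (TD.ok_of tdc3) 0 1 [0, 0, 1, 0, 2, 2] [0, 1, 1, 1, 0, 1, 0, 1, 0, 2, 1] [2, 2, 1, 1, 1] 576 [0, 1, 1] gen2 gen4 (PV.vac vl2_2 (by decide) (by decide)) pv2_0_0 (by decide +kernel)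
theorem pv1_1_4096 : PV 1 3642 4096 :=
  PV.link (j := 12) (TD.ok_of tdc12) 2 0 [0, 2, 0, 1] [2, 2, 2, 2, 1, 2, 2, 2, 1, 2, 1] [0, 2, 0, 2, 0, 1, 0, 2] 1339 [2, 0, 4, 0, 1, 0, 2, 0] gen0 gen1 (PV.nz (n := 218181) (by decide)) (PV.nz (n := 218181) (by decide)) (by decide +kernel)
theorem pv6_3_4096 : PV 6 3072 4096 :=
  PV.link (j := 19) (TD.ok_of tdc19) 2 0 [0, 1, 2, 2, 0, 1, 2] [0, 2, 1, 2, 1, 0, 2, 0, 1, 0] [2, 1, 1, 1, 1, 2] 496 [0, 0, 0, 0, 0, 1] gen2 gen6 (PV.vac vl2_4 (by decide) (by decide)) pv2_0_4096 (by decide +kernel)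
theorem pv6_5_0 : PV 6 2544 0 :=
  PV.link (j := 19) (TD.ok_of tdc19) 2 0 [0, 1, 2, 2, 0, 1, 2] [0, 2, 1, 2, 1, 0, 2, 0, 1, 0] [2, 1, 1, 1, 1, 2] 2544 [] gen2 gen6 (PV.vac vl2_4 (by decide) (by decide)) pv2_0_0 (by decide +kernel)
theorem pv11_11_4096 : PV 11 16708838 4096 :=
  PV.link (j := 49) (TD.ok_of tdc49) 2 0 [0, 2, 0, 1, 0, 1, 2] [1] [0, 0, 0, 1, 0, 0, 1, 1, 0, 0, 1, 1, 0, 0, 0] 5862904 [0, 0, 1, 0, 1, 1, 0] gen6 gen11 pv6_3_4096 (PV.vac vl6_6 (by decide) (by decide)) (by decide +kernel)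
theorem pv6_2_4096 : PV 6 3289 4096 :=
  PV.link (j := 56) (TD.ok_of tdc56) 0 1 [0, 1, 2, 0, 0, 2] [0, 1, 1, 1, 1, 0, 0, 0] [1, 0, 0, 0, 1, 0, 1, 0, 0] 11879655 [1, 0, 0, 0, 0, 1, 0, 1, 0, 0, 1, 1, 0] gen11 gen6 (PV.vac vl11_12 (by decide) (by decide)) pv11_11_4096 (by decide +kernel)
theorem pv9_3_4096 : PV 9 2521 4096 :=
  PV.link (j := 58) (TD.ok_of tdc58) 0 2 [0, 0, 0, 1, 0, 2, 2] [1, 1, 1, 1, 1, 1] [0, 0, 1, 0, 0, 0, 1, 0, 1, 1] 1185 [0, 1, 0, 0, 0, 1, 0] gen11 gen9 (PV.vac vl11_14 (by decide) (by decide)) pv11_11_4096 (by decide +kernel)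
theorem pv11_17_4096 : PV 11 16571984 4096 :=
  PV.link (j := 58) (TD.ok_of tdc58) 1 0 [0, 0, 0, 1, 0] [1, 0, 0, 1, 1, 0] [0, 0, 0, 1, 1, 0, 0, 1, 1, 0, 1, 0] 1542492 [1, 0, 1, 1, 1, 0, 1, 0, 1, 0, 1] gen6 gen11 pv6_2_4096 pv6_2_4096 (by decide +kernel)
theorem pv9_11_4096 : PV 9 4589572 4096 :=
  PV.link (j := 58) (TD.ok_of tdc58) 1 2 [0, 0, 0, 1, 0] [1, 0, 0, 1, 1, 0] [0, 0, 0, 1, 1, 0, 0, 1, 1, 0, 1, 0] 781127 [0, 0, 0, 0, 0, 0, 0, 1, 1, 1] gen6 gen9 pv6_2_4096 pv6_2_4096 (by decide +kernel)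
theorem pv9_7_4096 : PV 9 219826 4096 :=
  PV.link (j := 59) (TD.ok_of tdc59) 0 1 [0, 0, 1, 0, 2, 0, 2] [0, 0, 1, 0, 1, 0, 0, 1, 1, 0, 0, 1, 0, 1] [1, 0] 16642977 [0, 1, 1, 0, 0, 0] gen6 gen9 (PV.vac vl6_9 (by decide) (by decide)) pv6_2_4096 (by decide +kernel)
theorem pv7_4_4096 : PV 7 1168 4096 :=
  PV.link (j := 61) (TD.ok_of tdc61) 2 0 [0, 1, 0, 0, 2, 0] [1, 1, 0, 1, 1] [0, 0, 1, 0, 1, 1, 0, 1, 1, 0, 1, 1] 1168 [] gen6 gen7 pv6_3_4096 (PV.vac vl6_10 (by decide) (by decide)) (by decide +kernel)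
theorem pv11_5_4096 : PV 11 176 4096 :=
  PV.link (j := 64) (TD.ok_of tdc64) 1 2 [0] [0, 1, 0, 1, 0, 0, 1, 0, 1, 1, 1, 1, 0] [1, 1, 0, 0, 1, 1, 1, 1, 0] 176 [] gen9 gen11 pv9_7_4096 (PV.vac vl9_6 (by decide) (by decide)) (by decide +kernel)
theorem pv11_8_4096 : PV 11 2209 4096 :=
  PV.link (j := 65) (TD.ok_of tdc65) 1 0 [0, 2, 0, 1, 0, 2, 0] [2, 2, 2, 0, 2, 1] [0, 2, 0, 2, 1, 2, 2, 0, 2, 1] 59408 [1, 0, 0, 1, 0] gen7 gen11 pv7_4_4096 (PV.vac vl7_5 (by decide) (by decide)) (by decide +kernel)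
theorem pv7_13_4096 : PV 7 16439684 4096 :=
  PV.link (j := 69) (TD.ok_of tdc69) 0 2 [0, 1, 2, 0, 0, 0, 2, 0] [0, 0, 1, 1, 0, 1, 0] [0, 1, 0, 0, 1, 0, 1, 0] 16623943 [0, 2, 0, 2, 2, 1, 1, 2, 1] gen11 gen7 (PV.vac vl11_3 (by decide) (by decide)) pv11_11_4096 (by decide +kernel)
theorem pv7_7_4096 : PV 7 8371778 4096 :=
  PV.link (j := 70) (TD.ok_of tdc70) 0 1 [0, 1, 0, 0, 2, 0, 0, 2, 2] [0, 1, 0, 1, 1, 0, 0, 1, 1, 1] [0, 0, 0, 1] 3493631 [1, 1, 2, 2, 1, 1, 0] gen11 gen7 (PV.vac vl11_16 (by decide) (by decide)) pv11_17_4096 (by decide +kernel)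
theorem pv11_7_4096 : PV 11 2652 4096 :=
  PV.link (j := 70) (TD.ok_of tdc70) 1 0 [0, 1, 0, 0, 2, 0] [2, 1, 1, 2, 2, 2, 0, 2, 1] [0, 2, 1, 2, 0, 1, 1, 2] 3127 [1, 1, 1] gen7 gen11 pv7_4_4096 pv7_7_4096 (by decide +kernel)
theorem pv7_2_4096 : PV 7 284 4096 :=
  PV.link (j := 70) (TD.ok_of tdc70) 1 2 [0, 1, 0, 0, 2, 0] [2, 1, 1, 2, 2, 2, 0, 2, 1] [0, 2, 1, 2, 0, 1, 1, 2] 1068 [2, 2, 2, 0] gen7 gen7 pv7_4_4096 pv7_7_4096 (by decide +kernel)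
theorem pv10_3_4096 : PV 10 263 4096 :=
  PV.link (j := 72) (TD.ok_of tdc72) 2 0 [0, 0, 2, 0, 0, 2, 2] [1, 2, 1, 2, 2, 1, 1] [1, 2, 1, 2, 2, 2, 0, 2, 1] 2761158 [1, 0, 1, 0, 0, 1, 0, 0, 0, 0, 0, 1] gen7 gen10 (PV.vac vl7_5 (by decide) (by decide)) pv7_7_4096 (by decide +kernel)
theorem pv10_4_4096 : PV 10 2928 4096 :=
  PV.link (j := 99) (TD.ok_of tdc99) 0 2 [0, 1, 0, 0, 1, 2, 0] [0, 0, 0, 1, 0, 1, 0, 0, 1, 0, 1, 0, 0, 0, 1] [0] 1952 [0, 0, 1, 0, 0, 0, 0, 0] gen10 gen10 pv10_3_4096 (PV.vac vl10_5 (by decide) (by decide)) (by decide +kernel)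
theorem pv3_1_4096 : PV 3 1328 4096 :=
  PV.link (j := 5) (TD.ok_of tdc5) 2 0 [0, 0, 2, 0] [0, 1, 1, 0, 0, 1, 1, 0, 0, 1, 1, 1] [0, 0, 1, 1, 1, 1, 1, 0] 8240088 [1, 0, 0, 0, 0, 1, 0, 0, 1, 0, 0, 0, 0, 0, 0, 0, 1] gen6 gen3 pv6_2_4096 (PV.vac vl6_0 (by decide) (by decide)) (by decide +kernel)
theorem pv3_2_4096 : PV 3 2791 4096 :=
  PV.link (j := 24) (TD.ok_of tdc24) 0 1 [0, 1, 0, 2, 2, 2] [0, 0, 0, 0, 0, 0, 0, 0, 0, 1, 0, 0, 0, 1, 0, 0, 0, 1] [] 1179 [1, 0, 0, 0, 1, 0, 0, 0, 1, 0, 1] gen3 gen3 pv3_1_4096 pv3_1_4096 (by decide +kernel)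
theorem pv4_0_4096 : PV 4 2952 4096 :=
  PV.link (j := 24) (TD.ok_of tdc24) 0 2 [0, 1, 0, 2, 2, 2] [0, 0, 0, 0, 0, 0, 0, 0, 0, 1, 0, 0, 0, 1, 0, 0, 0, 1] [] 116 [1, 0, 1, 1, 1, 0, 1, 1, 1, 1, 0, 1, 1, 0, 1, 1] gen3 gen4 pv3_1_4096 pv3_1_4096 (by decide +kernel)
theorem pv5_2_4096 : PV 5 2791 4096 :=
  PV.link (j := 25) (TD.ok_of tdc25) 2 1 [0, 0, 1, 2, 0, 0, 2, 0] [0, 0, 1, 0, 1, 0] [0, 1, 0, 1, 0, 0, 1, 0, 0, 1] 1245 [0, 0, 0, 0, 1, 0, 0, 0] gen3 gen5 pv3_1_4096 (PV.vac vl3_6 (by decide) (by decide)) (by decide +kernel)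
theorem pv3_4_4096 : PV 3 1887 4096 :=
  PV.link (j := 29) (TD.ok_of tdc29) 0 2 [0, 2, 2] [0, 1, 0, 0, 1, 0, 1, 0, 0, 1, 0, 1, 0, 0] [0, 1, 0, 0, 1, 0, 0] 3803 [0, 1, 0, 0, 0, 0] gen10 gen3 (PV.vac vl10_5 (by decide) (by decide)) pv10_4_4096 (by decide +kernel)
theorem pv5_5_4096 : PV 5 1523615 4096 :=
  PV.link (j := 39) (TD.ok_of tdc39) 2 1 [0, 2, 0, 1] [0, 0, 0, 0, 0, 1, 1, 0, 0, 1, 1, 0, 1] [0, 1, 0, 1, 0, 1, 1] 2909581 [1, 0, 0, 1, 1, 0, 1, 0, 0, 0] gen6 gen5 pv6_2_4096 pv6_2_4096 (by decide +kernel)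
theorem pv2_2_4096 : PV 2 226360 4096 :=
  PV.link (j := 3) (TD.ok_of tdc3) 1 0 [] [0, 1, 0, 1, 1, 0, 1, 1, 0, 1, 1, 0, 1, 0] [0, 1, 1, 1, 0, 1, 0, 1, 0, 1, 0] 36192 [2, 2, 2, 0, 1, 0, 2, 2, 2] gen4 gen2 pv4_0_4096 pv4_0_4096 (by decide +kernel)
theorem pv5_1_4096 : PV 5 375 4096 :=
  PV.link (j := 4) (TD.ok_of tdc4) 0 1 [0, 2, 2, 0] [1, 0, 1, 0, 1, 0, 0, 0, 0, 1, 0, 1] [0, 0, 1, 0, 0, 1, 0, 0, 0] 10189 [1, 1, 0, 0, 1, 0, 1, 1, 0, 1, 1, 0] gen3 gen5 pv3_2_4096 (PV.vac vl3_6 (by decide) (by decide)) (by decide +kernel)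
theorem pv4_3_4096 : PV 4 2720 4096 :=
  PV.link (j := 24) (TD.ok_of tdc24) 0 2 [0, 0, 1, 0, 2, 0, 0] [0, 0, 0, 0, 1, 0, 1, 0, 1, 0, 0, 1, 0, 1, 0, 0, 0] [0, 0] 3081 [0, 1, 1, 1, 1, 1, 0, 1, 1, 0] gen3 gen4 pv3_1_4096 (PV.vac vl3_3 (by decide) (by decide)) (by decide +kernel)
theorem pv4_2_4096 : PV 4 1680 4096 :=
  PV.link (j := 24) (TD.ok_of tdc24) 0 2 [0, 0, 1, 0, 2] [0, 0, 0, 1] [0, 0, 0, 0, 0, 1, 0, 0, 1, 0, 0, 1, 0, 0, 0, 0, 1] 2708 [0, 1, 1, 0, 1, 1, 0, 1, 0, 1, 1, 1] gen3 gen4 pv3_4_4096 pv3_1_4096 (by decide +kernel)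
theorem pv8_3_4096 : PV 8 2720 4096 :=
  PV.link (j := 89) (TD.ok_of tdc89) 0 1 [0, 0, 1, 0, 2, 0, 0] [1, 0, 1, 0, 0, 1, 1, 1, 1, 0] [0, 0, 1, 1, 0, 0, 1, 1, 1] 1104 [1, 0, 1, 0, 1, 1, 0] gen11 gen8 pv11_11_4096 (PV.vac vl11_15 (by decide) (by decide)) (by decide +kernel)
theorem pv9_5_0 : PV 9 3568 0 :=
  PV.link (j := 35) (TD.ok_of tdc35) 2 0 [0, 0, 1, 0, 2, 2] [0] [1, 1, 0, 1, 0, 1, 1, 1, 1, 0, 1, 0, 1, 1, 0, 1, 1, 1, 0, 1, 0, 1, 1, 1] 3568 [] gen4 gen9 pv4_3_0 (PV.vac vl4_5 (by decide) (by decide)) (by decide +kernel)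
theorem pv5_4_0 : PV 5 2160 0 :=
  PV.link (j := 45) (TD.ok_of tdc45) 0 1 [0, 0, 1, 0, 2, 2, 0] [] [] 2160 [] gen9 gen5 (PV.vac vl9_4 (by decide) (by decide)) pv9_5_0 (by decide +kernel)
theorem pv2_4_2560 : PV 2 16437400 2560 := bs2_4 2560
theorem pv5_1_2560 : PV 5 375 2560 :=
  PV.link (j := 20) (TD.ok_of tdc20) 2 0 [] [0, 2, 2] [0, 2, 2, 0, 2, 2, 1] 3040 [1, 0, 1, 0, 1, 0, 1, 0, 1, 1] gen2 gen5 (PV.vac vl2_1 (by decide) (by decide)) pv2_4_2560 (by decide +kernel)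
theorem pv5_3_2560 : PV 5 992 2560 :=
  PV.link (j := 20) (TD.ok_of tdc20) 2 0 [] [0, 2, 2] [0, 2, 2, 0, 2, 2, 1] 992 [] gen2 gen5 (PV.vac vl2_1 (by decide) (by decide)) pv2_4_2560 (by decide +kernel)
theorem pv3_6_2560 : PV 3 7820306 2560 :=
  PV.link (j := 4) (TD.ok_of tdc4) 1 0 [0, 2, 2, 0] [1, 0] [1, 0, 0, 0, 0, 0] 10397 [0, 0, 0, 0, 0, 0, 0, 0, 1, 0, 1, 0, 0, 0, 0, 0] gen5 gen3 pv5_1_2560 (PV.vac vl5_2 (by decide) (by decide)) (by decide +kernel)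
theorem pv6_3_2560 : PV 6 3072 2560 :=
  PV.link (j := 25) (TD.ok_of tdc25) 1 0 [0, 1, 0, 0, 2] [0, 1, 0, 1, 1, 1] [1, 1, 0, 1, 1, 1] 4126 [1, 0, 0, 1, 0, 1] gen5 gen6 pv5_1_2560 pv5_1_2560 (by decide +kernel)
theorem pv3_7_2560 : PV 3 4611277 2560 :=
  PV.link (j := 25) (TD.ok_of tdc25) 1 2 [0, 1, 0, 0, 2] [0, 1, 0, 1, 1, 1] [1, 1, 0, 1, 1, 1] 3616125 [1, 0, 1, 0, 0, 0, 0, 0, 0, 1, 0] gen5 gen3 pv5_1_2560 pv5_1_2560 (by decide +kernel)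
theorem pv6_5_2560 : PV 6 2544 2560 :=
  PV.link (j := 25) (TD.ok_of tdc25) 2 0 [0, 0, 1, 0, 1, 2, 2, 0] [0, 0, 0, 1, 0, 0, 0, 0, 1] [] 2544 [] gen3 gen6 pv3_6_2560 (PV.vac vl3_3 (by decide) (by decide)) (by decide +kernel)
theorem pv5_0_2560 : PV 5 1328 2560 :=
  PV.link (j := 25) (TD.ok_of tdc25) 2 1 [0, 0, 1, 0, 1, 2, 2, 0] [0, 0, 0, 1, 0, 0, 0, 0, 1] [] 172 [1, 0, 0, 0, 1, 0, 1, 0, 0, 0, 0, 0, 0, 0] gen3 gen5 pv3_6_2560 (PV.vac vl3_3 (by decide) (by decide)) (by decide +kernel)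
theorem pv3_8_2560 : PV 3 1538084 2560 :=
  PV.link (j := 17) (TD.ok_of tdc17) 1 0 [0, 0, 1, 0, 0, 2] [2, 1, 0, 2, 1, 1] [0, 2, 2, 0, 1, 0] 1508411 [0, 0, 0, 0, 0, 0, 0, 0, 1, 0, 0, 0, 1, 0, 0, 0, 1, 0, 0, 0] gen2 gen3 pv2_4_2560 pv2_4_2560 (by decide +kernel)
theorem pv6_1_2560 : PV 6 1328 2560 :=
  PV.link (j := 25) (TD.ok_of tdc25) 1 0 [0] [0, 1, 1, 0, 0, 1, 0, 0, 1, 0, 1, 0, 0, 1, 1] [1, 0] 880 [1, 1, 1, 0, 0, 0, 1, 0, 0, 0, 1, 1] gen5 gen6 pv5_0_2560 pv5_0_2560 (by decide +kernel)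
theorem pv7_0_2560 : PV 7 2952 2560 :=
  PV.link (j := 46) (TD.ok_of tdc46) 1 0 [0, 1, 2, 2, 0, 1, 2] [0, 0, 0, 1, 1, 0, 0, 0] [1, 0, 1] 1563 [1, 2, 2, 2, 2, 1, 2, 0] gen6 gen7 pv6_1_2560 pv6_3_2560 (by decide +kernel)
theorem pv6_2_2560 : PV 6 3289 2560 :=
  PV.link (j := 46) (TD.ok_of tdc46) 1 2 [0, 1, 2, 2, 0, 1, 2] [0, 0, 0, 1, 1, 0, 0, 0] [1, 0, 1] 1965 [1, 1, 0, 0, 1, 1, 1, 1, 0, 1, 1] gen6 gen6 pv6_1_2560 pv6_3_2560 (by decide +kernel)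
theorem pv9_2_2560 : PV 9 1296 2560 :=
  PV.link (j := 51) (TD.ok_of tdc51) 1 0 [0] [1, 1, 0, 1, 0, 1] [0, 0, 0, 0, 1, 0, 1, 0, 0, 0, 0] 59008 [0, 0, 1, 0, 0, 0, 0, 1, 1, 0, 1, 0] gen6 gen9 pv6_1_2560 (PV.vac vl6_6 (by decide) (by decide)) (by decide +kernel)
theorem pv8_4_2560 : PV 8 4588168 2560 :=
  PV.link (j := 74) (TD.ok_of tdc74) 0 1 [0, 1, 0] [1, 2, 1, 1, 1, 2, 1, 2] [1, 2, 1, 2, 1, 2, 2] 29608 [1, 1, 0, 0, 0, 1, 1, 0, 0, 0, 0, 0, 0, 0] gen7 gen8 (PV.vac vl7_8 (by decide) (by decide)) pv7_0_2560 (by decide +kernel)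
theorem pv11_12_2560 : PV 11 29752 2560 :=
  PV.link (j := 88) (TD.ok_of tdc88) 2 0 [0] [1, 0, 1, 0, 0, 1] [1, 1, 1, 1, 1, 0, 1, 1, 0, 0, 1] 21872 [1, 0, 1, 1, 0, 1, 0, 1, 0, 1, 1] gen8 gen11 pv8_4_2560 pv8_4_2560 (by decide +kernel)
theorem pv11_4_2560 : PV 11 1900 2560 :=
  PV.link (j := 88) (TD.ok_of tdc88) 2 0 [0] [1, 0, 1, 0, 0, 1] [1, 1, 1, 1, 1, 0, 1, 1, 0, 0, 1] 12096 [0, 0, 0, 1, 0, 0, 0, 0, 1, 1, 0, 1, 1, 0] gen8 gen11 pv8_4_2560 pv8_4_2560 (by decide +kernel)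
theorem pv11_10_2560 : PV 11 31104 2560 :=
  PV.link (j := 88) (TD.ok_of tdc88) 2 1 [0] [1, 0, 1, 0, 0, 1] [1, 1, 1, 1, 1, 0, 1, 1, 0, 0, 1] 13712 [1, 1, 1, 0, 1, 1, 0, 0, 0, 0, 1, 0, 0] gen8 gen11 pv8_4_2560 pv8_4_2560 (by decide +kernel)
theorem pv10_10_2560 : PV 10 5715611 2560 :=
  PV.link (j := 103) (TD.ok_of tdc103) 1 2 [0, 0, 1, 0, 0, 2, 0, 1] [1, 1, 0, 1, 0, 0, 1, 1, 0, 1] [] 1716387 [1, 0, 0, 1, 0, 0, 0, 0, 0, 0, 1, 0, 0, 0, 0, 1, 0, 1] gen11 gen10 pv11_12_2560 pv11_4_2560 (by decide +kernel)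
theorem pv10_11_2560 : PV 10 1601542 2560 :=
  PV.link (j := 111) (TD.ok_of tdc111) 0 2 [0, 0, 2, 0, 0, 1, 0, 0] [0, 1, 1, 0] [1, 0, 1, 0, 0, 0] 9927895 [0, 0, 1, 0, 0, 0, 0, 0, 0, 1, 0, 0, 0, 0, 1, 0, 0, 1, 0, 1, 0, 0] gen11 gen10 pv11_4_2560 pv11_12_2560 (by decide +kernel)
theorem pv7_3_2560 : PV 7 660 2560 :=
  PV.link (j := 39) (TD.ok_of tdc39) 1 0 [0, 0, 1, 0, 2, 0, 1, 0] [0, 0] [0, 0, 0, 0, 0, 1, 0, 1, 0] 2708 [2, 1, 2, 0, 2, 1, 1, 1] gen5 gen7 pv5_0_2560 (PV.vac vl5_2 (by decide) (by decide)) (by decide +kernel)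
theorem pv11_5_2560 : PV 11 176 2560 :=
  PV.link (j := 41) (TD.ok_of tdc41) 1 0 [0] [0, 0, 1, 1, 1, 0, 1, 0, 0, 0, 1, 0, 1, 1, 1] [0, 1, 1] 1245 [0, 0, 0, 1, 0, 0, 0] gen5 gen11 pv5_0_2560 (PV.vac vl5_5 (by decide) (by decide)) (by decide +kernel)
theorem pv6_9_2560 : PV 6 218181 2560 :=
  PV.link (j := 47) (TD.ok_of tdc47) 0 1 [0, 1, 2, 2, 0] [0, 1, 0, 0, 0, 1, 0, 0, 0, 0, 0] [0, 1, 0] 12203541 [0, 1, 1, 0, 1, 0, 1, 1, 0, 1, 0, 0, 1] gen11 gen6 (PV.vac vl11_13 (by decide) (by decide)) pv11_10_2560 (by decide +kernel)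
theorem pv6_0_2560 : PV 6 1257 2560 :=
  PV.link (j := 47) (TD.ok_of tdc47) 0 1 [0, 1, 2, 2, 0] [0, 1, 0, 0, 0, 1, 0, 0, 0, 0, 0] [0, 1, 0] 12326009 [1, 1, 0, 0, 1, 0, 1, 0, 1, 0, 1] gen11 gen6 (PV.vac vl11_13 (by decide) (by decide)) pv11_10_2560 (by decide +kernel)
theorem pv7_5_2560 : PV 7 1470540 2560 :=
  PV.link (j := 47) (TD.ok_of tdc47) 0 2 [0, 1, 2, 2, 0] [0, 1, 0, 0, 0, 1, 0, 0, 0, 0, 0] [0, 1, 0] 8287072 [2, 0, 2, 1, 2, 1, 1, 2, 1, 2, 1, 1, 1, 0] gen11 gen7 (PV.vac vl11_13 (by decide) (by decide)) pv11_10_2560 (by decide +kernel)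
theorem pv7_9_2560 : PV 7 31104 2560 :=
  PV.link (j := 47) (TD.ok_of tdc47) 0 2 [0, 1, 2, 2, 0] [0, 1, 0, 0, 0, 1, 0, 0, 0, 0, 0] [0, 1, 0] 8294992 [1, 0, 2, 1, 2, 1, 2, 2, 0, 2] gen11 gen7 (PV.vac vl11_13 (by decide) (by decide)) pv11_10_2560 (by decide +kernel)
theorem pv6_7_2560 : PV 6 5839406 2560 :=
  PV.link (j := 48) (TD.ok_of tdc48) 0 1 [0, 0, 1, 0, 0, 2, 0, 1] [1, 1, 0, 1, 1, 0, 1, 1, 1, 0, 1] [] 1095776 [0, 1, 0, 1, 1, 0, 0, 0, 1, 0, 0, 1, 0] gen11 gen6 pv11_10_2560 pv11_5_2560 (by decide +kernel)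
theorem pv11_14_2560 : PV 11 30520 2560 :=
  PV.link (j := 49) (TD.ok_of tdc49) 2 0 [0, 0, 1, 0, 0, 0] [] [0, 1, 0, 1, 1, 1, 0, 1, 1, 1, 0, 0, 1] 30720 [0, 0, 1, 0, 1, 0, 1, 0] gen6 gen11 pv6_3_2560 pv6_7_2560 (by decide +kernel)
theorem pv10_6_2560 : PV 10 1626 2560 :=
  PV.link (j := 52) (TD.ok_of tdc52) 2 0 [] [1, 0, 0, 1, 1, 0, 1, 1] [0, 0, 0, 0, 0, 1, 1, 1, 1, 0, 1] 2370 [0, 0, 0, 0, 0, 0, 0, 0, 0, 1, 0] gen6 gen10 (PV.vac vl6_10 (by decide) (by decide)) pv6_9_2560 (by decide +kernel)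
theorem pv9_6_2560 : PV 9 5838894 2560 :=
  PV.link (j := 58) (TD.ok_of tdc58) 0 2 [0, 1, 0, 2, 2, 0, 2, 2] [0, 1, 1, 1, 1, 1] [1, 1, 0, 1, 0] 5484337 [1, 1, 1, 0, 0, 1, 1, 1, 1, 0, 0] gen11 gen9 (PV.vac vl11_13 (by decide) (by decide)) pv11_14_2560 (by decide +kernel)
theorem pv6_8_2560 : PV 6 4588168 2560 :=
  PV.link (j := 61) (TD.ok_of tdc61) 0 2 [0, 2, 0, 1, 0, 2, 0, 0] [1, 2, 1, 2, 1, 1, 2, 2, 0, 2, 0] [] 2257617 [0, 0, 1, 0, 1, 0, 1, 0, 1, 1, 1, 0, 0, 1, 0, 1] gen7 gen6 pv7_9_2560 pv7_0_2560 (by decide +kernel)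
theorem pv10_8_2560 : PV 10 8121597 2560 :=
  PV.link (j := 63) (TD.ok_of tdc63) 1 0 [0, 2, 0, 0, 1, 2] [1, 1, 0, 0, 0, 1, 1] [0, 0, 0, 1, 0, 0] 4160 [1, 0, 0, 0, 1, 0, 1, 0, 0, 0, 1, 0, 1, 0, 1] gen11 gen10 pv11_12_2560 pv11_12_2560 (by decide +kernel)
theorem pv11_8_2560 : PV 11 2209 2560 :=
  PV.link (j := 65) (TD.ok_of tdc65) 1 0 [0, 0, 1, 0, 1] [1, 1, 1, 2, 0, 2, 1] [0, 1, 1, 1, 2, 2, 2] 5860984 [0, 0, 0, 0, 1, 0] gen7 gen11 (PV.vac vl7_4 (by decide) (by decide)) pv7_5_2560 (by decide +kernel)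
theorem pv11_1_2560 : PV 11 1040 2560 :=
  PV.link (j := 69) (TD.ok_of tdc69) 2 1 [0, 2] [1, 2, 1, 1, 1, 2, 2, 0, 2, 0, 2] [1, 2, 0, 2, 2, 1] 1538 [1, 1, 1, 0, 1, 0, 0, 1, 0, 1, 1, 0] gen7 gen11 pv7_5_2560 pv7_9_2560 (by decide +kernel)
theorem pv7_7_2560 : PV 7 8371778 2560 :=
  PV.link (j := 70) (TD.ok_of tdc70) 0 1 [0, 1, 0, 0, 2, 0] [0, 1, 0, 1, 1, 0, 0, 1] [0, 1, 1, 1, 1] 6369274 [2, 1, 0, 2, 0, 2, 2, 1, 0] gen11 gen7 pv11_8_2560 (PV.vac vl11_7 (by decide) (by decide)) (by decide +kernel)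
theorem pv9_3_2560 : PV 9 2521 2560 :=
  PV.link (j := 76) (TD.ok_of tdc76) 0 1 [0, 0, 1, 0, 2, 0, 0] [1, 0, 0, 0, 1, 1, 0] [0, 1, 0, 1, 0] 821 [1, 0, 1, 0] gen11 gen9 (PV.vac vl11_11 (by decide) (by decide)) pv11_8_2560 (by decide +kernel)
theorem pv7_10_2560 : PV 7 4611277 2560 :=
  PV.link (j := 76) (TD.ok_of tdc76) 0 2 [0, 0, 1, 0, 2, 0, 0] [1, 0, 0, 0, 1, 1, 0] [0, 1, 0, 1, 0] 1623880 [2, 2, 0, 2, 1, 1, 2, 2, 2, 2] gen11 gen7 (PV.vac vl11_11 (by decide) (by decide)) pv11_8_2560 (by decide +kernel)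
theorem pv11_9_2560 : PV 11 2080 2560 :=
  PV.link (j := 76) (TD.ok_of tdc76) 1 0 [0, 0, 1, 0, 1, 2, 2, 0] [0, 0, 0, 1, 0, 0, 0, 0, 0, 1] [0] 2080 [] gen9 gen11 (PV.vac vl9_0 (by decide) (by decide)) pv9_3_2560 (by decide +kernel)
theorem pv11_16_2560 : PV 11 226360 2560 :=
  PV.link (j := 79) (TD.ok_of tdc79) 0 1 [0, 1, 2, 2, 0] [0, 0, 0, 1, 1, 0, 1, 0, 1, 0] [0, 1, 1, 1] 15065303 [0, 1, 0, 1, 1, 1, 0, 0, 1, 1] gen11 gen11 pv11_12_2560 (PV.vac vl11_13 (by decide) (by decide)) (by decide +kernel)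
theorem pv7_12_2560 : PV 7 16438032 2560 :=
  PV.link (j := 80) (TD.ok_of tdc80) 0 1 [0, 1, 2, 2, 0] [1, 1, 1, 0, 1, 0, 0, 1] [0, 1, 1, 0, 0, 0] 12068431 [2, 1, 2, 0, 2, 0, 2, 1, 0, 2, 1, 2, 2] gen9 gen7 (PV.vac vl9_9 (by decide) (by decide)) pv9_3_2560 (by decide +kernel)
theorem pv9_8_2560 : PV 9 218296 2560 :=
  PV.link (j := 80) (TD.ok_of tdc80) 1 0 [0, 0, 1, 0, 1, 2, 2] [0, 2, 0, 2, 1, 2, 1, 2] [2, 2, 2, 1] 421534 [1, 1, 1, 0, 0, 1, 1, 1, 0, 1, 1, 0] gen7 gen9 pv7_5_2560 pv7_5_2560 (by decide +kernel)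
theorem pv7_11_2560 : PV 7 16437400 2560 :=
  PV.link (j := 85) (TD.ok_of tdc85) 2 1 [0, 2, 2] [0, 1, 1, 0, 0, 0, 0, 1, 1, 1, 1, 0] [0, 1, 0, 1] 11197078 [1, 1, 1, 2, 0, 2, 0, 2, 0, 2, 1, 0, 2, 0] gen11 gen7 pv11_16_2560 pv11_4_2560 (by decide +kernel)
theorem pv9_10_2560 : PV 9 4588168 2560 :=
  PV.link (j := 86) (TD.ok_of tdc86) 2 0 [0, 1, 0, 0, 2, 2] [1, 2, 1, 2, 1, 1, 1] [1, 1, 2, 1, 2, 1] 12864538 [1, 1, 0, 0, 1, 1, 0, 1, 1, 0, 0, 1, 0] gen7 gen9 pv7_12_2560 pv7_7_2560 (by decide +kernel)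
theorem pv9_1_2560 : PV 9 1257 2560 :=
  PV.link (j := 86) (TD.ok_of tdc86) 2 0 [0, 1, 0, 0, 1, 0, 0, 0] [1, 2] [0, 1, 2, 0, 1, 2, 2, 2, 1] 14979 [1, 0, 0, 1, 0, 1, 0, 0, 0] gen7 gen9 pv7_10_2560 pv7_12_2560 (by decide +kernel)
theorem pv7_6_2560 : PV 7 4588168 2560 :=
  PV.link (j := 87) (TD.ok_of tdc87) 2 1 [0, 1, 2, 2] [1, 1, 2, 0, 1, 1, 2, 2, 2, 1] [2, 2, 1, 2, 2] 2584214 [1, 2, 1, 1, 1, 2, 2, 2, 2, 0] gen7 gen7 pv7_11_2560 pv7_5_2560 (by decide +kernel)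
theorem pv10_3_2560 : PV 10 263 2560 :=
  PV.link (j := 93) (TD.ok_of tdc93) 2 0 [0, 1, 0, 0, 0, 1, 2] [0, 0, 1, 0, 1, 0, 0, 1, 1, 1, 0, 0] [] 14434892 [1, 0, 1, 0, 0, 1, 0, 1, 0, 0, 0, 0, 0] gen9 gen10 pv9_8_2560 (PV.vac vl9_7 (by decide) (by decide)) (by decide +kernel)
theorem pv10_1_2560 : PV 10 3642 2560 :=
  PV.link (j := 99) (TD.ok_of tdc99) 1 0 [0, 1, 0, 0, 1, 2, 0, 2] [] [1, 1, 0, 1, 1, 1, 1, 0, 0, 1, 1] 2007 [0, 0, 0, 0, 0, 0, 1, 0, 0, 1, 0, 0, 0, 1, 0, 0, 0, 0] gen11 gen10 pv11_9_2560 (PV.vac vl11_6 (by decide) (by decide)) (by decide +kernel)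
theorem pv11_3_2560 : PV 11 2184 2560 :=
  PV.link (j := 103) (TD.ok_of tdc103) 0 1 [0, 1, 0, 2, 2, 0] [0, 0, 1] [0, 0, 1, 0, 1, 0, 0, 1, 1, 1] 16746517 [0, 0, 0, 1, 0, 1, 0, 0, 0, 1] gen11 gen11 pv11_12_2560 pv11_10_2560 (by decide +kernel)
theorem pv11_2_2560 : PV 11 1328 2560 :=
  PV.link (j := 103) (TD.ok_of tdc103) 0 1 [0, 1, 0, 2, 2, 0] [0, 0, 1] [0, 0, 1, 0, 1, 0, 0, 1, 1, 1] 14396886 [0, 1, 0, 1, 1, 1, 1, 1, 0, 1, 0] gen11 gen11 pv11_12_2560 pv11_10_2560 (by decide +kernel)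
theorem pv10_0_2560 : PV 10 1328 2560 :=
  PV.link (j := 109) (TD.ok_of tdc109) 0 1 [0, 0, 1, 0, 0, 1, 0] [1, 0, 1, 0, 1, 1, 0, 0] [0, 1, 0, 1] 4639741 [1, 0, 0, 0, 0, 0, 0, 0, 1, 0, 0, 0] gen11 gen10 pv11_10_2560 pv11_8_2560 (by decide +kernel)
theorem pv4_4_2560 : PV 4 4588168 2560 :=
  PV.link (j := 3) (TD.ok_of tdc3) 0 1 [0, 2, 0] [1, 2, 0, 1, 1, 0, 2, 0] [0, 2, 0, 1, 0, 2, 1, 1, 2] 1757701 [1, 1, 1, 1, 1, 0, 1, 0, 1, 0, 1, 1, 0, 1, 1, 0, 1, 0, 1, 1, 0, 1, 1, 1, 1, 0, 1] gen2 gen4 pv2_4_2560 pv2_4_2560 (by decide +kernel)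
theorem pv5_6_2560 : PV 5 5715611 2560 :=
  PV.link (j := 39) (TD.ok_of tdc39) 0 1 [0, 1, 2] [2, 2, 1, 2, 0, 1, 1, 2, 0, 2, 1, 1] [0, 1, 1, 2, 1] 6264568 [0, 1, 1, 0, 0, 1, 0, 0, 0, 0, 0, 0] gen7 gen5 pv7_6_2560 pv7_6_2560 (by decide +kernel)
theorem pv5_8_2560 : PV 5 225631 2560 :=
  PV.link (j := 44) (TD.ok_of tdc44) 0 2 [0, 0, 0, 1] [0, 0, 0, 0, 0, 1, 0, 1, 0, 1] [1, 1, 1, 1, 1, 1] 8658703 [0, 0, 0, 0, 1, 0, 1, 1, 0] gen11 gen5 pv11_14_2560 pv11_1_2560 (by decide +kernel)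
theorem pv11_18_2560 : PV 11 4588168 2560 :=
  PV.link (j := 48) (TD.ok_of tdc48) 1 0 [0, 2, 0, 1] [0, 0, 1, 1] [0, 0, 1, 0, 1, 0, 1, 0, 1, 0, 0, 0] 1555387 [0, 1, 1, 1, 1, 1, 1, 0, 0, 1, 1, 0] gen6 gen11 pv6_8_2560 pv6_2_2560 (by decide +kernel)
theorem pv11_17_2560 : PV 11 16571984 2560 :=
  PV.link (j := 48) (TD.ok_of tdc48) 1 0 [0, 2, 0, 1] [0, 0, 1, 1] [0, 0, 1, 0, 1, 0, 1, 0, 1, 0, 0, 0] 1542923 [0, 1, 0, 1, 0, 0, 1, 0] gen6 gen11 pv6_8_2560 pv6_2_2560 (by decide +kernel)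
theorem pv11_0_2560 : PV 11 1464 2560 :=
  PV.link (j := 70) (TD.ok_of tdc70) 1 0 [] [2, 2, 0, 2, 2, 2, 1, 2, 1] [1, 2, 2, 1, 1, 2, 1, 2, 2, 1, 1] 4030 [1, 0, 1, 1, 1, 1, 0, 1, 0, 0] gen7 gen11 pv7_9_2560 pv7_6_2560 (by decide +kernel)
theorem pv8_0_2560 : PV 8 2952 2560 :=
  PV.link (j := 74) (TD.ok_of tdc74) 0 1 [0, 2, 2] [1, 2, 2, 0, 2, 1] [2, 0, 1, 2, 2, 1, 1, 2, 0, 1, 2] 14165446 [1, 1, 1, 1, 0, 0, 0, 1, 1, 0, 0, 0, 0, 1, 0, 0] gen7 gen8 pv7_12_2560 pv7_11_2560 (by decide +kernel)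
theorem pv11_20_2560 : PV 11 5896792 2560 :=
  PV.link (j := 76) (TD.ok_of tdc76) 1 0 [0, 0, 1, 2, 0, 2] [0, 1, 0, 0, 1] [0, 0, 0, 1, 0, 1, 1, 1, 0, 1] 5896792 [] gen9 gen11 (PV.vac vl9_4 (by decide) (by decide)) pv9_1_2560 (by decide +kernel)
theorem pv11_15_2560 : PV 11 31360 2560 :=
  PV.link (j := 88) (TD.ok_of tdc88) 2 0 [0, 2, 0, 1, 0, 2, 0] [0, 1, 0] [0, 1, 1, 1, 1, 0, 1, 0, 1, 0, 0, 1, 0] 31360 [] gen8 gen11 (PV.vac vl8_3 (by decide) (by decide)) pv8_0_2560 (by decide +kernel)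
theorem pv2_3_2048 : PV 2 4588168 2048 := bs2_3 2048
theorem pv3_1_2048 : PV 3 1328 2048 :=
  PV.link (j := 2) (TD.ok_of tdc2) 0 1 [] [1, 0, 1, 1] [1, 2, 0, 1, 2, 1, 2, 0, 1] 1383 [0, 0, 0, 0, 0, 0, 1, 0, 1, 0, 1, 0, 0, 0] gen2 gen3 (PV.vac vl2_0 (by decide) (by decide)) pv2_3_2048 (by decide +kernel)
theorem pv3_3_2048 : PV 3 2720 2048 :=
  PV.link (j := 2) (TD.ok_of tdc2) 0 1 [] [1, 0, 1, 1] [1, 2, 0, 1, 2, 1, 2, 0, 1] 2869 [1, 0, 1, 0, 0, 1] gen2 gen3 (PV.vac vl2_0 (by decide) (by decide)) pv2_3_2048 (by decide +kernel)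
theorem pv4_0_2048 : PV 4 2952 2048 :=
  PV.link (j := 3) (TD.ok_of tdc3) 0 1 [] [2, 2, 2, 2, 1, 1] [0, 2, 1, 1, 0, 1, 2, 1] 1036 [1, 1, 1, 1, 0, 1, 0, 1, 1, 0, 1, 0, 1, 1, 0] gen2 gen4 pv2_3_2048 (PV.vac vl2_2 (by decide) (by decide)) (by decide +kernel)
theorem pv1_3_2048 : PV 1 1601542 2048 :=
  PV.link (j := 15) (TD.ok_of tdc15) 0 2 [0, 0, 2, 0, 0, 1, 0] [0, 0, 0] [0, 0, 1, 0] 8164588 [0, 1, 2, 0, 2, 3, 0, 3] gen3 gen1 pv3_1_2048 pv3_1_2048 (by decide +kernel)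
theorem pv3_0_2048 : PV 3 1464 2048 :=
  PV.link (j := 15) (TD.ok_of tdc15) 2 0 [0, 1, 0, 2, 0] [4, 1, 3, 1] [2, 0, 2, 4, 1, 4, 0] 459 [1, 0, 1, 0, 0, 0, 1, 0, 0, 0, 1, 0, 0, 1, 0, 1, 0, 0] gen1 gen3 pv1_3_2048 pv1_3_2048 (by decide +kernel)
theorem pv3_4_2048 : PV 3 1887 2048 :=
  PV.link (j := 17) (TD.ok_of tdc17) 1 0 [0] [1, 0, 1, 1, 2, 1, 2] [1, 2, 1, 1, 2, 1, 0, 1] 3598 [0, 0, 0, 0, 0, 0, 1, 0, 0] gen2 gen3 (PV.vac vl2_0 (by decide) (by decide)) pv2_3_2048 (by decide +kernel)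
theorem pv4_1_2048 : PV 4 1328 2048 :=
  PV.link (j := 14) (TD.ok_of tdc14) 2 0 [0, 2] [1, 0, 2, 3, 0, 3, 1, 4] [4, 0, 2, 4, 1, 2, 3] 2311 [1, 0, 1, 0, 1, 0, 1, 1, 1, 1, 0, 1] gen1 gen4 pv1_3_2048 pv1_3_2048 (by decide +kernel)
theorem pv6_4_2048 : PV 6 1454 2048 :=
  PV.link (j := 19) (TD.ok_of tdc19) 2 0 [] [0, 1, 1, 0, 1, 1] [1, 2, 0, 1, 1, 2, 2, 0, 2, 1, 2] 3040 [0, 1, 1, 0, 0, 0] gen2 gen6 (PV.vac vl2_5 (by decide) (by decide)) pv2_3_2048 (by decide +kernel)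
theorem pv5_0_2048 : PV 5 1328 2048 :=
  PV.link (j := 25) (TD.ok_of tdc25) 0 1 [0, 0, 1, 2, 0, 0, 1, 2] [1, 0, 1, 0] [0, 0, 1, 0, 0] 6525794 [0, 0, 0, 0, 1, 1, 0, 0, 1, 0, 1, 0] gen6 gen5 pv6_4_2048 (PV.vac vl6_3 (by decide) (by decide)) (by decide +kernel)
theorem pv7_4_2048 : PV 7 1168 2048 :=
  PV.link (j := 39) (TD.ok_of tdc39) 2 0 [0, 2, 0, 1, 0, 2, 0] [1, 0] [0, 0, 0, 1, 1, 0, 0, 1] 2703 [2, 1, 2, 1, 0, 2] gen6 gen7 pv6_4_2048 (PV.vac vl6_2 (by decide) (by decide)) (by decide +kernel)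
theorem pv6_1_2048 : PV 6 1328 2048 :=
  PV.link (j := 46) (TD.ok_of tdc46) 0 1 [0, 0, 1, 0, 2, 2] [0, 2, 2, 1, 2, 1] [2, 1, 1, 2, 1] 3088 [0, 0, 0, 0, 0, 1, 1, 1, 0, 1, 0] gen7 gen6 (PV.vac vl7_0 (by decide) (by decide)) pv7_4_2048 (by decide +kernel)
theorem pv7_1_2048 : PV 7 1328 2048 :=
  PV.link (j := 46) (TD.ok_of tdc46) 1 0 [0, 0, 1, 2, 0, 0, 1] [0, 0, 1, 1, 1, 1, 0, 0, 0, 0] [] 3082 [2, 2, 2, 0, 2] gen6 gen7 pv6_1_2048 pv6_4_2048 (by decide +kernel)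
theorem pv6_0_2048 : PV 6 1257 2048 :=
  PV.link (j := 46) (TD.ok_of tdc46) 1 2 [0, 0, 1, 2, 0, 0, 1] [0, 0, 1, 1, 1, 1, 0, 0, 0, 0] [] 2545 [1, 1, 1, 1, 1, 1, 0, 1, 1, 1, 0, 0] gen6 gen6 pv6_1_2048 pv6_4_2048 (by decide +kernel)
theorem pv6_10_2048 : PV 6 4588161 2048 :=
  PV.link (j := 59) (TD.ok_of tdc59) 2 0 [0, 1, 0] [0, 1, 1, 0, 0, 1, 0, 1] [0, 0, 0, 1, 1, 1] 2681926 [1, 0, 0, 1, 0, 1, 0, 0, 0] gen6 gen6 pv6_0_2048 pv6_0_2048 (by decide +kernel)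
theorem pv9_6_2048 : PV 9 5838894 2048 :=
  PV.link (j := 59) (TD.ok_of tdc59) 2 1 [0, 1, 0] [0, 1, 1, 0, 0, 1, 0, 1] [0, 0, 0, 1, 1, 1] 38352 [0, 1, 1, 0, 0, 1, 1, 1, 1, 0, 0] gen6 gen9 pv6_0_2048 pv6_0_2048 (by decide +kernel)
theorem pv10_5_2048 : PV 10 3872 2048 :=
  PV.link (j := 63) (TD.ok_of tdc63) 2 0 [0, 1, 0] [0, 1, 2, 1, 2, 2, 2] [2, 2, 2, 0, 2, 1, 2] 2000 [0, 1, 0] gen7 gen10 (PV.vac vl7_5 (by decide) (by decide)) pv7_4_2048 (by decide +kernel)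
theorem pv11_1_2048 : PV 11 1040 2048 :=
  PV.link (j := 63) (TD.ok_of tdc63) 2 1 [0, 1, 0] [0, 1, 2, 1, 2, 2, 2] [2, 2, 2, 0, 2, 1, 2] 1525 [0, 0, 1, 1, 0, 1, 1, 1, 1, 0, 0] gen7 gen11 (PV.vac vl7_5 (by decide) (by decide)) pv7_4_2048 (by decide +kernel)
theorem pv11_13_2048 : PV 11 16765792 2048 :=
  PV.link (j := 69) (TD.ok_of tdc69) 0 1 [] [1, 1, 0, 0, 1, 0, 1, 0, 0, 0, 1, 0, 1] [1, 0, 0, 1] 7602772 [1, 0, 0, 1, 1, 0] gen11 gen11 (PV.vac vl11_4 (by decide) (by decide)) pv11_1_2048 (by decide +kernel)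
theorem pv7_9_2048 : PV 7 31104 2048 :=
  PV.link (j := 69) (TD.ok_of tdc69) 0 2 [] [1, 1, 0, 0, 1, 0, 1, 0, 0, 0, 1, 0, 1] [1, 0, 0, 1] 2521554 [0, 2, 2, 1, 2, 1, 1, 0, 2, 1] gen11 gen7 (PV.vac vl11_4 (by decide) (by decide)) pv11_1_2048 (by decide +kernel)
theorem pv10_2_2048 : PV 10 1464 2048 :=
  PV.link (j := 72) (TD.ok_of tdc72) 2 0 [0, 0] [2, 0, 2, 0, 2, 1, 2, 2, 0, 2, 2, 1, 1] [1, 1] 644 [0, 1, 0, 1, 0, 0, 0, 1, 0, 0, 0] gen7 gen10 (PV.vac vl7_8 (by decide) (by decide)) pv7_4_2048 (by decide +kernel)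
theorem pv9_0_2048 : PV 9 1328 2048 :=
  PV.link (j := 72) (TD.ok_of tdc72) 2 1 [0, 0] [2, 0, 2, 0, 2, 1, 2, 2, 0, 2, 2, 1, 1] [1, 1] 25056 [0, 1, 1, 0, 0, 0, 0, 1, 0, 1, 1, 1, 0] gen7 gen9 (PV.vac vl7_8 (by decide) (by decide)) pv7_4_2048 (by decide +kernel)
theorem pv10_6_2048 : PV 10 1626 2048 :=
  PV.link (j := 103) (TD.ok_of tdc103) 0 2 [0, 1] [0, 0, 0, 0, 1, 1, 0, 1] [1, 1, 0, 1, 0, 1, 0] 14157161 [1, 0, 0, 0, 0, 1, 0, 1, 0, 1, 0] gen11 gen10 pv11_13_2048 (PV.vac vl11_12 (by decide) (by decide)) (by decide +kernel)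
theorem pv11_7_2048 : PV 11 2652 2048 :=
  PV.link (j := 41) (TD.ok_of tdc41) 1 0 [0] [0, 0, 1, 1, 1, 0, 1, 0, 0, 0, 1, 0, 1, 1, 1] [0, 1, 1] 3095 [1, 0] gen5 gen11 pv5_0_2048 (PV.vac vl5_5 (by decide) (by decide)) (by decide +kernel)
theorem pv11_9_2048 : PV 11 2080 2048 :=
  PV.link (j := 76) (TD.ok_of tdc76) 1 0 [0, 0, 1, 0, 1, 2, 2, 0] [0, 0, 0, 1, 0, 0, 0, 0, 0, 1] [0] 2080 [] gen9 gen11 pv9_0_2048 (PV.vac vl9_3 (by decide) (by decide)) (by decide +kernel)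
theorem pv3_5_2048 : PV 3 3040 2048 :=
  PV.link (j := 2) (TD.ok_of tdc2) 0 1 [0, 1, 2, 2, 0, 2, 2, 0] [0, 2, 2] [0, 2, 0, 2, 1, 1, 2, 2, 2] 3040 [] gen2 gen3 (PV.vac vl2_1 (by decide) (by decide)) pv2_3_2048 (by decide +kernel)
theorem pv2_5_6656 : PV 2 16439711 6656 := bs2_5 6656
theorem pv5_2_6656 : PV 5 2791 6656 :=
  PV.link (j := 20) (TD.ok_of tdc20) 2 0 [0, 0] [0, 2, 2, 0, 2, 2, 1] [2, 1, 1, 1, 1, 2] 112 [1, 1, 1, 0, 0, 1, 0, 1, 0, 0] gen2 gen5 pv2_5_6656 (PV.vac vl2_0 (by decide) (by decide)) (by decide +kernel)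
theorem pv5_4_6656 : PV 5 2160 6656 :=
  PV.link (j := 20) (TD.ok_of tdc20) 2 0 [0, 0] [0, 2, 2, 0, 2, 2, 1] [2, 1, 1, 1, 1, 2] 2160 [] gen2 gen5 pv2_5_6656 (PV.vac vl2_0 (by decide) (by decide)) (by decide +kernel)
theorem pv9_4_6656 : PV 9 1520 6656 :=
  PV.link (j := 45) (TD.ok_of tdc45) 1 0 [0, 0, 1, 0, 2, 2, 0] [1, 0, 1, 0, 1, 1, 1, 0] [] 1520 [] gen5 gen9 (PV.vac vl5_7 (by decide) (by decide)) pv5_4_6656 (by decide +kernel)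
theorem pv11_20_6656 : PV 11 5896792 6656 :=
  PV.link (j := 76) (TD.ok_of tdc76) 1 0 [0, 1, 2, 0, 0, 1] [] [1, 1, 0, 1, 0, 0, 0, 1, 1, 1] 5894776 [1] gen9 gen11 pv9_4_6656 (PV.vac vl9_1 (by decide) (by decide)) (by decide +kernel)
theorem pv7_3_6656 : PV 7 660 6656 :=
  PV.link (j := 76) (TD.ok_of tdc76) 1 2 [0, 1, 2, 0, 0, 1] [] [1, 1, 0, 1, 0, 0, 0, 1, 1, 1] 1862 [0, 2, 1, 2, 1] gen9 gen7 pv9_4_6656 (PV.vac vl9_1 (by decide) (by decide)) (by decide +kernel)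
theorem pv3_6_6656 : PV 3 7820306 6656 :=
  PV.link (j := 6) (TD.ok_of tdc6) 1 0 [0, 0, 1, 0, 2, 0, 2, 2, 0] [2] [1, 1, 2, 2, 0, 2, 1] 34064 [1, 0, 0, 0, 1, 0, 0, 1, 0, 1, 0, 0, 0, 0, 0] gen7 gen3 (PV.vac vl7_0 (by decide) (by decide)) pv7_3_6656 (by decide +kernel)
theorem pv6_4_6656 : PV 6 1454 6656 :=
  PV.link (j := 19) (TD.ok_of tdc19) 2 0 [] [0, 1, 1, 0, 1, 1] [1, 2, 0, 1, 1, 2, 2, 0, 2, 1, 2] 3040 [0, 1, 1, 0, 0, 0] gen2 gen6 pv2_5_6656 (PV.vac vl2_3 (by decide) (by decide)) (by decide +kernel)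
theorem pv3_9_3072 : PV 3 218181 3072 := bs3_9 3072
theorem pv10_5_3072 : PV 10 3872 3072 :=
  PV.link (j := 29) (TD.ok_of tdc29) 2 0 [0, 1, 0, 2, 2] [1, 0, 0, 0, 0, 1, 0, 0, 1, 0, 1, 0, 1, 0, 1, 0, 0, 0] [0, 0] 3261 [1, 0] gen3 gen10 (PV.vac vl3_0 (by decide) (by decide)) pv3_9_3072 (by decide +kernel)
theorem pv9_0_3072 : PV 9 1328 3072 :=
  PV.link (j := 9) (TD.ok_of tdc9) 0 1 [0, 1, 2, 0, 2] [0, 0, 1, 0, 0, 0, 1, 0, 0, 0, 0, 0, 0, 0, 1] [0, 1, 0, 0, 1, 0] 25536 [1, 0, 0, 0, 1, 1, 0, 1, 0] gen3 gen9 pv3_9_3072 (PV.vac vl3_0 (by decide) (by decide)) (by decide +kernel)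
theorem pv6_9_3072 : PV 6 218181 3072 :=
  PV.link (j := 59) (TD.ok_of tdc59) 1 0 [0, 1, 0, 0, 0, 2, 2] [0, 1, 0, 0, 0, 1, 0, 1, 1, 0, 1, 0] [1, 0, 1, 0, 1, 0, 1] 2545279 [0, 0, 1, 1, 0, 0, 0, 1, 0, 0, 0, 1, 1, 0] gen9 gen6 (PV.vac vl9_8 (by decide) (by decide)) pv9_0_3072 (by decide +kernel)
theorem pv10_1_3072 : PV 10 3642 3072 :=
  PV.link (j := 72) (TD.ok_of tdc72) 1 0 [0, 2, 0, 1] [0, 0, 1, 0, 1, 0, 0, 1, 0] [0, 1, 0, 1, 1, 0, 0, 0, 0, 1, 1, 1, 0] 7369055 [0, 0, 1, 0, 1, 0, 1, 0, 1, 0, 1, 0, 1, 0] gen9 gen10 pv9_0_3072 (PV.vac vl9_8 (by decide) (by decide)) (by decide +kernel)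
theorem pv7_10_3072 : PV 7 4611277 3072 :=
  PV.link (j := 72) (TD.ok_of tdc72) 1 2 [0, 2, 0, 1] [0, 0, 1, 0, 1, 0, 0, 1, 0] [0, 1, 0, 1, 1, 0, 0, 0, 0, 1, 1, 1, 0] 778020 [1, 2, 2, 1, 0, 2, 2, 2, 1] gen9 gen7 pv9_0_3072 (PV.vac vl9_8 (by decide) (by decide)) (by decide +kernel)
theorem pv7_8_3072 : PV 7 1523615 3072 :=
  PV.link (j := 72) (TD.ok_of tdc72) 1 2 [0, 1, 0] [0, 0, 1, 0, 0, 1, 0, 0, 1, 1, 1, 0] [0, 0, 0, 1, 1, 0, 1, 1, 1, 0, 0] 4666415 [2, 2, 2, 2, 2, 1, 2, 1, 1, 2] gen9 gen7 pv9_0_3072 pv9_0_3072 (by decide +kernel)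
theorem pv10_4_3072 : PV 10 2928 3072 :=
  PV.link (j := 72) (TD.ok_of tdc72) 2 0 [0, 0, 1, 0, 2, 2] [2, 2, 2, 0, 2, 2, 1] [0, 2, 2, 0, 2, 0, 1, 2, 2, 2, 2, 1, 1] 2077 [1, 0, 0, 0, 0, 0, 0, 0, 0] gen7 gen10 (PV.vac vl7_4 (by decide) (by decide)) pv7_8_3072 (by decide +kernel)
theorem pv10_2_3072 : PV 10 1464 3072 :=
  PV.link (j := 72) (TD.ok_of tdc72) 2 0 [0, 0, 1, 0, 2, 2] [2, 2, 2, 0, 2, 2, 1] [0, 2, 2, 0, 2, 0, 1, 2, 2, 2, 2, 1, 1] 489 [0, 0, 0, 1, 0, 0, 0, 0, 0] gen7 gen10 (PV.vac vl7_4 (by decide) (by decide)) pv7_8_3072 (by decide +kernel)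
theorem pv9_7_3072 : PV 9 219826 3072 :=
  PV.link (j := 72) (TD.ok_of tdc72) 2 1 [0, 0, 1, 0, 2, 2] [2, 2, 2, 0, 2, 2, 1] [0, 2, 2, 0, 2, 0, 1, 2, 2, 2, 2, 1, 1] 4160 [1, 0, 0, 1, 1, 0, 0, 0, 0, 1] gen7 gen9 (PV.vac vl7_4 (by decide) (by decide)) pv7_8_3072 (by decide +kernel)
theorem pv9_4_3072 : PV 9 1520 3072 :=
  PV.link (j := 73) (TD.ok_of tdc73) 0 1 [0, 0, 1, 2, 0, 0, 1] [2, 1, 2, 0, 2, 1] [2, 1, 2, 2, 2, 0, 1, 2, 1, 2, 2, 0, 2] 5024 [0, 0, 0, 1, 1, 0, 0, 0, 0, 0] gen7 gen9 (PV.vac vl7_3 (by decide) (by decide)) pv7_8_3072 (by decide +kernel)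
theorem pv9_2_3072 : PV 9 1296 3072 :=
  PV.link (j := 73) (TD.ok_of tdc73) 0 1 [0, 0, 1, 2, 0, 0, 1] [2, 1, 2, 0, 2, 1] [2, 1, 2, 2, 2, 0, 1, 2, 1, 2, 2, 0, 2] 58688 [0, 0, 0, 1, 0, 0, 1, 0, 0, 0, 0, 1, 0, 1] gen7 gen9 (PV.vac vl7_3 (by decide) (by decide)) pv7_8_3072 (by decide +kernel)
theorem pv7_5_3072 : PV 7 1470540 3072 :=
  PV.link (j := 73) (TD.ok_of tdc73) 2 0 [] [0, 0, 0, 1, 0, 0, 1, 0, 0, 1, 0, 0, 0] [0, 0, 1, 1, 0, 0, 1, 0, 0, 0, 1, 0, 0] 11344 [2, 1, 1, 2, 1, 0, 2, 1, 2, 2] gen9 gen7 pv9_0_3072 (PV.vac vl9_8 (by decide) (by decide)) (by decide +kernel)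
theorem pv11_13_3072 : PV 11 16765792 3072 :=
  PV.link (j := 75) (TD.ok_of tdc75) 0 1 [0, 2, 0, 1, 0, 1] [0, 1, 0, 0, 0, 0, 0, 0, 0, 0, 1, 0] [0, 0, 1, 0, 0, 0, 1, 0] 4281646 [0, 1, 1, 1, 0, 1, 0] gen10 gen11 (PV.vac vl10_6 (by decide) (by decide)) pv10_4_3072 (by decide +kernel)
theorem pv11_3_3072 : PV 11 2184 3072 :=
  PV.link (j := 75) (TD.ok_of tdc75) 2 1 [0, 1, 2, 0, 2, 2, 0, 1] [2, 2, 2, 0, 2, 1, 1] [0, 1, 2, 1, 2, 2, 0, 1, 2, 2, 2] 5891094 [0, 1, 0, 0, 0, 1, 1, 1, 1] gen7 gen11 pv7_5_3072 (PV.vac vl7_6 (by decide) (by decide)) (by decide +kernel)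
theorem pv11_4_3072 : PV 11 1900 3072 :=
  PV.link (j := 76) (TD.ok_of tdc76) 1 0 [0, 0, 1, 0, 0, 1, 2] [1, 0, 1, 0, 0, 0, 0, 0, 0, 1, 1, 0] [1, 0, 0, 0, 0, 0, 1] 16155119 [0, 1, 1, 1, 0, 0, 1, 1, 1, 0, 1, 0] gen9 gen11 (PV.vac vl9_8 (by decide) (by decide)) pv9_2_3072 (by decide +kernel)
theorem pv7_12_3072 : PV 7 16438032 3072 :=
  PV.link (j := 77) (TD.ok_of tdc77) 0 1 [0, 1, 0, 0, 2] [1, 1, 0, 1, 0, 1, 1, 0, 1] [1, 1, 0, 0, 1, 0, 1, 1, 0, 0, 0, 1] 8655764 [0, 2, 1, 1, 0, 2, 1, 0] gen11 gen7 (PV.vac vl11_18 (by decide) (by decide)) pv11_4_3072 (by decide +kernel)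
theorem pv11_19_3072 : PV 11 1995288 3072 :=
  PV.link (j := 77) (TD.ok_of tdc77) 1 0 [0, 0, 1, 2, 0, 2, 0, 0] [2, 2, 0, 1, 2] [1, 1, 1, 2, 1, 1, 2, 0, 2, 0, 1, 2, 1] 10823960 [1, 1, 0, 1, 1, 1, 1, 0, 1, 0, 1] gen7 gen11 pv7_5_3072 pv7_8_3072 (by decide +kernel)
theorem pv11_16_3072 : PV 11 226360 3072 :=
  PV.link (j := 77) (TD.ok_of tdc77) 1 0 [0, 1, 2, 0, 0, 1] [1, 1, 2, 1, 2, 0, 2, 0, 1, 2, 0, 1, 2] [1, 2, 1, 2, 2, 0, 1] 13759694 [0, 0, 0, 0, 1, 0, 0, 0, 0, 1, 0, 0] gen7 gen11 (PV.vac vl7_11 (by decide) (by decide)) pv7_12_3072 (by decide +kernel)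
theorem pv11_12_3072 : PV 11 29752 3072 :=
  PV.link (j := 77) (TD.ok_of tdc77) 1 0 [0, 1] [1, 2, 1, 2, 0, 2, 1, 1, 1, 2, 1] [1, 2, 0, 2, 2, 0, 2, 2, 2, 1, 2, 2, 0] 10954630 [0, 1, 0, 1, 1, 0, 1, 0, 1, 1, 0, 1, 1] gen7 gen11 pv7_12_3072 pv7_12_3072 (by decide +kernel)
theorem pv11_6_3072 : PV 11 2772 3072 :=
  PV.link (j := 77) (TD.ok_of tdc77) 1 0 [0, 1, 2, 2, 0, 0, 0] [0, 1, 2, 0, 2, 0, 2, 0, 2, 1, 1] [0, 2, 1, 2, 2, 1, 1, 2] 11430316 [1, 1, 0, 1, 1, 1, 1, 0, 1, 1, 0] gen7 gen11 pv7_5_3072 pv7_10_3072 (by decide +kernel)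
theorem pv10_7_3072 : PV 10 8121296 3072 :=
  PV.link (j := 77) (TD.ok_of tdc77) 1 2 [0, 1] [1, 2, 1, 2, 0, 2, 1, 1, 1, 2, 1] [1, 2, 0, 2, 2, 0, 2, 2, 2, 1, 2, 2, 0] 15012957 [0, 1, 0, 0, 0, 0, 0, 0, 0, 1, 0, 1, 0, 0, 1, 0, 0, 0, 1] gen7 gen10 pv7_12_3072 pv7_12_3072 (by decide +kernel)
theorem pv10_10_3072 : PV 10 5715611 3072 :=
  PV.link (j := 77) (TD.ok_of tdc77) 1 2 [0, 1, 2, 2, 0, 2] [1, 2, 2, 2, 0, 1, 2, 0] [2, 0, 2, 0, 2, 0, 2, 2, 1, 1, 1, 2] 8326179 [1, 0, 1, 0, 0, 0, 0, 0, 0, 0, 1, 0, 1, 0, 0, 0, 0, 0] gen7 gen10 pv7_8_3072 (PV.vac vl7_6 (by decide) (by decide)) (by decide +kernel)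
theorem pv11_11_3072 : PV 11 16708838 3072 :=
  PV.link (j := 79) (TD.ok_of tdc79) 1 0 [0, 2, 2, 0, 1, 0, 1, 2] [0, 0, 0, 0, 1, 0, 0, 0, 1, 1, 0] [0, 1, 0, 0, 1, 1, 1] 2416688 [1, 1, 0, 0, 0, 1] gen11 gen11 (PV.vac vl11_17 (by decide) (by decide)) pv11_6_3072 (by decide +kernel)
theorem pv7_13_3072 : PV 7 16439684 3072 :=
  PV.link (j := 79) (TD.ok_of tdc79) 1 2 [0, 2, 2, 0, 1, 0, 1, 2] [0, 0, 0, 0, 1, 0, 0, 0, 1, 1, 0] [0, 1, 0, 0, 1, 1, 1] 16606583 [1, 1, 2, 1, 2, 1, 1, 0, 2, 0] gen11 gen7 (PV.vac vl11_17 (by decide) (by decide)) pv11_6_3072 (by decide +kernel)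
theorem pv8_1_3072 : PV 8 1328 3072 :=
  PV.link (j := 88) (TD.ok_of tdc88) 0 2 [0, 1] [0, 1, 1, 1, 0, 0, 0, 1, 0, 1, 1] [0, 0, 0, 1, 0, 1, 0, 1, 0, 0, 0, 1, 1] 2220 [0, 1, 0, 1, 0, 0, 1, 0, 0, 1, 0] gen11 gen8 pv11_12_3072 pv11_4_3072 (by decide +kernel)
theorem pv8_4_3072 : PV 8 4588168 3072 :=
  PV.link (j := 89) (TD.ok_of tdc89) 0 1 [0, 0, 1, 0, 2, 0, 0] [1, 0, 1, 0, 0, 1, 1, 1, 1, 0] [0, 0, 1, 1, 0, 0, 1, 1, 1] 30256 [1, 0, 0, 0, 1, 1, 0, 1, 0, 0, 1, 1, 0, 1, 0, 1] gen11 gen8 pv11_11_3072 (PV.vac vl11_15 (by decide) (by decide)) (by decide +kernel)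
theorem pv10_9_3072 : PV 10 3183780 3072 :=
  PV.link (j := 89) (TD.ok_of tdc89) 0 2 [0, 0, 1, 0, 2, 0, 0] [1, 0, 1, 0, 0, 1, 1, 1, 1, 0] [0, 0, 1, 1, 0, 0, 1, 1, 1] 7742324 [0, 0, 0, 1, 0] gen11 gen10 pv11_11_3072 (PV.vac vl11_15 (by decide) (by decide)) (by decide +kernel)
theorem pv9_9_3072 : PV 9 4590092 3072 :=
  PV.link (j := 94) (TD.ok_of tdc94) 0 1 [0, 1, 0, 0, 2, 0] [1, 0, 0, 0, 1, 0, 0, 1, 1] [0, 1, 0, 1, 1, 1, 1, 0, 0, 1, 1] 4257293 [1, 0, 0, 0, 0, 1, 0, 1, 1, 1, 1, 0, 0, 1, 0] gen11 gen9 pv11_13_3072 pv11_12_3072 (by decide +kernel)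
theorem pv4_5_3072 : PV 4 226360 3072 :=
  PV.link (j := 35) (TD.ok_of tdc35) 0 2 [0, 1, 0, 2, 2, 0, 1, 2] [0, 0, 1, 0, 1, 1, 1, 1, 0, 0, 1, 0] [1, 0, 0, 0, 1, 0, 1] 12044581 [0, 1, 0, 1, 1, 1, 1, 1, 0, 1, 0, 1, 0, 1, 0, 1, 1, 1, 0, 1, 1, 1] gen9 gen4 pv9_0_3072 pv9_0_3072 (by decide +kernel)
theorem pv5_7_3072 : PV 5 218181 3072 :=
  PV.link (j := 39) (TD.ok_of tdc39) 2 1 [0, 1, 2, 0, 0] [1, 1, 1, 0, 1, 1, 1, 0, 0, 0, 1, 0, 0, 1, 1] [1, 0, 0, 0, 1, 0, 1] 1797732 [0, 1, 0, 1, 0, 0, 0, 0, 1, 1, 0, 0, 0, 0, 0] gen6 gen5 pv6_9_3072 pv6_9_3072 (by decide +kernel)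
theorem pv6_6_3072 : PV 6 5839424 3072 :=
  PV.link (j := 46) (TD.ok_of tdc46) 1 2 [0, 0, 1, 0, 2, 0, 0, 0] [1, 1, 1, 0, 1, 0, 0] [1, 0, 0, 1, 0, 0, 1, 1, 0, 1, 1, 0] 5839424 [] gen6 gen6 pv6_9_3072 pv6_9_3072 (by decide +kernel)
theorem pv9_5_3072 : PV 9 3568 3072 :=
  PV.link (j := 35) (TD.ok_of tdc35) 2 0 [0, 0, 1, 0, 2, 2] [0] [1, 1, 0, 1, 0, 1, 1, 1, 1, 0, 1, 0, 1, 1, 0, 1, 1, 1, 0, 1, 0, 1, 1, 1] 3568 [] gen4 gen9 (PV.vac vl4_3 (by decide) (by decide)) pv4_5_3072 (by decide +kernel)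
theorem pv4_6_2048 : PV 4 2788494 2048 := bs4_6 2048
theorem pv8_3_2048 : PV 8 2720 2048 :=
  PV.link (j := 38) (TD.ok_of tdc38) 2 0 [0, 1, 0, 2] [1] [1, 0, 1, 1, 1, 1, 0, 1, 1, 1, 0, 1, 0, 1] 743 [0, 1, 1, 1, 0, 0, 0, 1] gen4 gen8 (PV.vac vl4_2 (by decide) (by decide)) pv4_6_2048 (by decide +kernel)
theorem pv8_2_2048 : PV 8 1680 2048 :=
  PV.link (j := 38) (TD.ok_of tdc38) 2 0 [0, 0, 1, 0, 1] [1, 0, 1, 0, 1, 1, 1, 1, 1, 1, 1, 0] [1, 1] 3878 [1, 1, 1, 0, 0] gen4 gen8 pv4_6_2048 pv4_1_2048 (by decide +kernel)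
theorem pv10_9_2048 : PV 10 3183780 2048 :=
  PV.link (j := 7) (TD.ok_of tdc7) 0 1 [0, 1, 0, 0, 0, 0] [1, 1, 1, 0, 1, 1] [1, 0, 0, 0, 1, 0, 1, 0] 7744545 [0, 1, 0, 0, 0, 1, 0, 1, 0, 0] gen8 gen10 pv8_3_2048 (PV.vac vl8_1 (by decide) (by decide)) (by decide +kernel)
theorem pv11_15_2048 : PV 11 31360 2048 :=
  PV.link (j := 88) (TD.ok_of tdc88) 2 0 [0, 2, 0, 1, 0, 2, 0] [0, 1, 0] [0, 1, 1, 1, 1, 0, 1, 0, 1, 0, 0, 1, 0] 31360 [] gen8 gen11 pv8_3_2048 (PV.vac vl8_0 (by decide) (by decide)) (by decide +kernel)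

theorem so0 : ∀ s ∈ sd 0, SO 0 s :=
  List.forall_mem_cons.2 ⟨SO.of vl0_0 PV.c1 PV.c1 (by decide),
  List.forall_mem_cons.2 ⟨SO.of vl0_1 (PV.nz (n := 2791) (by decide)) (PV.nz (n := 2791) (by decide)) (by decide),
  List.forall_mem_cons.2 ⟨SO.of vl0_2 PV.c0 (PV.nz (n := 3040) (by decide)) (by decide),
  List.forall_mem_cons.2 ⟨SO.of vl0_3 (PV.nz (n := 218181) (by decide)) (PV.nz (n := 218181) (by decide)) (by decide),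
  fun s hs => SO.big (H29.allL_true.1 (show H29.allL _ (fun s : ℕ × ℕ => Nat.ble 3 s.1) = true by decide) s hs)⟩⟩⟩⟩

theorem so1 : ∀ s ∈ sd 1, SO 1 s :=
  List.forall_mem_cons.2 ⟨SO.of vl1_0 pv1_0_0 pv1_0_0 (by decide),
  List.forall_mem_cons.2 ⟨SO.of vl1_1 pv1_1_4096 pv1_1_4096 (by decide),
  List.forall_mem_cons.2 ⟨SO.of vl1_2 pv1_2_0 pv1_2_16384 (by decide),
  List.forall_mem_cons.2 ⟨SO.of vl1_3 pv1_3_2048 pv1_3_2048 (by decide),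
  fun s hs => SO.big (H29.allL_true.1 (show H29.allL _ (fun s : ℕ × ℕ => Nat.ble 3 s.1) = true by decide) s hs)⟩⟩⟩⟩

theorem so2 : ∀ s ∈ sd 2, SO 2 s :=
  List.forall_mem_cons.2 ⟨SO.of vl2_0 pv2_0_0 pv2_0_4096 (by decide),
  List.forall_mem_cons.2 ⟨SO.of vl2_1 pv2_1_4096 pv2_1_16384 (by decide),
  List.forall_mem_cons.2 ⟨SO.of vl2_2 pv2_2_4096 pv2_2_4096 (by decide),
  List.forall_mem_cons.2 ⟨SO.of vl2_3 pv2_3_2048 pv2_3_2048 (by decide),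
  List.forall_mem_cons.2 ⟨SO.of vl2_4 pv2_4_2560 pv2_4_2560 (by decide),
  List.forall_mem_cons.2 ⟨SO.of vl2_5 pv2_5_6656 pv2_5_6656 (by decide),
  fun s hs => SO.big (H29.allL_true.1 (show H29.allL _ (fun s : ℕ × ℕ => Nat.ble 3 s.1) = true by decide) s hs)⟩⟩⟩⟩⟩⟩

theorem so3 : ∀ s ∈ sd 3, SO 3 s :=
  List.forall_mem_cons.2 ⟨SO.of vl3_0 pv3_0_2048 pv3_0_2048 (by decide),
  List.forall_mem_cons.2 ⟨SO.of vl3_1 pv3_1_4096 pv3_1_2048 (by decide),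
  List.forall_mem_cons.2 ⟨SO.of vl3_2 pv3_2_4096 pv3_2_4096 (by decide),
  List.forall_mem_cons.2 ⟨SO.of vl3_3 pv3_3_0 pv3_3_2048 (by decide),
  List.forall_mem_cons.2 ⟨SO.of vl3_4 pv3_4_4096 pv3_4_2048 (by decide),
  List.forall_mem_cons.2 ⟨SO.of vl3_5 pv3_5_2048 pv3_5_16384 (by decide),
  List.forall_mem_cons.2 ⟨SO.of vl3_6 pv3_6_6656 pv3_6_2560 (by decide),
  List.forall_mem_cons.2 ⟨SO.of vl3_7 pv3_7_2560 pv3_7_2560 (by decide),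
  List.forall_mem_cons.2 ⟨SO.of vl3_8 pv3_8_2560 pv3_8_2560 (by decide),
  List.forall_mem_cons.2 ⟨SO.of vl3_9 pv3_9_3072 pv3_9_3072 (by decide),
  fun s hs => SO.big (H29.allL_true.1 (show H29.allL _ (fun s : ℕ × ℕ => Nat.ble 3 s.1) = true by decide) s hs)⟩⟩⟩⟩⟩⟩⟩⟩⟩⟩

theorem so4 : ∀ s ∈ sd 4, SO 4 s :=
  List.forall_mem_cons.2 ⟨SO.of vl4_0 pv4_0_2048 pv4_0_4096 (by decide),
  List.forall_mem_cons.2 ⟨SO.of vl4_1 pv4_1_2048 pv4_1_2048 (by decide),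
  List.forall_mem_cons.2 ⟨SO.of vl4_2 pv4_2_4096 pv4_2_4096 (by decide),
  List.forall_mem_cons.2 ⟨SO.of vl4_3 pv4_3_0 pv4_3_4096 (by decide),
  List.forall_mem_cons.2 ⟨SO.of vl4_4 pv4_4_2560 pv4_4_2560 (by decide),
  List.forall_mem_cons.2 ⟨SO.of vl4_5 pv4_5_3072 pv4_5_3072 (by decide),
  List.forall_mem_cons.2 ⟨SO.of vl4_6 pv4_6_2048 pv4_6_2048 (by decide),
  fun s hs => SO.big (H29.allL_true.1 (show H29.allL _ (fun s : ℕ × ℕ => Nat.ble 3 s.1) = true by decide) s hs)⟩⟩⟩⟩⟩⟩⟩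

theorem so5 : ∀ s ∈ sd 5, SO 5 s :=
  List.forall_mem_cons.2 ⟨SO.of vl5_0 pv5_0_2048 pv5_0_2560 (by decide),
  List.forall_mem_cons.2 ⟨SO.of vl5_1 pv5_1_4096 pv5_1_2560 (by decide),
  List.forall_mem_cons.2 ⟨SO.of vl5_2 pv5_2_6656 pv5_2_4096 (by decide),
  List.forall_mem_cons.2 ⟨SO.of vl5_3 pv5_3_2560 pv5_3_16384 (by decide),
  List.forall_mem_cons.2 ⟨SO.of vl5_4 pv5_4_0 pv5_4_6656 (by decide),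
  List.forall_mem_cons.2 ⟨SO.of vl5_5 pv5_5_4096 pv5_5_4096 (by decide),
  List.forall_mem_cons.2 ⟨SO.of vl5_6 pv5_6_2560 pv5_6_2560 (by decide),
  List.forall_mem_cons.2 ⟨SO.of vl5_7 pv5_7_3072 pv5_7_3072 (by decide),
  List.forall_mem_cons.2 ⟨SO.of vl5_8 pv5_8_2560 pv5_8_2560 (by decide),
  fun s hs => SO.big (H29.allL_true.1 (show H29.allL _ (fun s : ℕ × ℕ => Nat.ble 3 s.1) = true by decide) s hs)⟩⟩⟩⟩⟩⟩⟩⟩⟩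

theorem so6 : ∀ s ∈ sd 6, SO 6 s :=
  List.forall_mem_cons.2 ⟨SO.of vl6_0 pv6_0_2048 pv6_0_2560 (by decide),
  List.forall_mem_cons.2 ⟨SO.of vl6_1 pv6_1_2048 pv6_1_2560 (by decide),
  List.forall_mem_cons.2 ⟨SO.of vl6_2 pv6_2_4096 pv6_2_2560 (by decide),
  List.forall_mem_cons.2 ⟨SO.of vl6_3 pv6_3_4096 pv6_3_2560 (by decide),
  List.forall_mem_cons.2 ⟨SO.of vl6_4 pv6_4_6656 pv6_4_2048 (by decide),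
  List.forall_mem_cons.2 ⟨SO.of vl6_5 pv6_5_0 pv6_5_2560 (by decide),
  List.forall_mem_cons.2 ⟨SO.of vl6_6 pv6_6_3072 pv6_6_3072 (by decide),
  List.forall_mem_cons.2 ⟨SO.of vl6_7 pv6_7_2560 pv6_7_2560 (by decide),
  List.forall_mem_cons.2 ⟨SO.of vl6_8 pv6_8_2560 pv6_8_2560 (by decide),
  List.forall_mem_cons.2 ⟨SO.of vl6_9 pv6_9_2560 pv6_9_3072 (by decide),
  List.forall_mem_cons.2 ⟨SO.of vl6_10 pv6_10_2048 pv6_10_2048 (by decide),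
  fun s hs => SO.big (H29.allL_true.1 (show H29.allL _ (fun s : ℕ × ℕ => Nat.ble 3 s.1) = true by decide) s hs)⟩⟩⟩⟩⟩⟩⟩⟩⟩⟩⟩

theorem so7 : ∀ s ∈ sd 7, SO 7 s :=
  List.forall_mem_cons.2 ⟨SO.of vl7_0 pv7_0_2560 pv7_0_2560 (by decide),
  List.forall_mem_cons.2 ⟨SO.of vl7_1 pv7_1_2048 pv7_1_2048 (by decide),
  List.forall_mem_cons.2 ⟨SO.of vl7_2 pv7_2_4096 pv7_2_4096 (by decide),
  List.forall_mem_cons.2 ⟨SO.of vl7_3 pv7_3_6656 pv7_3_2560 (by decide),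
  List.forall_mem_cons.2 ⟨SO.of vl7_4 pv7_4_2048 pv7_4_4096 (by decide),
  List.forall_mem_cons.2 ⟨SO.of vl7_5 pv7_5_3072 pv7_5_2560 (by decide),
  List.forall_mem_cons.2 ⟨SO.of vl7_6 pv7_6_2560 pv7_6_2560 (by decide),
  List.forall_mem_cons.2 ⟨SO.of vl7_7 pv7_7_2560 pv7_7_4096 (by decide),
  List.forall_mem_cons.2 ⟨SO.of vl7_8 pv7_8_3072 pv7_8_3072 (by decide),
  List.forall_mem_cons.2 ⟨SO.of vl7_9 pv7_9_2048 pv7_9_2560 (by decide),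
  List.forall_mem_cons.2 ⟨SO.of vl7_10 pv7_10_2560 pv7_10_3072 (by decide),
  List.forall_mem_cons.2 ⟨SO.of vl7_11 pv7_11_2560 pv7_11_2560 (by decide),
  List.forall_mem_cons.2 ⟨SO.of vl7_12 pv7_12_2560 pv7_12_3072 (by decide),
  List.forall_mem_cons.2 ⟨SO.of vl7_13 pv7_13_3072 pv7_13_4096 (by decide),
  fun s hs => SO.big (H29.allL_true.1 (show H29.allL _ (fun s : ℕ × ℕ => Nat.ble 3 s.1) = true by decide) s hs)⟩⟩⟩⟩⟩⟩⟩⟩⟩⟩⟩⟩⟩⟩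

theorem so8 : ∀ s ∈ sd 8, SO 8 s :=
  List.forall_mem_cons.2 ⟨SO.of vl8_0 pv8_0_2560 pv8_0_2560 (by decide),
  List.forall_mem_cons.2 ⟨SO.of vl8_1 pv8_1_3072 pv8_1_3072 (by decide),
  List.forall_mem_cons.2 ⟨SO.of vl8_2 pv8_2_2048 pv8_2_2048 (by decide),
  List.forall_mem_cons.2 ⟨SO.of vl8_3 pv8_3_4096 pv8_3_2048 (by decide),
  List.forall_mem_cons.2 ⟨SO.of vl8_4 pv8_4_2560 pv8_4_3072 (by decide),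
  fun s hs => SO.big (H29.allL_true.1 (show H29.allL _ (fun s : ℕ × ℕ => Nat.ble 3 s.1) = true by decide) s hs)⟩⟩⟩⟩⟩

theorem so9 : ∀ s ∈ sd 9, SO 9 s :=
  List.forall_mem_cons.2 ⟨SO.of vl9_0 pv9_0_3072 pv9_0_2048 (by decide),
  List.forall_mem_cons.2 ⟨SO.of vl9_1 pv9_1_2560 pv9_1_2560 (by decide),
  List.forall_mem_cons.2 ⟨SO.of vl9_2 pv9_2_2560 pv9_2_3072 (by decide),
  List.forall_mem_cons.2 ⟨SO.of vl9_3 pv9_3_4096 pv9_3_2560 (by decide),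
  List.forall_mem_cons.2 ⟨SO.of vl9_4 pv9_4_6656 pv9_4_3072 (by decide),
  List.forall_mem_cons.2 ⟨SO.of vl9_5 pv9_5_3072 pv9_5_0 (by decide),
  List.forall_mem_cons.2 ⟨SO.of vl9_6 pv9_6_2560 pv9_6_2048 (by decide),
  List.forall_mem_cons.2 ⟨SO.of vl9_7 pv9_7_4096 pv9_7_3072 (by decide),
  List.forall_mem_cons.2 ⟨SO.of vl9_8 pv9_8_2560 pv9_8_2560 (by decide),
  List.forall_mem_cons.2 ⟨SO.of vl9_9 pv9_9_3072 pv9_9_3072 (by decide),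
  List.forall_mem_cons.2 ⟨SO.of vl9_10 pv9_10_2560 pv9_10_2560 (by decide),
  List.forall_mem_cons.2 ⟨SO.of vl9_11 pv9_11_4096 pv9_11_4096 (by decide),
  fun s hs => SO.big (H29.allL_true.1 (show H29.allL _ (fun s : ℕ × ℕ => Nat.ble 3 s.1) = true by decide) s hs)⟩⟩⟩⟩⟩⟩⟩⟩⟩⟩⟩⟩

theorem so10 : ∀ s ∈ sd 10, SO 10 s :=
  List.forall_mem_cons.2 ⟨SO.of vl10_0 pv10_0_2560 pv10_0_2560 (by decide),
  List.forall_mem_cons.2 ⟨SO.of vl10_1 pv10_1_2560 pv10_1_3072 (by decide),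
  List.forall_mem_cons.2 ⟨SO.of vl10_2 pv10_2_3072 pv10_2_2048 (by decide),
  List.forall_mem_cons.2 ⟨SO.of vl10_3 pv10_3_2560 pv10_3_4096 (by decide),
  List.forall_mem_cons.2 ⟨SO.of vl10_4 pv10_4_4096 pv10_4_3072 (by decide),
  List.forall_mem_cons.2 ⟨SO.of vl10_5 pv10_5_2048 pv10_5_3072 (by decide),
  List.forall_mem_cons.2 ⟨SO.of vl10_6 pv10_6_2560 pv10_6_2048 (by decide),
  List.forall_mem_cons.2 ⟨SO.of vl10_7 pv10_7_3072 pv10_7_3072 (by decide),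
  List.forall_mem_cons.2 ⟨SO.of vl10_8 pv10_8_2560 pv10_8_2560 (by decide),
  List.forall_mem_cons.2 ⟨SO.of vl10_9 pv10_9_2048 pv10_9_3072 (by decide),
  List.forall_mem_cons.2 ⟨SO.of vl10_10 pv10_10_2560 pv10_10_3072 (by decide),
  List.forall_mem_cons.2 ⟨SO.of vl10_11 pv10_11_2560 pv10_11_2560 (by decide),
  fun s hs => SO.big (H29.allL_true.1 (show H29.allL _ (fun s : ℕ × ℕ => Nat.ble 3 s.1) = true by decide) s hs)⟩⟩⟩⟩⟩⟩⟩⟩⟩⟩⟩⟩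

theorem so11 : ∀ s ∈ sd 11, SO 11 s :=
  List.forall_mem_cons.2 ⟨SO.of vl11_0 pv11_0_2560 pv11_0_2560 (by decide),
  List.forall_mem_cons.2 ⟨SO.of vl11_1 pv11_1_2560 pv11_1_2048 (by decide),
  List.forall_mem_cons.2 ⟨SO.of vl11_2 pv11_2_2560 pv11_2_2560 (by decide),
  List.forall_mem_cons.2 ⟨SO.of vl11_3 pv11_3_3072 pv11_3_2560 (by decide),
  List.forall_mem_cons.2 ⟨SO.of vl11_4 pv11_4_2560 pv11_4_3072 (by decide),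
  List.forall_mem_cons.2 ⟨SO.of vl11_5 pv11_5_2560 pv11_5_4096 (by decide),
  List.forall_mem_cons.2 ⟨SO.of vl11_6 pv11_6_3072 pv11_6_3072 (by decide),
  List.forall_mem_cons.2 ⟨SO.of vl11_7 pv11_7_4096 pv11_7_2048 (by decide),
  List.forall_mem_cons.2 ⟨SO.of vl11_8 pv11_8_2560 pv11_8_4096 (by decide),
  List.forall_mem_cons.2 ⟨SO.of vl11_9 pv11_9_2048 pv11_9_2560 (by decide),
  List.forall_mem_cons.2 ⟨SO.of vl11_10 pv11_10_2560 pv11_10_2560 (by decide),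
  List.forall_mem_cons.2 ⟨SO.of vl11_11 pv11_11_4096 pv11_11_3072 (by decide),
  List.forall_mem_cons.2 ⟨SO.of vl11_12 pv11_12_3072 pv11_12_2560 (by decide),
  List.forall_mem_cons.2 ⟨SO.of vl11_13 pv11_13_3072 pv11_13_2048 (by decide),
  List.forall_mem_cons.2 ⟨SO.of vl11_14 pv11_14_2560 pv11_14_2560 (by decide),
  List.forall_mem_cons.2 ⟨SO.of vl11_15 pv11_15_2560 pv11_15_2048 (by decide),
  List.forall_mem_cons.2 ⟨SO.of vl11_16 pv11_16_3072 pv11_16_2560 (by decide),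
  List.forall_mem_cons.2 ⟨SO.of vl11_17 pv11_17_4096 pv11_17_2560 (by decide),
  List.forall_mem_cons.2 ⟨SO.of vl11_18 pv11_18_2560 pv11_18_2560 (by decide),
  List.forall_mem_cons.2 ⟨SO.of vl11_19 pv11_19_3072 pv11_19_3072 (by decide),
  List.forall_mem_cons.2 ⟨SO.of vl11_20 pv11_20_2560 pv11_20_6656 (by decide),
  fun s hs => SO.big (H29.allL_true.1 (show H29.allL _ (fun s : ℕ × ℕ => Nat.ble 3 s.1) = true by decide) s hs)⟩⟩⟩⟩⟩⟩⟩⟩⟩⟩⟩⟩⟩⟩⟩⟩⟩⟩⟩⟩⟩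

end H10.Mon
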