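import Mathlib
import Cfsg.Agent.H10.MP2
import Cfsg.Agent.H10.MBaby
import Cfsg.Agent.H10.MV0
import Cfsg.Agent.H10.MV1
import Cfsg.Agent.H10.MV2
import Cfsg.Agent.H10.MV3
import Cfsg.Agent.H10.MV4
import Cfsg.Agent.H10.MV5
import Cfsg.Agent.H10.MV6
import Cfsg.Agent.H10.MV7
import Cfsg.Agent.H10.MV8
import Cfsg.Agent.H10.MV9
import Cfsg.Agent.H10.MV10
import Cfsg.Agent.H10.MV11

/-!
# The order of the group
-/

set_option autoImplicit false
set_option linter.all false
set_option maxRecDepth 100000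

namespace H10.Mon

open Cfsg H9 H29 Matrix

theorem td_ok {j : ℕ} (hj : j < 123) : (td j).Ok := by
  refine TD.ok_of ?_
  interval_cases j
  exacts [tdc0, tdc1, tdc2, tdc3, tdc4, tdc5, tdc6, tdc7, tdc8, tdc9, tdc10, tdc11, tdc12, tdc13, tdc14, tdc15, tdc16, tdc17, tdc18, tdc19, tdc20, tdc21, tdc22, tdc23, tdc24, tdc25, tdc26, tdc27, tdc28, tdc29, tdc30, tdc31, tdc32, tdc33, tdc34, tdc35, tdc36, tdc37, tdc38, tdc39, tdc40, tdc41, tdc42, tdc43, tdc44, tdc45, tdc46, tdc47, tdc48, tdc49, tdc50, tdc51, tdc52, tdc53, tdc54, tdc55, tdc56, tdc57, tdc58, tdc59, tdc60, tdc61, tdc62, tdc63, tdc64, tdc65, tdc66, tdc67, tdc68, tdc69, tdc70, tdc71, tdc72, tdc73, tdc74, tdc75, tdc76, tdc77, tdc78, tdc79, tdc80, tdc81, tdc82, tdc83, tdc84, tdc85, tdc86, tdc87, tdc88, tdc89, tdc90, tdc91, tdc92, tdc93, tdc94, tdc95, tdc96, tdc97, tdc98, tdc99, tdc100, tdc101, tdc102, tdc103, tdc104, tdc105, tdc106, tdc107, tdc108, tdc109, tdc110, tdc111, tdc112, tdc113, tdc114, tdc115, tdc116,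 tdc117, tdc118, tdc119, tdc120, tdc121, tdc122]

noncomputable def nL (i : ℕ) : List ℕ := nth [] [[51704, 1, 46575, 4145175, 4147200], [96000, 120, 2160, 8050455, 241920], [97774, 506, 0, 6831552, 1, 3542, 971520, 485760], [98217, 63, 0, 4322727, 2160, 32256, 967680, 1935360, 1032192], [98264, 16, 0, 8046375, 240, 245760], [98279, 1, 0, 8242479, 49896], [98277, 3, 0, 8285895, 6480], [98280, 0, 0, 8291715, 660], [98280, 0, 0, 8259975, 30240, 2160], [98279, 1, 0, 7595525, 3850, 693000], [98280, 0, 0, 8289975, 2400], [98280, 0, 0, 8269695, 22680]] i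

theorem cov_all {i : ℕ} (hi : i < 12) : Cov (tgA i) (sd i) (nL i) := by
  interval_cases i
  exacts [cov0, cov1, cov2, cov3, cov4, cov5, cov6, cov7, cov8, cov9, cov10, cov11]

theorem gen_all {i : ℕ} (hi : i < 12) : Gen i := by
  interval_cases i
  exacts [gen0, gen1, gen2, gen3, gen4, gen5, gen6, gen7, gen8, gen9, gen10, gen11]

theorem so_all {i : ℕ} (hi : i < 12) : ∀ s ∈ sd i, SO i s := by
  interval_cases i
  exacts [so0, so1, so2, so3, so4, so5, so6, so7, so8, so9, so10, so11]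

/-- The triple `j` at position `e` belongs to the class `s` of the root `i`. -/
noncomputable def wOk (i s j e : ℕ) : Bool :=
  and2 (Nat.ble j 122) (and2 (Nat.ble e 2) (and2 (Nat.beq (nth 0 (td j).i e) i) ((td j).rel e 2048 s)))

theorem wOk_true {i s j e : ℕ} (h : wOk i s j e = true) : j < 123 ∧ e < 3 ∧ nth 0 (td j).i e = i ∧
    co ((td j).k e) • Om = dec s ∧ Nod (av i) (dec s) ((tau ^ e) (td j).y) := by
  simp only [wOk, and2_true, H29.ble_true, H29.beq_true] at h
  obtain ⟨h1, h2, rfl, h4⟩ := h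
  have := TD.rel_true h4
  rw [dec_Om] at this
  exact ⟨by omega, by omega, rfl, this, _, (td_ok (by omega)).root e (by omega), this⟩

theorem wit {i : ℕ} (hi : i < 12) {s : ℕ × ℕ} (hs : s ∈ sd i) (h : 3 ≤ s.1) :
    ∃ j e, wOk i s.2 j e = true := by
  have : allN 12 (fun i => H29.allL (sd i) fun s => Nat.ble s.1 2 ||
    (wt i).any fun w => and2 (Nat.beq w.2.1 s.2) (wOk i s.2 w.2.2.1 w.2.2.2)) = true := by
    decide +kernel
  have := allL_true.1 (allN_true.1 this i hi) s hs
  simp only [Bool.or_eq_true, H29.ble_true, List.any_eq_true, and2_true] at this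
  obtain h1 | ⟨w, -, -, h1⟩ := this
  exacts [by omega, ⟨_, _, h1⟩]

theorem root_all {i : ℕ} (hi : i < 12) :
    (∀ g : G0, ∃ s ∈ sd i, 3 ≤ s.1 ∧ g • Om ∈ Orb (av i) (dec s.2)) ∧
    (∀ s ∈ sd i, 3 ≤ s.1 → (∀ s' ∈ sd i, s'.1 = s.1 → s'.2 = s.2) →
      (∀ s' ∈ sd i, 3 ≤ s'.1 → s'.1 ≠ s.1 → dec s'.2 ∉ Orb (av i) (dec s.2)) →
      (Orb (av i) (dec s.2)).ncard = nth 0 (nL i) s.1) ∧
    {x | x ∈ OG (ax 1 c0) ∧ B x (av i) = 0}.ncard = nth 0 (nL i) 1 + 2 * nth 0 (nL i) 2 ∧
    ∀ x ∈ OG (ax 1 c0), Pr tau x (av i) :=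
  root_cover (fun g _ _ h => (Pr.map tri_tau (rho_mem_MM _ g)).2 h) (cov_all hi) (gen_all hi)
    (so_all hi) (fun s hs h => by
      obtain ⟨j, e, hw⟩ := wit hi hs h
      exact ⟨_, (wOk_true hw).2.2.2.1⟩)
    (by interval_cases i <;> rfl) (by interval_cases i <;> rfl)

theorem td_lt {j e : ℕ} (hj : j < 123) (he : e < 3) : nth 0 (td j).i e < 12 := by
  have : allN 123 (fun j => allN 3 fun e => Nat.ble (nth 0 (td j).i e) 11) = true := by decide +kernel
  have := H29.ble_true.1 (allN_true.1 (allN_true.1 this j hj) e he)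
  omega

theorem closed_av {m : U ≃ₗ[ℝ] U} (hm : m ∈ MM tau) {x : U} (hx : ∃ i < 12, x ∈ OG (av i)) :
    ∃ i < 12, m x ∈ OG (av i) := by
  refine closed_nod pre_tau av (fun i hi g => ?_) hm hx
  obtain ⟨s, hs, h3, hg⟩ := (root_all hi).1 g
  obtain ⟨j, e, hw⟩ := wit hi hs h3
  obtain ⟨hj, he, -, -, hn⟩ := wOk_true hw
  exact ⟨_, hg, _, e, he, hn, fun e he => ⟨_, td_lt hj he, OG_symm ⟨_, (td_ok hj).root e he⟩⟩⟩

theorem TD.Ok.orb {d : TD} (h : d.Ok) : ∃ m ∈ MM tau, m (av (nth 0 d.i 0)) = av (nth 0 d.i 1) :=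
  ⟨rho (d.k 1) * tau * rho (d.k 0)⁻¹,
    mul_mem (mul_mem (rho_mem_MM _ _) (tau_mem_MM _)) (rho_mem_MM _ _), by
      rw [← h.root 0 (by norm_num), ← h.root 1 (by norm_num), LinearEquiv.mul_apply,
        LinearEquiv.mul_apply, rho_inv_apply, pow_zero, pow_one]; rfl⟩

theorem av_orb {i : ℕ} (hi : i < 12) : ∃ m ∈ MM tau, m (ax 1 c0) = av i := by
  have f : ∀ j < 123, (∃ m ∈ MM tau, m (ax 1 c0) = av (nth 0 (td j).i 0)) ↔
      ∃ m ∈ MM tau, m (ax 1 c0) = av (nth 0 (td j).i 1) := fun j hj => by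
    obtain ⟨n, hn, e⟩ := (td_ok hj).orb
    exact ⟨fun ⟨m, h1, h2⟩ => ⟨n * m, mul_mem hn h1, by rw [LinearEquiv.mul_apply, h2, e]⟩,
      fun ⟨m, h1, h2⟩ => ⟨n⁻¹ * m, mul_mem (inv_mem hn) h1, by
        rw [LinearEquiv.mul_apply, h2, ← e, ← LinearEquiv.mul_apply, inv_mul_cancel]; rfl⟩⟩
  have a0 : ∃ m ∈ MM tau, m (ax 1 c0) = av 0 := ⟨1, one_mem _, av_zero.symm⟩
  have a2 := (f 0 (by norm_num)).1 a0
  have a3 := (f 2 (by norm_num)).1 a2
  have a4 := (f 3 (by norm_num)).1 a2
  have a8 := (f 8 (by norm_num)).1 a4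
  have a9 := (f 9 (by norm_num)).1 a3
  interval_cases i
  exacts [a0, (f 1 (by norm_num)).2 a2, a2, a3, a4, (f 4 (by norm_num)).1 a3,
    (f 5 (by norm_num)).1 a3, (f 6 (by norm_num)).1 a3, a8, a9, (f 7 (by norm_num)).1 a8,
    (f 10 (by norm_num)).1 a9]

/-- The axes. -/
theorem mem_axes (x : U) :
    x ∈ MulAction.orbit (MM tau) (ax 1 c0) ↔ ∃ i < 12, x ∈ OG (av i) := by
  constructor
  · rintro ⟨m, rfl⟩
    exact closed_av m.2 ⟨0, by norm_num, av_zero ▸ OG_self _⟩
  · rintro ⟨i, hi, g, rfl⟩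
    obtain ⟨m, h1, h2⟩ := av_orb hi
    exact ⟨⟨rho g * m, mul_mem (rho_mem_MM _ _) h1⟩, by rw [← h2]; rfl⟩

noncomputable def trN (i : ℕ) : ℕ := nth 0 [268435456, 33554432, 27262976, 15204352, 12582912,
  16285696, 12615680, 12320768, 11534336, 12845056, 11927552, 11960320] i

theorem trace_av {i : ℕ} (hi : i < 12) : trace (mA (av i) * mA (av i)) = trN i / 16777216 := by
  have : allN 12 (fun i => sqV (rt i).a 576 (trN i)) = true := by decide +kernel
  exact trace_sq (Φ_av i) (allN_true.1 this i hi)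

theorem av_sep {i j : ℕ} (hi : i < 12) (hj : j < 12) (h : av i ∈ OG (av j)) : i = j := by
  have e := trace_OG h
  rw [trace_av hi, trace_av hj, div_left_inj' (by norm_num), Nat.cast_inj] at e
  have : ∀ i < 12, ∀ j < 12, trN i = trN j → i = j := by decide +kernel
  exact this i hi j hj e

/-- The seed `(l, s)` of the root `i` is separated from the others by the invariant. -/
noncomputable def sChk (i l s j e : ℕ) : Bool :=
  and2 (wOk i s j e) (and2 (Nat.ble 3 l) (and2 ((sd i).any fun t => and2 (Nat.beq t.1 l) (Nat.beq t.2 s))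
    (H29.allL (sd i) fun t => Bool.rec (Nat.ble t.1 2 || (wt i).any fun w => and2 (Nat.beq w.2.1 t.2)
      (and2 (wOk i t.2 w.2.2.1 w.2.2.2) (!Nat.beq (nth 0 (td j).J e) (nth 0 (td w.2.2.1).J w.2.2.2))))
      (Nat.beq t.2 s) (Nat.beq t.1 l))))

theorem sChk_true {i l s j e : ℕ} (hi : i < 12) (h : sChk i l s j e = true) :
    (Orb (av i) (co ((td j).k e) • Om)).ncard = nth 0 (nL i) l := by
  simp only [sChk, and2_true, H29.ble_true, H29.beq_true, List.any_eq_true, allL_true] at h
  obtain ⟨h1, h2, ⟨t, ht, rfl, rfl⟩, h4⟩ := h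
  obtain ⟨a1, a2, -, a4, a5⟩ := wOk_true h1
  rw [a4]
  refine (root_all hi).2.1 t ht h2 (fun u hu e => ?_) fun u hu h3 e => ?_
  · have := h4 u hu
    rw [H29.beq_true.2 e] at this
    exact H29.beq_true.1 this
  · have := h4 u hu
    rw [Bool.eq_false_iff.2 (mt H29.beq_true.1 e)] at this
    simp only [Bool.or_eq_true, H29.ble_true, List.any_eq_true, and2_true, Bool.not_eq_true',
      Bool.eq_false_iff, Ne, H29.beq_true] at this
    obtain k | ⟨w, -, -, k1, k2⟩ := this
    · omega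
    obtain ⟨b1, b2, -, -, b5⟩ := wOk_true k1
    refine a5.sep b5 ?_
    rw [(td_ok a1).inv _ a2, (td_ok b1).inv _ b2, Ne, div_left_inj' (by norm_num), Nat.cast_inj]
    exact k2

theorem orb_zero : (Orb (av 0) (co ((td 0).k 0) • Om)).ncard = 4147200 := by
  rw [(wOk_true (i := 0) (s := 208053) (by decide +kernel)).2.2.2.1]
  refine (root_all (by norm_num)).2.1 (4, 208053) (by decide) (by norm_num) (by decide) fun u hu h3 e => ?_
  rw [av_zero]
  refine sep_ax ?_
  rw [c0_dec]
  revert u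
  decide +kernel

theorem link_td {j i i' n n' : ℕ} (hj : j < 123) (hi : i < 12) (hi' : i' < 12) (hn : i' ≠ i)
    (e : nth 0 (td j).i 0 = i) (e' : nth 0 (td j).i 1 = i')
    (h : (Orb (av i) (co ((td j).k 0) • Om)).ncard = n)
    (h' : (Orb (av i') (co ((td j).k 1) • Om)).ncard = n')
    (o : and2 (Nat.beq (apL (td j).o 2048) 2048) ((epW (td j).o 2048).testBit 0) = true) :
    (OG (av i)).ncard * (2 * n) = (OG (av i')).ncard * n' := by
  subst e e' h h'
  obtain ⟨o1, o2⟩ := and2_true.1 o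
  refine link pre_tau (y := (td j).y) (g := gw (td j).o) ((td_ok hj).root 0 (by norm_num))
    (by rw [← (td_ok hj).root 1 (by norm_num), pow_one]) (fun k => hn (av_sep hi' hi k)) ?_ ?_
    (td_ok hj).odd
  · rw [← dec_Om, ← dec_apL, H29.beq_true.1 o1]
  · rw [← dec_Om, ep_gw, bt, if_pos o2]

noncomputable def szL (i : ℕ) : ℕ := nth 0 [196560, 11935123200, 1630347264000, 1466587938816000,
  6599645724672000, 1896194506752000, 438020931059712000, 8601138282627072000,
  1501786049347584000, 786389785840189440, 37845008443559116800, 48057153579122688000] i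

theorem ncard_av {i : ℕ} (hi : i < 12) : (OG (av i)).ncard = szL i := by
  have a0 : (OG (av 0)).ncard = 196560 := by rw [av_zero, ncard_OG_ax]
  have l0 := link_td (j := 0) (i := 0) (i' := 2) (n := 4147200) (n' := 1) (by norm_num) (by norm_num)
    (by norm_num) (by norm_num) rfl rfl orb_zero
    (sChk_true (l := 4) (s := 2048) (by norm_num) (by decide +kernel)) (by decide +kernel)
  have l1 := link_td (j := 1) (i := 1) (i' := 2) (n := 241920) (n' := 3542) (by norm_num) (by norm_num)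
    (by norm_num) (by norm_num) rfl rfl (sChk_true (l := 4) (s := 138) (by norm_num) (by decide +kernel))
    (sChk_true (l := 5) (s := 138) (by norm_num) (by decide +kernel)) (by decide +kernel)
  have l2 := link_td (j := 2) (i := 2) (i' := 3) (n := 971520) (n' := 2160) (by norm_num) (by norm_num)
    (by norm_num) (by norm_num) rfl rfl (sChk_true (l := 6) (s := 14720) (by norm_num) (by decide +kernel))
    (sChk_true (l := 4) (s := 3666) (by norm_num) (by decide +kernel)) (by decide +kernel)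
  have l3 := link_td (j := 3) (i := 2) (i' := 4) (n := 485760) (n' := 240) (by norm_num) (by norm_num)
    (by norm_num) (by norm_num) rfl rfl (sChk_true (l := 7) (s := 62816) (by norm_num) (by decide +kernel))
    (sChk_true (l := 4) (s := 1693) (by norm_num) (by decide +kernel)) (by decide +kernel)
  have l4 := link_td (j := 4) (i := 3) (i' := 5) (n := 32256) (n' := 49896) (by norm_num) (by norm_num)
    (by norm_num) (by norm_num) rfl rfl (sChk_true (l := 5) (s := 12224) (by norm_num) (by decide +kernel))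
    (sChk_true (l := 4) (s := 893) (by norm_num) (by decide +kernel)) (by decide +kernel)
  have l5 := link_td (j := 5) (i := 3) (i' := 6) (n := 967680) (n' := 6480) (by norm_num) (by norm_num)
    (by norm_num) (by norm_num) rfl rfl (sChk_true (l := 6) (s := 14720) (by norm_num) (by decide +kernel))
    (sChk_true (l := 4) (s := 3204) (by norm_num) (by decide +kernel)) (by decide +kernel)
  have l6 := link_td (j := 6) (i := 3) (i' := 7) (n := 1935360) (n' := 660) (by norm_num) (by norm_num)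
    (by norm_num) (by norm_num) rfl rfl (sChk_true (l := 7) (s := 45984) (by norm_num) (by decide +kernel))
    (sChk_true (l := 4) (s := 1432) (by norm_num) (by decide +kernel)) (by decide +kernel)
  have l7 := link_td (j := 7) (i := 8) (i' := 10) (n := 30240) (n' := 2400) (by norm_num) (by norm_num)
    (by norm_num) (by norm_num) rfl rfl (sChk_true (l := 4) (s := 620) (by norm_num) (by decide +kernel))
    (sChk_true (l := 4) (s := 7735425) (by norm_num) (by decide +kernel)) (by decide +kernel)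
  have l8 := link_td (j := 8) (i := 4) (i' := 8) (n := 245760) (n' := 2160) (by norm_num) (by norm_num)
    (by norm_num) (by norm_num) rfl rfl (sChk_true (l := 5) (s := 7359710) (by norm_num) (by decide +kernel))
    (sChk_true (l := 5) (s := 405) (by norm_num) (by decide +kernel)) (by decide +kernel)
  have l9 := link_td (j := 9) (i := 3) (i' := 9) (n := 1032192) (n' := 3850) (by norm_num) (by norm_num)
    (by norm_num) (by norm_num) rfl rfl (sChk_true (l := 8) (s := 346439) (by norm_num) (by decide +kernel))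
    (sChk_true (l := 4) (s := 1072) (by norm_num) (by decide +kernel)) (by decide +kernel)
  have l10 := link_td (j := 10) (i := 9) (i' := 11) (n := 693000) (n' := 22680) (by norm_num) (by norm_num)
    (by norm_num) (by norm_num) rfl rfl (sChk_true (l := 5) (s := 42672) (by norm_num) (by decide +kernel))
    (sChk_true (l := 4) (s := 1300) (by norm_num) (by decide +kernel)) (by decide +kernel)
  have a2 : (OG (av 2)).ncard = 1630347264000 :=
    Nat.eq_of_mul_eq_mul_right (by norm_num) (l0.symm.trans (by rw [a0]))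
  have a1 : (OG (av 1)).ncard = 11935123200 :=
    Nat.eq_of_mul_eq_mul_right (by norm_num) (l1.trans (by rw [a2]))
  have a3 : (OG (av 3)).ncard = 1466587938816000 :=
    Nat.eq_of_mul_eq_mul_right (by norm_num) (l2.symm.trans (by rw [a2]))
  have a4 : (OG (av 4)).ncard = 6599645724672000 :=
    Nat.eq_of_mul_eq_mul_right (by norm_num) (l3.symm.trans (by rw [a2]))
  have a5 : (OG (av 5)).ncard = 1896194506752000 :=
    Nat.eq_of_mul_eq_mul_right (by norm_num) (l4.symm.trans (by rw [a3]))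
  have a6 : (OG (av 6)).ncard = 438020931059712000 :=
    Nat.eq_of_mul_eq_mul_right (by norm_num) (l5.symm.trans (by rw [a3]))
  have a7 : (OG (av 7)).ncard = 8601138282627072000 :=
    Nat.eq_of_mul_eq_mul_right (by norm_num) (l6.symm.trans (by rw [a3]))
  have a8 : (OG (av 8)).ncard = 1501786049347584000 :=
    Nat.eq_of_mul_eq_mul_right (by norm_num) (l8.symm.trans (by rw [a4]))
  have a10 : (OG (av 10)).ncard = 37845008443559116800 :=
    Nat.eq_of_mul_eq_mul_right (by norm_num) (l7.symm.trans (by rw [a8]))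
  have a9 : (OG (av 9)).ncard = 786389785840189440 :=
    Nat.eq_of_mul_eq_mul_right (by norm_num) (l9.symm.trans (by rw [a3]))
  have a11 : (OG (av 11)).ncard = 48057153579122688000 :=
    Nat.eq_of_mul_eq_mul_right (by norm_num) (l10.symm.trans (by rw [a9]))
  interval_cases i
  exacts [a0, a1, a2, a3, a4, a5, a6, a7, a8, a9, a10, a11]

theorem card_both : (MulAction.orbit (MM tau) (ax 1 c0)).ncard = 97239461142009186000 ∧
    Nat.card (MM tau) = 808017424794512875886459904961710757005754368000000000 := by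
  obtain ⟨h1, h2⟩ := card_MM tri_tau (n := 12) av szL
    (fun i => nth 0 (nL i) 1 + 2 * nth 0 (nL i) 2) mem_axes (fun i hi j hj => av_sep hi hj)
    (fun i => ncard_av) (fun i hi => (root_all hi).2.2.1)
    fun i hi x hx => ((root_all hi).2.2.2 x hx).1
  rw [show ∑ i ∈ Finset.range 12, szL i = 97239461142009186000 by decide +kernel] at h1 h2
  refine ⟨h1, Nat.eq_of_mul_eq_mul_right (m := 196560 ^ 2) (by norm_num) (h2.trans ?_)⟩
  decide +kernel

theorem ncard_axes : (MulAction.orbit (MM tau) (ax 1 c0)).ncard = 97239461142009186000 := card_both.1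

/-- The order of the Monster. -/
theorem card_M : Nat.card (MM tau) = 808017424794512875886459904961710757005754368000000000 :=
  card_both.2

/-- Any pair of axes has the property `Pr`. -/
theorem pr_all {g : U ≃ₗ[ℝ] U} (hg : g ∈ MM tau) : Pr tau (ax 1 c0) (g (ax 1 c0)) := by
  obtain ⟨i, hi, k, hk⟩ := (mem_axes _).1 ⟨⟨g, hg⟩, rfl⟩
  change _ = g (ax 1 c0) at hk
  rw [← hk, ← Pr.map tri_tau (rho_mem_MM _ k⁻¹), rho_inv_apply]
  exact (root_all hi).2.2.2 _ ⟨_, rfl⟩

theorem fix_M : ∀ g ∈ MM tau, g * tv 1 c0 * g⁻¹ = tv 1 c0 → g (ax 1 c0) = ax 1 c0 :=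
  fun _ hg => fix_of_comm (MM_le_Aut tri_tau hg)

theorem six_M : ∀ g ∈ MM tau, orderOf (tv 1 c0 * (g * tv 1 c0 * g⁻¹)) ≤ 6 := fun g hg => by
  simpa using (pr_all hg).2 1 (one_mem _) g hg rfl rfl

end H10.Mon
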