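import Mathlib
import Cfsg.Agent.H19.MS5

/-!
# A test for the identity of the Monster; generation of the Monster
-/

set_option autoImplicit false
set_option linter.all false
set_option maxRecDepth 100000
set_option Elab.async false

namespace H10.Mon.Y

open Cfsg H9 H29 H10.Mon.MS

def psT : List ℕ := [97728, 97729, 97730, 97731, 97732, 97733, 97735, 97736, 97737, 97739, 97743,
  98004, 0, 1, 2, 4, 8, 16, 32, 64, 128, 256, 512, 1024]
def csT : List ℕ := [3040, 1952, 112, 1885, 3149, 2077, 3550, 30, 1054, 3803, 1055, 992, 8724511,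
  8729105, 8718482, 8741140, 8760024, 8661023, 8855583, 8462367, 9248799, 9773087, 10821663,
  12921855]
def msT : List ℕ := [1280, 3489, 1899, 632, 2098, 436, 2434, 29, 222, 245, 384, 2049, 14407, 22543,
  39431, 73377, 137217, 266240, 528384, 1052672, 2101248, 4198400, 8392705, 673166]

noncomputable def plT (k : ℕ) : ℕ :=
  Nat.rec 0 (fun j r => Bool.rec r (Nat.lor (Nat.shiftLeft 1 (nth 0 psT j)) r)
    (Nat.testBit (Nat.succ j) k)) 24

noncomputable def sT : St := ⟨⟨0, .sgn 0⟩,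
  ⟨0, .cons (plT 0) (.cons (plT 1) (.cons (plT 2) (.cons (plT 3) (.cons (plT 4) (.sgn 0)))))⟩,
  ⟨0, .cons 1 (.sgn 0)⟩⟩

/-- The test vector. -/
noncomputable def vT : U := uOf sT

theorem hd_vT : Hd vT sT := Φ_uOf (by decide +kernel)

theorem sT_facts : ∀ j < 24, nth 0 psT j < 98280 ∧ cdv CP (nth 0 psT j) = nth 0 csT j ∧
    sT.s.P.val (nth 0 psT j) = j + 1 := by
  have : allN 24 (fun j => and2 (Nat.ble (nth 0 psT j) 98279) (and2
    (Nat.beq (cdv CP (nth 0 psT j)) (nth 0 csT j))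
    (decide (sT.s.P.val (nth 0 psT j) = j + 1)))) = true := by decide +kernel
  intro j hj
  have := allN_true.1 this j hj
  simp only [and2_true, H29.ble_true, H29.beq_true, decide_eq_true_eq] at this
  exact ⟨by omega, this.2⟩

theorem sT_nz : sT.s.P.nz = maskL psT := H29.beq_true.1 (by decide +kernel)

theorem fX_vT {p : ℕ} (hp : p < 98280) : fX vT (cls p) = sT.s.P.val p := by
  have := congrArg (fun x : R3 => x.2.1 p) hd_vT
  simp only [Φ_s, if_pos hp] at this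
  rw [this]
  change (sT.s.P.val p : ℝ) / 2 ^ 0 = _
  simp

theorem key_f {f : ℕ → ℤ} {q j : ℕ} {t : ZMod 2} (k : (f q : ℝ) = sg t * ((j + 1 : ℤ) : ℝ))
    (h0 : q ∉ psT → f q = 0) (hf : ∀ i < 24, f (nth 0 psT i) = i + 1) :
    q = nth 0 psT j ∧ t = 0 := by
  have : (0 : ℝ) ≤ j := by positivity
  have hz : q ∈ psT := by
    by_contra hn
    rw [h0 hn] at k
    push_cast at k
    rcases z2 t with rfl | rfl <;> simp only [sg_zero, sg_one] at k <;> linarith
  obtain ⟨i, hi, rfl⟩ := List.getElem_of_mem hz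
  rw [← List.getD_eq_getElem _ 0, ← nth_eq] at k ⊢
  rw [hf i hi] at k
  have : (0 : ℝ) ≤ i := by positivity
  push_cast at k
  rcases z2 t with rfl | rfl
  · have : i = j := by simpa using k
    exact ⟨by rw [this], rfl⟩
  · simp only [sg_one] at k
    linarith

theorem fix_vT {g : GT} (h : rho g vT = vT) {j : ℕ} (hj : j < 24) : dec (nth 0 csT j) ∈ Fx g := by
  obtain ⟨h1, h2, h3⟩ := sT_facts j hj
  have e : cls (nth 0 psT j) = dec (nth 0 csT j) := by rw [← h2, dec_cdv]; rfl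
  have k := fX_rho g vT (cls (nth 0 psT j))
  obtain ⟨q, hq, e2⟩ := cls_surj (toS _ ((cls_S h1).smul (co g)))
  rw [toS_val] at e2
  rw [h, ← e2, fX_vT hq, fX_vT h1, h3] at k
  have hz0 := @Pl.val_nz q sT.s.P
  rw [sT_nz, Bool.eq_false_iff, Ne, testBit_maskL] at hz0
  obtain ⟨a, b⟩ := key_f k hz0 fun i hi => (sT_facts i hi).2.2
  rw [a, e] at e2
  rw [e] at b
  exact ⟨e2.symm, b⟩

theorem one_of_fix {m : U ≃ₗ[ℝ] U} (hm : m ∈ MM tau) (h0 : m (ax 0 c0) = ax 0 c0)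
    (h1 : m (ax 1 c0) = ax 1 c0) (h2 : m vT = vT) : m = 1 := by
  have ha := MM_le_Aut tri_tau hm
  have e0 := conj_tv ha h0
  have e1 := conj_tv ha h1
  have ez : tv 1 c0 * tv 0 c0 = zz := by
    rw [← wd_qA, ← wd_qB, wd, ← mul_assoc, wd_qA, tv_mul_self, one_mul, el_zz]
  obtain ⟨g, rfl⟩ := mem_GG_of_comm ha (by
    rw [← mul_inv_eq_iff_eq_mul, ← ez, ← conj_mul, e0, e1])
  have a1 : ∀ c, c ∈ Fx g := fun c => spL_le (B := csT) (fun j hj => fix_vT h2 hj) (by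
    refine dec_induction (p := fun c => c ∈ spL csT) (zero_mem _) (fun j hj => ?_)
      (fun _ _ => add_mem) c
    have : ∀ j < 24, nth 0 msT j < 2 ^ csT.length ∧ apC csT (nth 0 msT j) = 2 ^ j := by
      decide +kernel
    exact ⟨_, (this j hj).1, by rw [(this j hj).2]⟩)
  refine (cent_QQ ⟨g, rfl⟩ fun q hq => ?_).resolve_right fun e => ?_
  · obtain ⟨t, c, rfl⟩ := mem_QQ.1 hq
    exact mem_Ce.1 (mem_Fx.2 (a1 c))
  · exact hd_vT.zz_ne (p := 0) (by decide +kernel) (e ▸ h2)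

noncomputable def fx (x : St) (w : List ℕ) : Bool := (runW mv w x).beq x

theorem wd_one_of {w : List ℕ} (h0 : fx (stAx 0) w = true) (h1 : fx (stAx 1) w = true)
    (h2 : fx sT w = true) : wd w = 1 :=
  one_of_fix (wd_mem w) (Hd.fix (show Hd _ _ from Φ_ax0) h0) (Hd.ax1.fix h1) (hd_vT.fix h2)

/-! ### Generation -/

noncomputable def litL {α : Type} (P : List ℕ) : (List ℕ → α) → α :=
  List.rec (motive := fun _ => (List ℕ → α) → α) (fun k => k [])
    (fun a _ ih k => lit a fun b => ih fun r => k (b :: r)) P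

theorem litL_eq {α : Type} : ∀ (P : List ℕ) (k : List ℕ → α), litL P k = k P
  | [], _ => rfl
  | a :: P, k => litL_eq P fun r => k (a :: r)

/-- A straight line program on matrices. -/
noncomputable def slp (s : List (ℕ × ℕ)) (k : List (List ℕ) → Bool) : List (List ℕ) → Bool :=
  List.rec (motive := fun _ => List (List ℕ) → Bool) k
    (fun p _ ih T => litL (mulC (nth hCI T p.1) (nth hCI T p.2)) fun r => ih (r :: T)) s

def RC (H : Subgroup G0) (A : List ℕ) : Prop := ∃ h ∈ H, Cols h A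

theorem slp_true {H : Subgroup G0} {k : List (List ℕ) → Bool} : ∀ (s : List (ℕ × ℕ))
    (T : List (List ℕ)), (∀ A ∈ T, RC H A) → slp s k T = true →
      ∃ T', (∀ i, RC H (nth hCI T' i)) ∧ k T' = true
  | [], T, h, e => ⟨T, nth_forall ⟨1, one_mem _, cols_one⟩ h, e⟩
  | p :: s, T, h, e => by
    change litL _ _ = true at e
    rw [litL_eq] at e
    refine slp_true s _ (List.forall_mem_cons.2 ⟨?_, h⟩) e
    obtain ⟨a, a1, a2⟩ := nth_forall (p := RC H) ⟨1, one_mem _, cols_one⟩ h p.1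
    obtain ⟨b, b1, b2⟩ := nth_forall (p := RC H) ⟨1, one_mem _, cols_one⟩ h p.2
    exact ⟨_, mul_mem a1 b1, a2.mul b2⟩

theorem RC.mem {H : Subgroup G0} (h1 : neg1 ∈ H) {A : List ℕ} (h : RC H A) {g : G0}
    (hg : Cols g A) : g ∈ H := by
  obtain ⟨k, k1, k2⟩ := h
  have : k⁻¹ * g ∈ Subgroup.center G0 := center_of_fix fun c => by
    obtain ⟨n, -, rfl⟩ := dec_surj c
    rw [mul_smul, ← hg.ap, k2.ap, inv_smul_smul]
  rw [← mul_inv_cancel_left k g]
  rcases mem_center_G0.1 this with e | e <;> rw [e]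
  exacts [mul_mem k1 (one_mem _), mul_mem k1 h1]

/-- The image in `Co0`. -/
noncomputable def im (H : Subgroup (U ≃ₗ[ℝ] U)) : Subgroup G0 := (H.comap rho).map co

theorem neg1_im (H : Subgroup (U ≃ₗ[ℝ] U)) : neg1 ∈ im H :=
  ⟨m1, by rw [SetLike.mem_coe, Subgroup.mem_comap, rho_m1]; exact H.one_mem, co_m1⟩

theorem rc_wd {H : Subgroup (U ≃ₗ[ℝ] U)} {w : List ℕ} (h : noT w = true) (hw : wd w ∈ H) :
    RC (im H) (colW w) := ⟨_, ⟨gw w, (wd_gw h ▸ hw : rho (gw w) ∈ H), rfl⟩, cols_colW w⟩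

theorem im_top {H : Subgroup G0} (h0 : neg1 ∈ H) (h1 : ∀ c ∈ [0, 1, 2, 17], RC H (lt c).C)
    {A : List ℕ} (h2 : RC H A) (h3 : dec (apC A 2048) ≠ dec 2048) : H = ⊤ := by
  have k : ∀ c ∈ [0, 1, 2, 17], co (gl c) ∈ H := fun c hc => (h1 c hc).mem h0 (gl_cols c)
  have : N0 ≤ H := N0_le h0 (fun c hc => by
      have hc' := hc
      simp only [g24, List.mem_cons, List.not_mem_nil, or_false] at hc'
      rcases hc' with rfl | rfl | rfl
      · obtain ⟨σ, h1, h2⟩ := co_perm (i := 0) hc (by decide +kernel)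
        exact ⟨σ, h1, h2 ▸ k 0 (by simp)⟩
      · obtain ⟨σ, h1, h2⟩ := co_perm (i := 1) hc (by decide +kernel)
        exact ⟨σ, h1, h2 ▸ k 1 (by simp)⟩
      · obtain ⟨σ, h1, h2⟩ := co_perm (i := 2) hc (by decide +kernel)
        exact ⟨σ, h1, h2 ▸ k 2 (by simp)⟩)
    ⟨⟨_, o16_mem⟩, Or.inr (by rw [card_ofMask]; decide +kernel), co_y0 ▸ k 17 (by simp)⟩
  refine isCoatom_N0.2 H (lt_of_le_of_ne this fun e => h3 ?_)
  obtain ⟨g, g1, g2⟩ := h2
  rw [g2.ap, dec_Om, fix_Om, e]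
  exact g1

theorem GG_le {H : Subgroup (U ≃ₗ[ℝ] U)} (h : im H = ⊤) {c : S} {t : ZMod 2}
    (hc : rho (qe t c.1) ∈ H) : GG ≤ H := by
  have k : ∀ a : G0, ∃ g, rho g ∈ H ∧ co g = a := fun a => (h ▸ Subgroup.mem_top a : a ∈ im H)
  have a1 : ∀ d : S, ∃ s, rho (qe s d.1) ∈ H := fun d => by
    obtain ⟨a, rfl⟩ := trans_S c d
    obtain ⟨g, g1, rfl⟩ := k a
    have := mul_mem (mul_mem g1 hc) (inv_mem g1)
    rw [← map_inv, ← map_mul, ← map_mul, conj_qe] at this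
    exact ⟨_, this⟩
  have hz : zz ∈ H := by
    obtain ⟨e, he⟩ := exists_S_polar c
    obtain ⟨s, hs⟩ := a1 e
    have := mul_mem (mul_mem (mul_mem hc hs) (inv_mem hc)) (inv_mem hs)
    rwa [← commutatorElement_def, qe_commutator, he] at this
  have a2 : ∀ d, d ∈ Wc H hz := C_induction (zero_mem _)
    (fun d => (a1 d).elim fun s hs => qe_mem_of_zz hz hs 0) fun _ _ => add_mem
  rintro _ ⟨g, rfl⟩
  obtain ⟨l, l1, l2⟩ := k (co g)
  obtain ⟨t, c, e⟩ := (co_eq_one (g := l⁻¹ * g)).1 (by rw [map_mul, map_inv, l2, inv_mul_cancel])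
  rw [← mul_inv_cancel_left l g, map_mul, e]
  exact mul_mem l1 (qe_mem_of_zz hz (a2 c) t)

theorem MM_le {H : Subgroup (U ≃ₗ[ℝ] U)} (h : GG ≤ H) {c : C} {t : ZMod 2} (hc : c.1 11 = 1)
    (ht : tau * rho (qe t c) * tau⁻¹ ∈ H) : MM tau ≤ H := by
  refine sup_le h (Subgroup.zpowers_le.2 ?_)
  obtain ⟨d, d1, d2⟩ := pre_tau.inv
  obtain ⟨g, -, e⟩ := pre_tau.conj (g := qe t c * qe 0 d) (by
    rw [qe_mul, qe_mem_NE, Prod.fst_add, Pi.add_apply, hc, d1]; rfl)
  have a1 : tau * rho (qe 0 d) * tau⁻¹ ∈ H := by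
    have := mul_mem (inv_mem ht) (h ⟨g, e.symm⟩)
    rwa [map_mul, ← conj_mul, inv_mul_cancel_left] at this
  have a2 : tau * rho (qe 0 d) * tau⁻¹ * (rho (qe 0 d))⁻¹ = tau⁻¹ := by
    have : rho (qe 0 d) * tau⁻¹ * (rho (qe 0 d))⁻¹ = tau := by
      rw [← conj_inv, d2, inv_inv]
    calc _ = tau * (rho (qe 0 d) * tau⁻¹ * (rho (qe 0 d))⁻¹) := by group
      _ = _ := by rw [this, pre_tau.inv_eq]
  exact inv_mem_iff.1 (a2 ▸ mul_mem a1 (inv_mem (h ⟨_, rfl⟩)))

end H10.Mon.Y
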