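import Mathlib
import Cfsg.Prelude.Def_Spor_M
import Cfsg.Agent.H10.YT

/-!
# The nodes of the diagram `Y555` as words in the Monster
-/

set_option autoImplicit false
set_option linter.all false
set_option maxRecDepth 100000
set_option Elab.async false

namespace H10.Mon.Y

open Cfsg H9 H29 H10.Mon.MS Cfsg.Spor

abbrev Nd : Type := Bimonster.Gen

abbrev lb (n m : Nd) : ℕ := coxLabel Bimonster.edges n m

noncomputable def isL (n : Nd) : Bool := Bimonster.Gen.rec (motive := fun _ => Bool) true false true false true false false true false true false false true false true false n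

noncomputable def qD (n : Nd) : List ℕ := Bimonster.Gen.rec (motive := fun _ => List ℕ) [38, 41, 44, 46, 51]
  [35, 38, 46, 51]
  [40, 41, 45, 48, 50, 51]
  [31]
  [40, 46, 47, 51, 52]
  [37]
  [31, 32, 38, 40, 51]
  [33, 41, 42, 51, 52]
  [29, 38]
  [42, 43, 51]
  [29, 33, 36, 37]
  [31, 32, 38, 42, 51, 52]
  [33, 51]
  [33, 35]
  [28, 31, 44, 51]
  [] n

noncomputable def gD (n : Nd) : List ℕ := Bimonster.Gen.rec (motive := fun _ => List ℕ) []
  []
  [3, 6, 16, 3, 15, 5, 16]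
  []
  [3, 6, 16, 2, 5, 4, 16, 11, 6]
  []
  []
  [6, 16, 0, 16, 5, 5, 22]
  []
  [12, 10, 15, 16, 10, 15, 14, 16, 20, 28]
  []
  []
  [0, 4, 3, 16, 0, 16, 1, 14, 24, 11]
  []
  [14, 15, 16, 0, 5, 16, 0, 26, 1, 29]
  [] n

noncomputable def wD (n : Nd) : List ℕ := Bimonster.Gen.rec (motive := fun _ => List ℕ) [0, 1, 16, 2, 16, 3, 18, 29]
  [12, 16, 7, 4, 16, 34]
  [8, 16, 22, 14, 16, 24]
  [0, 0, 14]
  [7, 16, 15, 11, 16]
  [0, 5, 5]
  [6, 0, 16, 6, 2, 16, 28]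
  [7, 16, 0, 0, 16, 25, 29]
  [12, 7, 18]
  [4, 16, 4, 16, 27, 15]
  [22, 16, 6]
  [0, 1, 8, 16, 11, 16, 25, 30]
  [6, 7, 16, 15, 16, 2, 39]
  [3, 12, 3]
  [4, 16, 3, 16, 18, 22]
  [] n

/-- The word of a node. -/
noncomputable def X (n : Nd) : List ℕ := Bool.rec (qD n) (cjW (gD n) (cjW [53] (qD n))) (isL n)

/-- The word of the axis of a node. -/
noncomputable def W (n : Nd) : List ℕ := Bool.rec (wD n) (apd (apd (wD n) [53]) (gD n)) (isL n)

def L15 : List Nd := [.a, .c1, .c2, .c3, .e1, .e2, .e3, .b1, .b2, .b3, .d1, .d2, .d3, .f1, .f2]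

theorem iW_wD : ∀ n ∈ L15, iW (wD n) = wd (qD n) := fun n hn => iW_of (allL_true.1
  (show H29.allL L15 (fun n => eqS (cjW (wD n) qA) (qD n)) = true by decide +kernel) n hn)

theorem iW_W {n : Nd} (hn : n ∈ L15) : iW (W n) = wd (X n) := by
  unfold W X
  cases isL n
  · exact iW_wD n hn
  · change iW (apd (apd _ _) _) = wd (cjW _ _)
    rw [iW_apd, iW_apd, iW_wD n hn, wd_cjW, wd_cjW]

theorem X_sq {n : Nd} (hn : n ∈ L15) : wd (X n) * wd (X n) = 1 := by rw [← iW_W hn, iW_mul_self]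

noncomputable def c3 (u x v y : List ℕ) : Bool := eq2 (apd u y) (stAx 1) (apd v x) (stAx 1)

theorem braid {G : Type*} [Group G] {x y : G} (hx : x * x = 1) (hy : y * y = 1)
    (h : y * x * y⁻¹ = x * y * x⁻¹) : (x * y) ^ 3 = 1 := by
  rw [inv_eq_of_mul_eq_one_right hx, inv_eq_of_mul_eq_one_right hy] at h
  calc _ = x * (y * x * y) * x * y := by rw [pow_three]; group
    _ = (x * x) * y * (x * x) * y := by rw [h]; group
    _ = 1 := by rw [hx, one_mul, mul_one, hy]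

theorem c3_true {u x v y : List ℕ} (hx : iW u = wd x) (hy : iW v = wd y) (h : c3 u x v y = true) :
    (wd x * wd y) ^ 3 = 1 := by
  have := iW_eq (aW_eq h)
  rw [iW_apd, iW_apd, hx, hy] at this
  exact braid (by rw [← hx, iW_mul_self]) (by rw [← hy, iW_mul_self]) this

theorem comm2 {G : Type*} [Group G] {x y : G} (hx : x * x = 1) (hy : y * y = 1) (h : Commute y x) :
    (x * y) ^ 2 = 1 := by rw [h.symm.mul_pow, pow_two, pow_two, hx, hy, mul_one]

noncomputable def ck (p : Nd × Nd) : Bool :=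
  Bool.rec (and2 (Nat.beq (lb p.1 p.2) 3) (c3 (W p.1) (X p.1) (W p.2) (X p.2)))
    (fxA (W p.1) [X p.2]) (Nat.beq (lb p.1 p.2) 2)

theorem ck_true {n m : Nd} (hn : n ∈ L15) (hm : m ∈ L15) (h : ck (n, m) = true) :
    (wd (X n) * wd (X m)) ^ lb n m = 1 := by
  unfold ck at h
  cases e : Nat.beq (lb n m) 2 <;> rw [e] at h
  · obtain ⟨h1, h2⟩ := and2_true.1 h
    rw [H29.beq_true.1 h1]
    exact c3_true (iW_W hn) (iW_W hm) h2
  · rw [H29.beq_true.1 e]
    exact comm2 (X_sq hn) (X_sq hm) (iW_W hn ▸ fxA_true h _ (List.mem_singleton_self _))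

/-- The word of a product of nodes. -/
noncomputable def prW (l : List Nd) : List ℕ := List.rec [] (fun n _ ih => apd ih (X n)) l

theorem wd_prW : ∀ l : List Nd, wd (prW l) = (l.map fun n => wd (X n)).prod
  | [] => rfl
  | n :: l => by
    change wd (apd (prW l) (X n)) = _
    rw [← wd_mul, wd_prW l, List.map_cons, List.prod_cons]

noncomputable def spW : List ℕ := pwW (prW [.a, .b1, .c1, .a, .b2, .c2, .a, .b3, .c3]) 10

noncomputable def e7W (l : List Nd) (f : Nd) : List ℕ := apd (X f) (pwW (prW l) 9)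

noncomputable def eeW : List ℕ := pwW (prW [.e3, .f1, .e1]) 2

def w13 : List ℕ := [5, 7, 14]

/-- Data of involutions in the centraliser of `zz`. -/
def yD : List (Nd × Nd × Nd × List ℕ × List ℕ) := [(.e2, .d2, .f2, [13, 8], [4, 13, 4, 37, 44, 46, 48, 50, 51, 12, 10, 15, 16, 10, 15, 14, 16, 20, 28]),
  (.e1, .d1, .f1, [0, 5, 15], [2, 15, 15, 45, 48, 50, 51, 3, 6, 16, 2, 5, 4, 16, 11, 6]),
  (.c3, .b3, .d3, [8, 16, 14, 16, 17, 6, 30], [2, 7, 7, 38, 40, 45, 50, 51, 52, 0, 4, 3, 16, 0, 16, 1, 14, 24, 11]),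
  (.c2, .b2, .d2, [5, 16, 13, 15, 16, 11, 28], [0, 15, 14, 45, 47, 48, 51, 6, 16, 0, 16, 5, 5, 22]),
  (.c1, .b1, .d1, [8, 16, 2, 16, 13, 2], [12, 15, 37, 46, 48, 50, 51, 3, 6, 16, 3, 15, 5, 16]),
  (.a, .b1, .b3, [8, 16, 15, 0, 3, 30], [3, 0, 2, 51]),
  (.a, .b1, .b2, [0, 3, 16, 3, 7, 21], [1, 6, 8, 34, 44, 47, 48, 49, 51])]

def slD : List (ℕ × ℕ) := [(4, 6), (2, 0), (5, 0), (3, 0), (6, 0), (10, 0), (10, 0), (1, 0), (8, 0), (3, 0), (4, 0), (13, 0), (13, 0), (7, 0), (17, 0), (3, 0), (4, 10), (0, 0), (1, 12), (0, 0), (14, 4), (15, 4), (6, 3), (1, 5), (5, 5), (3, 8), (8, 7), (4, 21), (11, 6), (10, 13), (18, 2), (9, 15), (6, 13), (12, 5), (14, 16), (2, 15), (7, 17), (17, 2), (10, 2), (1, 2), (1, 5), (13, 17), (14, 0), (17, 0), (14, 0), (4, 0), (8, 22), (15, 0), (17, 0), (26, 0), (18, 0), (11, 26), (13, 0), (13, 0), (26, 0), (29, 0), (29, 30), (27, 0), (32, 0), (25, 0), (23, 0), (5, 15), (6, 6), (1, 17), (8,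 2), (2, 4), (1, 20), (4, 0), (1, 12), (8, 5), (24, 2), (7, 20), (6, 4), (7, 0), (12, 8), (13, 4), (9, 3), (16, 16), (0, 0), (0, 0), (0, 0), (0, 2), (0, 4), (89, 0), (23, 0), (0, 2), (25, 0), (0, 4), (27, 0), (0, 6), (29, 0), (0, 8), (31, 0), (0, 10), (33, 0), (0, 12), (35, 0), (0, 14), (37, 0), (0, 16), (39, 0), (0, 18), (41, 0), (29, 31), (53, 0), (33, 0), (31, 0), (45, 0), (31, 0), (24, 0), (23, 0), (20, 0), (19, 0), (14, 0), (48, 44), (41, 0), (53, 0), (48, 0), (42, 0), (54, 0), (126, 0), (34, 0), (33, 0), (32, 0), (31, 0), (26, 0), (25, 0), (24, 0), (62, 72), (56, 0), (53, 0), (67, 0), (66, 0), (64, 0), (140, 0), (50, 0), (49, 0), (48, 0), (43, 0), (42, 0), (41, 0), (38, 0), (55, 57), (54, 0), (53, 0), (46, 0), (45, 0), (44, 0)]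

def resD : List ℕ := [34, 20, 6, 0]

end H10.Mon.Y
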