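import Mathlib
import Cfsg.Agent.H10.YD

/-! # Relations between the nodes of the diagram `Y555` in the Monster -/

set_option autoImplicit false
set_option linter.all false
set_option maxRecDepth 100000
set_option Elab.async false

namespace H10.Mon.Y

open Cfsg H9 H29 H10.Mon.MS Cfsg.Spor

def pr0 : List (Nd × Nd) := [(.a, .c1), (.a, .c2), (.a, .c3), (.a, .e1), (.a, .e2), (.a, .b1), (.a, .b2), (.a, .b3), (.a, .d1), (.a, .d2), (.a, .d3), (.a, .f1), (.a, .f2)]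

theorem pr0_ok : H29.allL pr0 ck = true := by decide +kernel

def pr1 : List (Nd × Nd) := [(.c1, .c2), (.c1, .c3), (.c1, .e1), (.c1, .e2), (.c1, .b1), (.c1, .b2), (.c1, .b3), (.c1, .d1), (.c1, .d2), (.c1, .d3), (.c1, .f1), (.c1, .f2)]

theorem pr1_ok : H29.allL pr1 ck = true := by decide +kernel

def pr2 : List (Nd × Nd) := [(.c2, .c3), (.c2, .e1), (.c2, .e2), (.c2, .b1), (.c2, .b2), (.c2, .b3), (.c2, .d1), (.c2, .d2), (.c2, .d3), (.c2, .f1), (.c2, .f2)]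

theorem pr2_ok : H29.allL pr2 ck = true := by decide +kernel

def pr3 : List (Nd × Nd) := [(.c3, .e1), (.c3, .e2), (.c3, .b1), (.c3, .b2), (.c3, .b3), (.c3, .d1), (.c3, .d2), (.c3, .d3), (.c3, .f1), (.c3, .f2)]

theorem pr3_ok : H29.allL pr3 ck = true := by decide +kernel

def pr4 : List (Nd × Nd) := [(.e1, .e2), (.e1, .b1), (.e1, .b2), (.e1, .b3), (.e1, .d1), (.e1, .d2), (.e1, .d3), (.e1, .f1), (.e1, .f2)]

theorem pr4_ok : H29.allL pr4 ck = true := by decide +kernel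

def pr5 : List (Nd × Nd) := [(.e2, .b1), (.e2, .b2), (.e2, .b3), (.e2, .d1), (.e2, .d2), (.e2, .d3), (.e2, .f1), (.e2, .f2)]

theorem pr5_ok : H29.allL pr5 ck = true := by decide +kernel

def pr6 : List (Nd × Nd) := [(.b1, .b2), (.b1, .b3), (.b1, .d1), (.b1, .d2), (.b1, .d3), (.b1, .f1), (.b1, .f2)]

theorem pr6_ok : H29.allL pr6 ck = true := by decide +kernel

def pr7 : List (Nd × Nd) := [(.b2, .b3), (.b2, .d1), (.b2, .d2), (.b2, .d3), (.b2, .f1), (.b2, .f2)]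

theorem pr7_ok : H29.allL pr7 ck = true := by decide +kernel

def pr8 : List (Nd × Nd) := [(.b3, .d1), (.b3, .d2), (.b3, .d3), (.b3, .f1), (.b3, .f2)]

theorem pr8_ok : H29.allL pr8 ck = true := by decide +kernel

def pr9 : List (Nd × Nd) := [(.d1, .d2), (.d1, .d3), (.d1, .f1), (.d1, .f2)]

theorem pr9_ok : H29.allL pr9 ck = true := by decide +kernel

def pr10 : List (Nd × Nd) := [(.d2, .d3), (.d2, .f1), (.d2, .f2)]

theorem pr10_ok : H29.allL pr10 ck = true := by decide +kernel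

def pr11 : List (Nd × Nd) := [(.d3, .f1), (.d3, .f2)]

theorem pr11_ok : H29.allL pr11 ck = true := by decide +kernel

def pr12 : List (Nd × Nd) := [(.f1, .f2)]

theorem pr12_ok : H29.allL pr12 ck = true := by decide +kernel

def prs : List (Nd × Nd) := pr0 ++ pr1 ++ pr2 ++ pr3 ++ pr4 ++ pr5 ++ pr6 ++ pr7 ++ pr8 ++ pr9 ++ pr10 ++ pr11 ++ pr12

theorem prs_ok : ∀ p ∈ prs, ck p = true := by
  simp only [prs, List.forall_mem_append]
  exact ⟨⟨⟨⟨⟨⟨⟨⟨⟨⟨⟨⟨allL_true.1 pr0_ok, allL_true.1 pr1_ok⟩, allL_true.1 pr2_ok⟩, allL_true.1 pr3_ok⟩, allL_true.1 pr4_ok⟩, allL_true.1 pr5_ok⟩, allL_true.1 pr6_ok⟩, allL_true.1 pr7_ok⟩, allL_true.1 pr8_ok⟩, allL_true.1 pr9_ok⟩, allL_true.1 pr10_ok⟩, allL_true.1 pr11_ok⟩, allL_true.1 pr12_ok⟩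

theorem e3_pt : fxA (W .e3) [prW [.f1, .b1], prW [.f1, .b2], prW [.f1, .b3], prW [.f1, .d1],
    prW [.f1, .d2], prW [.f1, .f2]] = true := by decide +kernel

theorem e3_ln : H29.allL [Bimonster.Gen.a, .c1, .c2, .c3, .e2] (fun m =>
    eq2 (apd (W .e3) (X m)) (stAx 1) (apd (W .e3) (X .f1)) (stAx 1)) = true := by decide +kernel

theorem e3_f3 : c3 (W .e3) (X .e3) (W .f1) (X .f1) = true := by decide +kernel

theorem e3_d3 : c3 (W .e3) (X .e3) w13 (prW [.f1, .d3]) = true := by decide +kernel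

theorem e3_e1 : wd eeW = 1 := wd_one_of (by decide +kernel) (by decide +kernel) (by decide +kernel)

theorem yD_ok : H29.allL yD (fun d => and2 (eqS (cjW d.2.2.2.1 qA) (prW [d.2.1, d.2.2.1]))
    (and2 (noT (cjW d.2.2.2.2 [17]))
    (eq2 (apd d.2.2.2.1 (X d.1)) (stAx 1) (apd w17 d.2.2.2.2) (stAx 1)))) = true := by
  decide +kernel

theorem sl_ok : slp slD (fun T => H29.allL [(34, 0), (20, 1), (6, 2), (0, 17)] fun p =>
    eqL (nth hCI T p.1) (lt p.2).C) (mapL (fun d => colW (cjW d.2.2.2.2 [17])) yD []) = true := by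
  decide +kernel

end H10.Mon.Y
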