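import Mathlib
import Cfsg.Prelude.Def_Spor_M
import Cfsg.Agent.H29.Planes

/-!
# Homomorphisms from the group presented on the diagram `Y555` into wreath products
-/

set_option autoImplicit false
set_option linter.all false
set_option maxRecDepth 100000

namespace H10.YW

open Cfsg H29 Cfsg.Spor

/-- The wreath product of `G` with the group of order 2. -/
@[ext] structure Wr (G : Type*) where
  a : G
  b : G
  s : Bool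

variable {G : Type*} [Group G]

instance : Mul (Wr G) :=
  ⟨fun x y => cond x.s ⟨x.a * y.b, x.b * y.a, !y.s⟩ ⟨x.a * y.a, x.b * y.b, y.s⟩⟩
instance : One (Wr G) := ⟨⟨1, 1, false⟩⟩
instance : Inv (Wr G) := ⟨fun x => cond x.s ⟨x.b⁻¹, x.a⁻¹, true⟩ ⟨x.a⁻¹, x.b⁻¹, false⟩⟩

theorem mul_t (a b c d : G) (t : Bool) :
    (⟨a, b, true⟩ * ⟨c, d, t⟩ : Wr G) = ⟨a * d, b * c, !t⟩ := rfl
theorem mul_f (a b c d : G) (t : Bool) :
    (⟨a, b, false⟩ * ⟨c, d, t⟩ : Wr G) = ⟨a * c, b * d, t⟩ := rfl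
theorem one_def : (1 : Wr G) = ⟨1, 1, false⟩ := rfl
theorem inv_t (a b : G) : (⟨a, b, true⟩ : Wr G)⁻¹ = ⟨b⁻¹, a⁻¹, true⟩ := rfl
theorem inv_f (a b : G) : (⟨a, b, false⟩ : Wr G)⁻¹ = ⟨a⁻¹, b⁻¹, false⟩ := rfl

instance : Group (Wr G) := Group.ofLeftAxioms
  (by rintro ⟨a, b, _ | _⟩ ⟨c, d, _ | _⟩ ⟨e, f, _ | _⟩ <;> simp [mul_t, mul_f, mul_assoc])
  (by rintro ⟨a, b, s⟩; simp [one_def, mul_f])
  (by rintro ⟨a, b, _ | _⟩ <;> simp [one_def, mul_t, mul_f, inv_t, inv_f])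

theorem pow_f (a b : G) : ∀ k : ℕ, (⟨a, b, false⟩ : Wr G) ^ k = ⟨a ^ k, b ^ k, false⟩
  | 0 => by simp [one_def]
  | k + 1 => by rw [pow_succ, pow_f a b k, mul_f, pow_succ, pow_succ]

def nd (x : G) : Wr G := ⟨x, x⁻¹, true⟩

theorem nd_pow {x y : G} {k : ℕ} (h : (x * y⁻¹) ^ k = 1) : (nd x * nd y) ^ k = 1 := by
  rw [nd, nd, mul_t, Bool.not_true, pow_f, h,
    show x⁻¹ * y = x⁻¹ * (x * y⁻¹)⁻¹ * x⁻¹⁻¹ by group, conj_pow, inv_pow, h, one_def]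
  simp

/-- The parity. -/
def par : Wr G →* Multiplicative (ZMod 2) where
  toFun x := Multiplicative.ofAdd (cond x.s 1 0)
  map_one' := rfl
  map_mul' := by rintro ⟨a, b, _ | _⟩ ⟨c, d, _ | _⟩ <;> simp only [mul_t, mul_f] <;> decide

theorem par_eq_one {x : Wr G} (h : par x = 1) : x.s = false := by
  obtain ⟨a, b, _ | _⟩ := x
  · rfl
  · exact absurd h (show ¬ (Multiplicative.ofAdd (1 : ZMod 2) = 1) by decide)

/-! ### Rewriting of words -/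

abbrev Nd : Type := Bimonster.Gen

abbrev lb (n m : Nd) : ℕ := coxLabel Bimonster.edges n m

def vl (F : Nd → G) (l : List Nd) : G := (l.map F).prod

theorem vl_nil (F : Nd → G) : vl F [] = 1 := rfl
theorem vl_cons (F : Nd → G) (n : Nd) (l : List Nd) : vl F (n :: l) = F n * vl F l := rfl
theorem vl_append (F : Nd → G) (l r : List Nd) : vl F (l ++ r) = vl F l * vl F r := by simp [vl]

theorem vl_reverse {F : Nd → G} : ∀ {l : List Nd}, (∀ n ∈ l, F n * F n = 1) →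
    vl F l.reverse = (vl F l)⁻¹
  | [], _ => inv_one.symm
  | n :: l, h => by
    rw [List.reverse_cons, vl_append, vl_reverse fun m hm => h m (List.mem_cons_of_mem _ hm),
      vl_cons, vl_cons, vl_nil, mul_one, mul_inv_rev,
      inv_eq_of_mul_eq_one_right (h n List.mem_cons_self)]

def rep (l : List Nd) : ℕ → List Nd
  | 0 => []
  | k + 1 => l ++ rep l k

theorem vl_rep (F : Nd → G) (l : List Nd) : ∀ k, vl F (rep l k) = vl F l ^ k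
  | 0 => (pow_zero _).symm
  | k + 1 => by rw [rep, vl_append, vl_rep F l k, pow_succ']

noncomputable def hd (l : List Nd) (k : List Nd → Bool) : Bool :=
  List.rec false (fun x r _ => List.rec false (fun y r _ => lit (lb x y) fun e =>
    Bool.rec (Bool.rec (List.rec false (fun z r _ =>
      and2 (and2 (Nat.beq e 3) (decide (z = x))) (k (y :: x :: y :: r))) r)
      (k (y :: x :: r)) (Nat.beq e 2)) (k r) (Nat.beq e 1)) r) l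

noncomputable def app (p : ℕ) : List Nd → (List Nd → Bool) → Bool :=
  Nat.rec (motive := fun _ => List Nd → (List Nd → Bool) → Bool) hd
    (fun _ ih l k => List.rec false (fun x r _ => ih r fun r' => k (x :: r')) l) p

noncomputable def red (c : List ℕ) : List Nd → Bool :=
  List.rec (motive := fun _ => List Nd → Bool) (fun l => l.isEmpty) (fun p _ ih l => app p l ih) c

section
variable {F : Nd → G} (hF : ∀ n m, (F n * F m) ^ lb n m = 1)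
include hF

theorem sq_F (n : Nd) : F n * F n = 1 := by
  have := hF n n
  rwa [show lb n n = 1 from if_pos rfl, pow_one] at this

theorem hd_true {k : List Nd → Bool} : ∀ {l : List Nd}, hd l k = true →
    ∃ r, vl F r = vl F l ∧ k r = true
  | [], h => absurd h Bool.false_ne_true
  | [_], h => absurd h Bool.false_ne_true
  | x :: y :: r, h => by
    have e := hF x y
    have ex := inv_eq_of_mul_eq_one_right (sq_F hF x)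
    have ey := inv_eq_of_mul_eq_one_right (sq_F hF y)
    simp only [hd, lit_eq] at h
    cases e1 : Nat.beq (lb x y) 1 <;> rw [e1] at h
    · cases e2 : Nat.beq (lb x y) 2 <;> rw [e2] at h
      · cases r with
        | nil => exact absurd h Bool.false_ne_true
        | cons z r =>
          simp only [and2_true, H29.beq_true, decide_eq_true_eq] at h
          obtain ⟨⟨h1, rfl⟩, h2⟩ := h
          refine ⟨_, ?_, h2⟩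
          rw [h1, pow_three] at e
          have : F y * (F z * F y) = (F z * (F y * F z))⁻¹ := by
            rw [eq_inv_iff_mul_eq_one, ← conj_eq_one_iff (a := F z), ← e, ex]
            calc _ = F z * F y * (F z * F y * (F z * F y)) * (F z * F z) := by group
              _ = _ := by rw [sq_F hF, mul_one]
          simp only [vl_cons, ← mul_assoc]
          rw [mul_assoc (F y), this, mul_inv_rev, mul_inv_rev, ex, ey]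
      · refine ⟨_, ?_, h⟩
        rw [H29.beq_true.1 e2, pow_two, mul_eq_one_iff_eq_inv, mul_inv_rev, ex, ey] at e
        simp only [vl_cons, ← mul_assoc, e]
    · refine ⟨_, ?_, h⟩
      rw [H29.beq_true.1 e1, pow_one] at e
      rw [vl_cons, vl_cons, ← mul_assoc, e, one_mul]

theorem app_true : ∀ (p : ℕ) {k : List Nd → Bool} {l : List Nd}, app p l k = true →
    ∃ r, vl F r = vl F l ∧ k r = true
  | 0, _, _, h => hd_true hF h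
  | _ + 1, _, [], h => absurd h Bool.false_ne_true
  | p + 1, k, x :: l, h => by
    obtain ⟨r, h1, h2⟩ := app_true p (k := fun r' => k (x :: r')) h
    exact ⟨_, by rw [vl_cons, vl_cons, h1], h2⟩

theorem red_true : ∀ (c : List ℕ) {l : List Nd}, red c l = true → vl F l = 1
  | [], l, h => by rw [List.isEmpty_iff.1 h, vl_nil]
  | p :: c, l, h => by
    obtain ⟨r, h1, h2⟩ := app_true hF p h
    rw [← h1, red_true c h2]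

theorem red_eq (c : List ℕ) {l r : List Nd} (h : red c (r.reverse ++ l) = true) :
    vl F l = vl F r := by
  have := red_true hF c h
  rwa [vl_append, vl_reverse fun n _ => sq_F hF n, inv_mul_eq_one, eq_comm] at this

end

def tri (L : Nd) (P : List Nd) : List Nd := L :: (P ++ L :: (P.reverse ++ [L]))

theorem vl_tri {F : Nd → G} (L : Nd) {P : List Nd} (h : ∀ n ∈ P, F n * F n = 1) :
    vl F (tri L P) = F L * (vl F P * (F L * ((vl F P)⁻¹ * F L))) := by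
  rw [tri, vl_cons, vl_append, vl_cons, vl_append, vl_reverse h, vl_cons, vl_nil, mul_one]

def R4 : List Nd := tri .a [.b1, .b2, .b3]
def R6 (b c d : Nd) : List Nd := tri c (R4 ++ [b, d])
def R7 (b c d b' c' : Nd) : List Nd := tri c' (b' :: (R4 ++ R6 b c d))
def RE (b c d b' c' : Nd) : List Nd :=
  [.b1, .b2, .b3] ++ R4 ++ [d] ++ R6 b c d ++ R7 b c d b' c'

def TT : List Nd := [.c1, .b1, .a, .b2, .c2, .b3, .a, .b1, .c1, .b2, .a, .b1, .b3, .a, .b2, .c2, .c3, .b3, .a, .b1, .c1, .b2, .a, .b1, .b3, .a, .b2, .c2, .c3, .b3, .a, .b1, .c1, .b2, .a, .b1, .b3, .a, .b2, .c2, .c3, .b3, .a, .b1, .b2, .a, .b3, .c3]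
def g1 : List Nd := [.b3, .c2, .b2, .a, .b1, .c1]
def g2 : List Nd := [.c1]

theorem red_sp : red [48, 47, 48, 49, 43, 44, 45, 47, 42, 43, 45, 39, 40, 41, 43, 44, 45, 47, 49, 51, 50, 51, 52, 54, 55, 56, 58, 59, 60, 62, 63, 44, 45, 42, 44, 45, 47, 48, 49, 50, 52, 53, 54, 55, 56, 58, 59, 60, 47, 48, 49, 50, 51, 53, 55, 56, 57, 58, 40, 38, 39, 40, 42, 43, 44, 45, 47, 48, 49, 51, 52, 53, 55, 56, 51, 38, 37, 38, 40, 41, 42, 43, 44, 45, 47, 48, 49, 51, 53, 54, 42, 43, 44, 45, 46, 47, 48, 49, 41, 36, 37, 38, 39, 41, 43, 44, 45, 46, 35, 36, 37, 39, 40, 41, 43, 44, 39, 33, 35, 36, 37, 39, 41, 42, 32, 33, 34, 35, 36, 37, 31, 32, 33, 34, 27, 28, 29, 31, 32, 26, 27, 29, 30, 25, 27, 28, 29, 30, 32, 34, 36, 37, 39, 40, 41, 42, 44, 46, 48, 49, 51, 52, 53, 54, 56, 58, 60, 61, 63, 65, 73, 64, 65, 67, 68, 69, 70, 71, 73, 75, 76, 77, 59, 61, 62, 63,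 64, 65, 67, 68, 69, 71, 72, 73, 75, 71, 53, 54, 55, 56, 57, 52, 53, 50, 52, 53, 55, 56, 57, 59, 60, 61, 62, 63, 64, 65, 67, 68, 69, 71, 73, 60, 61, 63, 64, 65, 66, 67, 68, 69, 55, 56, 57, 58, 60, 61, 63, 64, 65, 66, 48, 47, 48, 50, 51, 52, 53, 55, 56, 58, 59, 60, 61, 63, 64, 58, 59, 57, 54, 55, 41, 42, 43, 44, 45, 46, 40, 41, 38, 40, 41, 43, 44, 45, 46, 48, 49, 50, 51, 52, 53, 54, 55, 57, 59, 61, 62, 50, 51, 52, 53, 54, 55, 56, 57, 49, 43, 44, 45, 46, 47, 49, 51, 52, 53, 54, 50, 48, 40, 41, 42, 43, 44, 45, 46, 47, 48, 50, 36, 35, 36, 38, 39, 40, 42, 43, 44, 46, 47, 48, 29, 30, 31, 32, 33, 34, 28, 29, 26, 28, 29, 31, 32, 33, 34, 36, 37, 38, 39, 40, 42, 43, 44, 37, 31, 32, 33, 34, 35, 37, 39, 40, 41, 42, 24, 23, 24, 26, 27, 28, 29, 31, 32, 33, 35, 36, 37, 39, 40, 35, 20, 21, 22, 19, 20, 21, 22, 24, 25, 26, 27, 28, 29, 31, 32, 33,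 35, 37, 38, 26, 27, 28, 29, 30, 31, 32, 33, 25, 20, 21, 22, 23, 25, 27, 28, 29, 30, 18, 19, 20, 21, 23, 24, 25, 27, 28, 23, 17, 16, 17, 19, 20, 21, 23, 25, 26, 16, 17, 18, 19, 20, 21, 15, 16, 17, 18, 13, 15, 16, 11, 13, 14, 8, 9, 7, 8, 9, 11, 12, 13, 14, 16, 18, 20, 21, 23, 24, 25, 26, 28, 30, 32, 33, 35, 36, 37, 38, 40, 42, 44, 45, 47, 48, 50, 51, 53, 54, 56, 57, 59, 60, 61, 62, 64, 66, 68, 69, 71, 72, 73, 75, 77, 79, 95, 94, 93, 92, 91, 90, 89, 88, 87, 78, 79, 80, 82, 83, 84, 86, 85, 72, 73, 70, 72, 73, 75, 76, 77, 78, 80, 81, 82, 83, 84, 83, 81, 82, 77, 78, 79, 80, 81, 75, 76, 77, 78, 80, 79, 72, 73, 74, 75, 76, 77, 78, 77, 76, 75, 68, 67, 68, 70, 71, 72, 74, 73, 61, 62, 63, 64, 65, 66, 60, 61, 58, 60, 61, 63, 64, 65, 66, 68, 69, 70, 71, 72, 71, 69, 70, 65, 66, 67, 68, 69, 63, 64, 65, 66, 68, 67, 60, 61, 62, 63, 64, 65, 66, 65,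 64, 63, 56, 55, 56, 58, 59, 60, 62, 61, 53, 54, 52, 53, 54, 56, 57, 58, 59, 60, 59, 57, 58, 53, 54, 55, 56, 57, 49, 51, 52, 53, 54, 56, 55, 47, 46, 47, 49, 50, 51, 52, 53, 54, 53, 52, 51, 43, 45, 46, 47, 48, 50, 49, 37, 38, 39, 40, 41, 36, 37, 34, 36, 37, 39, 40, 41, 43, 44, 45, 46, 47, 48, 47, 46, 45, 39, 40, 41, 42, 44, 43, 36, 37, 38, 39, 40, 41, 42, 41, 40, 39, 32, 31, 32, 34, 35, 36, 38, 37, 25, 26, 27, 28, 29, 30, 24, 25, 22, 24, 25, 27, 28, 29, 30, 32, 33, 34, 35, 36, 35, 33, 34, 29, 30, 31, 32, 33, 27, 28, 29, 30, 32, 31, 24, 25, 26, 27, 28, 29, 30, 29, 28, 27, 20, 19, 20, 22, 23, 24, 26, 25, 13, 14, 15, 16, 17, 18, 12, 13, 10, 12, 13, 15, 16, 17, 18, 20, 21, 22, 23, 24, 23, 21, 22, 17, 18, 19, 20, 21, 15, 16, 17, 18, 20, 19, 12, 13, 14, 15, 16, 17, 18, 17, 16, 15, 8, 6, 7, 8, 10, 11, 12, 14, 13, 6, 4, 5, 6, 8, 9, 10, 11,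 12, 11, 9, 10, 5, 6, 7, 8, 9, 4, 5, 6, 8, 7, 0, 1, 2, 3, 4, 5, 6, 5, 4, 3, 2, 1, 0]
    ((g1 ++ TT ++ g1.reverse ++ (g2 ++ TT ++ g2.reverse)).reverse ++
      rep [.a, .b1, .c1, .a, .b2, .c2, .a, .b3, .c3] 10) = true := by decide +kernel

theorem red_12 : red [10, 11, 8, 9, 10, 11, 7, 8, 9, 10, 3, 4, 5, 7, 8, 10, 11, 12, 27, 28, 26, 27, 25, 26, 23, 24, 25, 26, 20, 21, 23, 24, 26, 27, 17, 19, 21, 22, 23, 24, 26, 28, 16, 17, 18, 19, 20, 21, 22, 23, 24, 25, 26, 27, 26, 27, 15, 13, 12, 13, 15, 17, 18, 19, 20, 21, 22, 23, 24, 26, 27, 29, 28, 23, 24, 25, 16, 14, 10, 11, 12, 13, 14, 16, 18, 19, 20, 21, 23, 24, 25, 27, 28, 10, 11, 12, 9, 8, 9, 11, 12, 14, 15, 16, 18, 19, 21, 22, 23, 24, 25, 27, 26, 27, 28, 29, 8, 9, 7, 5, 7, 9, 11, 12, 13, 14, 15, 16, 17, 18, 19, 20, 21, 23, 24, 25, 26, 28, 25, 26, 27, 28, 10, 11, 12, 8, 9, 6, 7, 3, 4,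 5, 6, 7, 9, 11, 12, 14, 15, 16, 17, 18, 19, 21, 22, 23, 25, 26, 28, 29, 41, 43, 44, 45, 46, 48, 37, 39, 41, 42, 43, 44, 45, 46, 48, 50, 47, 38, 36, 38, 40, 41, 42, 43, 44, 45, 47, 49, 34, 36, 37, 38, 40, 41, 42, 43, 45, 46, 47, 49, 56, 57, 58, 56, 52, 53, 54, 56, 58, 59, 55, 52, 53, 55, 57, 51, 53, 54, 55, 57, 59, 60, 62, 61, 58, 60, 56, 57, 54, 52, 54, 55, 57, 59, 42, 43, 44, 45, 46, 47, 48, 50, 51, 52, 39, 40, 42, 43, 44, 45, 46, 48, 49, 50, 38, 39, 40, 42, 43, 44, 46, 47, 42, 36, 37, 38, 39, 40, 42, 44, 45, 46, 47, 41, 36, 37, 38, 39, 41, 43, 44, 45, 35, 36, 37, 39, 40, 41, 43, 44, 45, 47, 48, 50, 52, 54, 55, 56, 57, 58, 32, 33, 34, 35, 36, 37, 38, 31, 32, 33, 34, 35, 30, 25, 26, 27, 28, 30, 32, 33, 31, 29, 21, 22, 23, 24, 25, 26, 27, 28, 29, 31, 33, 35, 37, 38, 40, 41, 42, 43, 26, 23, 24, 26, 28, 29, 30, 31, 27, 28, 25, 20,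 21, 22, 23, 24, 25, 27, 28, 30, 31, 33, 34, 35, 37, 38, 40, 41, 42, 43, 45, 46, 47, 33, 21, 23, 24, 25, 26, 20, 21, 19, 17, 19, 21, 22, 24, 25, 26, 28, 29, 30, 31, 33, 35, 36, 37, 38, 40, 41, 42, 43, 45, 35, 36, 34, 32, 16, 14, 16, 18, 19, 20, 21, 22, 23, 24, 17, 15, 13, 14, 15, 17, 19, 11, 12, 13, 10, 8, 9, 10, 12, 13, 15, 16, 17, 19, 21, 22, 23, 24, 26, 27, 28, 29, 30, 31, 32, 34, 36, 38, 39, 40, 41, 42, 43, 45, 47, 49, 50, 51, 52, 53, 48, 46, 28, 29, 27, 18, 16, 18, 20, 21, 22, 23, 24, 25, 27, 29, 31, 32, 33, 34, 35, 36, 37, 39, 40, 41, 30, 31, 28, 14, 16, 17, 18, 20, 21, 22, 23, 25, 26, 27, 28, 30, 31, 33, 34, 35, 37, 38, 39, 33, 25, 26, 9, 10, 11, 12, 7, 9, 10, 11, 12, 14, 15, 16, 17, 18, 20, 21, 22, 23, 25, 26, 28, 29, 30, 31, 33, 35, 36, 37, 29, 30, 31, 28, 6, 7, 8, 9, 10, 4, 6, 7, 8, 9, 10, 12, 13, 14, 15, 16, 17, 18, 20,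 21, 22, 23, 25, 26, 28, 30, 31, 33, 34, 35, 36, 37, 39, 41, 43, 44, 45, 46, 48, 50, 51, 49, 47, 19, 20, 21, 22, 18, 19, 20, 17, 18, 16, 14, 8, 9, 10, 11, 12, 13, 14, 16, 18, 20, 22, 24, 25, 26, 27, 28, 29, 30, 31, 32, 33, 34, 36, 37, 38, 39, 23, 24, 21, 22, 19, 20, 13, 14, 7, 8, 9, 10, 11, 13, 14, 16, 17, 18, 19, 20, 22, 24, 26, 27, 28, 29, 30, 31, 32, 34, 35, 36, 25, 23, 16, 17, 18, 3, 4, 5, 7, 8, 9, 11, 12, 13, 14, 16, 17, 18, 20, 21, 22, 23, 25, 27, 28, 29, 30, 32, 33, 20, 21, 2, 3, 5, 6, 7, 9, 10, 11, 12, 13, 14, 16, 17, 18, 20, 21, 23, 24, 25, 27, 28, 30, 31, 32, 33, 35, 36, 38, 39, 41, 42, 43, 44, 45, 46, 47, 49, 51, 53, 55, 56, 57, 32, 33, 34, 35, 36, 37, 31, 32, 33, 29, 31, 32, 33, 35, 36, 37, 39, 40, 41, 42, 43, 44, 45, 46, 28, 29, 31, 32, 33, 35, 36, 37, 39, 40, 41, 42, 43, 44, 27, 28, 29, 31, 32, 33, 35, 36, 37, 39, 40,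 41, 26, 24, 26, 28, 29, 30, 31, 22, 24, 25, 26, 28, 29, 24, 21, 22, 24, 26, 27, 20, 21, 22, 19, 17, 19, 21, 22, 24, 25, 26, 27, 29, 31, 33, 34, 35, 36, 37, 33, 34, 35, 32, 33, 30, 31, 28, 29, 16, 17, 18, 19, 20, 15, 16, 13, 15, 16, 18, 19, 20, 22, 23, 24, 25, 26, 27, 28, 29, 31, 33, 35, 37, 38, 40, 41, 43, 44, 46, 48, 49, 50, 51, 52, 53, 54, 55, 56, 55, 49, 43, 44, 45, 46, 47, 49, 51, 52, 53, 54, 52, 53, 52, 46, 47, 44, 42, 43, 44, 46, 47, 49, 50, 51, 50, 43, 44, 45, 41, 43, 44, 45, 47, 48, 49, 48, 47, 44, 45, 46, 36, 38, 39, 40, 41, 35, 36, 38, 39, 34, 28, 29, 30, 31, 32, 34, 36, 37, 31, 32, 27, 28, 29, 31, 32, 34, 35, 36, 37, 39, 41, 43, 44, 45, 44, 36, 37, 38, 39, 40, 41, 42, 43, 42, 41, 39, 40, 35, 36, 33, 35, 36, 38, 39, 38, 35, 36, 37, 25, 26, 27, 28, 29, 30, 31, 32, 33, 24, 25, 26, 27, 22, 24, 25, 21, 22, 24, 25, 27, 29,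 30, 19, 18, 19, 21, 22, 23, 17, 18, 19, 21, 22, 23, 25, 26, 27, 29, 30, 32, 33, 35, 36, 22, 23, 24, 25, 26, 27, 21, 22, 20, 18, 20, 22, 24, 25, 26, 27, 29, 30, 31, 32, 33, 34, 35, 34, 31, 32, 33, 32, 26, 27, 28, 25, 26, 24, 25, 26, 28, 30, 31, 25, 26, 27, 28, 29, 30, 29, 24, 25, 26, 27, 28, 27, 21, 22, 24, 25, 26, 24, 25, 24, 20, 22, 23, 11, 12, 13, 10, 11, 5, 6, 7, 8, 4, 5, 6, 8, 9, 11, 13, 15, 16, 17, 18, 19, 20, 21, 22, 16, 17, 15, 16, 17, 19, 20, 21, 20, 19, 12, 13, 15, 16, 17, 18, 15, 16, 17, 16, 11, 13, 14, 15, 14, 13, 10, 11, 12, 11, 7, 9, 10, 3, 4, 6, 7, 8, 9, 8, 2, 4, 5, 6, 7, 6, 4, 5, 1, 2, 3, 4, 3, 2, 0, 1, 0]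
    ((RE .b1 .c1 .d1 .b2 .c2).reverse ++ rep [.a, .b1, .b2, .b3, .c1, .c2, .d1] 9) = true := by decide +kernel

theorem red_13 : red [10, 11, 8, 9, 10, 11, 7, 8, 9, 10, 3, 4, 5, 7, 8, 10, 11, 12, 27, 28, 26, 27, 25, 26, 24, 25, 21, 23, 24, 26, 17, 19, 21, 22, 23, 24, 26, 28, 16, 17, 18, 19, 20, 21, 22, 23, 24, 25, 26, 27, 26, 27, 15, 13, 12, 13, 15, 17, 18, 19, 20, 21, 22, 23, 24, 26, 27, 29, 28, 23, 24, 25, 16, 14, 11, 12, 13, 14, 16, 18, 19, 20, 21, 23, 24, 25, 27, 10, 11, 12, 9, 8, 9, 11, 12, 14, 15, 16, 18, 19, 21, 22, 23, 24, 25, 27, 26, 28, 29, 8, 9, 7, 5, 7, 9, 11, 12, 13, 14, 15, 16, 17, 18, 19, 20, 21, 23, 24, 25, 26, 28, 25, 26, 27, 10, 11, 12, 8, 9, 6, 7, 4, 5, 6, 7, 9, 11, 12, 14, 15, 16, 17, 18, 19, 21, 22, 23, 25, 26, 28, 41, 43, 44, 45, 46, 48, 37, 39, 41, 42, 43, 44, 45, 46, 48, 50, 47, 38, 36, 38, 40, 41, 42, 43,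 44, 45, 47, 49, 34, 36, 37, 38, 40, 41, 42, 43, 45, 46, 47, 49, 56, 57, 58, 56, 52, 53, 54, 56, 58, 59, 55, 52, 53, 55, 57, 51, 53, 54, 55, 57, 59, 60, 62, 61, 56, 54, 56, 58, 52, 54, 55, 56, 58, 60, 57, 55, 57, 59, 42, 43, 44, 45, 46, 47, 48, 50, 51, 52, 39, 40, 42, 43, 44, 45, 46, 48, 49, 50, 38, 39, 40, 42, 43, 44, 46, 47, 42, 36, 37, 38, 39, 40, 42, 44, 45, 46, 47, 41, 36, 37, 38, 39, 41, 43, 44, 45, 35, 36, 37, 39, 40, 41, 43, 44, 45, 47, 48, 50, 52, 54, 55, 56, 57, 58, 32, 33, 34, 35, 36, 37, 31, 32, 33, 34, 35, 30, 25, 26, 27, 28, 30, 32, 33, 31, 29, 21, 22, 23, 24, 25, 26, 27, 28, 29, 31, 33, 35, 37, 39, 40, 41, 42, 43, 44, 45, 38, 36, 26, 23, 24, 26, 28, 29, 30, 31, 27, 28, 25, 20, 21, 22, 23, 24, 25, 27, 28, 30, 31, 33, 34, 35, 36, 38, 40, 41, 42, 43, 33, 34, 21, 23, 24, 25, 26, 20, 21, 19, 17, 19, 21, 22, 24, 25, 26,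 28, 29, 30, 31, 33, 34, 36, 37, 38, 40, 41, 36, 16, 14, 16, 18, 19, 20, 21, 22, 23, 24, 17, 15, 13, 14, 15, 17, 19, 11, 12, 13, 10, 8, 9, 10, 12, 13, 15, 16, 17, 19, 21, 22, 23, 24, 26, 27, 28, 29, 30, 31, 33, 34, 36, 38, 39, 40, 41, 43, 45, 47, 48, 49, 50, 51, 52, 53, 44, 45, 47, 48, 42, 43, 44, 45, 28, 29, 30, 31, 27, 18, 16, 18, 20, 21, 22, 23, 24, 25, 27, 29, 30, 31, 33, 34, 35, 36, 37, 39, 14, 16, 17, 18, 20, 21, 22, 23, 25, 26, 27, 29, 30, 31, 33, 34, 35, 37, 38, 39, 41, 42, 43, 33, 25, 9, 10, 11, 12, 7, 9, 10, 11, 12, 14, 15, 16, 17, 18, 20, 21, 22, 23, 25, 27, 28, 29, 30, 31, 33, 35, 36, 37, 38, 39, 41, 28, 29, 30, 31, 27, 28, 26, 24, 6, 7, 8, 9, 10, 4, 6, 7, 8, 9, 10, 12, 13, 14, 15, 16, 17, 18, 20, 21, 22, 23, 24, 26, 28, 30, 31, 33, 34, 35, 36, 37, 38, 39, 41, 43, 45, 46, 48, 50, 51, 49, 47, 19, 20, 21, 22, 23, 18, 19,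 20, 21, 17, 18, 16, 14, 8, 9, 10, 11, 12, 13, 14, 16, 18, 20, 21, 23, 25, 26, 27, 28, 29, 30, 31, 32, 33, 34, 24, 22, 13, 14, 7, 8, 9, 10, 11, 13, 14, 16, 17, 18, 20, 21, 22, 24, 26, 27, 28, 29, 30, 31, 32, 34, 35, 37, 38, 39, 40, 41, 25, 23, 16, 3, 4, 5, 7, 8, 9, 11, 12, 13, 14, 16, 18, 19, 20, 21, 22, 23, 25, 27, 28, 29, 30, 32, 33, 34, 35, 37, 38, 18, 19, 20, 21, 17, 18, 15, 2, 3, 5, 6, 7, 9, 10, 11, 12, 13, 14, 15, 17, 18, 20, 21, 23, 24, 25, 27, 28, 30, 31, 32, 33, 34, 35, 37, 38, 40, 41, 43, 44, 45, 46, 47, 49, 51, 53, 55, 56, 57, 31, 33, 34, 35, 36, 37, 38, 39, 30, 31, 33, 34, 35, 29, 30, 31, 33, 34, 35, 37, 38, 39, 41, 42, 43, 44, 45, 46, 28, 29, 30, 31, 33, 34, 35, 37, 38, 39, 41, 42, 43, 44, 27, 28, 29, 30, 31, 33, 34, 35, 37, 38, 39, 41, 26, 27, 28, 25, 26, 24, 20, 21, 22, 17, 18, 19, 20, 21, 22, 24, 26, 28, 30, 31, 32,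 33, 21, 22, 23, 24, 20, 21, 18, 16, 17, 18, 20, 21, 23, 24, 26, 27, 28, 30, 31, 26, 17, 18, 19, 15, 17, 18, 19, 21, 22, 23, 24, 26, 28, 29, 22, 23, 24, 21, 13, 15, 16, 17, 18, 19, 21, 23, 24, 26, 27, 28, 29, 31, 33, 35, 36, 37, 38, 39, 41, 43, 44, 46, 48, 49, 50, 51, 52, 53, 54, 55, 56, 55, 49, 43, 44, 45, 46, 47, 49, 51, 52, 53, 54, 52, 53, 52, 46, 47, 44, 42, 43, 44, 46, 47, 49, 50, 51, 50, 43, 44, 45, 41, 43, 44, 45, 47, 48, 49, 48, 47, 44, 45, 46, 40, 41, 39, 37, 39, 41, 43, 44, 45, 44, 28, 29, 30, 31, 32, 33, 27, 28, 25, 27, 28, 30, 31, 24, 25, 27, 28, 22, 24, 25, 26, 21, 22, 24, 20, 18, 20, 22, 23, 24, 26, 28, 29, 31, 33, 35, 36, 37, 38, 39, 40, 41, 42, 43, 42, 41, 39, 40, 34, 35, 36, 32, 33, 27, 29, 30, 31, 32, 33, 35, 36, 38, 39, 38, 35, 36, 37, 31, 32, 33, 30, 26, 27, 29, 30, 32, 33, 35, 36, 29, 30, 31, 32, 33, 34, 35,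 34, 31, 32, 33, 32, 28, 25, 26, 28, 30, 31, 23, 21, 23, 25, 26, 27, 28, 29, 30, 29, 17, 18, 19, 20, 21, 16, 17, 18, 14, 16, 17, 18, 20, 21, 23, 24, 25, 26, 27, 28, 27, 20, 21, 22, 24, 25, 26, 24, 25, 24, 19, 20, 22, 23, 11, 10, 11, 13, 14, 15, 12, 5, 6, 7, 8, 10, 4, 5, 6, 8, 9, 10, 12, 14, 15, 17, 18, 19, 20, 21, 22, 17, 19, 20, 21, 20, 19, 16, 17, 18, 14, 15, 16, 17, 16, 14, 15, 14, 13, 11, 12, 11, 8, 7, 8, 10, 3, 4, 6, 7, 8, 9, 6, 7, 8, 2, 4, 5, 6, 7, 6, 4, 5, 1, 2, 3, 4, 3, 2, 0, 1, 0]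
    ((RE .b1 .c1 .d1 .b3 .c3).reverse ++ rep [.a, .b1, .b3, .b2, .c1, .c3, .d1] 9) = true := by decide +kernel

theorem red_21 : red [10, 11, 9, 10, 7, 8, 9, 10, 4, 5, 7, 8, 10, 11, 27, 28, 26, 27, 24, 25, 26, 27, 23, 24, 25, 26, 19, 20, 21, 23, 24, 26, 27, 28, 17, 19, 21, 22, 23, 24, 26, 28, 16, 17, 18, 19, 20, 21, 22, 23, 24, 25, 26, 27, 26, 27, 15, 13, 12, 13, 15, 17, 18, 19, 20, 21, 22, 23, 24, 26, 27, 29, 28, 29, 23, 24, 25, 16, 14, 10, 11, 12, 13, 14, 16, 18, 19, 20, 21, 23, 24, 25, 27, 28, 10, 11, 12, 9, 8, 9, 11, 12, 14, 15, 16, 18, 19, 21, 22, 23, 24, 25, 27, 26, 27, 28, 28, 29, 8, 9, 7, 5, 7, 9, 11, 12, 13, 14, 15, 16, 17, 18, 19, 20, 21, 23, 24, 25, 26, 28, 29, 25, 26, 27, 28, 10, 11, 12, 8, 9, 6, 7, 3, 4, 5, 6, 7, 9, 11, 12, 14, 15, 16, 17, 18, 19, 21, 22, 23, 25, 26, 28, 29, 30, 40, 41, 43, 44, 45, 46, 48, 49, 37, 39,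 41, 42, 43, 44, 45, 46, 48, 50, 47, 38, 35, 36, 38, 40, 41, 42, 43, 44, 45, 47, 49, 50, 34, 36, 37, 38, 40, 41, 42, 43, 45, 46, 47, 49, 56, 57, 58, 56, 52, 53, 54, 56, 58, 59, 55, 52, 53, 55, 57, 51, 53, 54, 55, 57, 59, 60, 62, 58, 60, 61, 60, 56, 57, 54, 52, 54, 55, 57, 59, 42, 43, 44, 45, 46, 47, 48, 50, 39, 40, 42, 43, 44, 45, 46, 48, 49, 50, 52, 53, 54, 38, 39, 40, 42, 43, 44, 46, 47, 42, 36, 37, 38, 39, 40, 42, 44, 45, 46, 47, 49, 50, 52, 41, 36, 37, 38, 39, 41, 43, 44, 45, 35, 36, 37, 39, 40, 41, 43, 44, 45, 47, 48, 49, 50, 52, 54, 56, 57, 58, 32, 33, 34, 35, 36, 37, 38, 31, 32, 33, 34, 35, 30, 25, 26, 27, 28, 30, 32, 33, 31, 29, 21, 22, 23, 24, 25, 26, 27, 28, 29, 31, 33, 35, 37, 38, 40, 41, 42, 43, 26, 23, 24, 26, 28, 29, 30, 31, 27, 28, 25, 20, 21, 22, 23, 24, 25, 27, 28, 30, 31, 33, 34, 35, 37, 38, 40, 41, 42, 43, 45,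 46, 47, 48, 49, 33, 21, 23, 24, 25, 26, 20, 21, 19, 17, 19, 21, 22, 24, 25, 26, 28, 29, 30, 31, 33, 35, 36, 37, 38, 40, 41, 42, 43, 45, 46, 47, 35, 36, 34, 32, 16, 14, 16, 18, 19, 20, 21, 22, 23, 24, 17, 15, 13, 14, 15, 17, 19, 11, 12, 13, 10, 8, 9, 10, 12, 13, 15, 16, 17, 19, 21, 22, 23, 24, 26, 27, 28, 29, 30, 31, 32, 34, 36, 38, 39, 40, 41, 42, 43, 45, 28, 29, 27, 18, 16, 18, 20, 21, 22, 23, 24, 25, 27, 29, 31, 32, 33, 34, 35, 36, 37, 39, 40, 41, 30, 31, 28, 14, 16, 17, 18, 20, 21, 22, 23, 25, 26, 27, 28, 30, 31, 33, 34, 35, 37, 38, 39, 33, 25, 26, 9, 10, 11, 12, 7, 9, 10, 11, 12, 14, 15, 16, 17, 18, 20, 21, 22, 23, 25, 26, 28, 29, 30, 31, 33, 35, 36, 37, 29, 30, 31, 28, 6, 7, 8, 9, 10, 4, 6, 7, 8, 9, 10, 12, 13, 14, 15, 16, 17, 18, 20, 21, 22, 23, 25, 26, 28, 30, 31, 33, 34, 35, 36, 37, 39, 41, 43, 19, 20, 21, 22, 18, 19, 20,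 17, 18, 16, 14, 8, 9, 10, 11, 12, 13, 14, 16, 18, 20, 22, 24, 25, 26, 27, 28, 29, 30, 31, 32, 33, 34, 36, 37, 38, 39, 23, 24, 21, 22, 19, 20, 13, 14, 7, 8, 9, 10, 11, 13, 14, 16, 17, 18, 19, 20, 22, 24, 26, 27, 28, 29, 30, 31, 32, 34, 35, 36, 25, 23, 16, 17, 18, 3, 4, 5, 7, 8, 9, 11, 12, 13, 14, 16, 17, 18, 20, 21, 22, 23, 25, 27, 28, 29, 30, 32, 33, 20, 21, 2, 3, 5, 6, 7, 9, 10, 11, 12, 13, 14, 16, 17, 18, 20, 21, 23, 24, 25, 27, 28, 30, 31, 32, 33, 35, 36, 38, 39, 41, 42, 43, 45, 47, 49, 51, 52, 53, 54, 55, 56, 57, 32, 33, 34, 35, 36, 37, 31, 32, 33, 29, 31, 32, 33, 35, 36, 37, 39, 40, 41, 42, 28, 29, 31, 32, 33, 35, 36, 37, 39, 40, 27, 28, 29, 31, 32, 33, 35, 36, 37, 39, 40, 42, 44, 45, 46, 47, 48, 49, 50, 51, 43, 41, 26, 24, 26, 28, 29, 30, 31, 22, 24, 25, 26, 28, 29, 24, 21, 22, 24, 26, 27, 20, 21, 22, 19, 17, 19, 21, 22, 24,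 25, 26, 27, 29, 31, 33, 34, 35, 36, 37, 39, 40, 41, 43, 45, 46, 47, 48, 44, 42, 33, 34, 35, 32, 33, 30, 31, 28, 29, 16, 17, 18, 19, 20, 15, 16, 13, 15, 16, 18, 19, 20, 22, 23, 24, 25, 26, 27, 28, 29, 31, 33, 35, 37, 38, 39, 40, 41, 42, 44, 46, 47, 48, 50, 51, 53, 54, 55, 56, 55, 53, 54, 47, 48, 45, 46, 44, 41, 42, 43, 44, 46, 48, 50, 51, 52, 53, 52, 51, 43, 44, 45, 46, 42, 43, 40, 42, 43, 45, 46, 48, 49, 50, 49, 48, 45, 46, 47, 46, 37, 38, 36, 37, 38, 40, 41, 42, 34, 32, 33, 34, 36, 37, 38, 40, 33, 34, 35, 36, 31, 33, 34, 28, 29, 27, 28, 29, 31, 32, 33, 34, 36, 38, 39, 40, 42, 44, 45, 39, 40, 41, 42, 43, 44, 43, 33, 34, 35, 36, 37, 38, 39, 40, 41, 42, 41, 36, 38, 39, 40, 38, 39, 38, 32, 33, 34, 30, 32, 33, 34, 36, 37, 25, 26, 27, 28, 29, 30, 31, 24, 25, 26, 27, 28, 22, 24, 25, 19, 20, 18, 19, 20, 22, 23, 24, 25, 19, 20, 21, 23,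 17, 18, 19, 21, 22, 23, 25, 26, 28, 30, 31, 33, 34, 35, 36, 22, 23, 24, 25, 26, 27, 28, 29, 30, 31, 20, 22, 23, 24, 19, 20, 22, 18, 19, 20, 22, 24, 26, 27, 28, 29, 30, 31, 33, 34, 35, 34, 33, 30, 31, 32, 28, 29, 30, 31, 30, 28, 29, 28, 27, 25, 26, 25, 21, 19, 21, 23, 24, 23, 11, 12, 13, 10, 11, 5, 6, 7, 8, 4, 5, 6, 8, 9, 11, 13, 15, 16, 17, 18, 19, 20, 21, 22, 15, 17, 18, 19, 20, 21, 20, 18, 19, 14, 15, 12, 13, 14, 15, 17, 18, 17, 14, 15, 16, 12, 11, 12, 14, 15, 11, 12, 13, 14, 13, 10, 11, 12, 11, 7, 9, 10, 3, 4, 6, 7, 8, 9, 8, 2, 4, 5, 6, 7, 6, 4, 5, 1, 2, 3, 4, 3, 2, 0, 1, 0]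
    ((RE .b2 .c2 .d2 .b1 .c1).reverse ++ rep [.a, .b2, .b1, .b3, .c2, .c1, .d2] 9) = true := by decide +kernel

theorem red_23 : red [10, 11, 9, 10, 7, 8, 9, 10, 4, 5, 7, 8, 10, 11, 27, 28, 26, 27, 25, 26, 24, 25, 21, 23, 24, 26, 26, 19, 17, 19, 21, 22, 23, 24, 26, 28, 16, 17, 18, 19, 20, 21, 22, 23, 24, 25, 26, 27, 26, 27, 15, 13, 12, 13, 15, 17, 18, 19, 20, 21, 22, 23, 24, 26, 27, 29, 23, 24, 25, 16, 14, 11, 12, 13, 14, 16, 18, 19, 20, 21, 23, 24, 25, 27, 28, 27, 10, 11, 12, 9, 8, 9, 11, 12, 14, 15, 16, 18, 19, 21, 22, 23, 24, 25, 27, 26, 28, 29, 27, 28, 8, 9, 7, 5, 7, 9, 11, 12, 13, 14, 15, 16, 17, 18, 19, 20, 21, 23, 24, 25, 27, 10, 11, 12, 8, 9, 6, 7, 4, 5, 6, 7, 9, 11, 12, 14, 15, 16, 17, 18, 19, 21, 22, 23, 25, 26, 28, 40, 41, 43, 44, 45, 46, 48, 49, 37, 39, 41, 42, 43, 44, 45, 46, 48, 50, 47, 38, 35, 36, 38, 40, 41, 42,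 43, 44, 45, 47, 49, 50, 34, 36, 37, 38, 40, 41, 42, 43, 45, 46, 47, 49, 56, 57, 58, 56, 52, 53, 54, 56, 58, 59, 55, 52, 53, 55, 57, 51, 53, 54, 55, 57, 59, 60, 62, 58, 60, 61, 56, 57, 54, 52, 54, 55, 57, 59, 60, 59, 42, 43, 44, 45, 46, 47, 48, 50, 39, 40, 42, 43, 44, 45, 46, 48, 49, 50, 52, 53, 54, 38, 39, 40, 42, 43, 44, 46, 47, 42, 36, 37, 38, 39, 40, 42, 44, 45, 46, 47, 49, 50, 52, 41, 36, 37, 38, 39, 41, 43, 44, 45, 35, 36, 37, 39, 40, 41, 43, 44, 45, 47, 48, 49, 50, 52, 54, 56, 57, 58, 32, 33, 34, 35, 36, 37, 31, 32, 33, 34, 35, 30, 28, 25, 26, 27, 28, 30, 32, 33, 31, 29, 21, 22, 23, 24, 25, 26, 27, 28, 29, 31, 33, 35, 37, 39, 40, 41, 42, 43, 44, 45, 38, 36, 26, 23, 24, 26, 28, 29, 30, 31, 27, 28, 25, 20, 21, 22, 23, 24, 25, 27, 28, 30, 31, 33, 34, 35, 36, 38, 40, 41, 42, 43, 33, 34, 21, 23, 24, 25, 26, 20, 21, 19, 17, 19,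 21, 22, 24, 25, 26, 28, 29, 30, 31, 33, 34, 36, 37, 38, 40, 41, 36, 16, 14, 16, 18, 19, 20, 21, 22, 23, 24, 17, 15, 13, 14, 15, 17, 19, 11, 12, 13, 10, 8, 9, 10, 12, 13, 15, 16, 17, 19, 21, 22, 23, 24, 26, 27, 28, 29, 30, 31, 33, 34, 36, 38, 39, 40, 41, 43, 45, 47, 48, 49, 50, 51, 52, 53, 54, 46, 47, 44, 45, 28, 29, 30, 31, 27, 18, 16, 18, 20, 21, 22, 23, 24, 25, 27, 29, 30, 31, 33, 34, 35, 36, 37, 39, 14, 16, 17, 18, 20, 21, 22, 23, 25, 26, 27, 29, 30, 31, 33, 34, 35, 37, 38, 39, 41, 42, 43, 21, 22, 23, 24, 25, 26, 27, 28, 20, 21, 22, 23, 19, 20, 18, 16, 12, 13, 14, 15, 16, 18, 20, 22, 23, 25, 26, 27, 28, 30, 31, 32, 33, 34, 35, 36, 15, 16, 11, 12, 13, 15, 16, 18, 19, 20, 22, 23, 25, 26, 27, 28, 30, 31, 32, 33, 34, 36, 37, 39, 40, 41, 42, 43, 45, 47, 49, 50, 40, 41, 42, 43, 31, 21, 22, 20, 9, 10, 7, 9, 10, 12, 13, 14, 15, 16, 17,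 18, 20, 22, 24, 25, 26, 27, 28, 29, 31, 33, 34, 35, 36, 37, 38, 40, 17, 18, 3, 4, 5, 6, 7, 9, 10, 12, 13, 14, 15, 17, 18, 20, 21, 22, 24, 25, 26, 27, 29, 30, 31, 33, 34, 35, 36, 38, 39, 40, 42, 43, 45, 46, 47, 45, 24, 25, 26, 27, 28, 23, 24, 25, 22, 23, 20, 21, 17, 18, 19, 5, 6, 7, 3, 5, 6, 7, 9, 10, 11, 12, 13, 14, 15, 16, 17, 18, 19, 21, 23, 25, 27, 28, 30, 31, 32, 33, 34, 35, 36, 37, 18, 19, 20, 21, 17, 18, 15, 2, 3, 5, 6, 7, 9, 10, 11, 12, 13, 14, 15, 17, 18, 20, 21, 23, 24, 25, 27, 28, 30, 31, 32, 33, 34, 35, 37, 38, 40, 41, 42, 43, 45, 47, 48, 50, 52, 53, 54, 56, 57, 31, 33, 34, 35, 36, 37, 38, 39, 30, 31, 33, 34, 35, 36, 37, 29, 30, 31, 33, 34, 35, 28, 29, 30, 31, 33, 27, 28, 29, 30, 31, 33, 35, 37, 39, 41, 42, 43, 44, 45, 46, 47, 48, 49, 50, 40, 41, 42, 38, 39, 36, 37, 26, 27, 28, 25, 26, 23, 24, 20, 21, 22, 17, 18, 19,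 20, 21, 22, 24, 26, 28, 30, 31, 21, 22, 23, 24, 20, 21, 18, 16, 17, 18, 20, 21, 23, 24, 26, 27, 28, 30, 31, 33, 34, 35, 36, 37, 39, 41, 42, 44, 45, 46, 33, 34, 35, 26, 17, 18, 19, 15, 17, 18, 19, 21, 22, 23, 24, 26, 28, 29, 30, 31, 33, 34, 35, 37, 38, 39, 41, 42, 44, 37, 22, 23, 24, 21, 13, 15, 16, 17, 18, 19, 21, 23, 24, 26, 27, 28, 29, 30, 31, 33, 34, 35, 37, 39, 40, 41, 42, 44, 46, 48, 49, 50, 52, 53, 54, 55, 56, 55, 52, 53, 54, 53, 43, 41, 43, 45, 46, 47, 44, 42, 40, 41, 42, 44, 38, 40, 41, 42, 37, 38, 36, 34, 36, 38, 39, 41, 42, 44, 45, 47, 49, 50, 51, 52, 50, 51, 50, 49, 48, 43, 45, 46, 47, 45, 46, 45, 41, 40, 41, 43, 44, 28, 29, 30, 31, 32, 33, 27, 23, 24, 25, 27, 29, 30, 31, 22, 23, 25, 26, 27, 29, 30, 31, 33, 35, 36, 37, 38, 34, 32, 21, 23, 24, 25, 26, 27, 29, 30, 31, 32, 34, 36, 24, 20, 21, 22, 24, 26, 27, 28, 29, 30,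 19, 20, 22, 23, 24, 26, 27, 22, 18, 19, 20, 22, 24, 25, 26, 27, 29, 30, 32, 33, 34, 36, 38, 40, 41, 42, 43, 26, 27, 28, 29, 30, 31, 32, 33, 34, 35, 36, 37, 38, 25, 26, 27, 28, 29, 23, 25, 26, 27, 22, 23, 25, 21, 19, 21, 23, 24, 25, 27, 29, 31, 32, 33, 34, 35, 36, 37, 38, 40, 41, 42, 41, 40, 37, 38, 39, 33, 31, 33, 35, 36, 37, 38, 37, 35, 36, 35, 34, 28, 29, 31, 32, 33, 31, 32, 31, 27, 29, 30, 24, 25, 26, 27, 28, 29, 16, 18, 19, 20, 21, 22, 23, 24, 17, 15, 14, 15, 17, 19, 20, 21, 22, 23, 24, 26, 27, 28, 27, 26, 20, 22, 23, 24, 25, 22, 23, 24, 23, 11, 10, 11, 13, 14, 15, 16, 17, 18, 12, 13, 5, 6, 7, 8, 10, 11, 4, 5, 6, 8, 9, 10, 11, 13, 15, 16, 17, 18, 20, 21, 22, 21, 20, 16, 17, 18, 19, 18, 16, 17, 15, 16, 15, 10, 11, 12, 13, 14, 13, 11, 12, 11, 8, 7, 8, 10, 3, 4, 6, 7, 8, 9, 6, 7, 8, 2, 4, 5, 6, 7, 6, 4, 5, 1, 2, 3, 4, 3, 2, 0,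 1, 0]
    ((RE .b2 .c2 .d2 .b3 .c3).reverse ++ rep [.a, .b2, .b3, .b1, .c2, .c3, .d2] 9) = true := by decide +kernel

theorem red_31 : red [10, 11, 9, 10, 8, 9, 5, 7, 8, 10, 27, 28, 26, 27, 24, 25, 26, 27, 23, 24, 25, 26, 19, 20, 21, 23, 24, 26, 27, 28, 26, 19, 17, 19, 21, 22, 23, 24, 26, 28, 16, 17, 18, 19, 20, 21, 22, 23, 24, 25, 26, 27, 26, 27, 15, 13, 12, 13, 15, 17, 18, 19, 20, 21, 22, 23, 24, 26, 27, 29, 23, 24, 25, 16, 14, 10, 11, 12, 13, 14, 16, 18, 19, 20, 21, 23, 24, 25, 27, 28, 29, 27, 28, 10, 11, 12, 9, 8, 9, 11, 12, 14, 15, 16, 18, 19, 21, 22, 23, 24, 25, 27, 26, 27, 28, 28, 29, 27, 28, 29, 8, 9, 7, 5, 7, 9, 11, 12, 13, 14, 15, 16, 17, 18, 19, 20, 21, 23, 24, 25, 27, 28, 10, 11, 12, 8, 9, 6, 7, 3, 4, 5, 6, 7, 9, 11, 12, 14, 15, 16, 17, 18, 19, 21, 22, 23, 25, 26, 28, 29, 30, 39, 40, 41, 43, 44, 45, 46, 48, 49, 50, 36,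 37, 39, 41, 42, 43, 44, 45, 46, 48, 50, 51, 47, 38, 35, 36, 38, 40, 41, 42, 43, 44, 45, 47, 49, 50, 34, 36, 37, 38, 40, 41, 42, 43, 45, 46, 47, 49, 56, 57, 58, 56, 52, 53, 54, 56, 58, 59, 55, 52, 53, 55, 57, 51, 53, 54, 55, 57, 59, 60, 62, 56, 54, 56, 58, 52, 54, 55, 56, 58, 60, 61, 60, 57, 55, 57, 59, 42, 43, 44, 45, 46, 47, 48, 39, 40, 42, 43, 44, 45, 46, 48, 49, 51, 52, 53, 54, 50, 38, 39, 40, 42, 43, 44, 46, 47, 48, 42, 36, 37, 38, 39, 40, 42, 44, 45, 46, 47, 48, 50, 52, 41, 36, 37, 38, 39, 41, 43, 44, 45, 46, 35, 36, 37, 39, 40, 41, 43, 44, 45, 46, 48, 49, 50, 52, 54, 56, 57, 58, 32, 33, 34, 35, 36, 37, 38, 31, 32, 33, 34, 35, 30, 28, 25, 26, 27, 28, 30, 32, 33, 31, 29, 21, 22, 23, 24, 25, 26, 27, 28, 29, 31, 33, 35, 37, 38, 40, 41, 42, 43, 44, 26, 23, 24, 26, 28, 29, 30, 31, 27, 28, 25, 20, 21, 22, 23, 24, 25, 27, 28, 30,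 31, 33, 34, 35, 37, 38, 40, 41, 42, 43, 44, 46, 47, 48, 49, 33, 21, 23, 24, 25, 26, 20, 21, 19, 17, 19, 21, 22, 24, 25, 26, 28, 29, 30, 31, 33, 35, 36, 37, 38, 40, 41, 42, 43, 44, 46, 47, 35, 36, 34, 32, 16, 14, 16, 18, 19, 20, 21, 22, 23, 24, 17, 15, 13, 14, 15, 17, 19, 11, 12, 13, 10, 8, 9, 10, 12, 13, 15, 16, 17, 19, 21, 22, 23, 24, 26, 27, 28, 29, 30, 31, 32, 34, 36, 38, 39, 40, 41, 42, 43, 44, 28, 29, 27, 18, 16, 18, 20, 21, 22, 23, 24, 25, 27, 29, 31, 32, 33, 34, 35, 36, 37, 39, 22, 23, 24, 25, 26, 27, 21, 22, 23, 24, 20, 21, 19, 17, 12, 13, 14, 15, 16, 17, 19, 21, 23, 24, 26, 27, 29, 30, 31, 32, 33, 34, 35, 36, 37, 39, 41, 42, 29, 30, 26, 27, 20, 13, 15, 16, 17, 18, 20, 22, 23, 24, 25, 26, 27, 29, 30, 32, 33, 34, 36, 37, 26, 27, 28, 24, 15, 16, 11, 12, 13, 15, 16, 18, 19, 20, 22, 23, 24, 26, 27, 28, 30, 31, 32, 33, 34, 36,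 37, 39, 40, 31, 21, 22, 23, 20, 21, 18, 9, 10, 7, 9, 10, 12, 13, 14, 15, 16, 17, 18, 20, 21, 23, 25, 26, 27, 28, 29, 31, 33, 34, 35, 17, 18, 19, 3, 4, 5, 6, 7, 9, 10, 12, 13, 14, 15, 17, 18, 19, 21, 22, 23, 25, 26, 27, 29, 30, 31, 33, 34, 35, 37, 38, 25, 26, 27, 28, 24, 25, 23, 21, 5, 6, 7, 3, 5, 6, 7, 9, 10, 11, 12, 13, 14, 15, 16, 18, 19, 20, 21, 23, 25, 27, 28, 30, 31, 32, 33, 20, 21, 2, 3, 5, 6, 7, 9, 10, 11, 12, 13, 14, 16, 17, 18, 20, 21, 23, 24, 25, 27, 28, 30, 31, 32, 33, 35, 36, 37, 38, 40, 42, 44, 45, 47, 49, 51, 52, 53, 54, 55, 56, 57, 32, 33, 34, 35, 31, 32, 33, 30, 31, 29, 27, 29, 31, 33, 35, 37, 38, 39, 40, 41, 42, 43, 44, 45, 46, 47, 48, 49, 50, 51, 36, 37, 38, 39, 34, 35, 36, 32, 33, 30, 31, 32, 33, 35, 36, 38, 39, 41, 42, 43, 28, 29, 30, 31, 32, 33, 35, 36, 38, 39, 41, 26, 24, 26, 28, 29, 30, 22, 24, 25, 26, 28,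 29, 30, 32, 33, 34, 24, 21, 22, 24, 26, 27, 28, 29, 30, 32, 19, 21, 22, 23, 24, 25, 27, 28, 18, 19, 21, 22, 23, 25, 26, 21, 17, 18, 19, 21, 23, 24, 25, 26, 28, 30, 31, 32, 34, 36, 37, 38, 39, 41, 43, 45, 46, 47, 48, 44, 42, 36, 37, 35, 33, 15, 17, 18, 19, 20, 21, 22, 23, 25, 26, 14, 15, 17, 18, 19, 20, 21, 23, 13, 14, 15, 17, 18, 19, 21, 22, 23, 25, 26, 28, 29, 30, 31, 32, 33, 35, 37, 39, 40, 41, 42, 44, 46, 47, 48, 50, 51, 53, 54, 55, 56, 55, 53, 54, 47, 48, 45, 46, 44, 41, 42, 43, 44, 46, 48, 50, 51, 52, 53, 52, 51, 43, 44, 45, 46, 42, 43, 40, 42, 43, 45, 46, 48, 49, 50, 49, 48, 45, 46, 47, 46, 38, 40, 41, 42, 36, 37, 38, 40, 36, 32, 33, 34, 36, 38, 39, 40, 42, 44, 45, 39, 40, 41, 42, 43, 44, 43, 22, 23, 24, 20, 22, 23, 24, 26, 27, 28, 29, 30, 31, 19, 20, 22, 23, 24, 26, 27, 28, 29, 18, 19, 20, 22, 23, 24, 26, 27, 17, 18, 16,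 14, 16, 18, 20, 21, 22, 23, 24, 26, 27, 29, 31, 33, 34, 35, 36, 37, 38, 39, 40, 41, 42, 41, 36, 38, 39, 40, 38, 39, 38, 32, 33, 34, 30, 28, 29, 30, 32, 33, 34, 36, 37, 26, 27, 28, 29, 30, 31, 25, 26, 27, 28, 23, 25, 26, 22, 23, 25, 26, 28, 30, 31, 33, 34, 35, 36, 25, 26, 27, 28, 29, 30, 31, 24, 22, 24, 26, 27, 28, 29, 30, 31, 33, 34, 35, 34, 33, 30, 31, 32, 28, 29, 30, 31, 30, 28, 29, 28, 27, 25, 26, 25, 20, 21, 19, 17, 18, 19, 21, 23, 24, 23, 11, 12, 13, 14, 15, 10, 11, 12, 13, 5, 6, 7, 8, 10, 4, 5, 6, 8, 9, 10, 12, 13, 15, 17, 18, 19, 20, 21, 22, 17, 18, 19, 20, 21, 20, 18, 19, 14, 15, 17, 18, 17, 12, 13, 14, 15, 16, 12, 14, 15, 9, 10, 11, 12, 13, 14, 13, 10, 11, 12, 11, 7, 9, 10, 3, 4, 6, 7, 8, 9, 8, 2, 4, 5, 6, 7, 6, 4, 5, 1, 2, 3, 4, 3, 2, 0, 1, 0]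
    ((RE .b3 .c3 .d3 .b1 .c1).reverse ++ rep [.a, .b3, .b1, .b2, .c3, .c1, .d3] 9) = true := by decide +kernel

theorem red_32 : red [10, 11, 9, 10, 8, 9, 5, 7, 8, 10, 27, 28, 26, 27, 25, 26, 23, 24, 25, 26, 20, 21, 23, 24, 26, 27, 26, 19, 17, 19, 21, 22, 23, 24, 26, 28, 16, 17, 18, 19, 20, 21, 22, 23, 24, 25, 26, 27, 26, 27, 15, 13, 12, 13, 15, 17, 18, 19, 20, 21, 22, 23, 24, 26, 27, 29, 23, 24, 25, 16, 14, 11, 12, 13, 14, 16, 18, 19, 20, 21, 23, 24, 25, 27, 28, 27, 28, 10, 11, 12, 9, 8, 9, 11, 12, 14, 15, 16, 18, 19, 21, 22, 23, 24, 25, 27, 26, 27, 28, 29, 27, 28, 8, 9, 7, 5, 7, 9, 11, 12, 13, 14, 15, 16, 17, 18, 19, 20, 21, 23, 24, 25, 27, 28, 10, 11, 12, 8, 9, 6, 7, 4, 5, 6, 7, 9, 11, 12, 14, 15, 16, 17, 18, 19, 21, 22, 23, 25, 26, 28, 29, 39, 40, 41, 43, 44, 45, 46, 48, 49, 50, 36, 37, 39, 41, 42, 43, 44, 45, 46, 48, 50, 51,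 47, 38, 35, 36, 38, 40, 41, 42, 43, 44, 45, 47, 49, 50, 34, 36, 37, 38, 40, 41, 42, 43, 45, 46, 47, 49, 56, 57, 58, 56, 52, 53, 54, 56, 58, 59, 55, 52, 53, 55, 57, 51, 53, 54, 55, 57, 59, 60, 62, 56, 54, 56, 58, 52, 54, 55, 56, 58, 60, 61, 57, 55, 57, 59, 60, 59, 42, 43, 44, 45, 46, 47, 48, 39, 40, 42, 43, 44, 45, 46, 48, 49, 51, 52, 53, 54, 50, 38, 39, 40, 42, 43, 44, 46, 47, 48, 42, 36, 37, 38, 39, 40, 42, 44, 45, 46, 47, 48, 50, 52, 41, 36, 37, 38, 39, 41, 43, 44, 45, 46, 35, 36, 37, 39, 40, 41, 43, 44, 45, 46, 48, 49, 50, 52, 54, 56, 57, 58, 32, 33, 34, 35, 36, 37, 31, 32, 33, 34, 35, 30, 28, 25, 26, 27, 28, 30, 32, 33, 31, 29, 21, 22, 23, 24, 25, 26, 27, 28, 29, 31, 33, 35, 37, 39, 40, 41, 42, 43, 44, 45, 46, 38, 36, 26, 23, 24, 26, 28, 29, 30, 31, 27, 28, 25, 20, 21, 22, 23, 24, 25, 27, 28, 30, 31, 33, 34, 35, 36, 38, 40,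 41, 42, 43, 44, 33, 34, 21, 23, 24, 25, 26, 20, 21, 19, 17, 19, 21, 22, 24, 25, 26, 28, 29, 30, 31, 33, 34, 36, 37, 38, 40, 41, 42, 36, 16, 14, 16, 18, 19, 20, 21, 22, 23, 24, 17, 15, 13, 14, 15, 17, 19, 11, 12, 13, 10, 8, 9, 10, 12, 13, 15, 16, 17, 19, 21, 22, 23, 24, 26, 27, 28, 29, 30, 31, 33, 34, 36, 38, 39, 40, 41, 42, 44, 46, 48, 49, 50, 51, 52, 53, 54, 47, 45, 28, 29, 30, 31, 27, 18, 16, 18, 20, 21, 22, 23, 24, 25, 27, 29, 30, 31, 33, 34, 35, 36, 37, 39, 22, 23, 24, 25, 26, 27, 28, 29, 21, 22, 23, 24, 20, 21, 19, 17, 12, 13, 14, 15, 16, 17, 19, 21, 23, 24, 26, 27, 28, 29, 31, 32, 33, 34, 35, 36, 37, 39, 20, 13, 15, 16, 17, 18, 20, 22, 23, 24, 25, 27, 28, 29, 30, 32, 33, 34, 36, 37, 15, 16, 11, 12, 13, 15, 16, 18, 19, 20, 22, 23, 25, 26, 27, 28, 30, 31, 32, 33, 34, 36, 37, 39, 40, 42, 43, 44, 45, 47, 49, 50, 42, 43, 31, 21,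 22, 20, 18, 9, 10, 7, 9, 10, 12, 13, 14, 15, 16, 17, 18, 20, 22, 24, 25, 26, 27, 28, 29, 31, 33, 34, 35, 17, 18, 3, 4, 5, 6, 7, 9, 10, 12, 13, 14, 15, 17, 18, 20, 21, 22, 24, 25, 26, 27, 29, 30, 31, 33, 34, 35, 37, 38, 39, 40, 42, 43, 45, 46, 47, 45, 24, 25, 26, 27, 28, 23, 24, 25, 22, 23, 20, 21, 17, 18, 19, 5, 6, 7, 3, 5, 6, 7, 9, 10, 11, 12, 13, 14, 15, 16, 17, 18, 19, 21, 23, 25, 27, 28, 30, 31, 32, 33, 18, 19, 20, 21, 17, 18, 15, 2, 3, 5, 6, 7, 9, 10, 11, 12, 13, 14, 15, 17, 18, 20, 21, 23, 24, 25, 27, 28, 30, 31, 32, 33, 35, 36, 37, 38, 39, 40, 42, 43, 45, 47, 48, 50, 52, 53, 54, 56, 57, 32, 33, 34, 35, 31, 32, 33, 30, 31, 29, 27, 29, 31, 33, 35, 37, 38, 39, 40, 41, 42, 43, 44, 45, 46, 47, 48, 49, 50, 34, 35, 37, 38, 39, 40, 41, 42, 32, 33, 34, 35, 37, 38, 39, 30, 31, 32, 33, 34, 35, 37, 26, 27, 24, 26, 27, 29, 30, 31, 32,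 33, 22, 24, 25, 26, 27, 29, 30, 31, 20, 19, 20, 22, 23, 24, 25, 26, 27, 29, 17, 18, 16, 17, 18, 20, 21, 22, 23, 24, 25, 26, 27, 29, 31, 33, 35, 36, 37, 39, 41, 42, 44, 45, 46, 23, 24, 25, 26, 27, 28, 29, 30, 31, 32, 33, 34, 22, 17, 18, 19, 20, 22, 24, 25, 26, 27, 28, 16, 17, 18, 20, 21, 22, 24, 25, 15, 16, 18, 19, 20, 21, 22, 24, 25, 27, 28, 30, 31, 32, 34, 35, 37, 38, 39, 41, 42, 44, 37, 30, 19, 14, 15, 16, 17, 19, 21, 22, 23, 13, 14, 15, 17, 18, 19, 21, 22, 23, 25, 26, 27, 28, 30, 32, 33, 34, 35, 37, 39, 40, 41, 42, 44, 46, 48, 49, 50, 52, 53, 54, 55, 56, 55, 52, 53, 54, 53, 43, 41, 43, 45, 46, 47, 44, 42, 40, 41, 42, 44, 38, 40, 41, 42, 37, 38, 36, 34, 36, 38, 39, 41, 42, 44, 45, 47, 49, 50, 51, 52, 50, 51, 50, 49, 48, 43, 45, 46, 47, 45, 46, 45, 41, 40, 41, 43, 44, 33, 31, 33, 35, 36, 37, 38, 34, 32, 30, 31, 32, 34, 36, 29,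 30, 27, 29, 30, 32, 33, 34, 36, 38, 40, 41, 42, 43, 22, 23, 24, 21, 22, 20, 18, 20, 22, 24, 26, 27, 28, 29, 30, 31, 32, 33, 34, 35, 36, 37, 38, 25, 26, 27, 28, 29, 23, 21, 22, 23, 25, 26, 27, 16, 18, 19, 20, 21, 22, 23, 25, 18, 19, 20, 21, 15, 16, 18, 19, 14, 15, 16, 18, 19, 21, 23, 24, 25, 27, 29, 31, 32, 33, 34, 35, 36, 37, 38, 40, 41, 42, 41, 40, 37, 38, 39, 33, 31, 33, 35, 36, 37, 38, 37, 35, 36, 35, 34, 28, 29, 31, 32, 33, 31, 32, 31, 27, 29, 30, 24, 25, 26, 27, 28, 29, 18, 19, 20, 21, 22, 23, 24, 17, 15, 17, 19, 20, 21, 22, 23, 24, 26, 27, 28, 27, 26, 20, 22, 23, 24, 25, 22, 23, 24, 23, 11, 12, 10, 11, 12, 14, 15, 16, 17, 18, 13, 5, 6, 7, 8, 10, 11, 4, 5, 6, 8, 9, 10, 11, 13, 15, 16, 17, 18, 20, 21, 22, 21, 20, 16, 17, 18, 19, 18, 16, 17, 15, 16, 15, 9, 10, 11, 12, 13, 14, 13, 11, 12, 11, 8, 7, 8, 10, 3, 4, 6, 7, 8, 9, 6,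 7, 8, 2, 4, 5, 6, 7, 6, 4, 5, 1, 2, 3, 4, 3, 2, 0, 1, 0]
    ((RE .b3 .c3 .d3 .b2 .c2).reverse ++ rep [.a, .b3, .b2, .b1, .c3, .c2, .d3] 9) = true := by decide +kernel

/-! ### The homomorphism -/

/-- A system of elements that satisfies the relations, normalised at the node `f3`. -/
structure Sys (x : Nd → G) : Prop where
  cox : ∀ n m, (x n * (x m)⁻¹) ^ lb n m = 1
  f3 : x .f3 = 1
  tt : vl x TT = 1
  e12 : vl x (RE .b1 .c1 .d1 .b2 .c2) = x .f1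
  e13 : vl x (RE .b1 .c1 .d1 .b3 .c3) = x .f1
  e21 : vl x (RE .b2 .c2 .d2 .b1 .c1) = x .f2
  e23 : vl x (RE .b2 .c2 .d2 .b3 .c3) = x .f2
  e31 : vl x (RE .b3 .c3 .d3 .b1 .c1) = x .f3
  e32 : vl x (RE .b3 .c3 .d3 .b2 .c2) = x .f3

variable {x : Nd → G}

theorem Sys.sq (h : Sys x) {n : Nd} (hn : n ≠ .e3) : x n * x n = 1 := by
  have := h.cox n .f3
  rw [h.f3, inv_one, mul_one] at this
  by_cases e : n = .f3
  · rw [e, h.f3, one_mul]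
  · rwa [show lb n .f3 = 2 by cases n <;> first | rfl | contradiction, pow_two] at this

theorem Sys.nd_eq (h : Sys x) {n : Nd} (hn : n ≠ .e3) : nd (x n) = ⟨x n, x n, true⟩ := by
  rw [nd, inv_eq_of_mul_eq_one_right (h.sq hn)]

theorem Sys.vl_nd (h : Sys x) : ∀ {l : List Nd}, .e3 ∉ l →
    vl (fun n => nd (x n)) l = ⟨vl x l, vl x l, l.length.bodd⟩
  | [], _ => rfl
  | n :: l, e => by
    rw [List.mem_cons, not_or] at e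
    rw [vl_cons, h.vl_nd e.2, h.nd_eq (Ne.symm e.1), mul_t, vl_cons, List.length_cons, Nat.bodd_succ]

theorem Sys.coxF (h : Sys x) (n m : Nd) : (nd (x n) * nd (x m)) ^ lb n m = 1 := nd_pow (h.cox n m)

theorem Sys.rel7 (h : Sys x) {c : List ℕ} {l r : List Nd} {f : Nd}
    (h1 : red c (r.reverse ++ rep l 9) = true) (h2 : vl x r = x f) (h3 : .e3 ∉ r)
    (h4 : r.length.bodd = true) (h5 : f ≠ .e3) :
    nd (x f) * ((vl (fun n => nd (x n)) l) ^ 9)⁻¹ = 1 := by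
  rw [← vl_rep, red_eq h.coxF c h1, h.vl_nd h3, h2, h4, h.nd_eq h5, mul_inv_cancel]

theorem Sys.rels (h : Sys x) : ∀ r ∈ coxRelators Bimonster.edges ∪ {r | r ∈ Bimonster.extra},
    FreeGroup.lift (fun n => nd (x n)) r = 1 := by
  rintro r (⟨n, -, m, -, rfl⟩ | hr)
  · simpa using h.coxF n m
  · simp only [Bimonster.extra, Set.mem_setOf_eq, List.mem_cons, List.not_mem_nil, or_false] at hr
    have t : vl (fun n => nd (x n)) TT = 1 := by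
      rw [h.vl_nd (by decide), h.tt]; rfl
    have s := red_eq h.coxF _ red_sp
    simp only [vl_append, t, vl_reverse fun n _ => sq_F h.coxF n, mul_one, mul_inv_cancel,
      vl_rep] at s
    rcases hr with rfl | rfl | rfl | rfl | rfl | rfl | rfl <;>
      simp only [map_mul, map_pow, map_inv, FreeGroup.lift_apply_of, mul_assoc]
    · simpa only [vl_cons, vl_nil, mul_one] using s
    · simpa only [vl_cons, vl_nil, mul_one] using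
        h.rel7 red_12 h.e12 (by decide) (by decide) (by decide)
    · simpa only [vl_cons, vl_nil, mul_one] using
        h.rel7 red_13 h.e13 (by decide) (by decide) (by decide)
    · simpa only [vl_cons, vl_nil, mul_one] using
        h.rel7 red_21 h.e21 (by decide) (by decide) (by decide)
    · simpa only [vl_cons, vl_nil, mul_one] using
        h.rel7 red_23 h.e23 (by decide) (by decide) (by decide)
    · simpa only [vl_cons, vl_nil, mul_one] using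
        h.rel7 red_31 h.e31 (by decide) (by decide) (by decide)
    · simpa only [vl_cons, vl_nil, mul_one] using
        h.rel7 red_32 h.e32 (by decide) (by decide) (by decide)

/-- The homomorphism from the presented group. -/
def Sys.hom (h : Sys x) : Bimonster →* Wr G := PresentedGroup.toGroup h.rels

/-- The generators of the presented group. -/
def gn (n : Nd) : Bimonster := PresentedGroup.of n

theorem Sys.hom_gn (h : Sys x) (n : Nd) : h.hom (gn n) = nd (x n) := PresentedGroup.toGroup.of _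

theorem gn_cox (n m : Nd) : (gn n * gn m) ^ lb n m = 1 := by
  have k : ∀ n : Nd, n ∈ coxNodes Bimonster.edges := fun n => by cases n <;> decide
  exact PresentedGroup.one_of_mem (rels := coxRelators Bimonster.edges ∪ {r | r ∈ Bimonster.extra})
    (Or.inl ⟨n, k n, m, k m, rfl⟩)

theorem gn_sq (n : Nd) : gn n * gn n = 1 := sq_F gn_cox n

theorem gn_conj_of {n m : Nd} (e : lb n m = 3) : IsConj (gn n) (gn m) := by
  have := gn_cox n m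
  rw [e, pow_three] at this
  refine isConj_iff.2 ⟨gn n * gn m, ?_⟩
  rw [mul_inv_rev, inv_eq_of_mul_eq_one_right (gn_sq n), inv_eq_of_mul_eq_one_right (gn_sq m)]
  calc _ = gn n * gn m * gn n * gn m * gn n * (gn m * gn m) := by rw [gn_sq m]; group
    _ = gn n * gn m * (gn n * gn m * (gn n * gn m)) * gn m := by group
    _ = _ := by rw [this, one_mul]

theorem gn_conj (n : Nd) : IsConj (gn .a) (gn n) := by
  have b1 : IsConj (gn .a) (gn .b1) := gn_conj_of rfl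
  have b2 : IsConj (gn .a) (gn .b2) := gn_conj_of rfl
  have b3 : IsConj (gn .a) (gn .b3) := gn_conj_of rfl
  have c1 : IsConj (gn .a) (gn .c1) := b1.trans (gn_conj_of rfl)
  have c2 : IsConj (gn .a) (gn .c2) := b2.trans (gn_conj_of rfl)
  have c3 : IsConj (gn .a) (gn .c3) := b3.trans (gn_conj_of rfl)
  have d1 : IsConj (gn .a) (gn .d1) := c1.trans (gn_conj_of rfl)
  have d2 : IsConj (gn .a) (gn .d2) := c2.trans (gn_conj_of rfl)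
  have d3 : IsConj (gn .a) (gn .d3) := c3.trans (gn_conj_of rfl)
  have e1 : IsConj (gn .a) (gn .e1) := d1.trans (gn_conj_of rfl)
  have e2 : IsConj (gn .a) (gn .e2) := d2.trans (gn_conj_of rfl)
  have e3 : IsConj (gn .a) (gn .e3) := d3.trans (gn_conj_of rfl)
  cases n
  exacts [.refl _, b1, c1, d1, e1, e1.trans (gn_conj_of rfl), b2, c2, d2, e2,
    e2.trans (gn_conj_of rfl), b3, c3, d3, e3, e3.trans (gn_conj_of rfl)]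

theorem gn_mul_mem (n m : Nd) : gn n * gn m ∈ commutator Bimonster := by
  obtain ⟨g, e⟩ := isConj_iff.1 ((gn_conj m).symm.trans (gn_conj n))
  rw [← e]
  nth_rewrite 2 [← inv_eq_of_mul_eq_one_right (gn_sq m)]
  exact Subgroup.commutator_mem_commutator (Subgroup.mem_top g) (Subgroup.mem_top _)

theorem Sys.even (h : Sys x) {y : Bimonster} (hy : y ∈ commutator Bimonster) :
    (h.hom y).s = false :=
  par_eq_one (Abelianization.commutator_subset_ker (par.comp h.hom) hy)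

/-- The first component on the commutator subgroup. -/
def Sys.fst (h : Sys x) : commutator Bimonster →* G where
  toFun y := (h.hom y).a
  map_one' := by rw [OneMemClass.coe_one, map_one]; rfl
  map_mul' y z := by
    have := h.even y.2
    rw [Subgroup.coe_mul, map_mul]
    generalize h.hom y = u at this ⊢
    generalize h.hom z = v
    obtain ⟨a, b, s⟩ := u
    obtain rfl : s = false := this
    rfl

theorem conj_a (u : Wr G) (g : G) : (u * ⟨g, g, false⟩ * u⁻¹).a = u.a * g * u.a⁻¹ := by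
  obtain ⟨a, b, _ | _⟩ := u <;> rfl

theorem Sys.onto (h : Sys x) (hg : ∀ H : Subgroup G, (∀ n, n ≠ .e3 → x n ∈ H) → H = ⊤) :
    ∃ f : Monster →* G, Function.Surjective f := by
  let f : Monster →* G := h.fst.comp (Subgroup.inclusion inf_le_right)
  obtain ⟨γ, e⟩ := isConj_iff.1 (gn_conj .f3).symm
  refine ⟨f, MonoidHom.range_eq_top.1 ?_⟩
  have := hg (f.range.comap (MulAut.conj (h.hom γ).a).toMonoidHom) fun n hn => by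
    refine ⟨⟨γ * (gn n * gn .f3) * γ⁻¹, ?_, Subgroup.Normal.conj_mem inferInstance _
      (gn_mul_mem n .f3) γ⟩, ?_⟩
    · change _ ∈ Subgroup.centralizer {gn .a}
      rw [Subgroup.mem_centralizer_singleton_iff, ← e, conj_mul, conj_mul, mul_left_inj,
        mul_right_inj, mul_assoc, gn_sq, mul_one]
      by_cases e : n = .f3
      · rw [e, gn_sq, mul_one]
      · have := gn_cox n .f3
        rw [show lb n .f3 = 2 by cases n <;> first | rfl | contradiction, pow_two] at this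
        calc gn n = gn n * (gn n * gn .f3 * (gn n * gn .f3)) := by rw [this, mul_one]
          _ = gn n * gn n * (gn .f3 * (gn n * gn .f3)) := by group
          _ = _ := by rw [gn_sq, one_mul]
    · change (h.hom (γ * (gn n * gn .f3) * γ⁻¹)).a = (h.hom γ).a * x n * (h.hom γ).a⁻¹
      rw [map_mul, map_mul, map_mul, map_inv, h.hom_gn, h.hom_gn, h.nd_eq hn, h.nd_eq (by decide),
        h.f3, mul_t, mul_one, Bool.not_true, conj_a]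
  rw [eq_top_iff]
  intro g _
  have := this ▸ Subgroup.mem_top ((h.hom γ).a⁻¹ * g * (h.hom γ).a)
  simpa [mul_assoc] using this

end H10.YW
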