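import Mathlib
import Cfsg.Agent.H10.YW
import Cfsg.Agent.H10.YR0
import Cfsg.Agent.H10.YR1
import Cfsg.Agent.H10.MMain

/-!
# The presented Monster maps onto the Monster
-/

set_option autoImplicit false
set_option linter.all false
set_option maxRecDepth 100000
set_option Elab.async false

namespace H10.Mon.Y

open Cfsg H9 H29 H10.Mon.MS Cfsg.Spor H10.YW

attribute [local irreducible] wd

noncomputable def x0 (n : Nd) : U ≃ₗ[ℝ] U := wd (X n)

noncomputable def xU (n : Nd) : U ≃ₗ[ℝ] U := if n = .e3 then x0 .e3 * x0 .f1 else x0 n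

theorem xU_ne {n : Nd} (h : n ≠ .e3) : xU n = x0 n := if_neg h

theorem x0_f3 : x0 .f3 = 1 := wd_nil

theorem x0_sq (n : Nd) : x0 n * x0 n = 1 := by
  by_cases h : n = .f3
  · rw [h, x0_f3, one_mul]
  · exact X_sq (by cases n <;> first | decide | contradiction)

theorem x0_inv (n : Nd) : (x0 n)⁻¹ = x0 n := inv_eq_of_mul_eq_one_right (x0_sq n)

theorem vl_prW (l : List Nd) : vl x0 l = wd (prW l) := (wd_prW l).symm

theorem lb_symm : ∀ n m : Nd, lb n m = lb m n := fun n m => by cases n <;> cases m <;> rfl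

theorem swap_pow {G : Type*} [Group G] {x y : G} {n : ℕ} (h : (x * y) ^ n = 1) : (y * x) ^ n = 1 := by
  rw [show y * x = x⁻¹ * (x * y) * x⁻¹⁻¹ by group, conj_pow, h]; group

theorem cox0 {n m : Nd} (hn : n ≠ .e3) (hm : m ≠ .e3) : (x0 n * x0 m) ^ lb n m = 1 := by
  have k : ∀ {m : Nd}, m ≠ .e3 → m ≠ .f3 → (x0 m * x0 .f3) ^ lb m .f3 = 1 := fun {m} h1 h2 => by
    rw [x0_f3, mul_one, show lb m .f3 = 2 by cases m <;> first | rfl | contradiction, pow_two, x0_sq]
  by_cases e : n = m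
  · rw [e, x0_sq, one_pow]
  by_cases e1 : m = .f3
  · subst e1; exact k hn e
  by_cases e2 : n = .f3
  · subst e2; rw [lb_symm]; exact swap_pow (k hm e1)
  have a : n ∈ L15 := by cases n <;> first | decide | contradiction
  have b : m ∈ L15 := by cases m <;> first | decide | contradiction
  have : (n, m) ∈ prs ∨ (m, n) ∈ prs := by
    cases n <;> cases m <;> first | decide | contradiction
  rcases this with h | h
  · exact ck_true a b (prs_ok _ h)
  · rw [lb_symm]; exact swap_pow (ck_true b a (prs_ok _ h))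

theorem comm0 {n m : Nd} (hn : n ≠ .e3) (hm : m ≠ .e3) (e : lb n m = 2) :
    Commute (x0 n) (x0 m) := by
  have := cox0 hn hm
  rwa [e, pow_two, mul_eq_one_iff_eq_inv, mul_inv_rev, x0_inv, x0_inv] at this

theorem pr_two (n m : Nd) : wd (prW [n, m]) = x0 n * x0 m := by
  rw [← vl_prW, vl_cons, vl_cons, vl_nil, mul_one]

theorem cox_e3 {m : Nd} (hm : m ≠ .e3) : (x0 .e3 * x0 .f1 * x0 m) ^ lb .e3 m = 1 := by
  have hW : iW (W .e3) = x0 .e3 := iW_W (by decide)
  have p : ∀ m : Nd, m ≠ .e3 → lb .f1 m = 2 → prW [.f1, m] ∈ _ →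
      (x0 .e3 * x0 .f1 * x0 m) ^ 2 = 1 := fun m h1 h2 h3 => by
    have := fxA_true e3_pt _ h3
    rw [hW, pr_two] at this
    rw [mul_assoc]
    exact comm2 (x0_sq _) (by rw [← pow_two, ← h2]; exact cox0 (by decide) h1) this
  have l : ∀ m : Nd, m ≠ .e3 → lb .f1 m = 2 → m ∈ _ →
      (x0 .e3 * x0 .f1 * x0 m) ^ 2 = 1 := fun m h1 h2 h3 => by
    have := iW_eq (aW_eq (allL_true.1 e3_ln m h3))
    rw [iW_apd, iW_apd, hW] at this
    change x0 m * _ * (x0 m)⁻¹ = x0 .f1 * _ * (x0 .f1)⁻¹ at this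
    rw [x0_inv, x0_inv] at this
    have c := (comm0 (by decide) h1 h2).eq
    calc _ = x0 .e3 * x0 .f1 * (x0 m * x0 .e3 * (x0 .f1 * x0 m)) := by rw [pow_two]; group
      _ = x0 .e3 * x0 .f1 * (x0 m * x0 .e3 * x0 m) * x0 .f1 := by rw [c]; group
      _ = x0 .e3 * (x0 .f1 * x0 .f1) * x0 .e3 * (x0 .f1 * x0 .f1) := by rw [this]; group
      _ = 1 := by rw [x0_sq, mul_one, mul_one, x0_sq]
  cases m
  case e3 => contradiction
  case a => exact l _ hm rfl (by decide)
  case c1 => exact l _ hm rfl (by decide)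
  case c2 => exact l _ hm rfl (by decide)
  case c3 => exact l _ hm rfl (by decide)
  case e2 => exact l _ hm rfl (by decide)
  case b1 => exact p _ hm rfl (by simp)
  case b2 => exact p _ hm rfl (by simp)
  case b3 => exact p _ hm rfl (by simp)
  case d1 => exact p _ hm rfl (by simp)
  case d2 => exact p _ hm rfl (by simp)
  case f2 => exact p _ hm rfl (by simp)
  case f1 => rw [mul_assoc, x0_sq, mul_one]; exact (pow_two _).trans (x0_sq _)
  case f3 =>
    rw [x0_f3, mul_one]
    exact c3_true (iW_W (by decide)) (iW_W (by decide)) e3_f3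
  case d3 =>
    rw [mul_assoc, ← pr_two]
    exact c3_true (iW_W (by decide)) (iW_of (by decide +kernel)) e3_d3
  case e1 =>
    have := e3_e1
    rwa [eeW, ← wd_pow, ← vl_prW, vl_cons, vl_cons, vl_cons, vl_nil, mul_one, ← mul_assoc] at this

theorem vl_xU : ∀ {l : List Nd}, .e3 ∉ l → vl xU l = vl x0 l
  | [], _ => rfl
  | n :: l, e => by
    rw [List.mem_cons, not_or] at e
    rw [vl_cons, vl_cons, vl_xU e.2, xU_ne (Ne.symm e.1)]

theorem vl_T {L : Nd} (hL : L ∈ L15) {P : List Nd} {p w q : List ℕ} (h : ckT L p w q = true)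
    (e : vl x0 P = wd p) : vl x0 (tri L P) = wd q := by
  rw [vl_tri L fun n _ => x0_sq n, e]; exact ckT_true hL h

theorem v4 : vl x0 R4 = wd q4 :=
  vl_T (by decide) t4 (by rw [vl_prW]; exact eqS_true (by decide +kernel))

theorem v6 {b c d : Nd} (hc : c ∈ L15) {p w q : List ℕ} (h : ckT c p w q = true)
    (e : eqS (apd (prW [b, d]) q4) p = true) : vl x0 (R6 b c d) = wd q :=
  vl_T hc h (by rw [vl_append, v4, vl_prW, wd_mul]; exact eqS_true e)

theorem vE {b c d b' c' f : Nd} (hc : c' ∈ L15) {q6 p w q : List ℕ} (h6 : vl x0 (R6 b c d) = wd q6)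
    (h : ckT c' p w q = true) (e : eqS (apd (apd q6 q4) (X b')) p = true)
    (e' : eqS (apd q (apd q6 (apd (prW [d]) (apd q4 (prW [.b1, .b2, .b3]))))) (X f) = true) :
    vl x0 (RE b c d b' c') = x0 f := by
  have : vl x0 (R7 b c d b' c') = wd q :=
    vl_T hc h (by rw [vl_cons, vl_append, v4, h6, x0, wd_mul, wd_mul]; exact eqS_true e)
  rw [RE, vl_append, vl_append, vl_append, vl_append, this, h6, v4, vl_prW, vl_prW, wd_mul, wd_mul,
    wd_mul, wd_mul]
  exact eqS_true e'

theorem v61 : vl x0 (R6 .b1 .c1 .d1) = wd q61 := v6 (by decide) t61 (by decide +kernel)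
theorem v62 : vl x0 (R6 .b2 .c2 .d2) = wd q62 := v6 (by decide) t62 (by decide +kernel)
theorem v63 : vl x0 (R6 .b3 .c3 .d3) = wd q63 := v6 (by decide) t63 (by decide +kernel)

theorem sys_xU : Sys xU where
  cox n m := by
    by_cases e : n = m
    · rw [e, mul_inv_cancel, one_pow]
    by_cases e1 : n = .e3
    · subst e1
      rw [xU_ne (Ne.symm e), x0_inv]; exact cox_e3 (Ne.symm e)
    by_cases e2 : m = .e3
    · subst e2
      rw [xU_ne e, ← inv_eq_one, ← inv_pow, mul_inv_rev, inv_inv, x0_inv]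
      exact (congrArg (_ ^ ·) (lb_symm n .e3)).trans (cox_e3 e)
    · rw [xU_ne e1, xU_ne e2, x0_inv]; exact cox0 e1 e2
  f3 := x0_f3
  tt := by
    rw [vl_xU (by decide), show TT = tt0 ++ tt1 ++ tt2 from rfl, vl_append, vl_append, vl_prW,
      vl_prW, vl_prW]
    exact trans_one
  e12 := (vl_xU (by decide)).trans (vE (f := .f1) (by decide) v61 t712 (by decide +kernel) (by decide +kernel))
  e13 := (vl_xU (by decide)).trans (vE (f := .f1) (by decide) v61 t713 (by decide +kernel) (by decide +kernel))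
  e21 := (vl_xU (by decide)).trans (vE (f := .f2) (by decide) v62 t721 (by decide +kernel) (by decide +kernel))
  e23 := (vl_xU (by decide)).trans (vE (f := .f2) (by decide) v62 t723 (by decide +kernel) (by decide +kernel))
  e31 := (vl_xU (by decide)).trans (vE (f := .f3) (by decide) v63 t731 (by decide +kernel) (by decide +kernel))
  e32 := (vl_xU (by decide)).trans (vE (f := .f3) (by decide) v63 t732 (by decide +kernel) (by decide +kernel))

theorem vl_map {G H : Type*} [Group G] [Group H] (f : G →* H) (x : Nd → G) :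
    ∀ l, vl (fun n => f (x n)) l = f (vl x l)
  | [] => (map_one f).symm
  | n :: l => by rw [vl_cons, vl_cons, map_mul, vl_map f x l]

theorem sys_of {G H : Type*} [Group G] [Group H] {f : G →* H} (hf : Function.Injective f)
    {x : Nd → G} (h : Sys fun n => f (x n)) : Sys x where
  cox n m := hf (by simpa using h.cox n m)
  f3 := hf (h.f3.trans (map_one f).symm)
  tt := hf (by rw [← vl_map, h.tt, map_one])
  e12 := hf (by rw [← vl_map, h.e12])
  e13 := hf (by rw [← vl_map, h.e13])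
  e21 := hf (by rw [← vl_map, h.e21])
  e23 := hf (by rw [← vl_map, h.e23])
  e31 := hf (by rw [← vl_map, h.e31])
  e32 := hf (by rw [← vl_map, h.e32])

theorem xU_mem (n : Nd) : xU n ∈ MM tau := by
  unfold xU
  split_ifs
  exacts [mul_mem (wd_mem _) (wd_mem _), wd_mem _]

/-- The images of the nodes in the Monster. -/
noncomputable def xM (n : Nd) : MM tau := ⟨xU n, xU_mem n⟩

theorem sys_xM : Sys xM := sys_of (MM tau).subtype_injective sys_xU

theorem yD_mem {H : Subgroup (U ≃ₗ[ℝ] U)} {d : Nd × Nd × Nd × List ℕ × List ℕ} (hd : d ∈ yD)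
    (h1 : x0 d.1 ∈ H) (h2 : x0 d.2.1 ∈ H) (h3 : x0 d.2.2.1 ∈ H) :
    RC (im H) (colW (cjW d.2.2.2.2 [17])) := by
  have := allL_true.1 yD_ok d hd
  simp only [and2_true] at this
  obtain ⟨a, b, c⟩ := this
  refine rc_wd b ?_
  have e := iW_eq (aW_eq c)
  rw [iW_apd, iW_of a, iW_apd, iW_17, wd_cjW d.2.2.2.2, pr_two] at e
  rw [← e]
  exact mul_mem (mul_mem h1 (mul_mem h2 h3)) (inv_mem h1)

theorem gen_M {H : Subgroup (U ≃ₗ[ℝ] U)} (h : ∀ n, n ≠ .e3 → x0 n ∈ H) : MM tau ≤ H := by
  have k : ∀ d ∈ yD, RC (im H) (colW (cjW d.2.2.2.2 [17])) := fun d hd => by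
    have : ∀ d ∈ yD, d.1 ≠ .e3 ∧ d.2.1 ≠ .e3 ∧ d.2.2.1 ≠ .e3 := by decide
    exact yD_mem hd (h _ (this d hd).1) (h _ (this d hd).2.1) (h _ (this d hd).2.2)
  obtain ⟨T, h1, h2⟩ := slp_true (H := im H) _ _ (by
    rw [mapL_eq, List.append_nil]; exact List.forall_mem_map.2 k) sl_ok
  have h3 := fun p hp => eqL_true (allL_true.1 h2 p hp)
  have ht : im H = ⊤ := im_top (neg1_im H) (by
      simp only [List.mem_cons, List.not_mem_nil, or_false, forall_eq_or_imp, forall_eq] at h3 ⊢
      exact ⟨h3.1 ▸ h1 _, h3.2.1 ▸ h1 _, h3.2.2.1 ▸ h1 _, h3.2.2.2 ▸ h1 _⟩)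
    (k _ (List.getElem_mem (n := 2) (by decide))) fun e => absurd (dec_inj (by decide +kernel) (by norm_num) e)
      (by decide +kernel)
  have hG : GG ≤ H := by
    have := h .f1 (by decide)
    change wd [28 + 9] ∈ H at this
    rw [wd_one, el_Q (by norm_num)] at this
    have e : ∃ c : S, c.1 = dec (2 ^ 9) := by
      refine ⟨co (gw [0, 5, 5]) • c0, ?_⟩
      change co _ • c0.1 = _
      rw [c0_dec, ← dec_apL]
      exact congrArg dec (by decide +kernel)
    obtain ⟨c, e⟩ := e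
    exact GG_le ht (e ▸ this)
  have := h .a (by decide)
  change wd (cjW [] (cjW [53] (qD .a))) ∈ H at this
  rw [← wd_cjW, ← wd_cjW, wd_nil, one_mul, inv_one, mul_one, wd_tau,
    wd_gw (w := qD .a) (by decide +kernel)] at this
  obtain ⟨t, c, e⟩ := (co_eq_one (g := gw (qD .a))).1 (by
    change co (1 * gl (28 + 23) * gl (28 + 18) * gl (28 + 16) * gl (28 + 13) * gl (28 + 10)) = 1
    simp (disch := norm_num) only [map_mul, gl_Q, co_qe, map_one, mul_one])
  refine MM_le hG (c := c) (t := t) ?_ (e ▸ this)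
  have := ep_gw (qD .a) 2048
  rw [e, ep_qe, dec_Om, ← odd_eq] at this
  rw [this]; decide +kernel

/-- The presented Monster maps onto the Monster. -/
theorem monster_onto : ∃ f : Monster →* MM tau, Function.Surjective f :=
  sys_xM.onto fun H h => by
    rw [eq_top_iff]
    intro g _
    obtain ⟨k, k1, k2⟩ := gen_M (H := H.map (MM tau).subtype)
      (fun n hn => ⟨_, h n hn, xU_ne hn⟩) g.2
    exact (Subtype.ext k2 : k = g) ▸ k1

instance : Finite (MM tau) := Nat.finite_of_card_ne_zero (by rw [card_M]; norm_num)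

theorem iso_of_simple {K : Type*} [Group K] [IsSimpleGroup K] (h : IsoM K) :
    Nonempty (K ≃* MM tau) := by
  obtain ⟨e⟩ := h
  obtain ⟨f, hf⟩ := monster_onto
  have := simple_MM tri_tau
  refine ⟨MulEquiv.ofBijective (f.comp e.toMonoidHom) ⟨?_, hf.comp e.surjective⟩⟩
  rw [← MonoidHom.ker_eq_bot_iff]
  refine (Subgroup.Normal.eq_bot_or_eq_top inferInstance).resolve_right fun a => ?_
  obtain ⟨g, hg⟩ := exists_ne (1 : MM tau)
  obtain ⟨k, rfl⟩ := (hf.comp e.surjective) g
  exact hg (a ▸ Subgroup.mem_top k : k ∈ (f.comp e.toMonoidHom).ker)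

end H10.Mon.Y
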