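import Mathlib
import Cfsg.Prelude.Def_Spor_B
import Cfsg.Agent.H10.YMain

/-!
# The presented Baby Monster maps to the centraliser of a 2A involution modulo its centre
-/

set_option autoImplicit false
set_option linter.all false
set_option maxRecDepth 100000

namespace H10.Mon.Y

open Cfsg H9 H29 H10.Mon.MS Cfsg.Spor H10.YW

attribute [local irreducible] wd

theorem red_b2 : red [10, 11, 9, 10, 7, 8, 9, 10, 4, 5, 7, 8, 10, 11, 27, 28, 26, 27, 24, 25, 26, 27, 23, 24, 25, 26, 19, 20, 21, 23, 24, 26, 27, 28, 17, 19, 21, 22, 23, 24, 26, 28, 16, 17, 18, 19, 20, 21, 22, 23, 24, 25, 26, 27, 26, 27, 15, 13, 12, 13, 15, 17, 18, 19, 20, 21, 22, 23, 24, 26, 27, 29, 28, 29, 23, 24, 25, 16, 14, 10, 11, 12, 13, 14, 16, 18, 19, 20, 21, 23, 24, 25, 27, 28, 10, 11, 12, 9, 8, 9, 11, 12, 14, 15, 16, 18, 19, 21, 22, 23, 24, 25, 27, 26, 27, 28, 28, 29, 8, 9, 7, 5, 7,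 9, 11, 12, 13, 14, 15, 16, 17, 18, 19, 20, 21, 23, 24, 25, 26, 28, 29, 25, 26, 27, 28, 10, 11, 12, 8, 9, 6, 7, 3, 4, 5, 6, 7, 9, 11, 12, 14, 15, 16, 17, 18, 19, 21, 22, 23, 25, 26, 28, 29, 30, 40, 41, 43, 44, 45, 46, 48, 49, 37, 39, 41, 42, 43, 44, 45, 46, 48, 50, 47, 38, 35, 36, 38, 40, 41, 42, 43, 44, 45, 47, 49, 50, 34, 36, 37, 38, 40, 41, 42, 43, 45, 46, 47, 49, 56, 57, 58, 56, 52, 53, 54, 56, 58, 59, 55, 52, 53, 55, 57, 51, 53, 54, 55, 57, 59, 60, 62, 61, 32, 33, 34, 31, 32, 30, 25, 26, 27, 28, 30, 32, 34, 36, 37, 38, 39, 40, 41, 42, 43, 44, 35, 33, 27, 28, 24, 25, 27, 28, 30, 31, 32, 33, 35, 37, 38, 39, 40, 41, 30, 31, 23, 25, 26, 27, 28, 30, 31, 33, 34, 35, 37, 38, 39, 36, 26, 27, 28, 29, 25, 22, 23, 25, 27, 28, 29, 31, 32, 33, 34, 21, 22, 23, 24, 25, 26, 27, 20, 21, 22, 19, 17, 19, 21, 22, 24, 25, 26, 27, 29, 30, 31, 32, 33, 34, 36, 38, 39,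 41, 43, 44, 46, 47, 48, 49, 50, 51, 52, 31, 16, 14, 16, 18, 19, 20, 21, 22, 23, 24, 26, 27, 28, 29, 31, 33, 34, 35, 36, 37, 32, 33, 17, 15, 13, 14, 15, 17, 19, 20, 21, 22, 24, 25, 26, 27, 29, 30, 11, 12, 13, 10, 8, 9, 10, 12, 13, 15, 16, 17, 19, 20, 22, 23, 24, 25, 27, 28, 29, 30, 32, 33, 35, 36, 37, 39, 40, 41, 43, 44, 46, 47, 48, 49, 39, 28, 29, 30, 31, 18, 19, 17, 15, 9, 10, 11, 12, 13, 14, 15, 17, 19, 21, 22, 23, 24, 25, 26, 14, 15, 7, 9, 10, 11, 12, 14, 15, 17, 18, 19, 21, 22, 23, 24, 26, 27, 29, 30, 31, 33, 34, 35, 36, 37, 39, 41, 42, 43, 44, 46, 47, 41, 42, 40, 38, 21, 22, 23, 24, 25, 26, 27, 28, 29, 20, 21, 22, 19, 20, 17, 18, 14, 15, 16, 6, 7, 8, 9, 10, 11, 12, 13, 14, 15, 16, 18, 20, 22, 24, 15, 16, 17, 18, 14, 15, 12, 4, 6, 7, 8, 9, 10, 11, 12, 14, 15, 17, 18, 20, 21, 22, 24, 26, 27, 28, 29, 31, 32, 33, 34, 35, 36, 37, 38, 40, 42, 44,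 45, 46, 47, 49, 51, 52, 54, 55, 28, 29, 30, 31, 32, 34, 35, 27, 28, 29, 30, 32, 33, 26, 27, 28, 30, 31, 23, 21, 23, 25, 26, 24, 22, 8, 9, 7, 3, 4, 5, 7, 9, 11, 12, 13, 14, 15, 16, 17, 18, 19, 20, 21, 22, 24, 26, 28, 29, 30, 31, 33, 35, 37, 38, 39, 40, 41, 42, 43, 45, 36, 37, 34, 25, 21, 22, 23, 25, 27, 28, 29, 18, 20, 21, 10, 11, 12, 8, 2, 3, 5, 6, 7, 8, 10, 11, 12, 14, 15, 16, 17, 18, 20, 21, 23, 24, 25, 27, 28, 29, 31, 32, 33, 34, 36, 37, 39, 40, 41, 43, 44, 45, 47, 48, 49, 51, 52, 54, 55, 57, 58, 59, 60, 57, 59, 28, 29, 30, 31, 27, 28, 29, 26, 24, 26, 28, 29, 31, 33, 34, 35, 36, 37, 38, 39, 40, 41, 42, 32, 33, 34, 30, 22, 24, 25, 26, 28, 29, 30, 32, 33, 34, 36, 37, 38, 39, 40, 42, 43, 45, 46, 47, 48, 24, 21, 22, 24, 26, 27, 28, 29, 30, 32, 33, 34, 36, 37, 38, 40, 41, 42, 43, 45, 46, 20, 21, 22, 19, 16, 17, 19, 21, 22, 24, 25, 26, 27, 28, 29, 30,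 32, 33, 34, 36, 38, 39, 40, 41, 42, 43, 35, 25, 26, 27, 24, 25, 21, 22, 14, 16, 17, 18, 19, 20, 21, 22, 24, 25, 27, 29, 30, 31, 32, 33, 35, 37, 38, 39, 40, 41, 21, 22, 23, 19, 13, 14, 16, 17, 18, 19, 21, 22, 23, 25, 26, 27, 29, 30, 31, 33, 34, 35, 37, 38, 39, 25, 16, 17, 12, 13, 14, 16, 17, 19, 20, 21, 22, 23, 25, 27, 28, 29, 31, 32, 33, 34, 35, 37, 21, 22, 23, 24, 25, 26, 27, 20, 21, 22, 19, 7, 8, 9, 10, 11, 12, 13, 14, 16, 17, 19, 21, 22, 24, 25, 26, 27, 29, 30, 31, 32, 33, 34, 35, 37, 39, 41, 43, 44, 46, 48, 50, 51, 52, 53, 54, 55, 49, 50, 47, 48, 45, 46, 26, 27, 28, 29, 30, 25, 26, 27, 24, 25, 23, 9, 11, 12, 13, 14, 15, 16, 17, 18, 19, 20, 21, 23, 25, 27, 29, 30, 32, 33, 34, 35, 36, 37, 38, 39, 20, 21, 22, 23, 19, 20, 8, 9, 11, 12, 13, 14, 15, 16, 17, 19, 20, 22, 23, 25, 26, 27, 29, 30, 32, 33, 34, 35, 36, 25, 16, 17, 18, 7, 8, 9, 11, 12, 13,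 14, 16, 17, 18, 20, 21, 22, 23, 25, 27, 28, 29, 30, 32, 33, 21, 22, 23, 20, 6, 7, 8, 9, 11, 12, 14, 15, 16, 17, 18, 20, 22, 23, 25, 26, 27, 28, 29, 30, 32, 33, 35, 36, 38, 39, 41, 42, 43, 44, 45, 46, 48, 50, 52, 53, 54, 55, 57, 58, 32, 33, 31, 29, 31, 33, 35, 36, 37, 38, 39, 40, 41, 42, 43, 34, 35, 32, 33, 30, 31, 28, 29, 30, 31, 33, 35, 37, 38, 39, 40, 41, 36, 37, 34, 35, 32, 33, 27, 28, 29, 30, 31, 32, 33, 35, 37, 39, 26, 27, 28, 24, 26, 27, 28, 30, 31, 32, 33, 23, 24, 26, 27, 28, 30, 21, 23, 24, 25, 26, 20, 21, 23, 24, 19, 17, 19, 21, 22, 23, 24, 26, 28, 29, 30, 32, 33, 35, 36, 37, 39, 41, 43, 45, 46, 47, 48, 49, 50, 51, 52, 53, 44, 45, 46, 47, 42, 43, 44, 40, 41, 35, 16, 17, 18, 19, 20, 21, 23, 24, 25, 26, 27, 15, 16, 17, 18, 19, 21, 13, 15, 16, 17, 19, 20, 21, 23, 24, 25, 27, 28, 30, 31, 32, 33, 35, 37, 38, 39, 40, 41, 43, 44, 46, 47, 49, 50,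 51, 52, 53, 55, 56, 57, 50, 51, 52, 53, 54, 49, 46, 47, 43, 44, 45, 46, 47, 49, 51, 52, 46, 47, 44, 42, 43, 44, 46, 47, 49, 50, 43, 44, 45, 41, 43, 44, 45, 47, 48, 40, 41, 42, 43, 38, 40, 41, 42, 43, 45, 46, 47, 48, 50, 52, 54, 56, 55, 47, 48, 49, 50, 46, 47, 44, 46, 47, 49, 50, 52, 53, 54, 42, 43, 44, 45, 46, 47, 48, 41, 42, 43, 44, 40, 39, 40, 42, 43, 44, 46, 47, 48, 50, 51, 52, 53, 51, 52, 47, 48, 49, 50, 51, 43, 44, 45, 46, 47, 48, 49, 50, 49, 48, 47, 46, 45, 42, 43, 44, 39, 40, 41, 42, 43, 37, 36, 37, 39, 40, 34, 26, 28, 29, 30, 31, 32, 33, 34, 36, 37, 33, 34, 35, 25, 26, 28, 29, 30, 31, 33, 24, 25, 26, 28, 29, 31, 32, 33, 35, 37, 38, 40, 42, 41, 39, 40, 28, 29, 30, 31, 32, 33, 27, 23, 24, 25, 27, 29, 30, 22, 23, 25, 26, 27, 29, 30, 32, 33, 35, 36, 37, 38, 39, 35, 37, 38, 29, 30, 31, 32, 33, 28, 26, 28, 30, 31, 32, 33, 35, 36, 37, 20, 18, 20,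 22, 23, 24, 25, 26, 27, 28, 29, 30, 31, 19, 20, 22, 23, 24, 25, 17, 18, 19, 20, 22, 16, 17, 18, 19, 20, 22, 24, 25, 27, 28, 29, 30, 31, 33, 34, 35, 36, 35, 34, 30, 31, 32, 33, 29, 30, 31, 32, 31, 30, 29, 28, 27, 24, 25, 26, 11, 12, 13, 10, 11, 5, 6, 7, 8, 4, 5, 6, 8, 9, 11, 13, 15, 16, 17, 18, 19, 20, 21, 22, 23, 24, 25, 24, 23, 15, 17, 18, 19, 20, 21, 22, 19, 17, 19, 21, 20, 14, 15, 12, 13, 14, 15, 17, 18, 19, 12, 13, 11, 12, 13, 15, 16, 17, 18, 16, 17, 12, 13, 14, 15, 16, 11, 12, 13, 14, 15, 14, 13, 12, 11, 10, 3, 4, 6, 7, 8, 9, 2, 4, 5, 6, 7, 8, 5, 7, 6, 1, 2, 3, 4, 5, 0, 1, 2, 3, 4, 2, 3, 1, 2, 0, 1, 0]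
    ((RE .b2 .c2 .d2 .b1 .c1).reverse ++ YW.rep [.a, .b1, .c1, .b2, .c2, .d2, .b3] 9) = true := by
  decide +kernel

theorem red_b3 : red [10, 11, 9, 10, 8, 9, 5, 7, 8, 10, 27, 28, 26, 27, 24, 25, 26, 27, 23, 24, 25, 26, 19, 20, 21, 23, 24, 26, 27, 28, 26, 19, 17, 19, 21, 22, 23, 24, 26, 28, 16, 17, 18, 19, 20, 21, 22, 23, 24, 25, 26, 27, 26, 27, 15, 13, 12, 13, 15, 17, 18, 19, 20, 21, 22, 23, 24, 26, 27, 29, 23, 24, 25, 16, 14, 10, 11, 12, 13, 14, 16, 18, 19, 20, 21, 23, 24, 25, 27, 28, 29, 27, 28, 10, 11, 12, 9, 8, 9, 11, 12, 14, 15, 16, 18, 19, 21, 22, 23, 24, 25, 27, 26, 27, 28, 28, 29, 27, 28, 29, 8, 9, 7, 5, 7, 9, 11, 12, 13, 14, 15, 16, 17, 18, 19, 20, 21, 23, 24, 25, 27, 28, 10, 11, 12, 8, 9, 6, 7, 3, 4, 5, 6, 7, 9, 11, 12, 14, 15, 16, 17, 18, 19, 21, 22, 23, 25, 26, 28, 29, 30, 39, 40, 41, 43, 44, 45, 46, 48, 49, 50, 36, 37, 39, 41, 42,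 43, 44, 45, 46, 48, 50, 51, 47, 38, 35, 36, 38, 40, 41, 42, 43, 44, 45, 47, 49, 50, 34, 36, 37, 38, 40, 41, 42, 43, 45, 46, 47, 49, 56, 57, 58, 56, 52, 53, 54, 56, 58, 59, 55, 52, 53, 55, 57, 51, 53, 54, 55, 57, 59, 60, 62, 61, 32, 33, 34, 31, 32, 30, 28, 25, 26, 27, 28, 30, 32, 34, 36, 37, 38, 39, 40, 41, 42, 43, 44, 35, 33, 27, 28, 24, 25, 27, 28, 30, 31, 32, 33, 35, 37, 38, 39, 40, 41, 30, 31, 23, 25, 26, 27, 28, 30, 31, 33, 34, 35, 37, 38, 39, 36, 26, 27, 28, 29, 25, 22, 23, 25, 27, 28, 29, 31, 32, 33, 34, 21, 22, 23, 24, 25, 26, 27, 20, 21, 22, 19, 17, 19, 21, 22, 24, 25, 26, 27, 29, 30, 31, 32, 33, 34, 36, 38, 39, 41, 43, 44, 46, 47, 48, 49, 50, 51, 52, 31, 16, 14, 16, 18, 19, 20, 21, 22, 23, 24, 26, 27, 28, 29, 31, 33, 34, 35, 36, 37, 32, 33, 17, 15, 13, 14, 15, 17, 19, 20, 21, 22, 24, 25, 26, 27, 29, 30, 11, 12, 13, 10, 8, 9, 10, 12, 13,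 15, 16, 17, 19, 20, 22, 23, 24, 25, 27, 28, 29, 30, 32, 33, 35, 36, 37, 39, 40, 41, 43, 44, 46, 47, 48, 49, 39, 28, 29, 30, 31, 18, 19, 17, 15, 9, 10, 11, 12, 13, 14, 15, 17, 19, 21, 22, 23, 24, 25, 26, 14, 15, 7, 9, 10, 11, 12, 14, 15, 17, 18, 19, 21, 22, 23, 24, 26, 27, 29, 30, 31, 33, 34, 35, 36, 37, 39, 41, 42, 43, 44, 46, 47, 30, 31, 32, 33, 35, 36, 37, 29, 30, 31, 33, 34, 28, 29, 31, 32, 25, 27, 10, 11, 12, 13, 9, 3, 4, 5, 6, 7, 9, 11, 12, 13, 15, 16, 17, 18, 19, 21, 22, 23, 24, 25, 27, 29, 30, 31, 32, 34, 36, 37, 39, 40, 41, 42, 43, 44, 46, 47, 49, 51, 52, 54, 55, 40, 41, 39, 36, 37, 20, 21, 22, 23, 24, 19, 20, 21, 22, 18, 19, 16, 17, 12, 13, 14, 15, 5, 6, 7, 8, 9, 10, 11, 12, 13, 14, 15, 17, 19, 14, 15, 16, 17, 13, 14, 10, 11, 3, 5, 6, 7, 8, 9, 10, 11, 13, 14, 16, 17, 19, 20, 22, 24, 26, 27, 28, 29, 30, 31, 32, 33, 34, 35, 36, 37, 39, 41,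 43, 44, 45, 36, 37, 34, 25, 23, 21, 22, 23, 25, 27, 28, 29, 18, 20, 21, 10, 11, 12, 8, 2, 3, 5, 6, 7, 8, 10, 11, 12, 14, 15, 16, 17, 18, 20, 21, 23, 24, 25, 27, 28, 29, 31, 32, 33, 34, 36, 37, 39, 40, 41, 43, 44, 45, 47, 48, 49, 51, 52, 54, 55, 57, 58, 59, 60, 57, 59, 54, 55, 56, 53, 51, 53, 50, 51, 48, 50, 51, 53, 54, 56, 58, 28, 29, 30, 31, 27, 28, 29, 26, 24, 26, 28, 29, 31, 33, 34, 35, 36, 37, 38, 39, 40, 41, 42, 44, 45, 32, 33, 34, 30, 22, 24, 25, 26, 28, 29, 30, 32, 33, 34, 36, 37, 38, 39, 40, 42, 43, 24, 21, 22, 24, 26, 27, 28, 29, 30, 32, 33, 34, 36, 37, 38, 40, 41, 20, 21, 22, 19, 16, 17, 19, 21, 22, 24, 25, 26, 27, 28, 29, 30, 32, 33, 34, 36, 38, 39, 40, 41, 43, 45, 47, 48, 49, 50, 51, 52, 53, 54, 44, 45, 47, 48, 49, 35, 25, 26, 27, 24, 25, 21, 22, 14, 16, 17, 18, 19, 20, 21, 22, 24, 25, 27, 29, 30, 31, 32, 33, 35, 37, 38, 39, 21, 22, 23,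 19, 13, 14, 16, 17, 18, 19, 21, 22, 23, 25, 26, 27, 29, 30, 31, 33, 34, 35, 37, 38, 39, 41, 42, 43, 44, 45, 47, 41, 42, 43, 25, 16, 17, 12, 13, 14, 16, 17, 19, 20, 21, 22, 23, 25, 27, 28, 29, 31, 32, 33, 34, 35, 37, 38, 39, 41, 21, 22, 23, 24, 25, 26, 27, 20, 21, 22, 19, 7, 8, 9, 10, 11, 12, 13, 14, 16, 17, 19, 21, 22, 24, 25, 26, 27, 29, 30, 31, 32, 33, 34, 35, 37, 38, 39, 41, 43, 45, 46, 47, 49, 51, 26, 27, 28, 29, 30, 25, 26, 27, 24, 25, 23, 9, 11, 12, 13, 14, 15, 16, 17, 18, 19, 20, 21, 23, 25, 27, 29, 30, 32, 33, 34, 35, 20, 21, 22, 23, 19, 20, 8, 9, 11, 12, 13, 14, 15, 16, 17, 19, 20, 22, 23, 25, 26, 27, 29, 30, 32, 33, 34, 35, 37, 38, 39, 40, 41, 42, 43, 44, 25, 16, 17, 18, 7, 8, 9, 11, 12, 13, 14, 16, 17, 18, 20, 21, 22, 23, 25, 27, 28, 29, 30, 32, 33, 34, 35, 37, 38, 21, 22, 23, 20, 6, 7, 8, 9, 11, 12, 14, 15, 16, 17, 18, 20, 22, 23, 25,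 26, 27, 28, 29, 30, 32, 33, 34, 35, 37, 38, 40, 41, 42, 44, 45, 47, 48, 49, 51, 53, 54, 56, 57, 32, 33, 34, 35, 31, 32, 33, 30, 31, 29, 27, 29, 31, 33, 35, 37, 38, 39, 40, 41, 42, 43, 44, 45, 46, 47, 48, 49, 50, 51, 52, 36, 37, 34, 35, 32, 33, 30, 31, 32, 33, 35, 37, 39, 40, 41, 42, 43, 44, 45, 38, 36, 26, 27, 22, 23, 24, 26, 27, 29, 30, 31, 21, 22, 24, 25, 26, 27, 29, 30, 31, 33, 34, 35, 36, 38, 40, 41, 42, 33, 34, 20, 22, 23, 24, 25, 26, 27, 29, 30, 31, 33, 34, 36, 37, 38, 40, 24, 25, 26, 27, 28, 29, 30, 31, 32, 23, 19, 20, 21, 23, 25, 26, 27, 28, 18, 19, 21, 22, 23, 25, 26, 21, 17, 18, 19, 21, 23, 24, 25, 26, 28, 30, 31, 32, 34, 35, 36, 37, 38, 40, 42, 44, 45, 47, 48, 35, 15, 17, 18, 19, 20, 21, 22, 23, 25, 26, 27, 28, 29, 31, 32, 33, 35, 37, 38, 14, 15, 17, 18, 19, 20, 21, 23, 13, 14, 15, 17, 18, 19, 21, 22, 23, 25, 26, 27, 29, 30, 31, 33, 34,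 35, 37, 38, 40, 41, 42, 44, 45, 47, 48, 50, 51, 52, 54, 55, 56, 55, 47, 48, 46, 44, 46, 48, 50, 51, 52, 53, 54, 37, 38, 36, 34, 36, 38, 40, 41, 42, 43, 44, 45, 46, 39, 37, 32, 34, 35, 36, 37, 39, 41, 42, 43, 34, 35, 31, 32, 34, 35, 37, 38, 39, 37, 30, 31, 32, 34, 35, 37, 39, 40, 42, 43, 45, 46, 48, 49, 50, 51, 52, 53, 49, 50, 51, 52, 51, 50, 49, 48, 47, 46, 38, 40, 41, 42, 37, 38, 40, 36, 34, 36, 38, 39, 40, 42, 44, 45, 44, 39, 40, 41, 42, 43, 22, 23, 24, 25, 26, 27, 20, 22, 23, 24, 25, 19, 20, 22, 23, 18, 19, 20, 17, 18, 16, 14, 16, 18, 20, 21, 23, 25, 27, 29, 30, 31, 32, 33, 34, 35, 36, 37, 38, 39, 40, 41, 42, 41, 39, 40, 32, 33, 30, 32, 33, 35, 36, 37, 38, 39, 38, 35, 37, 26, 27, 29, 30, 31, 32, 33, 28, 24, 25, 26, 22, 23, 24, 25, 26, 28, 30, 31, 32, 33, 35, 36, 23, 25, 26, 27, 28, 29, 30, 31, 24, 25, 22, 21, 22, 24, 25, 27, 28, 29, 30, 31, 33,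 34, 35, 34, 30, 31, 32, 33, 29, 30, 31, 32, 28, 29, 30, 31, 30, 29, 28, 27, 24, 25, 26, 11, 12, 13, 14, 15, 16, 10, 11, 12, 13, 5, 6, 7, 8, 10, 4, 5, 6, 8, 9, 10, 12, 13, 15, 16, 18, 19, 20, 21, 22, 23, 24, 25, 19, 20, 18, 15, 16, 17, 18, 20, 22, 23, 24, 23, 22, 17, 18, 19, 20, 21, 20, 14, 15, 17, 18, 19, 13, 15, 16, 17, 18, 17, 16, 12, 13, 14, 15, 9, 10, 11, 12, 13, 14, 13, 12, 11, 7, 9, 10, 9, 3, 4, 6, 7, 8, 2, 4, 5, 6, 7, 6, 1, 2, 3, 4, 5, 0, 1, 2, 3, 4, 3, 2, 1, 0]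
    ((RE .b3 .c3 .d3 .b1 .c1).reverse ++ YW.rep [.a, .b1, .c1, .b2, .b3, .c3, .d3] 9) = true := by
  decide +kernel

section
variable {G : Type*} [Group G] {x : Nd → G} (h : Sys x)
include h

theorem sys_eq (c : List ℕ) {l r : List Nd} (e : red c (r.reverse ++ l) = true) (hl : .e3 ∉ l)
    (hr : .e3 ∉ r) : vl x l = vl x r := by
  have := red_eq h.coxF c e
  rw [h.vl_nd hl, h.vl_nd hr] at this
  exact congrArg Wr.a this

theorem sys_sp : vl x [.a, .b1, .c1, .a, .b2, .c2, .a, .b3, .c3] ^ 10 = 1 := by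
  rw [← vl_rep, sys_eq h _ red_sp (by decide) (by decide)]
  simp only [vl_append, h.tt, mul_one]
  rw [vl_reverse fun n hn => h.sq (by rintro rfl; revert hn; decide),
    vl_reverse fun n hn => h.sq (by rintro rfl; revert hn; decide), mul_inv_cancel, mul_inv_cancel,
    mul_one]

theorem sys_b2 : vl x [.a, .b1, .c1, .b2, .c2, .d2, .b3] ^ 9 = x .f2 := by
  rw [← vl_rep, sys_eq h _ red_b2 (by decide) (by decide), h.e21]

theorem sys_b3 : vl x [.a, .b1, .c1, .b2, .b3, .c3, .d3] ^ 9 = 1 := by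
  rw [← vl_rep, sys_eq h _ red_b3 (by decide) (by decide), h.e31, h.f3]

end

/-- The nodes of `Y433` inside `Y555`. -/
def bN : BabyMonster.Gen → Nd
  | .t1 => .e1 | .t2 => .d1 | .t3 => .c1 | .t4 => .b1 | .t5 => .a | .t6 => .b2 | .t7 => .c2
  | .t8 => .d2 | .t9 => .b3 | .t10 => .c3 | .t11 => .d3

theorem exists_baby {G L : Type*} [Group G] [Group L] {x : Nd → G} (h : Sys x) {H : Subgroup G}
    (hH : ∀ n, x (bN n) ∈ H) (φ : H →* L) (hφ : ∀ y : H, (y : G) = x .f2 → φ y = 1) :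
    ∃ f : BabyMonster →* L, ∀ n, f (PresentedGroup.of n) = φ ⟨_, hH n⟩ := by
  have k : ∀ y : H, (y : G) = 1 → φ y = 1 := fun y e => by rw [show y = 1 from Subtype.ext e, map_one]
  refine ⟨PresentedGroup.toGroup (f := fun n => φ ⟨_, hH n⟩) ?_, fun n => PresentedGroup.toGroup.of _⟩
  rintro r (⟨n, -, m, -, rfl⟩ | hr)
  · simp only [map_mul, map_pow, FreeGroup.lift_apply_of]
    rw [← map_mul, ← map_pow]
    refine k _ ?_
    have := h.cox (bN n) (bN m)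
    rwa [inv_eq_of_mul_eq_one_right (h.sq (by cases m <;> decide)),
      show YW.lb (bN n) (bN m) = coxLabel BabyMonster.edges n m by cases n <;> cases m <;> rfl] at this
  · simp only [BabyMonster.extra, Set.mem_setOf_eq, List.mem_cons, List.not_mem_nil, or_false] at hr
    rcases hr with rfl | rfl | rfl <;>
      simp only [map_mul, map_pow, FreeGroup.lift_apply_of] <;> simp only [← map_mul, ← map_pow]
    · exact k _ (by simpa only [vl_cons, vl_nil, mul_one, ← mul_assoc, Subgroup.coe_pow, Subgroup.coe_mul, bN] using sys_sp h)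
    · exact hφ _ (by simpa only [vl_cons, vl_nil, mul_one, ← mul_assoc, Subgroup.coe_pow, Subgroup.coe_mul, bN] using sys_b2 h)
    · exact k _ (by simpa only [vl_cons, vl_nil, mul_one, ← mul_assoc, Subgroup.coe_pow, Subgroup.coe_mul, bN] using sys_b3 h)

/-- The system conjugated so that `f2` is the standard involution. -/
noncomputable def xB (n : Nd) : U ≃ₗ[ℝ] U := MulAut.conj (wd (W .f2))⁻¹ (xU n)

theorem sys_xB : Sys xB := sys_of (f := (MulAut.conj (wd (W .f2))).toMonoidHom)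
  (MulAut.conj _).injective (by
    convert sys_xU using 2
    simp [xB, mul_assoc])

theorem xB_f2 : xB .f2 = tv 1 c0 := by
  rw [xB, xU_ne (by decide), x0, ← iW_W (by decide), iW, MulAut.conj_apply]; group

theorem xB_mem (n : BabyMonster.Gen) : xB (bN n) ∈ HH tau := by
  refine mem_HH.2 ⟨mul_mem (mul_mem (inv_mem (wd_mem _)) (xU_mem _)) (inv_mem (inv_mem (wd_mem _))), ?_⟩
  have := sys_xB.cox (bN n) .f2
  have e := inv_eq_of_mul_eq_one_right (sys_xB.sq (n := .f2) (by decide))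
  rw [show YW.lb (bN n) .f2 = 2 by cases n <;> rfl, pow_two, mul_eq_one_iff_eq_inv, mul_inv_rev,
    inv_inv, e] at this
  rw [← xB_f2, this, inv_eq_of_mul_eq_one_right (sys_xB.sq (by cases n <;> decide)), mul_assoc,
    sys_xB.sq (by cases n <;> decide), mul_one]

instance : Finite (HH tau) := Finite.of_injective _ (Subgroup.inclusion_injective HH_le)

theorem card_HH : Nat.card (HH tau) = 2 * 4154781481226426191177580544000000 := by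
  have h1 : (Subgroup.centralizer ({tM tau} : Set (MM tau))).index = 97239461142009186000 := by
    rw [← ncard_axes, ← MulAction.index_stabilizer, cent_tM]
    congr 1
    ext x
    rw [Subgroup.mem_subgroupOf, mem_HH, and_iff_right x.2]
    exact ⟨fix_M _ x.2, conj_tv (MM_le_Aut tri_tau x.2)⟩
  have h2 := (Subgroup.centralizer ({tM tau} : Set (MM tau))).index_mul_card
  rw [h1, card_M, cent_tM, Nat.card_congr (Subgroup.subgroupOfEquivOfLe HH_le).toEquiv] at h2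
  exact Nat.eq_of_mul_eq_mul_left (by norm_num) (h2.trans (by norm_num))

theorem card_center_HH : Nat.card (Subgroup.center (HH tau)) = 2 := by
  rw [center_HH tri_tau, Nat.card_congr (Subgroup.subgroupOfEquivOfLe
    (Subgroup.zpowers_le.2 tt_mem_HH)).toEquiv, Nat.card_zpowers, orderOf_tt]

theorem card_HHq : Nat.card (HH tau ⧸ Subgroup.center (HH tau)) =
    4154781481226426191177580544000000 := by
  have := Subgroup.card_eq_card_quotient_mul_card_subgroup (Subgroup.center (HH tau))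
  rw [card_HH, card_center_HH, mul_comm] at this
  exact (Nat.eq_of_mul_eq_mul_right (by norm_num) this).symm

theorem baby_hom : ∃ f : BabyMonster →* HH tau ⧸ Subgroup.center (HH tau), f.ker ≠ ⊤ ∧
    ∀ n, f (PresentedGroup.of n) = QuotientGroup.mk ⟨_, xB_mem n⟩ := by
  obtain ⟨f, hf⟩ := exists_baby sys_xB xB_mem (QuotientGroup.mk' (Subgroup.center (HH tau)))
    fun y e => by
      rw [QuotientGroup.mk'_apply, QuotientGroup.eq_one_iff, center_HH tri_tau,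
        Subgroup.mem_subgroupOf, e, xB_f2]
      exact Subgroup.mem_zpowers _
  refine ⟨f, fun e => ?_, hf⟩
  have k : ∀ n, xB (bN n) = 1 ∨ xB (bN n) = tv 1 c0 := fun n => by
    have : PresentedGroup.of n ∈ f.ker := by rw [e]; exact Subgroup.mem_top _
    rw [MonoidHom.mem_ker] at this
    rw [hf, QuotientGroup.mk'_apply, QuotientGroup.eq_one_iff, center_HH tri_tau,
      Subgroup.mem_subgroupOf] at this
    exact mem_zpowers_invol (tv_mul_self _ _) this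
  have k2 : ∀ n, xB n = (wd (W .f2))⁻¹ * xU n * (wd (W .f2))⁻¹⁻¹ := fun _ => rfl
  rcases k .t2 with a | a
  · rw [k2, conj_eq_one_iff] at a
    change wd [28 + 3] = 1 at a
    rw [wd_one, el_Q (by norm_num), ← rho_qe_zero, ← dec_zero] at a
    exact absurd (dec_inj (by norm_num) (by norm_num) (rho_qe_inj a).2) (by norm_num)
  · rw [← xB_f2, k2, k2, mul_left_inj, mul_right_inj] at a
    change wd [31] = wd [29, 33, 36, 37] at a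
    have : wd (apd [31] (ivW [29, 33, 36, 37])) = 1 := by rw [← wd_mul, ← wd_ivW, a, inv_mul_cancel]
    rw [wd_gw (by decide +kernel), rho_eq_one] at this
    have e := ep_gw (apd [31] (ivW [29, 33, 36, 37])) (2 ^ 13)
    rcases this with b | b <;> rw [b] at e
    · rw [ep_one] at e; revert e; decide +kernel
    · rw [ep_m1] at e; revert e; decide +kernel

/-- If the presented group is simple of the right order, it is `C(t) / <t>`. -/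
theorem baby_iso (h : IsB BabyMonster) :
    Nonempty (HH tau ⧸ Subgroup.center (HH tau) ≃* BabyMonster) := by
  obtain ⟨f, h1, -⟩ := baby_hom
  have := h.1
  have hi : Function.Injective f := (MonoidHom.ker_eq_bot_iff f).1
    ((f.normal_ker.eq_bot_or_eq_top).resolve_right h1)
  exact ⟨(MulEquiv.ofBijective f ((Nat.bijective_iff_injective_and_card f).2
    ⟨hi, h.2.trans card_HHq.symm⟩)).symm⟩

theorem baby_cover (h : IsB BabyMonster) :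
    IsNonsplitDoubleCover (Subgroup.centralizer ({tM tau} : Set (MM tau))) BabyMonster :=
  nonsplit_congr ((MulEquiv.subgroupCongr cent_tM).trans (Subgroup.subgroupOfEquivOfLe HH_le)).symm
    ⟨card_center_HH, baby_iso h, nonsplit_HH tri_tau⟩

end H10.Mon.Y
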