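import Mathlib
import Cfsg.Agent.H10.SmallData

/-! Explicit lists of vectors: a fixed-point-free involution of `HS`, and the rank three action
of `McL`. -/

set_option autoImplicit false

namespace H10

open Cfsg Finset H9 MulAction

/-- the list is strictly increasing, starting above `a`, and bounded by `B384`. -/
def incr (l : List ℕ) : ℕ → Bool :=
  List.rec (fun a => Nat.blt a B384) (fun b _ r a => Nat.blt a b && r b) l

theorem incr_spec {l : List ℕ} {a : ℕ} (h : incr l a = true) :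
    a < B384 ∧ (∀ b ∈ l, a < b ∧ b < B384) ∧ l.Nodup := by
  induction l generalizing a with
  | nil => exact ⟨by simpa [incr, Nat.blt_eq] using h, by simp, List.nodup_nil⟩
  | cons b l ih =>
    obtain ⟨h1, h2⟩ := Bool.and_eq_true_iff.1 h
    rw [Nat.blt_eq] at h1
    obtain ⟨h3, h4, h5⟩ := ih h2
    refine ⟨h1.trans h3, fun c hc => ?_, List.nodup_cons.2 ⟨fun hb => (h4 b hb).1.false, h5⟩⟩
    rcases List.mem_cons.1 hc with rfl | hc
    · exact ⟨h1, h3⟩
    · exact ⟨h1.trans (h4 c hc).1, (h4 c hc).2⟩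

theorem ncard_list (l : List ℕ) (h : incr l 0 = true) (hL : ∀ c ∈ l, inL c = true) (q : ℕ → Bool) :
    {y : L | ∃ c ∈ l, q c = true ∧ (y : V) = vc c}.ncard = (l.filter q).length := by
  obtain ⟨-, h1, h2⟩ := incr_spec h
  have : {y : L | ∃ c ∈ l, q c = true ∧ (y : V) = vc c} = lv '' ((l.filter q).toFinset : Set ℕ) := by
    ext y
    simp only [Set.mem_ofPred_eq, Set.mem_image, mem_coe, List.mem_toFinset, List.mem_filter]
    constructor
    · rintro ⟨c, hc, hq, e⟩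
      exact ⟨c, ⟨hc, hq⟩, Subtype.ext ((lv_coe (hL c hc)).trans e.symm)⟩
    · rintro ⟨c, ⟨hc, hq⟩, rfl⟩
      exact ⟨c, hc, hq, lv_coe (hL c hc)⟩
  rw [this, Set.InjOn.ncard_image, Set.ncard_coe_finset, List.toFinset_card_of_nodup (h2.filter _)]
  intro a ha b hb e
  simp only [mem_coe, List.mem_toFinset, List.mem_filter] at ha hb
  have := congrArg Subtype.val e
  rw [lv_coe (hL a ha.1), lv_coe (hL b hb.1)] at this
  exact vc_inj (B384_eq ▸ (h1 a ha.1).2) (B384_eq ▸ (h1 b hb.1).2) this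

theorem mem_list_of_ncard (S : Set L) (hS : S.Finite) (l : List ℕ) (h : incr l 0 = true)
    (hL : ∀ c ∈ l, inL c = true) (hm : ∀ c ∈ l, ∀ y : L, (y : V) = vc c → y ∈ S)
    (hn : S.ncard = l.length) : ∀ y ∈ S, ∃ c ∈ l, (y : V) = vc c := by
  have h1 := ncard_list l h hL fun _ => true
  rw [List.filter_true, ← hn] at h1
  have := Set.eq_of_subset_of_ncard_le (s := {y : L | ∃ c ∈ l, true = true ∧ (y : V) = vc c})
    (t := S) (fun y ⟨c, hc, _, e⟩ => hm c hc y e) h1.ge hS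
  intro y hy
  obtain ⟨c, hc, -, e⟩ := (Set.ext_iff.1 this y).2 hy
  exact ⟨c, hc, e⟩

theorem ncard_of_list (S T : Set L) (l : List ℕ) (h : incr l 0 = true)
    (hL : ∀ c ∈ l, inL c = true) (hm : ∀ c ∈ l, ∀ y : L, (y : V) = vc c → y ∈ S)
    (hS : ∀ y ∈ S, ∃ c ∈ l, (y : V) = vc c) (q : ℕ → Bool)
    (hT : ∀ c ∈ l, ∀ y : L, (y : V) = vc c → (y ∈ T ↔ q c = true)) :
    {y | y ∈ S ∧ y ∈ T}.ncard = (l.filter q).length := by
  rw [← ncard_list l h hL q]
  apply congrArg Set.ncard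
  ext y
  constructor
  · rintro ⟨h1, h2⟩
    obtain ⟨c, hc, e⟩ := hS y h1
    exact ⟨c, hc, (hT c hc y e).1 h2, e⟩
  · rintro ⟨c, hc, hq, e⟩
    exact ⟨hm c hc y e, (hT c hc y e).2 hq⟩

theorem dU_of {y : L} {c : ℕ} (e : (y : V) = vc c) : dU y = dotC cU c := by
  rw [dU, e, vU_eq, dot_vc]
theorem dU'_of {y : L} {c : ℕ} (e : (y : V) = vc c) : dU' y = dotC cU' c := by
  rw [dU', e, vU'_eq, dot_vc]
theorem dV_of {y : L} {c : ℕ} (e : (y : V) = vc c) : dV y = dotC cV c := by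
  rw [dV, e, vV_eq, dot_vc]
theorem norm_of {y : L} {c : ℕ} (e : (y : V) = vc c) : sqNorm (y : V) = dotC c c := by
  rw [e, norm_vc]

theorem isCo_gInv : isCo gInv = true := by decide +kernel

theorem l100_chk : l100.all (fun c => fh c fun c => inL c && decide (dotC c c = 32) &&
    decide (dotC cV c = 24) && decide (dotC cU' c = 0) && !(Nat.beq (app gInv c) c)) = true := by
  decide +kernel

theorem l100_spec : ∀ c ∈ l100, inL c = true ∧ dotC c c = 32 ∧ dotC cV c = 24 ∧ dotC cU' c = 0 ∧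
    app gInv c ≠ c := by
  intro c hc
  have := List.all_eq_true.1 l100_chk c hc
  simp only [fh_eq, Bool.and_eq_true, decide_eq_true_eq, Bool.not_eq_true'] at this
  obtain ⟨⟨⟨⟨h1, h2⟩, h3⟩, h4⟩, h5⟩ := this
  exact ⟨h1, h2, h3, h4, fun e => by rw [(beq_iff _ _).2 e] at h5; exact absurd h5 (by simp)⟩

theorem app_lt (M : List ℕ) (n : ℕ) : app M n < 65536 ^ 24 := by
  rw [← B384_eq]
  have h0 : 0 < B384 := by rw [B384_eq]; positivity
  rcases M with _ | ⟨K, cs⟩
  · exact lt_of_le_of_lt (Nat.div_le_self _ _) h0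
  · exact lt_of_le_of_lt (Nat.div_le_self _ _) (Nat.mod_lt _ h0)

theorem exists_fpf_invol : ∃ g ∈ Hs, orderOf g = 2 ∧
    ∀ x : L, sqNorm (x : V) = 32 → dV x = 24 → dU' x = 0 → g • x ≠ x := by
  have h1 : ∀ x : L, sqNorm (x : V) = 32 → dV x = 24 → dU' x = 0 → coM gInv • x ≠ x := by
    intro x h1 h2 h3 e
    obtain ⟨c, hc, hx⟩ := mem_list_of_ncard {y : L | sqNorm (y : V) = 32 ∧ dV y = 24 ∧ dU' y = 0}
      ((finite_normL 32).subset fun x hx => hx.1) l100 (by decide +kernel)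
      (fun c hc => (l100_spec c hc).1)
      (fun c hc y e => ⟨(norm_of e).trans (l100_spec c hc).2.1,
        (dV_of e).trans (l100_spec c hc).2.2.1, (dU'_of e).trans (l100_spec c hc).2.2.2.1⟩)
      (ncard_of_P _ (fun _ b c => decide (c = 24 ∧ b = 0)) (by decide +kernel) (by simp))
      x ⟨h1, h2, h3⟩
    have := coM_smul isCo_gInv hx (by rw [h1]; norm_num)
    rw [e, hx] at this
    exact (l100_spec c hc).2.2.2.2 (vc_inj (app_lt _ _)
      (B384_eq ▸ ((incr_spec (show incr l100 0 = true by decide +kernel)).2.1 c hc).2) this.symm)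
  refine ⟨coM gInv, ⟨coM_fixU' isCo_gInv (by decide +kernel), coM_fixV isCo_gInv (by decide +kernel)⟩,
    ?_, h1⟩
  apply orderOf_eq_prime
  · apply eq_one_of_fix_e8
    intro p
    have hn : sqNorm (e8 p : V) ≤ 255 := by rw [e8_coe, sqNorm_single]; norm_num
    have : ∀ i < 24, app gInv (app gInv (cE i)) = cE i := by decide +kernel
    apply Subtype.ext
    rw [pow_two, mul_smul, coM_smul isCo_gInv (coM_smul isCo_gInv (e8_eq p) hn) (by rwa [co_norm]),
      this _ (ix_lt p), e8_eq]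
  · intro e
    exact h1 (-vU) (by decide +kernel) (by decide +kernel) (by decide +kernel) (by rw [e, one_smul])

/-! ### The 275 vectors -/

/-- `4 e_∞ + 4 e_1`. -/
noncomputable def vX : L := lv cX0

theorem vX_eq : (vX : V) = vc cX0 := lv_coe (by decide +kernel)
theorem norm_vX : sqNorm (vX : V) = 32 := (norm_of vX_eq).trans (by decide +kernel)
theorem dU_vX : dU vX = 16 := (dU_of vX_eq).trans (by decide +kernel)
theorem dU'_vX : dU' vX = 16 := (dU'_of vX_eq).trans (by decide +kernel)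
theorem dV_vX : dV vX = -24 := (dV_of vX_eq).trans (by decide +kernel)

/-- the stabiliser of `U`, `V` and `X`. -/
noncomputable abbrev U43 : Subgroup G0 := Mc ⊓ stabilizer G0 vX

/-- Boolean test for membership in `U43`. -/
def isU43 (M : List ℕ) : Bool :=
  isCo M && Nat.beq (app M cU) cU && Nat.beq (app M cV) cV && Nat.beq (app M cX0) cX0

theorem isU43_spec {M : List ℕ} (h : isU43 M = true) : isCo M = true ∧ coM M ∈ U43 := by
  simp only [isU43, Bool.and_eq_true, beq_iff] at h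
  obtain ⟨⟨⟨h1, h2⟩, h3⟩, h4⟩ := h
  exact ⟨h1, ⟨coM_fixU h1 h2, coM_fixV h1 h3⟩,
    coM_fix h1 vX_eq (by rw [norm_vX]; norm_num) h4⟩

theorem gK_in : CoIn [gK0, gK1, gK2, gK3] U43 := by
  have : [gK0, gK1, gK2, gK3].all isU43 = true := by decide +kernel
  exact fun M hM => isU43_spec (List.all_eq_true.1 this M hM)

theorem l275_chk : l275.all (fun e => fh e.1 fun c => inL c && decide (dotC c c = 32) &&
    decide (dotC cV c = -24) && decide (dotC cU c = 16) &&
    (Nat.beq c cX0 || (decide (dotC cX0 c = 8) && Nat.beq (runW [gK0, gK1, gK2, gK3] e.2 c) cY1) ||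
      (decide (dotC cX0 c = 16) && Nat.beq (runW [gK0, gK1, gK2, gK3] e.2 c) cY2))) = true := by
  decide +kernel

theorem l275_spec : ∀ c ∈ l275.map Prod.fst, inL c = true ∧ dotC c c = 32 ∧ dotC cV c = -24 ∧
    dotC cU c = 16 ∧ (c = cX0 ∨ (dotC cX0 c = 8 ∧ ∃ w, runW [gK0, gK1, gK2, gK3] w c = cY1) ∨
      (dotC cX0 c = 16 ∧ ∃ w, runW [gK0, gK1, gK2, gK3] w c = cY2)) := by
  intro c hc
  obtain ⟨e, he, rfl⟩ := List.mem_map.1 hc
  have := List.all_eq_true.1 l275_chk e he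
  simp only [fh_eq, Bool.and_eq_true, decide_eq_true_eq, Bool.or_eq_true, beq_iff] at this
  obtain ⟨⟨⟨⟨h1, h2⟩, h3⟩, h4⟩, h5⟩ := this
  refine ⟨h1, h2, h3, h4, ?_⟩
  rcases h5 with (h | h) | h
  · exact Or.inl h
  · exact Or.inr (Or.inl ⟨h.1, _, h.2⟩)
  · exact Or.inr (Or.inr ⟨h.1, _, h.2⟩)

/-- the set of 275 vectors. -/
def S275 : Set L := {y : L | sqNorm (y : V) = 32 ∧ dV y = -24 ∧ dU y = 16}

theorem ncard_S275 : S275.ncard = 275 :=
  ncard_of_P _ (fun a _ c => decide (c = -24 ∧ a = 16)) (by decide +kernel) (by simp [S275])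

theorem incr275 : incr (l275.map Prod.fst) 0 = true := by decide +kernel

theorem mem275 : ∀ c ∈ l275.map Prod.fst, ∀ y : L, (y : V) = vc c → y ∈ S275 :=
  fun c hc _ e => ⟨(norm_of e).trans (l275_spec c hc).2.1,
    (dV_of e).trans (l275_spec c hc).2.2.1, (dU_of e).trans (l275_spec c hc).2.2.2.1⟩

theorem cover275 : ∀ y ∈ S275, ∃ c ∈ l275.map Prod.fst, (y : V) = vc c :=
  mem_list_of_ncard S275 ((finite_normL 32).subset fun _ hx => hx.1) _ incr275
    (fun c hc => (l275_spec c hc).1) mem275 (ncard_S275.trans (by decide +kernel))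

/-- inner product with `X`. -/
noncomputable abbrev dX (y : L) : ℤ := dotInt (vX : V) (y : V)

theorem dX_of {y : L} {c : ℕ} (e : (y : V) = vc c) : dX y = dotC cX0 c := by
  rw [dX, e, vX_eq, dot_vc]

theorem ncard_dX (d : ℤ) : {y | y ∈ S275 ∧ dX y = d}.ncard =
    ((l275.map Prod.fst).filter fun c => decide (dotC cX0 c = d)).length :=
  ncard_of_list S275 {y | dX y = d} _ incr275 (fun c hc => (l275_spec c hc).1) mem275 cover275 _
    fun c _ y e => by rw [Set.mem_ofPred_eq, dX_of e, decide_eq_true_eq]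

theorem ncard_112 : {y | y ∈ S275 ∧ dX y = 8}.ncard = 112 :=
  (ncard_dX 8).trans (by decide +kernel)

theorem ncard_162 : {y | y ∈ S275 ∧ dX y = 16}.ncard = 162 :=
  (ncard_dX 16).trans (by decide +kernel)

theorem tr_U43 {y z : L} (hy : y ∈ S275) (hz : z ∈ S275) (h : dX y = dX z) :
    ∃ g ∈ U43, g • y = z := by
  have key : ∀ y ∈ S275, y = vX ∨ (dX y = 8 ∧ ∃ g ∈ U43, ((g • y : L) : V) = vc cY1) ∨
      (dX y = 16 ∧ ∃ g ∈ U43, ((g • y : L) : V) = vc cY2) := by
    intro y hy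
    obtain ⟨c, hc, e⟩ := cover275 y hy
    have hn : sqNorm (y : V) ≤ 255 := by rw [hy.1]; norm_num
    rcases (l275_spec c hc).2.2.2.2 with rfl | ⟨h1, w, h2⟩ | ⟨h1, w, h2⟩
    · exact Or.inl (Subtype.ext (e.trans vX_eq.symm))
    · exact Or.inr (Or.inl ⟨(dX_of e).trans h1, h2 ▸ gK_in.runW w e hn⟩)
    · exact Or.inr (Or.inr ⟨(dX_of e).trans h1, h2 ▸ gK_in.runW w e hn⟩)
  have h32 : dX vX = 32 := (dot_self _).trans norm_vX
  have fin : ∀ {c : ℕ}, (∃ g ∈ U43, ((g • y : L) : V) = vc c) →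
      (∃ g ∈ U43, ((g • z : L) : V) = vc c) → ∃ g ∈ U43, g • y = z := by
    rintro c ⟨g, hg, e⟩ ⟨g', hg', e'⟩
    refine ⟨g'⁻¹ * g, U43.mul_mem (U43.inv_mem hg') hg, ?_⟩
    rw [mul_smul, inv_smul_eq_iff]
    exact Subtype.ext (e.trans e'.symm)
  rcases key y hy with rfl | ⟨a, b⟩ | ⟨a, b⟩ <;> rcases key z hz with rfl | ⟨a', b'⟩ | ⟨a', b'⟩
  · exact ⟨1, U43.one_mem, one_smul _ _⟩
  all_goals first | omega | exact fin b b'

theorem dX_cases {y : L} (hy : y ∈ S275) : y = vX ∨ dX y = 8 ∨ dX y = 16 := by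
  obtain ⟨c, hc, e⟩ := cover275 y hy
  rcases (l275_spec c hc).2.2.2.2 with rfl | ⟨h1, -⟩ | ⟨h1, -⟩
  · exact Or.inl (Subtype.ext (e.trans vX_eq.symm))
  · exact Or.inr (Or.inl ((dX_of e).trans h1))
  · exact Or.inr (Or.inr ((dX_of e).trans h1))

theorem card_U43 : Nat.card U43 = 3265920 := by
  have := card_of_class Mc vX S275 ncard_S275
    (fun g hg => ⟨(co_norm g _).trans norm_vX, (dot_of_fix hg.2 _).trans dV_vX,
      (dot_of_fix hg.1 _).trans dU_vX⟩)
    (fun y hy => tr_Mc _ _ norm_vX hy.1 (dU_vX.trans hy.2.2.symm) (dV_vX.trans hy.2.1.symm))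
  rw [card_Mc] at this
  exact Nat.eq_of_mul_eq_mul_left (show 0 < 275 by norm_num) this.symm

theorem std_U43 {u v x : L} (hu : sqNorm (u : V) = 48) (hv : sqNorm (v : V) = 32)
    (hd : sqNorm ((u : V) - (v : V)) = 32) (hx : sqNorm (x : V) = 32)
    (h1 : sqNorm ((u : V) - (x : V)) = 32) (h2 : dotInt (v : V) (x : V) = 16) :
    ∃ g : G0, g • (-vV) = u ∧ g • vU = v ∧ g • vX = x := by
  refine std_third hx (std_McL' hu hv hd) ?_ (dU_vX.trans h2.symm) fun y hy e1 e2 => ?_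
  · rw [sqNorm_sub, hu, hx] at h1
    rw [dot_negL]
    have : dotInt (vV : V) (vX : V) = -24 := dV_vX
    omega
  · rw [dot_negL, dot_negL, neg_inj] at e1
    obtain ⟨g, hg, e⟩ := tr_Mc _ y norm_vX hy e2 e1
    exact ⟨g, fix_neg.2 hg.2, hg.1, e⟩

end H10
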