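import Mathlib
import Cfsg.Agent.H10.YB

/-!
# Simple connectivity of the Monster: definitions
-/

set_option autoImplicit false
set_option linter.all false
set_option maxRecDepth 100000

namespace H10.Mon.T

open Cfsg H9 H29 Cfsg.Spor H10.YW

abbrev E : Type := U ≃ₗ[ℝ] U

/-- Adjacent short classes. -/
def AdS (c d : S) : Prop := ∃ e : S, c.1 + d.1 = e.1

/-- The classes of shape `(4, 4, 0, ...)`. -/
def TS (c : S) : Prop := ∃ h ∈ N0, h • c0 = c

theorem AdS.symm {c d : S} : AdS c d → AdS d c := fun ⟨e, h⟩ => ⟨e, (add_comm _ _).trans h⟩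

theorem AdS.ne {c d : S} (h : AdS c d) : c ≠ d := by
  rintro rfl
  obtain ⟨e, h⟩ := h
  exact S_ne_zero e (h.symm.trans (two_zmod _))

theorem AdS.smul {c d : S} (g : G0) : AdS c d → AdS (g • c) (g • d) := fun ⟨e, h⟩ =>
  ⟨g • e, by rw [smul_val, smul_val, smul_val, ← smul_add, h]⟩

theorem AdS.of_smul {c d : S} {g : G0} (h : AdS (g • c) (g • d)) : AdS c d := by
  simpa only [inv_smul_smul] using h.smul g⁻¹

/-- The involution determines the axis. -/
theorem ax_of_conj {g : E} (hg : g ∈ MM tau) {s t : ZMod 2} {c d : S}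
    (h : g * tv s c * g⁻¹ = tv t d) : g (ax s c) = ax t d := by
  obtain ⟨k, rfl⟩ := trans_S c d
  obtain ⟨l, rfl⟩ := co_surj k
  obtain ⟨q, hq⟩ := exists_polar_one (S_ne_zero c)
  obtain ⟨m, hm⟩ : ∃ m : GT, rho m (ax s c) = ax t (co l • c) := by
    rcases z2_or t (s + ep l c.1) with e | e
    · exact ⟨l, by rw [rho_ax, e]⟩
    · exact ⟨l * qe 0 q, by
        rw [map_mul, LinearEquiv.mul_apply, rho_ax (qe 0 q), co_qe, one_smul, ep_qe,
          add_comm (bb q _), hq, rho_ax, e, add_right_comm]⟩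
  have ha := Aut.mul_mem (Aut.inv_mem (rho_mem_Aut m)) (MM_le_Aut tri_tau hg)
  have := fix_of_comm ha (s := s) (c := c) (by
    rw [mul_inv_rev, inv_inv, mul_assoc _ g, mul_assoc, ← mul_assoc (g * _), h,
      ← conj_tv (rho_mem_Aut m) hm]; group)
  rw [← hm, ← congrArg (rho m) this, ← LinearEquiv.mul_apply, mul_inv_cancel_left]

/-- A group over the Monster in which a point stabiliser, an edge and a triangle lift. -/
structure Cv (G : Type*) [Group G] where
  π : G →* E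
  H : Subgroup G
  w : G
  s1 : ZMod 2
  s2 : ZMod 2
  d1 : S
  d2 : S
  mem : ∀ g, π g ∈ MM tau
  onto : ∀ m ∈ MM tau, ∃ g, π g = m
  inj : ∀ h ∈ H, π h = 1 → h = 1
  sub : ∀ h ∈ H, π h (ax 1 c0) = ax 1 c0
  full : ∀ m ∈ MM tau, m (ax 1 c0) = ax 1 c0 → ∃ h ∈ H, π h = m
  gen : H ⊔ Subgroup.zpowers w = ⊤
  ww : w * w ∈ H
  w0 : π w (ax 1 c0) = ax s1 d1
  a01 : AdS c0 d1
  a02 : AdS c0 d2
  a12 : AdS d1 d2
  ne : c0.1 + d1.1 ≠ d2.1
  l2 : ∀ h ∈ H, π h (ax s1 d1) = ax s1 d1 → w⁻¹ * h * w ∈ H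
  l3 : ∃ h ∈ H, π h (ax s1 d1) = ax s2 d2 ∧ ∃ a ∈ H, ∃ b ∈ H, w⁻¹ * h * w = a * w * b

namespace Cv

variable {G : Type*} [Group G] (A : Cv G)

/-- The axis under a lifted point. -/
noncomputable def p (x : G ⧸ A.H) : U := Quotient.liftOn' x (fun g => A.π g (ax 1 c0)) fun a b h => by
  have := A.sub _ (QuotientGroup.leftRel_apply.1 h)
  rw [← congrArg (A.π a) this, ← LinearEquiv.mul_apply, ← map_mul, mul_inv_cancel_left]

theorem p_mk (g : G) : A.p (g : G ⧸ A.H) = A.π g (ax 1 c0) := rfl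

/-- Lifted adjacency. -/
def Adj (x y : G ⧸ A.H) : Prop := ∃ g : G, x = (g : G ⧸ A.H) ∧ y = ((g * A.w : G) : G ⧸ A.H)

variable {A}

theorem p_smul (g : G) (x : G ⧸ A.H) : A.p (g • x) = A.π g (A.p x) := by
  obtain ⟨a, rfl⟩ := QuotientGroup.mk_surjective x
  rw [MulAction.Quotient.smul_mk, p_mk, p_mk, smul_eq_mul, map_mul]; rfl

theorem Adj.smul {x y : G ⧸ A.H} (g : G) : A.Adj x y → A.Adj (g • x) (g • y) := by
  rintro ⟨a, rfl, rfl⟩
  exact ⟨g * a, rfl, by rw [mul_assoc]; rfl⟩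

theorem Adj.symm {x y : G ⧸ A.H} : A.Adj x y → A.Adj y x := by
  rintro ⟨a, rfl, rfl⟩
  exact ⟨a * A.w, rfl, QuotientGroup.eq.2 (by rw [mul_assoc, inv_mul_cancel_left]; exact A.ww)⟩

theorem Adj.uniq {x y z : G ⧸ A.H} (h1 : A.Adj x y) (h2 : A.Adj x z) (e : A.p y = A.p z) : y = z := by
  obtain ⟨a, rfl, rfl⟩ := h1
  obtain ⟨b, h, rfl⟩ := h2
  have := A.l2 _ (QuotientGroup.eq.1 h) (by
    rw [p_mk, p_mk, map_mul, map_mul, LinearEquiv.mul_apply, LinearEquiv.mul_apply, A.w0] at e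
    rw [map_mul, LinearEquiv.mul_apply, ← e, ← LinearEquiv.mul_apply, ← map_mul, inv_mul_cancel,
      map_one]; rfl)
  exact QuotientGroup.eq.2 (by simpa only [mul_inv_rev, mul_assoc] using this)

/-- Every element of the Monster lifts to an element that carries a given point to a given point. -/
theorem lift {m : E} (hm : m ∈ MM tau) {x y : G ⧸ A.H} (e : m (A.p x) = A.p y) :
    ∃ g, A.π g = m ∧ g • x = y := by
  obtain ⟨a, rfl⟩ := QuotientGroup.mk_surjective x
  obtain ⟨b, rfl⟩ := QuotientGroup.mk_surjective y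
  obtain ⟨h, h1, h2⟩ := A.full ((A.π b)⁻¹ * m * A.π a)
    (mul_mem (mul_mem (inv_mem (A.mem _)) hm) (A.mem _)) (by
      rw [LinearEquiv.mul_apply, LinearEquiv.mul_apply, ← p_mk, e, p_mk, ← LinearEquiv.mul_apply,
        inv_mul_cancel]; rfl)
  refine ⟨b * h * a⁻¹, by rw [map_mul, map_mul, h2, map_inv]; group, ?_⟩
  rw [MulAction.Quotient.smul_mk, smul_eq_mul, inv_mul_cancel_right]
  exact (QuotientGroup.mk_mul_of_mem b h1)

theorem free {g : G} (h1 : A.π g = 1) {x : G ⧸ A.H} (h2 : g • x = x) : g = 1 := by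
  obtain ⟨a, rfl⟩ := QuotientGroup.mk_surjective x
  rw [MulAction.Quotient.smul_mk, smul_eq_mul, eq_comm, QuotientGroup.eq] at h2
  have := A.inj _ h2 (by rw [map_mul, map_mul, h1, one_mul, map_inv, inv_mul_cancel])
  rwa [inv_mul_eq_one, eq_comm, mul_eq_right] at this

end Cv

/-- A group over the Monster with a section over the frame. -/
structure Am (G X : Type*) [Group G] [MulAction G X] where
  π : G →* E
  p : X → U
  σ : ZMod 2 → S → X
  ι : GT →* G
  t : G
  Adj : X → X → Prop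
  mem : ∀ g, π g ∈ MM tau
  p_smul : ∀ (g : G) x, p (g • x) = π g (p x)
  p_σ : ∀ s c, p (σ s c) = ax s c
  π_ι : ∀ g, π (ι g) = rho g
  π_t : π t = tau
  ι_σ : ∀ g s c, ι g • σ s c = σ (s + ep g c.1) (co g • c)
  t_σ : ∀ s c s' c', TS c → tau (ax s c) = ax s' c' → t • σ s c = σ s' c'
  free : ∀ (g : G) (x : X), π g = 1 → g • x = x → g = 1
  adj_smul : ∀ (g : G) x y, Adj x y → Adj (g • x) (g • y)
  adj_symm : ∀ x y, Adj x y → Adj y x
  adj_uniq : ∀ x y z, Adj x y → Adj x z → p y = p z → y = z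
  adj_σ : ∀ s c s' d, AdS c d → Adj (σ s c) (σ s' d)

/-! ### Systems of generators without the node `e3` -/

variable {G : Type*} [Group G]

def Cx (F : Nd → G) : Prop := ∀ n m, n ≠ .e3 → m ≠ .e3 → (F n * F m) ^ lb n m = 1

def Cen (F : Nd → G) (k : G) : Prop := ∀ n, n ≠ .e3 → Commute k (F n)

def SP : List Nd := [.a, .b1, .c1, .a, .b2, .c2, .a, .b3, .c3]

structure Sy3 (y : Nd → G) : Prop where
  cox : Cx y
  f3 : y .f3 = 1
  sp : vl y SP ^ 10 = 1
  e12 : vl y (RE .b1 .c1 .d1 .b2 .c2) = y .f1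
  e13 : vl y (RE .b1 .c1 .d1 .b3 .c3) = y .f1
  e21 : vl y (RE .b2 .c2 .d2 .b1 .c1) = y .f2
  e23 : vl y (RE .b2 .c2 .d2 .b3 .c3) = y .f2
  e31 : vl y (RE .b3 .c3 .d3 .b1 .c1) = 1
  e32 : vl y (RE .b3 .c3 .d3 .b2 .c2) = 1

/-- The chain of type `A11`. -/
def A11 : List Nd := [.f1, .e1, .d1, .c1, .b1, .a, .b2, .c2, .d2, .e2, .f2]

/-- The longest element of the chain. -/
def RHO : List Nd := ((List.range 11).map fun k => A11.take (11 - k)).flatten

/-- The interchange of the arms 1 and 2. -/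
def sw12 : Nd → Nd
  | .b1 => .b2 | .c1 => .c2 | .d1 => .d2 | .e1 => .e2 | .f1 => .f2
  | .b2 => .b1 | .c2 => .c1 | .d2 => .d1 | .e2 => .e1 | .f2 => .f1 | n => n

/-- The interchange of the arms 2 and 3. -/
def sw23 : Nd → Nd
  | .b3 => .b2 | .c3 => .c2 | .d3 => .d2 | .e3 => .e2 | .f3 => .f2
  | .b2 => .b3 | .c2 => .c3 | .d2 => .d3 | .e2 => .e3 | .f2 => .f3 | n => n

/-- The nodes of `Y333`. -/
def N333 : List Nd := [.a, .b1, .c1, .d1, .b2, .c2, .d2, .b3, .c3, .d3]

section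
variable {F : Nd → G} (hF : Cx F)
include hF

theorem Cx.sq {n : Nd} (h : n ≠ .e3) : F n * F n = 1 := by
  have := hF n n h h
  rwa [show lb n n = 1 from if_pos rfl, pow_one] at this

theorem Cx.hd {k : List Nd → Bool} : ∀ {l : List Nd}, .e3 ∉ l → YW.hd l k = true →
    ∃ r, .e3 ∉ r ∧ vl F r = vl F l ∧ k r = true
  | [], _, h => absurd h Bool.false_ne_true
  | [_], _, h => absurd h Bool.false_ne_true
  | x :: y :: r, n, h => by
    simp only [List.mem_cons, not_or] at n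
    have e := hF x y (Ne.symm n.1) (Ne.symm n.2.1)
    have sy := hF.sq (Ne.symm n.2.1)
    have ex := inv_eq_of_mul_eq_one_right (hF.sq (Ne.symm n.1))
    have ey := inv_eq_of_mul_eq_one_right sy
    simp only [YW.hd, lit_eq] at h
    cases e1 : Nat.beq (lb x y) 1 <;> rw [e1] at h
    · cases e2 : Nat.beq (lb x y) 2 <;> rw [e2] at h
      · cases r with
        | nil => exact absurd h Bool.false_ne_true
        | cons z r =>
          simp only [and2_true, H29.beq_true, decide_eq_true_eq] at h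
          obtain ⟨⟨h1, rfl⟩, h2⟩ := h
          refine ⟨_, by simp only [List.mem_cons, not_or] at n ⊢; tauto, ?_, h2⟩
          rw [h1, pow_three] at e
          have : F y * (F z * F y) = (F z * (F y * F z))⁻¹ := by
            rw [eq_inv_iff_mul_eq_one, ← conj_eq_one_iff (a := F z), ← e, ex]
            calc _ = F z * F y * (F z * F y * (F z * F y)) * (F z * F z) := by group
              _ = _ := by rw [hF.sq (Ne.symm n.1), mul_one]
          simp only [vl_cons, ← mul_assoc]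
          rw [mul_assoc (F y), this, mul_inv_rev, mul_inv_rev, ex, ey]
      · refine ⟨_, by simp only [List.mem_cons, not_or]; tauto, ?_, h⟩
        rw [H29.beq_true.1 e2, pow_two, mul_eq_one_iff_eq_inv, mul_inv_rev, ex, ey] at e
        simp only [vl_cons, ← mul_assoc, e]
    · refine ⟨_, n.2.2, ?_, h⟩
      rw [H29.beq_true.1 e1, pow_one] at e
      rw [vl_cons, vl_cons, ← mul_assoc, e, one_mul]

theorem Cx.app : ∀ (p : ℕ) {k : List Nd → Bool} {l : List Nd}, .e3 ∉ l → YW.app p l k = true →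
    ∃ r, .e3 ∉ r ∧ vl F r = vl F l ∧ k r = true
  | 0, _, _, n, h => hF.hd n h
  | _ + 1, _, [], _, h => absurd h Bool.false_ne_true
  | p + 1, k, x :: l, n, h => by
    rw [List.mem_cons, not_or] at n
    obtain ⟨r, h0, h1, h2⟩ := Cx.app p (k := fun r' => k (x :: r')) n.2 h
    exact ⟨_, by rw [List.mem_cons, not_or]; exact ⟨n.1, h0⟩, by rw [vl_cons, vl_cons, h1], h2⟩

theorem Cx.red : ∀ (c : List ℕ) {l : List Nd}, .e3 ∉ l → YW.red c l = true → vl F l = 1
  | [], l, _, h => by rw [List.isEmpty_iff.1 h, vl_nil]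
  | p :: c, l, n, h => by
    obtain ⟨r, h0, h1, h2⟩ := hF.app p n h
    rw [← h1, Cx.red c h0 h2]

theorem Cx.rev {l : List Nd} (h : .e3 ∉ l) : vl F l.reverse = (vl F l)⁻¹ :=
  vl_reverse fun n hn => hF.sq (by rintro rfl; exact h hn)

/-- Equality of words from a certificate. -/
theorem Cx.eq (c : List ℕ) {l r : List Nd} (hl : .e3 ∉ l) (hr : .e3 ∉ r)
    (h : YW.red c (r.reverse ++ l) = true) : vl F l = vl F r := by
  have := hF.red c (by rw [List.mem_append, List.mem_reverse, not_or]; exact ⟨hr, hl⟩) h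
  rwa [vl_append, hF.rev hr, inv_mul_eq_one, eq_comm] at this

end

end H10.Mon.T
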