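import Mathlib
import Cfsg.Agent.H10.TD

set_option autoImplicit false
set_option linter.all false
set_option maxRecDepth 100000

namespace H10.Mon.T

open Cfsg H9 H29 Cfsg.Spor H10.YW

variable {G : Type*} [Group G] {F : Nd → G}

namespace TA

theorem vl_one (F : Nd → G) (n : Nd) : vl F [n] = F n := mul_one _

theorem cen_vl {k : G} (c : Cen F k) : ∀ {l : List Nd}, .e3 ∉ l → Commute k (vl F l)
  | [], _ => Commute.one_right k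
  | n :: l, h => by
    rw [List.mem_cons, not_or] at h
    exact (c n (Ne.symm h.1)).mul_right (cen_vl c h.2)

def E12 : List Nd := YW.rep [.a, .b1, .b2, .b3, .c1, .c2, .d1] 9
def E21 : List Nd := YW.rep [.a, .b2, .b1, .b3, .c2, .c1, .d2] 9
def X1 : List Nd := [.d1, .c1, .b1, .a, .b3, .b2, .c2, .a, .b2, .b1, .a, .b3, .c1, .b1, .a, .b2, .d1, .c1, .b1, .a, .b3, .c2, .b2, .a, .b1, .c1, .d1, .e1, .d1, .c1, .b1, .a, .b2, .c2, .b3, .a, .b1, .c1, .d1, .b2, .a, .b1, .c1, .b3, .a, .b1, .b2, .a, .c2, .b2, .b3, .a, .b1, .c1, .d1]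
def X2 : List Nd := [.d2, .c2, .b2, .a, .b3, .b1, .c1, .a, .b1, .b2, .a, .b3, .c2, .b2, .a, .b1, .d2, .c2, .b2, .a, .b3, .c1, .b1, .a, .b2, .c2, .d2, .e2, .d2, .c2, .b2, .a, .b1, .c1, .b3, .a, .b2, .c2, .d2, .b1, .a, .b2, .c2, .b3, .a, .b2, .b1, .a, .c1, .b1, .b3, .a, .b2, .c2, .d2]
def MM3 : List Nd := [.d2, .e2, .f2, .c2, .d2, .e2, .b2, .c2, .d2, .a, .b2, .c2, .b1, .a, .b2, .c1, .b1, .a, .b3, .d1, .c1, .b1, .a, .b2, .c2, .e1, .d1, .c1, .b1, .a, .b2, .f1, .e1, .d1, .c1, .b1, .a, .b3, .a, .b2, .c2, .b1, .a, .b2, .c1, .b1, .a, .b3, .d1, .c1, .b1, .a, .b2, .c2, .d2, .e2, .f2, .e1, .d1, .c1, .b1, .a, .b2, .c2, .d2, .e2, .f1, .e1, .d1, .c1, .b1, .a, .b2, .c2, .d2]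
def G1 : List Nd := [.d2, .c2, .b2, .a, .b3, .e2, .f2, .d2, .e2, .c2, .d2, .b1, .c1, .d1, .e1, .f1, .a, .b1, .c1, .d1]
def G2 : List Nd := [.d2, .e2, .f2, .c2, .d2, .e2, .b2, .c2, .d2, .a, .b2, .c2, .b1, .a, .b2, .c1, .b1, .a, .b3, .d1, .c1, .b1, .a, .b2, .e1, .d1, .c1, .b1, .a, .b3, .f1, .e1, .d1, .c1, .b1, .a, .b2, .c2, .d2, .e2, .f2, .c2, .d2]
def RAB : List Nd := [.a, .b1, .c1, .d1, .e1, .f1, .b2, .a, .b1, .c1, .d1, .e1, .c2, .b2, .a, .b1, .c1, .d1, .d2, .c2, .b2, .a, .b1, .c1, .e2, .d2, .c2, .b2, .a, .b1, .f2, .e2, .d2, .c2, .b2, .a, .b3, .a, .b2, .c2, .d2, .e2, .f2, .b1, .a, .b2, .c2, .d2, .e2, .c1, .b1, .a, .b2, .c2, .d2, .d1, .c1, .b1, .a, .b2, .c2, .e1, .d1, .c1, .b1, .a, .b2, .f1, .e1, .d1, .c1, .b1, .a]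
def LH : List Nd := [.e1, .f1, .d1, .e1]
def LA : List Nd := [.e1, .f1, .d1, .e1, .c1, .d1, .b1, .c1, .a, .b1, .b2, .a, .c2, .b2, .a, .b1, .c1, .d1, .e1, .f1, .d2, .c2, .b2, .a, .b1, .c1, .d1, .e1]
def LB : List Nd := [.f1, .e1, .f1, .d1, .e1, .c1, .d1, .b1, .c1, .d1, .a, .b1, .c1, .d1, .b2, .a, .b1, .c1, .d1, .c2, .b2, .a, .b1, .c1, .d1, .f2, .d2, .c2, .b2, .a, .b1, .c1, .d1, .f1]

theorem c_sq (h : Cx F) : vl F RHO * vl F RHO = 1 := by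
  have := h.eq [65, 64, 62, 63, 59, 60, 61, 62, 55, 56, 57, 58, 59, 60, 61, 50, 51, 52, 53, 54, 55, 56, 57, 58, 59, 60, 44, 45, 46, 47, 48, 49, 50, 51, 52, 53, 54, 55, 56, 57, 58, 59, 37, 38, 39, 40, 41, 42, 43, 44, 45, 46, 47, 48, 49, 50, 51, 52, 53, 54, 55, 56, 57, 58, 29, 30, 31, 32, 33, 34, 35, 36, 37, 38, 39, 40, 41, 42, 43, 44, 45, 46, 47, 48, 49, 50, 51, 52, 53, 54, 55, 56, 57, 20, 21, 22, 23, 24, 25, 26, 27, 28, 29, 30, 31, 32, 33, 34, 35, 36, 37, 38, 39, 40, 41, 42, 43, 44, 45, 46, 47, 48, 49, 50, 51, 52, 53, 54, 55, 56, 10, 11, 12, 13, 14, 15, 16, 17, 18, 19, 20, 21, 22, 23, 24, 25, 26, 27, 28, 29, 30, 31, 32, 33, 34, 35, 36, 37, 38, 39, 40, 41, 42, 43, 44, 45, 46, 47, 48, 49, 50, 51, 52, 53, 54, 55, 54, 53, 51, 52, 48, 49, 50, 51, 44, 45, 46, 47, 48, 49, 50, 39, 40, 41, 42, 43, 44, 45, 46, 47, 48, 49,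 33, 34, 35, 36, 37, 38, 39, 40, 41, 42, 43, 44, 45, 46, 47, 48, 26, 27, 28, 29, 30, 31, 32, 33, 34, 35, 36, 37, 38, 39, 40, 41, 42, 43, 44, 45, 46, 47, 18, 19, 20, 21, 22, 23, 24, 25, 26, 27, 28, 29, 30, 31, 32, 33, 34, 35, 36, 37, 38, 39, 40, 41, 42, 43, 44, 45, 46, 9, 10, 11, 12, 13, 14, 15, 16, 17, 18, 19, 20, 21, 22, 23, 24, 25, 26, 27, 28, 29, 30, 31, 32, 33, 34, 35, 36, 37, 38, 39, 40, 41, 42, 43, 44, 45, 44, 43, 41, 42, 38, 39, 40, 41, 34, 35, 36, 37, 38, 39, 40, 29, 30, 31, 32, 33, 34, 35, 36, 37, 38, 39, 23, 24, 25, 26, 27, 28, 29, 30, 31, 32, 33, 34, 35, 36, 37, 38, 16, 17, 18, 19, 20, 21, 22, 23, 24, 25, 26, 27, 28, 29, 30, 31, 32, 33, 34, 35, 36, 37, 8, 9, 10, 11, 12, 13, 14, 15, 16, 17, 18, 19, 20, 21, 22, 23, 24, 25, 26, 27, 28, 29, 30, 31, 32, 33, 34, 35, 36, 35, 34, 32, 33, 29, 30, 31, 32, 25, 26,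 27, 28, 29, 30, 31, 20, 21, 22, 23, 24, 25, 26, 27, 28, 29, 30, 14, 15, 16, 17, 18, 19, 20, 21, 22, 23, 24, 25, 26, 27, 28, 29, 7, 8, 9, 10, 11, 12, 13, 14, 15, 16, 17, 18, 19, 20, 21, 22, 23, 24, 25, 26, 27, 28, 27, 26, 24, 25, 21, 22, 23, 24, 17, 18, 19, 20, 21, 22, 23, 12, 13, 14, 15, 16, 17, 18, 19, 20, 21, 22, 6, 7, 8, 9, 10, 11, 12, 13, 14, 15, 16, 17, 18, 19, 20, 21, 20, 19, 17, 18, 14, 15, 16, 17, 10, 11, 12, 13, 14, 15, 16, 5, 6, 7, 8, 9, 10, 11, 12, 13, 14, 15, 14, 13, 11, 12, 8, 9, 10, 11, 4, 5, 6, 7, 8, 9, 10, 9, 8, 6, 7, 3, 4, 5, 6, 5, 4, 2, 3, 2, 1, 0] (l := RHO ++ RHO) (r := []) (by decide +kernel) (by decide +kernel) (by decide +kernel)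
  simpa only [vl_append, vl_one, vl_nil, mul_assoc] using this

theorem c_a (h : Cx F) : vl F RHO * F .a = F .a * vl F RHO := by
  have := h.eq [20, 21, 22, 23, 24, 25, 27, 28, 29, 30, 31, 32, 34, 35, 36, 37, 38, 39, 40, 42, 43, 44, 45, 46, 47, 48, 49, 51, 52, 53, 54, 55, 56, 57, 58, 59, 61, 62, 63, 64, 65, 64, 63, 62, 61, 60, 59, 58, 57, 56, 55, 54, 53, 52, 51, 50, 49, 48, 47, 46, 45, 44, 43, 42, 41, 40, 39, 38, 37, 36, 35, 34, 33, 32, 31, 30, 29, 28, 27, 26, 25, 24, 23, 22, 21, 20, 14, 15, 16, 17, 18, 20, 13, 14, 15, 16, 18, 19, 12, 13, 14, 16, 17, 18, 11, 12, 14, 15, 16, 17, 10, 12, 13, 14, 15, 16, 15, 14, 13, 12, 11, 9, 10, 8, 9, 7, 8, 6, 7, 5, 6, 4, 5, 3, 4, 2, 3, 1, 2, 0, 1, 0] (l := RHO ++ [.a]) (r := [.a] ++ RHO) (by decide +kernel) (by decide +kernel) (by decide +kernel)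
  simpa only [vl_append, vl_one, vl_nil, mul_assoc] using this

theorem c_b1 (h : Cx F) : vl F RHO * F .b1 = F .b2 * vl F RHO := by
  have := h.eq [14, 15, 16, 17, 18, 20, 21, 22, 23, 24, 26, 27, 28, 29, 30, 31, 33, 34, 35, 36, 37, 38, 39, 41, 42, 43, 44, 45, 46, 47, 48, 50, 51, 52, 53, 54, 55, 56, 57, 58, 60, 61, 62, 63, 64, 65, 64, 63, 62, 61, 60, 59, 58, 57, 56, 55, 54, 53, 52, 51, 50, 49, 48, 47, 46, 45, 44, 43, 42, 41, 40, 39, 38, 37, 36, 35, 34, 33, 32, 31, 30, 29, 28, 27, 26, 25, 24, 23, 22, 21, 20, 19, 18, 17, 16, 15, 14, 9, 10, 11, 12, 14, 8, 9, 10, 12, 13, 7, 8, 10, 11, 12, 6, 8, 9, 10, 11, 10, 9, 8, 7, 5, 6, 4, 5, 3, 4, 2, 3, 1, 2, 0, 1, 0] (l := RHO ++ [.b1]) (r := [.b2] ++ RHO) (by decide +kernel) (by decide +kernel) (by decide +kernel)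
  simpa only [vl_append, vl_one, vl_nil, mul_assoc] using this

theorem c_c1 (h : Cx F) : vl F RHO * F .c1 = F .c2 * vl F RHO := by
  have := h.eq [9, 10, 11, 12, 14, 15, 16, 17, 19, 20, 21, 22, 23, 25, 26, 27, 28, 29, 30, 32, 33, 34, 35, 36, 37, 38, 40, 41, 42, 43, 44, 45, 46, 47, 49, 50, 51, 52, 53, 54, 55, 56, 57, 59, 60, 61, 62, 63, 64, 65, 64, 63, 62, 61, 60, 59, 58, 57, 56, 55, 54, 53, 52, 51, 50, 49, 48, 47, 46, 45, 44, 43, 42, 41, 40, 39, 38, 37, 36, 35, 34, 33, 32, 31, 30, 29, 28, 27, 26, 25, 24, 23, 22, 21, 20, 19, 18, 17, 16, 15, 14, 13, 12, 11, 10, 9, 5, 6, 7, 9, 4, 5, 7, 8, 3, 5, 6, 7, 6, 5, 4, 2, 3, 1, 2, 0, 1, 0] (l := RHO ++ [.c1]) (r := [.c2] ++ RHO) (by decide +kernel) (by decide +kernel) (by decide +kernel)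
  simpa only [vl_append, vl_one, vl_nil, mul_assoc] using this

theorem c_d1 (h : Cx F) : vl F RHO * F .d1 = F .d2 * vl F RHO := by
  have := h.eq [5, 6, 7, 9, 10, 11, 13, 14, 15, 16, 18, 19, 20, 21, 22, 24, 25, 26, 27, 28, 29, 31, 32, 33, 34, 35, 36, 37, 39, 40, 41, 42, 43, 44, 45, 46, 48, 49, 50, 51, 52, 53, 54, 55, 56, 58, 59, 60, 61, 62, 63, 64, 65, 64, 63, 62, 61, 60, 59, 58, 57, 56, 55, 54, 53, 52, 51, 50, 49, 48, 47, 46, 45, 44, 43, 42, 41, 40, 39, 38, 37, 36, 35, 34, 33, 32, 31, 30, 29, 28, 27, 26, 25, 24, 23, 22, 21, 20, 19, 18, 17, 16, 15, 14, 13, 12, 11, 10, 9, 8, 7, 6, 5, 2, 3, 5, 1, 3, 4, 3, 2, 0, 1, 0] (l := RHO ++ [.d1]) (r := [.d2] ++ RHO) (by decide +kernel) (by decide +kernel) (by decide +kernel)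
  simpa only [vl_append, vl_one, vl_nil, mul_assoc] using this

theorem c_e1 (h : Cx F) : vl F RHO * F .e1 = F .e2 * vl F RHO := by
  have := h.eq [2, 3, 5, 6, 8, 9, 10, 12, 13, 14, 15, 17, 18, 19, 20, 21, 23, 24, 25, 26, 27, 28, 30, 31, 32, 33, 34, 35, 36, 38, 39, 40, 41, 42, 43, 44, 45, 47, 48, 49, 50, 51, 52, 53, 54, 55, 57, 58, 59, 60, 61, 62, 63, 64, 65, 64, 63, 62, 61, 60, 59, 58, 57, 56, 55, 54, 53, 52, 51, 50, 49, 48, 47, 46, 45, 44, 43, 42, 41, 40, 39, 38, 37, 36, 35, 34, 33, 32, 31, 30, 29, 28, 27, 26, 25, 24, 23, 22, 21, 20, 19, 18, 17, 16, 15, 14, 13, 12, 11, 10, 9, 8, 7, 6, 5, 4, 3, 2, 0, 2, 1, 0] (l := RHO ++ [.e1]) (r := [.e2] ++ RHO) (by decide +kernel) (by decide +kernel) (by decide +kernel)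
  simpa only [vl_append, vl_one, vl_nil, mul_assoc] using this

theorem c_f1 (h : Cx F) : vl F RHO * F .f1 = F .f2 * vl F RHO := by
  have := h.eq [0, 2, 4, 5, 7, 8, 9, 11, 12, 13, 14, 16, 17, 18, 19, 20, 22, 23, 24, 25, 26, 27, 29, 30, 31, 32, 33, 34, 35, 37, 38, 39, 40, 41, 42, 43, 44, 46, 47, 48, 49, 50, 51, 52, 53, 54, 56, 57, 58, 59, 60, 61, 62, 63, 64, 65, 64, 63, 62, 61, 60, 59, 58, 57, 56, 55, 54, 53, 52, 51, 50, 49, 48, 47, 46, 45, 44, 43, 42, 41, 40, 39, 38, 37, 36, 35, 34, 33, 32, 31, 30, 29, 28, 27, 26, 25, 24, 23, 22, 21, 20, 19, 18, 17, 16, 15, 14, 13, 12, 11, 10, 9, 8, 7, 6, 5, 4, 3, 2, 1, 0, 0] (l := RHO ++ [.f1]) (r := [.f2] ++ RHO) (by decide +kernel) (by decide +kernel) (by decide +kernel)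
  simpa only [vl_append, vl_one, vl_nil, mul_assoc] using this

theorem c_b2 (h : Cx F) : vl F RHO * F .b2 = F .b1 * vl F RHO := by
  have := h.eq [27, 28, 29, 30, 31, 32, 33, 35, 36, 37, 38, 39, 40, 41, 43, 44, 45, 46, 47, 48, 49, 50, 52, 53, 54, 55, 56, 57, 58, 59, 60, 62, 63, 64, 65, 64, 63, 62, 61, 60, 59, 58, 57, 56, 55, 54, 53, 52, 51, 50, 49, 48, 47, 46, 45, 44, 43, 42, 41, 40, 39, 38, 37, 36, 35, 34, 33, 32, 31, 30, 29, 28, 27, 20, 21, 22, 23, 24, 25, 27, 19, 20, 21, 22, 23, 25, 26, 18, 19, 20, 21, 23, 24, 25, 17, 18, 19, 21, 22, 23, 24, 16, 17, 19, 20, 21, 22, 23, 15, 17, 18, 19, 20, 21, 22, 21, 20, 19, 18, 17, 16, 14, 15, 13, 14, 12, 13, 11, 12, 10, 11, 9, 10, 8, 9, 7, 8, 6, 7, 5, 6, 4, 5, 3, 4, 2, 3, 1, 2, 0, 1, 0] (l := RHO ++ [.b2]) (r := [.b1] ++ RHO) (by decide +kernel) (by decide +kernel) (by decide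 +kernel)
  simpa only [vl_append, vl_one, vl_nil, mul_assoc] using this

theorem c_c2 (h : Cx F) : vl F RHO * F .c2 = F .c1 * vl F RHO := by
  have := h.eq [35, 36, 37, 38, 39, 40, 41, 42, 44, 45, 46, 47, 48, 49, 50, 51, 53, 54, 55, 56, 57, 58, 59, 60, 61, 63, 64, 65, 64, 63, 62, 61, 60, 59, 58, 57, 56, 55, 54, 53, 52, 51, 50, 49, 48, 47, 46, 45, 44, 43, 42, 41, 40, 39, 38, 37, 36, 35, 27, 28, 29, 30, 31, 32, 33, 35, 26, 27, 28, 29, 30, 31, 33, 34, 25, 26, 27, 28, 29, 31, 32, 33, 24, 25, 26, 27, 29, 30, 31, 32, 23, 24, 25, 27, 28, 29, 30, 31, 22, 23, 25, 26, 27, 28, 29, 30, 21, 23, 24, 25, 26, 27, 28, 29, 28, 27, 26, 25, 24, 23, 22, 20, 21, 19, 20, 18, 19, 17, 18, 16, 17, 15, 16, 14, 15, 13, 14, 12, 13, 11, 12, 10, 11, 9, 10, 8, 9, 7, 8, 6, 7, 5, 6, 4, 5, 3, 4, 2, 3, 1, 2, 0, 1, 0] (l := RHO ++ [.c2]) (r := [.c1]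 ++ RHO) (by decide +kernel) (by decide +kernel) (by decide +kernel)
  simpa only [vl_append, vl_one, vl_nil, mul_assoc] using this

theorem c_d2 (h : Cx F) : vl F RHO * F .d2 = F .d1 * vl F RHO := by
  have := h.eq [44, 45, 46, 47, 48, 49, 50, 51, 52, 54, 55, 56, 57, 58, 59, 60, 61, 62, 64, 65, 64, 63, 62, 61, 60, 59, 58, 57, 56, 55, 54, 53, 52, 51, 50, 49, 48, 47, 46, 45, 44, 35, 36, 37, 38, 39, 40, 41, 42, 44, 34, 35, 36, 37, 38, 39, 40, 42, 43, 33, 34, 35, 36, 37, 38, 40, 41, 42, 32, 33, 34, 35, 36, 38, 39, 40, 41, 31, 32, 33, 34, 36, 37, 38, 39, 40, 30, 31, 32, 34, 35, 36, 37, 38, 39, 29, 30, 32, 33, 34, 35, 36, 37, 38, 28, 30, 31, 32, 33, 34, 35, 36, 37, 36, 35, 34, 33, 32, 31, 30, 29, 27, 28, 26, 27, 25, 26, 24, 25, 23, 24, 22, 23, 21, 22, 20, 21, 19, 20, 18, 19, 17, 18, 16, 17, 15, 16, 14, 15, 13, 14, 12,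 13, 11, 12, 10, 11, 9, 10, 8, 9, 7, 8, 6, 7, 5, 6, 4, 5, 3, 4, 2, 3, 1, 2, 0, 1, 0] (l := RHO ++ [.d2]) (r := [.d1] ++ RHO) (by decide +kernel) (by decide +kernel) (by decide +kernel)
  simpa only [vl_append, vl_one, vl_nil, mul_assoc] using this

theorem c_e2 (h : Cx F) : vl F RHO * F .e2 = F .e1 * vl F RHO := by
  have := h.eq [54, 55, 56, 57, 58, 59, 60, 61, 62, 63, 65, 64, 63, 62, 61, 60, 59, 58, 57, 56, 55, 54, 44, 45, 46, 47, 48, 49, 50, 51, 52, 54, 43, 44, 45, 46, 47, 48, 49, 50, 52, 53, 42, 43, 44, 45, 46, 47, 48, 50, 51, 52, 41, 42, 43, 44, 45, 46, 48, 49, 50, 51, 40, 41, 42, 43, 44, 46, 47, 48, 49, 50, 39, 40, 41, 42, 44, 45, 46, 47, 48, 49, 38, 39, 40, 42, 43, 44, 45, 46, 47, 48, 37, 38, 40, 41, 42, 43, 44, 45, 46, 47, 36, 38, 39, 40, 41, 42, 43, 44, 45, 46, 45, 44, 43, 42, 41, 40, 39, 38, 37, 35, 36,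 34, 35, 33, 34, 32, 33, 31, 32, 30, 31, 29, 30, 28, 29, 27, 28, 26, 27, 25, 26, 24, 25, 23, 24, 22, 23, 21, 22, 20, 21, 19, 20, 18, 19, 17, 18, 16, 17, 15, 16, 14, 15, 13, 14, 12, 13, 11, 12, 10, 11, 9, 10, 8, 9, 7, 8, 6, 7, 5, 6, 4, 5, 3, 4, 2, 3, 1, 2, 0, 1, 0] (l := RHO ++ [.e2]) (r := [.e1] ++ RHO) (by decide +kernel) (by decide +kernel) (by decide +kernel)
  simpa only [vl_append, vl_one, vl_nil, mul_assoc] using this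

theorem c_f2 (h : Cx F) : vl F RHO * F .f2 = F .f1 * vl F RHO := by
  have := h.eq [65, 54, 55, 56, 57, 58, 59, 60, 61, 62, 63, 65, 53, 54, 55, 56, 57, 58, 59, 60, 61, 63, 64, 52, 53, 54, 55, 56, 57, 58, 59, 61, 62, 63, 51, 52, 53, 54, 55, 56, 57, 59, 60, 61, 62, 50, 51, 52, 53, 54, 55, 57, 58, 59, 60, 61, 49, 50, 51, 52, 53, 55, 56, 57, 58, 59, 60, 48, 49, 50, 51, 53, 54, 55, 56, 57, 58, 59, 47, 48, 49, 51, 52, 53, 54, 55, 56, 57, 58, 46, 47, 49, 50, 51, 52, 53, 54, 55, 56, 57, 45, 47, 48, 49, 50, 51, 52, 53, 54, 55, 56, 55, 54, 53, 52, 51, 50, 49, 48, 47, 46, 44, 45, 43, 44, 42, 43, 41, 42, 40, 41, 39, 40, 38, 39, 37, 38, 36, 37, 35, 36, 34, 35, 33, 34, 32, 33, 31, 32, 30, 31, 29, 30, 28, 29, 27, 28, 26, 27, 25, 26, 24, 25, 23, 24, 22, 23, 21, 22, 20, 21, 19, 20, 18, 19, 17, 18, 16, 17, 15, 16, 14, 15, 13, 14,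 12, 13, 11, 12, 10, 11, 9, 10, 8, 9, 7, 8, 6, 7, 5, 6, 4, 5, 3, 4, 2, 3, 1, 2, 0, 1, 0] (l := RHO ++ [.f2]) (r := [.f1] ++ RHO) (by decide +kernel) (by decide +kernel) (by decide +kernel)
  simpa only [vl_append, vl_one, vl_nil, mul_assoc] using this

theorem c_c3 (h : Cx F) : vl F RHO * F .c3 = F .c3 * vl F RHO := by
  have := h.eq [65, 66, 64, 65, 63, 64, 62, 63, 61, 62, 60, 61, 59, 60, 58, 59, 57, 58, 56, 57, 55, 56, 54, 55, 53, 54, 52, 53, 51, 52, 50, 51, 49, 50, 48, 49, 47, 48, 46, 47, 45, 46, 44, 45, 43, 44, 42, 43, 41, 42, 40, 41, 39, 40, 38, 39, 37, 38, 36, 37, 35, 36, 34, 35, 33, 34, 32, 33, 31, 32, 30, 31, 29, 30, 28, 29, 27, 28, 26, 27, 25, 26, 24, 25, 23, 24, 22, 23, 21, 22, 20, 21, 19, 20, 18, 19, 17, 18, 16, 17, 15, 16, 14, 15, 13, 14, 12, 13, 11, 12, 10, 11, 9, 10, 8, 9, 7, 8, 6, 7, 5, 6, 4, 5, 3,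 4, 2, 3, 1, 2, 0, 1, 0] (l := RHO ++ [.c3]) (r := [.c3] ++ RHO) (by decide +kernel) (by decide +kernel) (by decide +kernel)
  simpa only [vl_append, vl_one, vl_nil, mul_assoc] using this

theorem c_d3 (h : Cx F) : vl F RHO * F .d3 = F .d3 * vl F RHO := by
  have := h.eq [65, 66, 64, 65, 63, 64, 62, 63, 61, 62, 60, 61, 59, 60, 58, 59, 57, 58, 56, 57, 55, 56, 54, 55, 53, 54, 52, 53, 51, 52, 50, 51, 49, 50, 48, 49, 47, 48, 46, 47, 45, 46, 44, 45, 43, 44, 42, 43, 41, 42, 40, 41, 39, 40, 38, 39, 37, 38, 36, 37, 35, 36, 34, 35, 33, 34, 32, 33, 31, 32, 30, 31, 29, 30, 28, 29, 27, 28, 26, 27, 25, 26, 24, 25, 23, 24, 22, 23, 21, 22, 20, 21, 19, 20, 18, 19, 17, 18, 16, 17, 15, 16, 14, 15, 13, 14, 12, 13, 11, 12, 10, 11, 9, 10, 8, 9, 7, 8, 6, 7, 5, 6, 4, 5, 3, 4, 2, 3, 1, 2, 0, 1, 0] (l := RHO ++ [.d3]) (r := [.d3] ++ RHO)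 (by decide +kernel) (by decide +kernel) (by decide +kernel)
  simpa only [vl_append, vl_one, vl_nil, mul_assoc] using this

theorem c_f3 (h : Cx F) : vl F RHO * F .f3 = F .f3 * vl F RHO := by
  have := h.eq [65, 66, 64, 65, 63, 64, 62, 63, 61, 62, 60, 61, 59, 60, 58, 59, 57, 58, 56, 57, 55, 56, 54, 55, 53, 54, 52, 53, 51, 52, 50, 51, 49, 50, 48, 49, 47, 48, 46, 47, 45, 46, 44, 45, 43, 44, 42, 43, 41, 42, 40, 41, 39, 40, 38, 39, 37, 38, 36, 37, 35, 36, 34, 35, 33, 34, 32, 33, 31, 32, 30, 31, 29, 30, 28, 29, 27, 28, 26, 27, 25, 26, 24, 25, 23, 24, 22, 23, 21, 22, 20, 21, 19, 20, 18, 19, 17, 18, 16, 17, 15, 16, 14, 15, 13, 14, 12, 13, 11, 12, 10, 11, 9, 10, 8, 9, 7, 8, 6, 7, 5, 6, 4, 5, 3, 4, 2, 3, 1, 2, 0, 1, 0] (l := RHO ++ [.f3]) (r := [.f3] ++ RHO) (by decide +kernel) (by decide +kernel) (by decide +kernel)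
  simpa only [vl_append, vl_one, vl_nil, mul_assoc] using this

theorem c_x1 (h : Cx F) : F .e1 * vl F E12 = vl F E12 * vl F X1 := by
  have := h.eq [54, 53, 54, 52, 53, 54, 55, 51, 50, 51, 48, 46, 48, 49, 51, 52, 54, 50, 52, 53, 54, 55, 56, 52, 47, 49, 50, 51, 52, 54, 55, 50, 48, 49, 50, 52, 53, 44, 46, 47, 48, 45, 43, 44, 45, 47, 48, 50, 51, 41, 43, 44, 45, 38, 39, 37, 38, 39, 41, 42, 43, 44, 45, 41, 38, 39, 40, 41, 43, 39, 36, 37, 38, 39, 41, 42, 43, 45, 46, 48, 49, 50, 51, 53, 55, 50, 51, 52, 53, 54, 55, 49, 50, 47, 49, 50, 52, 53, 54, 55, 56, 52, 49, 50, 44, 46, 47, 48, 49, 50, 52, 54, 55, 49, 50, 47, 45, 46, 47, 49, 50, 52, 42, 43, 40, 42, 43, 45, 46, 47, 48, 36, 33, 34, 35, 36, 38, 34, 32, 33, 34, 36, 37, 38, 40, 41, 42, 43, 40, 41, 39, 32, 31, 32, 34, 35, 36, 37, 38, 39, 41, 43, 44, 46, 47, 48, 50, 51,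 52, 54, 51, 52, 47, 48, 49, 50, 51, 52, 54, 55, 51, 52, 53, 54, 48, 46, 45, 46, 48, 49, 51, 52, 53, 54, 47, 49, 50, 51, 42, 44, 45, 40, 41, 42, 44, 45, 47, 48, 49, 35, 34, 35, 37, 38, 39, 36, 33, 34, 35, 36, 38, 39, 41, 42, 43, 30, 31, 28, 30, 31, 33, 34, 35, 36, 38, 39, 41, 42, 43, 45, 46, 47, 48, 49, 51, 53, 48, 49, 50, 51, 52, 47, 48, 49, 50, 51, 52, 48, 49, 51, 52, 46, 44, 46, 48, 49, 50, 51, 45, 46, 48, 41, 42, 40, 41, 42, 44, 37, 38, 32, 29, 30, 31, 32, 34, 35, 36, 37, 38, 40, 41, 42, 44, 46, 47, 48, 50, 47, 48, 49, 50, 48, 49, 50, 45, 47, 48, 49, 46, 47, 43, 44, 45, 39, 40, 41, 42, 43, 33, 34, 35, 36, 37, 38, 39, 40, 41, 42, 43, 45, 47, 49, 48, 49, 46, 44, 45, 46, 48, 49, 51, 52, 53, 50, 51, 52, 47, 48, 49, 50, 51, 52, 54, 55, 53, 54, 55, 56, 57, 58, 27, 28, 29, 30, 31, 32, 33, 34, 35, 36, 37, 38, 39, 40,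 41, 42, 43, 44, 45, 46, 47, 48, 49, 50, 51, 52, 53, 54, 55, 56, 57, 58, 59, 60, 61, 62, 63, 62, 61, 60, 59, 58, 57, 25, 27, 28, 29, 26, 24, 25, 26, 28, 29, 31, 32, 33, 34, 35, 36, 37, 38, 39, 40, 30, 31, 32, 33, 27, 28, 29, 23, 20, 21, 22, 23, 25, 26, 27, 21, 19, 20, 21, 23, 24, 19, 15, 16, 17, 18, 19, 21, 22, 23, 24, 26, 27, 29, 31, 32, 33, 35, 36, 37, 38, 39, 40, 42, 43, 34, 35, 30, 28, 25, 26, 27, 28, 30, 32, 33, 22, 23, 24, 21, 20, 21, 23, 24, 26, 27, 28, 17, 18, 15, 17, 18, 14, 15, 16, 12, 14, 15, 16, 18, 19, 21, 22, 23, 24, 21, 22, 20, 11, 12, 13, 14, 9, 11, 12, 13, 14, 16, 17, 18, 19, 20, 22, 24, 25, 27, 28, 30, 31, 32, 33, 35, 37, 38, 39, 40, 42, 43, 45, 46, 47, 48, 49, 44, 34, 35, 30, 27, 28, 29, 30, 28, 26, 27, 28, 30, 31, 33, 23, 25, 16, 12, 13, 14, 11, 12, 13, 14, 16, 17, 19, 20, 21, 15, 17, 13, 10,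 11, 12, 13, 15, 16, 17, 19, 20, 21, 23, 24, 25, 19, 20, 21, 22, 7, 5, 7, 8, 10, 11, 6, 8, 4, 3, 4, 6, 7, 8, 10, 11, 13, 14, 15, 16, 17, 19, 20, 22, 23, 25, 26, 28, 29, 30, 31, 33, 35, 36, 38, 39, 40, 42, 43, 44, 46, 47, 48, 49, 51, 52, 53, 54, 55, 56, 55, 54, 53, 52, 50, 51, 50, 49, 48, 45, 46, 47, 46, 45, 44, 43, 42, 41, 40, 37, 38, 39, 34, 36, 37, 38, 37, 28, 30, 31, 27, 28, 30, 31, 33, 34, 35, 36, 35, 34, 30, 31, 32, 33, 31, 32, 31, 24, 26, 27, 28, 29, 30, 29, 15, 16, 17, 13, 15, 16, 17, 19, 20, 21, 22, 12, 13, 15, 16, 17, 19, 20, 21, 22, 24, 25, 26, 27, 28, 27, 24, 25, 26, 25, 19, 21, 22, 23, 24, 22, 23, 22, 21, 20, 18, 19, 15, 16, 17, 18, 17, 16, 7, 8, 9, 5, 7, 8, 9, 11, 12, 13, 14, 15, 14, 13, 12, 10, 11, 7, 8, 9, 10, 9, 8, 7, 6, 2, 3, 4, 5, 4, 3, 1, 2, 1, 0] (l := [.e1] ++ E12) (r := E12 ++ X1) (by decide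 +kernel) (by decide +kernel) (by decide +kernel)
  simpa only [vl_append, vl_one, vl_nil, mul_assoc] using this

theorem c_x2 (h : Cx F) : F .e2 * vl F E21 = vl F E21 * vl F X2 := by
  have := h.eq [54, 53, 54, 52, 53, 54, 55, 51, 50, 51, 48, 46, 48, 49, 51, 52, 54, 50, 52, 53, 54, 55, 56, 52, 47, 49, 50, 51, 52, 54, 55, 50, 48, 49, 50, 52, 53, 44, 46, 47, 48, 45, 43, 44, 45, 47, 48, 50, 51, 41, 43, 44, 45, 38, 39, 37, 38, 39, 41, 42, 43, 44, 45, 41, 38, 39, 40, 41, 43, 39, 36, 37, 38, 39, 41, 42, 43, 45, 46, 48, 49, 50, 51, 53, 55, 50, 51, 52, 53, 54, 55, 49, 50, 47, 49, 50, 52, 53, 54, 55, 56, 52, 49, 50, 44, 46, 47, 48, 49, 50, 52, 54, 55, 49, 50, 47, 45, 46, 47, 49, 50, 52, 42, 43, 40, 42, 43, 45, 46, 47, 48, 36, 33, 34, 35, 36, 38, 34, 32, 33, 34, 36, 37, 38, 40, 41, 42, 43, 40, 41, 39, 32, 31, 32, 34, 35,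 36, 37, 38, 39, 41, 43, 44, 46, 47, 48, 50, 51, 52, 54, 51, 52, 47, 48, 49, 50, 51, 52, 54, 55, 51, 52, 53, 54, 48, 46, 45, 46, 48, 49, 51, 52, 53, 54, 47, 49, 50, 51, 42, 44, 45, 40, 41, 42, 44, 45, 47, 48, 49, 35, 34, 35, 37, 38, 39, 36, 33, 34, 35, 36, 38, 39, 41, 42, 43, 30, 31, 28, 30, 31, 33, 34, 35, 36, 38, 39, 41, 42, 43, 45, 46, 47, 48, 49, 51, 53, 48, 49, 50, 51, 52, 47, 48, 49, 50, 51, 52, 48, 49, 51, 52, 46, 44, 46, 48, 49, 50, 51, 45, 46, 48, 41, 42, 40, 41, 42, 44, 37, 38, 32, 29, 30, 31, 32, 34, 35, 36, 37, 38, 40, 41, 42, 44, 46, 47, 48, 50, 47, 48, 49, 50, 48, 49, 50, 45, 47, 48, 49, 46, 47, 43, 44, 45, 39, 40, 41, 42, 43, 33, 34, 35, 36, 37, 38, 39, 40, 41, 42, 43, 45, 47, 49, 48, 49, 46, 44, 45, 46, 48, 49, 51, 52, 53, 50, 51, 52, 47, 48, 49, 50, 51, 52, 54, 55, 53, 54, 55, 56, 57, 58, 27, 28,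 29, 30, 31, 32, 33, 34, 35, 36, 37, 38, 39, 40, 41, 42, 43, 44, 45, 46, 47, 48, 49, 50, 51, 52, 53, 54, 55, 56, 57, 58, 59, 60, 61, 62, 63, 62, 61, 60, 59, 58, 57, 25, 27, 28, 29, 26, 24, 25, 26, 28, 29, 31, 32, 33, 34, 35, 36, 37, 38, 39, 40, 30, 31, 32, 33, 27, 28, 29, 23, 20, 21, 22, 23, 25, 26, 27, 21, 19, 20, 21, 23, 24, 19, 15, 16, 17, 18, 19, 21, 22, 23, 24, 26, 27, 29, 31, 32, 33, 35, 36, 37, 38, 39, 40, 42, 43, 34, 35, 30, 28, 25, 26, 27, 28, 30, 32, 33, 22, 23, 24, 21, 20, 21, 23, 24, 26, 27, 28, 17, 18, 15, 17, 18, 14, 15, 16, 12, 14, 15, 16, 18, 19, 21, 22, 23, 24, 21, 22, 20, 11, 12, 13, 14, 9, 11, 12, 13, 14, 16, 17, 18, 19, 20, 22, 24, 25, 27, 28, 30, 31, 32, 33, 35, 37, 38, 39, 40, 42, 43, 45, 46, 47, 48, 49, 44, 34, 35, 30, 27, 28, 29, 30, 28, 26, 27, 28, 30, 31, 33, 23, 25, 16, 12, 13, 14, 11,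 12, 13, 14, 16, 17, 19, 20, 21, 15, 17, 13, 10, 11, 12, 13, 15, 16, 17, 19, 20, 21, 23, 24, 25, 19, 20, 21, 22, 7, 5, 7, 8, 10, 11, 6, 8, 4, 3, 4, 6, 7, 8, 10, 11, 13, 14, 15, 16, 17, 19, 20, 22, 23, 25, 26, 28, 29, 30, 31, 33, 35, 36, 38, 39, 40, 42, 43, 44, 46, 47, 48, 49, 51, 52, 53, 54, 55, 56, 55, 54, 53, 52, 50, 51, 50, 49, 48, 45, 46, 47, 46, 45, 44, 43, 42, 41, 40, 37, 38, 39, 34, 36, 37, 38, 37, 28, 30, 31, 27, 28, 30, 31, 33, 34, 35, 36, 35, 34, 30, 31, 32, 33, 31, 32, 31, 24, 26, 27, 28, 29, 30, 29, 15, 16, 17, 13, 15, 16, 17, 19, 20, 21, 22, 12, 13, 15, 16, 17, 19, 20, 21, 22, 24, 25, 26, 27, 28, 27, 24, 25, 26, 25, 19, 21, 22, 23, 24, 22, 23, 22, 21, 20, 18, 19, 15, 16, 17, 18, 17, 16, 7, 8, 9, 5, 7, 8, 9, 11, 12, 13, 14, 15, 14, 13, 12, 10, 11, 7, 8, 9, 10, 9, 8, 7, 6, 2, 3, 4, 5, 4, 3, 1, 2, 1, 0]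 (l := [.e2] ++ E21) (r := E21 ++ X2) (by decide +kernel) (by decide +kernel) (by decide +kernel)
  simpa only [vl_append, vl_one, vl_nil, mul_assoc] using this

theorem c_m1 (h : Cx F) : F .b3 * vl F MM3 * vl F G1 = vl F G1 * F .f1 * F .e1 * F .f1 * (vl F X1)⁻¹ := by
  have := h.eq [57, 58, 59, 60, 61, 54, 55, 57, 58, 59, 60, 53, 54, 55, 57, 58, 59, 52, 53, 54, 55, 57, 58, 51, 52, 53, 54, 55, 57, 56, 57, 58, 59, 60, 61, 50, 51, 52, 53, 54, 55, 56, 57, 58, 59, 60, 61, 63, 62, 63, 64, 65, 64, 60, 61, 62, 63, 59, 60, 61, 62, 61, 58, 59, 60, 57, 58, 59, 58, 56, 57, 55, 56, 55, 49, 50, 51, 52, 53, 54, 48, 49, 50, 51, 52, 53, 52, 47, 48, 49, 50, 51, 46, 47, 48, 49, 50, 49, 45, 46, 47, 48, 44, 45, 46, 47, 43, 44, 45, 46, 45, 42, 43, 44, 41, 42, 43, 40, 41, 42, 39, 40, 41, 33, 34, 35, 36, 37, 38, 39, 40, 39, 37, 38, 36,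 37, 35, 36, 34, 35, 32, 33, 34, 33, 26, 28, 29, 30, 31, 32, 25, 26, 28, 29, 30, 31, 24, 25, 26, 28, 29, 30, 23, 24, 25, 26, 28, 29, 20, 21, 22, 23, 24, 25, 26, 28, 27, 26, 21, 22, 23, 24, 25, 20, 21, 22, 23, 24, 23, 19, 20, 21, 22, 15, 16, 17, 18, 19, 20, 21, 20, 17, 18, 19, 14, 15, 16, 17, 18, 11, 12, 13, 14, 15, 16, 17, 16, 14, 15, 12, 13, 14, 10, 11, 12, 13, 8, 9, 10, 11, 12, 6, 7, 8, 9, 10, 11, 10, 11, 12, 13, 9, 10, 11, 12, 8, 9, 10, 11, 7, 8, 9, 10, 6, 7, 8, 9, 5, 6, 7, 8, 19, 18, 17, 16, 4, 5, 6, 7, 8, 9, 10, 11, 12, 13, 14, 15, 9, 10, 11, 12, 13, 14, 6, 7, 8, 9, 10, 11, 12, 13, 7, 8, 9, 10, 11, 12, 5, 6, 7, 8, 9, 10, 11, 5, 6, 7, 8, 9, 10, 4, 5, 6, 7, 8, 9, 8, 7, 6, 5, 4, 3, 2, 1, 0] (l := [.b3] ++ (MM3 ++ G1)) (r := G1 ++ ([.f1] ++ ([.e1] ++ ([.f1] ++ X1.reverse)))) (by decide +kernel) (by decide +kernel)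 (by decide +kernel)
  simpa only [vl_append, vl_one, vl_nil, mul_assoc, h.rev (l := X1) (by decide +kernel)] using this

theorem c_m2 (h : Cx F) : vl F MM3 * vl F RAB * vl F G2 = vl F G2 * vl F X2 * F .f2 * F .e2 * F .f2 := by
  have := h.eq [57, 56, 96, 95, 94, 93, 92, 91, 90, 89, 88, 87, 86, 85, 84, 83, 82, 81, 80, 79, 78, 77, 76, 75, 74, 73, 55, 56, 57, 58, 60, 61, 62, 63, 64, 65, 66, 67, 68, 69, 70, 71, 72, 71, 70, 69, 68, 67, 54, 55, 56, 57, 58, 60, 61, 62, 63, 64, 65, 66, 64, 65, 63, 64, 62, 63, 61, 62, 60, 61, 53, 54, 55, 56, 57, 58, 60, 59, 58, 57, 56, 52, 53, 54, 55, 50, 51, 52, 53, 54, 48, 49, 50, 51, 52, 53, 49, 50, 51, 52, 48, 49, 50, 51, 47, 48, 49, 50, 46, 47, 48, 49, 48, 49, 50, 51, 52, 53, 55, 56, 57, 58, 59, 60, 61, 62, 64, 65, 66, 67, 68, 69, 70, 71, 73, 74, 75, 45, 46, 47, 48, 49, 50, 51, 53,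 54, 55, 56, 57, 58, 59, 60, 62, 63, 64, 65, 66, 67, 68, 69, 71, 72, 73, 74, 44, 45, 46, 47, 48, 49, 51, 52, 53, 54, 55, 56, 57, 58, 60, 61, 62, 63, 64, 65, 66, 67, 69, 70, 71, 72, 73, 43, 44, 45, 46, 47, 49, 50, 51, 52, 53, 54, 55, 56, 58, 59, 60, 61, 62, 63, 64, 65, 67, 68, 69, 70, 71, 72, 42, 43, 44, 45, 47, 48, 49, 50, 51, 52, 53, 54, 56, 57, 58, 59, 60, 61, 62, 63, 65, 66, 67, 68, 69, 70, 71, 36, 37, 38, 39, 40, 41, 42, 43, 45, 46, 47, 48, 49, 50, 51, 52, 54, 55, 56, 57, 58, 59, 60, 61, 63, 64, 65, 66, 67, 68, 69, 70, 42, 43, 44, 45, 46, 47, 48, 50, 51, 52, 53, 54, 55, 56, 57, 59, 60, 61, 62, 63, 64, 65, 66, 68, 69, 40, 41, 42, 43, 44, 45, 46, 48, 49, 50, 51, 52, 53, 54, 55, 57, 58, 59, 60, 61, 62, 63, 64, 66, 67, 68, 39, 40, 41, 42, 43, 44, 46, 47, 48, 49, 50, 51, 52, 53, 55, 56, 57, 58, 59, 60, 61, 62, 64,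 65, 66, 67, 38, 39, 40, 41, 42, 44, 45, 46, 47, 48, 49, 50, 51, 53, 54, 55, 56, 57, 58, 59, 60, 62, 63, 64, 65, 66, 37, 38, 39, 40, 42, 43, 44, 45, 46, 47, 48, 49, 51, 52, 53, 54, 55, 56, 57, 58, 60, 61, 62, 63, 64, 65, 35, 36, 37, 38, 40, 41, 42, 43, 44, 45, 46, 47, 49, 50, 51, 52, 53, 54, 55, 56, 58, 59, 60, 61, 62, 63, 64, 36, 37, 38, 39, 40, 41, 42, 43, 45, 46, 47, 48, 49, 50, 51, 52, 54, 55, 56, 57, 58, 59, 60, 61, 63, 29, 31, 32, 33, 34, 35, 36, 37, 38, 39, 40, 41, 43, 44, 45, 46, 47, 48, 49, 50, 52, 53, 54, 55, 56, 57, 58, 59, 61, 62, 28, 29, 31, 32, 33, 34, 35, 36, 37, 38, 39, 41, 42, 43, 44, 45, 46, 47, 48, 50, 51, 52, 53, 54, 55, 56, 57, 59, 60, 61, 27, 28, 29, 31, 32, 33, 34, 35, 36, 37, 39, 40, 41, 42, 43, 44, 45, 46, 48, 49, 50, 51, 52, 53, 54, 55, 57, 58, 59, 60, 26, 27, 28, 29, 31, 32, 33, 34, 35,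 37, 38, 39, 40, 41, 42, 43, 44, 46, 47, 48, 49, 50, 51, 52, 53, 55, 56, 57, 58, 59, 23, 24, 25, 26, 27, 28, 29, 31, 32, 33, 35, 36, 37, 38, 39, 40, 41, 42, 44, 45, 46, 47, 48, 49, 50, 51, 53, 54, 55, 56, 57, 58, 57, 56, 55, 54, 53, 52, 48, 49, 50, 51, 47, 48, 49, 50, 46, 47, 48, 49, 45, 46, 47, 48, 44, 45, 46, 47, 43, 44, 45, 46, 39, 40, 41, 42, 43, 44, 45, 38, 39, 40, 41, 42, 43, 44, 37, 38, 39, 40, 41, 42, 43, 36, 37, 38, 39, 40, 41, 42, 35, 36, 37, 38, 39, 40, 41, 34, 35, 36, 37, 38, 39, 40, 30, 31, 32, 33, 34, 35, 36, 37, 38, 39, 38, 39, 40, 41, 42, 43, 44, 45, 46, 47, 48, 49, 35, 36, 37, 38, 39, 40, 41, 42, 32, 33, 34, 35, 29, 30, 31, 32, 33, 34, 35, 37, 38, 39, 40, 41, 42, 44, 45, 46, 47, 48, 49, 51, 52, 53, 54, 55, 56, 28, 29, 30, 31, 32, 33, 34, 35, 37, 38, 39, 40, 41, 42, 44, 45, 46, 47, 48, 49, 51, 52,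 53, 54, 55, 27, 28, 29, 30, 31, 32, 33, 34, 35, 37, 38, 39, 40, 41, 42, 44, 45, 46, 47, 48, 49, 51, 52, 53, 54, 26, 27, 28, 29, 30, 31, 32, 33, 34, 35, 37, 38, 39, 40, 41, 42, 44, 45, 46, 47, 48, 49, 51, 52, 53, 25, 26, 27, 28, 29, 30, 31, 32, 33, 34, 35, 37, 38, 39, 40, 41, 42, 44, 45, 46, 47, 48, 49, 51, 52, 2, 3, 4, 5, 6, 7, 8, 9, 10, 11, 12, 13, 14, 15, 16, 17, 18, 19, 20, 21, 22, 23, 24, 25, 26, 27, 28, 29, 30, 31, 32, 33, 34, 35, 37, 38, 39, 40, 41, 42, 44, 45, 46, 47, 48, 49, 51, 29, 30, 31, 32, 33, 34, 35, 36, 37, 38, 39, 40, 41, 42, 27, 28, 29, 30, 31, 32, 33, 34, 25, 26, 23, 24, 25, 26, 28, 29, 30, 31, 32, 33, 34, 36, 37, 38, 39, 40, 41, 42, 44, 45, 46, 47, 48, 49, 50, 21, 22, 23, 24, 25, 26, 28, 29, 30, 31, 32, 33, 34, 36, 37, 38, 39, 40, 41, 42, 44, 45, 46, 47, 48, 49, 20, 21, 22, 23, 24, 25, 26, 28,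 29, 30, 31, 32, 33, 34, 36, 37, 38, 39, 40, 41, 42, 44, 45, 46, 47, 48, 19, 20, 21, 22, 23, 24, 25, 26, 28, 29, 30, 31, 32, 33, 34, 36, 37, 38, 39, 40, 41, 42, 44, 45, 46, 47, 18, 19, 20, 21, 22, 23, 24, 25, 26, 28, 29, 30, 31, 32, 33, 34, 36, 37, 38, 39, 40, 41, 42, 44, 45, 46, 21, 22, 23, 24, 25, 26, 27, 28, 29, 30, 31, 32, 33, 34, 35, 36, 20, 21, 22, 23, 24, 25, 26, 27, 18, 20, 21, 22, 23, 24, 25, 26, 27, 29, 30, 31, 32, 33, 34, 35, 36, 38, 39, 40, 41, 42, 43, 44, 45, 46, 17, 18, 20, 21, 22, 23, 24, 25, 26, 27, 29, 30, 31, 32, 33, 34, 35, 36, 38, 39, 40, 41, 42, 43, 44, 45, 16, 17, 18, 20, 21, 22, 23, 24, 25, 26, 27, 29, 30, 31, 32, 33, 34, 35, 36, 38, 39, 40, 41, 42, 43, 44, 15, 16, 17, 18, 20, 21, 22, 23, 24, 25, 26, 27, 29, 30, 31, 32, 33, 34, 35, 36, 38, 39, 40, 41, 42, 43, 14, 15, 16, 17, 18, 20, 21, 22,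 23, 24, 25, 26, 27, 29, 30, 31, 32, 33, 34, 35, 36, 38, 39, 40, 41, 42, 40, 41, 42, 31, 32, 33, 34, 35, 36, 37, 38, 39, 40, 41, 22, 23, 24, 25, 26, 27, 28, 29, 30, 31, 32, 33, 34, 35, 36, 37, 38, 39, 40, 36, 38, 39, 29, 30, 31, 32, 33, 34, 28, 29, 30, 31, 32, 33, 34, 36, 37, 38, 21, 22, 23, 24, 25, 26, 27, 28, 29, 30, 31, 32, 20, 21, 22, 23, 24, 25, 26, 27, 28, 29, 30, 31, 32, 34, 35, 36, 37, 31, 32, 33, 34, 36, 25, 26, 27, 28, 29, 30, 31, 32, 34, 35, 19, 20, 21, 22, 23, 24, 25, 26, 27, 28, 29, 30, 32, 33, 34, 33, 32, 31, 28, 29, 30, 23, 24, 25, 26, 27, 28, 29, 18, 19, 20, 21, 22, 23, 24, 25, 26, 27, 28, 25, 26, 27, 21, 22, 23, 24, 25, 26, 17, 18, 19, 20, 21, 22, 23, 24, 25, 13, 14, 15, 16, 17, 18, 19, 20, 21, 22, 23, 24, 21, 22, 23, 18, 19, 20, 21, 22, 15, 16, 17, 18, 19, 20, 21, 12, 13, 14, 15, 16, 17, 18, 19,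 20, 11, 12, 13, 14, 15, 16, 17, 18, 19, 16, 17, 18, 14, 15, 16, 17, 12, 13, 14, 15, 16, 10, 11, 12, 13, 14, 15, 9, 10, 11, 12, 13, 14, 6, 7, 8, 9, 10, 11, 12, 13, 10, 11, 12, 9, 10, 11, 8, 9, 10, 7, 8, 9, 6, 7, 8, 5, 6, 7, 4, 5, 6, 3, 1, 3, 5, 4, 2, 3, 0, 1, 2, 1, 0] (l := MM3 ++ (RAB ++ G2)) (r := G2 ++ (X2 ++ ([.f2] ++ ([.e2] ++ [.f2])))) (by decide +kernel) (by decide +kernel) (by decide +kernel)
  simpa only [vl_append, vl_one, vl_nil, mul_assoc] using this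

theorem c_rab (h : Cx F) : vl F RHO * F .b3 = vl F RAB * vl F RHO := by
  have := h.eq [20, 21, 22, 23, 24, 25, 27, 28, 29, 30, 31, 32, 34, 35, 36, 37, 38, 39, 40, 42, 43, 44, 45, 46, 47, 48, 49, 51, 52, 53, 54, 55, 56, 57, 58, 59, 61, 62, 63, 64, 65, 26, 27, 28, 29, 30, 31, 32, 34, 35, 36, 37, 38, 39, 40, 42, 43, 44, 45, 46, 47, 48, 49, 51, 52, 53, 54, 55, 56, 57, 58, 59, 61, 62, 63, 64, 33, 34, 35, 36, 37, 38, 39, 40, 42, 43, 44, 45, 46, 47, 48, 49, 51, 52, 53, 54, 55, 56, 57, 58, 59, 61, 62, 63, 41, 42, 43, 44, 45, 46, 47, 48, 49, 51, 52, 53, 54, 55, 56, 57, 58, 59, 61, 62, 50, 51, 52, 53, 54, 55, 56, 57, 58, 59, 61, 60, 19, 20, 21, 22, 23, 25, 26, 27, 28, 29, 31, 32, 33, 34, 35, 36, 38, 39, 40, 41, 42, 43, 44, 46, 47, 48, 49, 50, 51, 52, 53, 55, 56, 57, 58, 59, 24, 25, 26, 27, 28, 29, 31, 32, 33, 34, 35, 36,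 38, 39, 40, 41, 42, 43, 44, 46, 47, 48, 49, 50, 51, 52, 53, 55, 56, 57, 58, 30, 31, 32, 33, 34, 35, 36, 38, 39, 40, 41, 42, 43, 44, 46, 47, 48, 49, 50, 51, 52, 53, 55, 56, 57, 37, 38, 39, 40, 41, 42, 43, 44, 46, 47, 48, 49, 50, 51, 52, 53, 55, 56, 45, 46, 47, 48, 49, 50, 51, 52, 53, 55, 54, 18, 19, 20, 21, 23, 24, 25, 26, 28, 29, 30, 31, 32, 34, 35, 36, 37, 38, 39, 41, 42, 43, 44, 45, 46, 47, 49, 50, 51, 52, 53, 22, 23, 24, 25, 26, 28, 29, 30, 31, 32, 34, 35, 36, 37, 38, 39, 41, 42, 43, 44, 45, 46, 47, 49, 50, 51, 52, 27, 28, 29, 30, 31, 32, 34, 35, 36, 37, 38, 39, 41, 42, 43, 44, 45, 46, 47, 49, 50, 51, 33, 34, 35, 36, 37, 38, 39, 41, 42, 43, 44, 45, 46, 47, 49, 50, 40, 41, 42, 43, 44, 45, 46, 47, 49, 48, 17, 18, 19, 21, 22, 23, 25, 26, 27, 28, 30, 31, 32, 33, 34, 36, 37, 38, 39, 40, 41, 43, 44, 45, 46, 47, 20,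 21, 22, 23, 25, 26, 27, 28, 30, 31, 32, 33, 34, 36, 37, 38, 39, 40, 41, 43, 44, 45, 46, 24, 25, 26, 27, 28, 30, 31, 32, 33, 34, 36, 37, 38, 39, 40, 41, 43, 44, 45, 29, 30, 31, 32, 33, 34, 36, 37, 38, 39, 40, 41, 43, 44, 35, 36, 37, 38, 39, 40, 41, 43, 42, 16, 17, 19, 20, 22, 23, 24, 26, 27, 28, 29, 31, 32, 33, 34, 35, 37, 38, 39, 40, 41, 18, 19, 20, 22, 23, 24, 26, 27, 28, 29, 31, 32, 33, 34, 35, 37, 38, 39, 40, 21, 22, 23, 24, 26, 27, 28, 29, 31, 32, 33, 34, 35, 37, 38, 39, 25, 26, 27, 28, 29, 31, 32, 33, 34, 35, 37, 38, 30, 31, 32, 33, 34, 35, 37, 36, 15, 17, 19, 20, 22, 23, 24, 26, 27, 28, 29, 31, 32, 33, 34, 35, 16, 17, 19, 20, 22, 23, 24, 26, 27, 28, 29, 31, 32, 33, 34, 18, 19, 20, 22, 23, 24, 26, 27, 28, 29, 31, 32, 33, 21, 22, 23, 24, 26, 27, 28, 29, 31, 32, 25, 26, 27, 28, 29, 31, 30, 29, 30, 32, 33, 34,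 35, 36, 38, 39, 40, 41, 42, 44, 45, 46, 47, 48, 50, 51, 52, 53, 54, 56, 57, 58, 59, 60, 62, 63, 64, 65, 66, 28, 29, 30, 32, 33, 34, 35, 36, 38, 39, 40, 41, 42, 44, 45, 46, 47, 48, 50, 51, 52, 53, 54, 56, 57, 58, 59, 60, 62, 63, 64, 65, 27, 28, 29, 30, 32, 33, 34, 35, 36, 38, 39, 40, 41, 42, 44, 45, 46, 47, 48, 50, 51, 52, 53, 54, 56, 57, 58, 59, 60, 62, 63, 64, 26, 27, 28, 29, 30, 32, 33, 34, 35, 36, 38, 39, 40, 41, 42, 44, 45, 46, 47, 48, 50, 51, 52, 53, 54, 56, 57, 58, 59, 60, 62, 63, 25, 26, 27, 28, 29, 30, 32, 33, 34, 35, 36, 38, 39, 40, 41, 42, 44, 45, 46, 47, 48, 50, 51, 52, 53, 54, 56, 57, 58, 59, 60, 62, 61, 55, 56, 57, 58, 59, 60, 49, 50, 51, 52, 53, 54, 55, 56, 57, 58, 59, 43, 44, 45, 46, 47, 48, 49, 50, 51, 52, 53, 54, 55, 56, 57, 58, 37, 38, 39, 40, 41, 42, 43, 44, 45, 46, 47, 48, 49, 50, 51, 52, 53,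 54, 55, 56, 57, 31, 32, 33, 34, 35, 36, 37, 38, 39, 40, 41, 42, 43, 44, 45, 46, 47, 48, 49, 50, 51, 52, 53, 54, 55, 56, 24, 25, 27, 28, 29, 30, 32, 33, 34, 35, 37, 38, 39, 40, 42, 43, 44, 45, 47, 48, 49, 50, 52, 53, 54, 55, 23, 24, 25, 27, 28, 29, 30, 32, 33, 34, 35, 37, 38, 39, 40, 42, 43, 44, 45, 47, 48, 49, 50, 52, 53, 54, 22, 23, 24, 25, 27, 28, 29, 30, 32, 33, 34, 35, 37, 38, 39, 40, 42, 43, 44, 45, 47, 48, 49, 50, 52, 53, 21, 22, 23, 24, 25, 27, 28, 29, 30, 32, 33, 34, 35, 37, 38, 39, 40, 42, 43, 44, 45, 47, 48, 49, 50, 52, 51, 46, 47, 48, 49, 50, 41, 42, 43, 44, 45, 46, 47, 48, 49, 36, 37, 38, 39, 40, 41, 42, 43, 44, 45, 46, 47, 48, 31, 32, 33, 34, 35, 36, 37, 38, 39, 40, 41, 42, 43, 44, 45, 46, 47, 26, 27, 28, 29, 30, 31, 32, 33, 34, 35, 36, 37, 38, 39, 40, 41, 42, 43, 44, 45, 46, 20, 21, 23, 24, 25, 27,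 28, 29, 31, 32, 33, 35, 36, 37, 39, 40, 41, 43, 44, 45, 19, 20, 21, 23, 24, 25, 27, 28, 29, 31, 32, 33, 35, 36, 37, 39, 40, 41, 43, 44, 18, 19, 20, 21, 23, 24, 25, 27, 28, 29, 31, 32, 33, 35, 36, 37, 39, 40, 41, 43, 42, 38, 39, 40, 41, 34, 35, 36, 37, 38, 39, 40, 30, 31, 32, 33, 34, 35, 36, 37, 38, 39, 26, 27, 28, 29, 30, 31, 32, 33, 34, 35, 36, 37, 38, 22, 23, 24, 25, 26, 27, 28, 29, 30, 31, 32, 33, 34, 35, 36, 37, 17, 18, 20, 21, 23, 24, 26, 27, 29, 30, 32, 33, 35, 36, 16, 17, 18, 20, 21, 23, 24, 26, 27, 29, 30, 32, 33, 35, 34, 31, 32, 33, 28, 29, 30, 31, 32, 25, 26, 27, 28, 29, 30, 31, 22, 23, 24, 25, 26, 27, 28, 29, 30, 19, 20, 21, 22, 23, 24, 25, 26, 27, 28, 29, 15, 16, 18, 20, 22, 24, 26, 28, 27, 25, 26, 23, 24, 25, 21, 22, 23, 24, 19, 20, 21, 22, 23, 17, 18, 19, 20, 21, 22, 21, 20, 19, 18, 17, 16, 14, 15,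 13, 14, 12, 13, 11, 12, 10, 11, 9, 10, 8, 9, 7, 8, 6, 7, 5, 6, 4, 5, 3, 4, 2, 3, 1, 2, 0, 1, 0] (l := RHO ++ [.b3]) (r := RAB ++ RHO) (by decide +kernel) (by decide +kernel) (by decide +kernel)
  simpa only [vl_append, vl_one, vl_nil, mul_assoc] using this

theorem c_rab2 (h : Cx F) : vl F RAB * vl F RAB = 1 := by
  have := h.eq [72, 71, 70, 69, 68, 67, 66, 65, 64, 63, 62, 61, 60, 59, 58, 57, 56, 55, 54, 53, 52, 51, 50, 49, 48, 47, 46, 45, 44, 43, 42, 41, 40, 39, 38, 37, 36, 35, 34, 33, 32, 31, 30, 29, 28, 27, 26, 25, 24, 23, 22, 21, 20, 19, 18, 17, 16, 15, 14, 13, 12, 11, 10, 9, 8, 7, 6, 5, 4, 3, 2, 1, 0] (l := RAB ++ RAB) (r := []) (by decide +kernel) (by decide +kernel) (by decide +kernel)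
  simpa only [vl_append, vl_one, vl_nil, mul_assoc] using this

theorem c_lh (h : Cx F) : vl F LH * F .f1 = F .d1 * vl F LH := by
  have := h.eq [1, 2, 4, 0, 2, 3, 2, 1, 0] (l := LH ++ [.f1]) (r := [.d1] ++ LH) (by decide +kernel) (by decide +kernel) (by decide +kernel)
  simpa only [vl_append, vl_one, vl_nil, mul_assoc] using this

theorem c_tri (h : Cx F) : vl F RHO * vl F LH * vl F RHO = vl F LA * vl F RHO * vl F LB := by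
  have := h.eq [33, 32, 31, 30, 29, 0, 1, 2, 3, 4, 5, 6, 7, 8, 9, 10, 11, 12, 13, 14, 15, 16, 17, 18, 19, 20, 21, 22, 23, 24, 25, 26, 27, 28, 27, 26, 25, 26, 27, 24, 25, 26, 25, 23, 25, 27, 22, 23, 24, 25, 26, 21, 22, 23, 24, 25, 24, 22, 20, 21, 22, 24, 26, 21, 22, 19, 21, 22, 24, 25, 18, 19, 20, 21, 22, 23, 24, 17, 18, 19, 20, 21, 22, 23, 22, 19, 20, 16, 17, 18, 19, 20, 22, 24, 19, 20, 17, 15, 16, 17, 19, 20, 22, 23, 16, 17, 18, 14, 16, 17, 18, 20, 21, 22, 13, 14, 15, 16, 17, 18, 19, 20, 21, 12, 13, 14, 15, 16, 17, 18, 19, 20, 19, 15, 16, 17, 11, 12, 13, 14, 15, 16, 17, 19, 21, 16, 17, 13, 14, 10, 11, 12, 13, 14, 16, 17, 19, 20, 13, 14, 15, 11, 9, 10, 11, 13, 14, 15, 17, 18, 19, 10, 11, 12, 13, 8, 10, 11, 12, 13, 15, 16, 17, 18, 6, 7, 8, 9, 10, 11, 12, 13, 14, 15, 16, 17, 5, 6, 7, 8, 9, 10, 11, 12, 13, 14, 15,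 16, 15, 10, 11, 12, 13, 4, 5, 6, 7, 8, 9, 10, 11, 12, 13, 15, 17, 12, 13, 8, 9, 10, 3, 4, 5, 6, 7, 8, 9, 10, 12, 13, 15, 16, 9, 10, 11, 6, 7, 2, 3, 4, 5, 6, 7, 9, 10, 11, 13, 14, 15, 6, 7, 8, 9, 4, 1, 2, 3, 4, 6, 7, 8, 9, 11, 12, 13, 14, 3, 4, 5, 6, 7, 0, 1, 3, 4, 5, 6, 7, 9, 10, 11, 12, 13, 22, 23, 24, 25, 26, 27, 28, 29, 30, 21, 22, 23, 24, 25, 26, 27, 28, 20, 21, 22, 23, 24, 25, 26, 19, 20, 21, 22, 23, 24, 18, 19, 20, 21, 22, 17, 18, 19, 20, 16, 17, 18, 15, 16, 14, 0, 1, 2, 3, 4, 5, 6, 7, 8, 9, 10, 11, 12, 14, 16, 18, 20, 22, 24, 26, 28, 30, 32, 31, 29, 30, 27, 28, 29, 25, 26, 27, 28, 23, 24, 25, 26, 27, 21, 22, 23, 24, 25, 26, 19, 20, 21, 22, 23, 24, 25, 17, 18, 19, 20, 21, 22, 23, 24, 23, 22, 21, 20, 19, 18, 17, 16, 11, 12, 13, 14, 15, 5, 6, 7, 8, 9, 10, 11, 12, 13, 14, 9, 10, 11, 12, 13, 4, 5, 6, 7, 8, 9,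 10, 11, 12, 7, 8, 9, 10, 11, 3, 4, 5, 6, 7, 8, 9, 10, 5, 6, 7, 8, 9, 2, 3, 4, 5, 6, 7, 8, 3, 4, 5, 6, 7, 1, 2, 3, 4, 5, 6, 1, 2, 3, 4, 5, 0, 1, 2, 3, 4, 3, 4, 5, 6, 7, 8, 9, 10, 11, 13, 14, 15, 16, 17, 18, 19, 20, 21, 23, 24, 25, 26, 27, 28, 29, 30, 32, 33, 34, 35, 36, 37, 38, 40, 41, 42, 43, 44, 45, 47, 48, 49, 50, 51, 53, 54, 55, 56, 58, 59, 60, 62, 2, 3, 4, 5, 6, 7, 8, 9, 11, 12, 13, 14, 15, 16, 17, 18, 19, 21, 22, 23, 24, 25, 26, 27, 28, 30, 31, 32, 33, 34, 35, 36, 38, 39, 40, 41, 42, 43, 45, 46, 47, 48, 49, 51, 52, 53, 54, 56, 57, 58, 60, 61, 62, 64, 1, 2, 3, 4, 5, 6, 7, 8, 9, 10, 12, 13, 14, 15, 16, 17, 18, 19, 20, 22, 23, 24, 25, 26, 27, 28, 29, 31, 32, 33, 34, 35, 36, 37, 39, 40, 41, 42, 43, 44, 46, 47, 48, 49, 50, 52, 53, 54, 55, 57, 58, 59, 0, 1, 2, 3, 4, 5, 6, 7, 8, 10, 11, 12, 13, 14, 15, 16, 17, 18,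 20, 21, 22, 23, 24, 25, 26, 27, 29, 30, 31, 32, 33, 34, 35, 37, 38, 39, 40, 41, 42, 44, 45, 46, 47, 48, 50, 51, 52, 53, 55, 56, 57, 59, 60, 62, 63, 62, 61, 63, 60, 61, 63, 65, 64, 62, 63, 59, 60, 61, 62, 55, 56, 57, 58, 59, 60, 61, 50, 51, 52, 53, 54, 55, 56, 57, 58, 59, 60, 44, 45, 46, 47, 48, 49, 50, 51, 52, 53, 54, 55, 56, 57, 58, 59, 37, 38, 39, 40, 41, 42, 43, 44, 45, 46, 47, 48, 49, 50, 51, 52, 53, 54, 55, 56, 57, 58, 29, 30, 31, 32, 33, 34, 35, 36, 37, 38, 39, 40, 41, 42, 43, 44, 45, 46, 47, 48, 49, 50, 51, 52, 53, 54, 55, 56, 57, 20, 21, 22, 23, 24, 25, 26, 27, 28, 29, 30, 31, 32, 33, 34, 35, 36, 37, 38, 39, 40, 41, 42, 43, 44, 45, 46, 47, 48, 49, 50, 51, 52, 53, 54, 55, 56, 10, 11, 12, 13, 14, 15, 16, 17, 18, 19, 20, 21, 22, 23, 24, 25, 26, 27, 28, 29, 30, 31, 32, 33, 34, 35, 36, 37, 38, 39, 40, 41, 42,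 43, 44, 45, 46, 47, 48, 49, 50, 51, 52, 53, 54, 55, 54, 53, 51, 52, 48, 49, 50, 51, 44, 45, 46, 47, 48, 49, 50, 39, 40, 41, 42, 43, 44, 45, 46, 47, 48, 49, 33, 34, 35, 36, 37, 38, 39, 40, 41, 42, 43, 44, 45, 46, 47, 48, 26, 27, 28, 29, 30, 31, 32, 33, 34, 35, 36, 37, 38, 39, 40, 41, 42, 43, 44, 45, 46, 47, 18, 19, 20, 21, 22, 23, 24, 25, 26, 27, 28, 29, 30, 31, 32, 33, 34, 35, 36, 37, 38, 39, 40, 41, 42, 43, 44, 45, 46, 9, 10, 11, 12, 13, 14, 15, 16, 17, 18, 19, 20, 21, 22, 23, 24, 25, 26, 27, 28, 29, 30, 31, 32, 33, 34, 35, 36, 37, 38, 39, 40, 41, 42, 43, 44, 45, 44, 43, 41, 42, 38, 39, 40, 41, 34, 35, 36, 37, 38, 39, 40, 29, 30, 31, 32, 33, 34, 35, 36, 37, 38, 39, 23, 24, 25, 26, 27, 28, 29, 30, 31, 32, 33, 34, 35, 36, 37, 38, 16, 17, 18, 19, 20, 21, 22, 23, 24, 25, 26, 27, 28, 29, 30, 31, 32, 33, 34, 35, 36,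 37, 8, 9, 10, 11, 12, 13, 14, 15, 16, 17, 18, 19, 20, 21, 22, 23, 24, 25, 26, 27, 28, 29, 30, 31, 32, 33, 34, 35, 36, 35, 34, 32, 33, 29, 30, 31, 32, 25, 26, 27, 28, 29, 30, 31, 20, 21, 22, 23, 24, 25, 26, 27, 28, 29, 30, 14, 15, 16, 17, 18, 19, 20, 21, 22, 23, 24, 25, 26, 27, 28, 29, 7, 8, 9, 10, 11, 12, 13, 14, 15, 16, 17, 18, 19, 20, 21, 22, 23, 24, 25, 26, 27, 28, 27, 26, 24, 25, 21, 22, 23, 24, 17, 18, 19, 20, 21, 22, 23, 12, 13, 14, 15, 16, 17, 18, 19, 20, 21, 22, 6, 7, 8, 9, 10, 11, 12, 13, 14, 15, 16, 17, 18, 19, 20, 21, 20, 19, 17, 18, 14, 15, 16, 17, 10, 11, 12, 13, 14, 15, 16, 5, 6, 7, 8, 9, 10, 11, 12, 13, 14, 15, 14, 13, 11, 12, 8, 9, 10, 11, 4, 5, 6, 7, 8, 9, 10, 9, 8, 6, 7, 3, 4, 5, 6, 5, 4, 2, 3, 2, 1, 0] (l := RHO ++ (LH ++ RHO)) (r := LA ++ (RHO ++ LB)) (by decide +kernel) (by decide +kernel)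 (by decide +kernel)
  simpa only [vl_append, vl_one, vl_nil, mul_assoc] using this

theorem e12 (h : Cx F) : vl F E12 = vl F (RE .b1 .c1 .d1 .b2 .c2) :=
  h.eq _ (by decide +kernel) (by decide +kernel) red_12

theorem e21 (h : Cx F) : vl F E21 = vl F (RE .b2 .c2 .d2 .b1 .c1) :=
  h.eq _ (by decide +kernel) (by decide +kernel) red_21

theorem th_aux {e f k E X : G} (h : e * E = E * X) (hE : E = f * k) (c : Commute k e) (c' : Commute k f)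
    (hf : f * f = 1) : X = f * e * f := by
  have f' := inv_eq_of_mul_eq_one_right hf
  have : X = (f * k)⁻¹ * (e * (f * k)) := by rw [← hE, h, inv_mul_cancel_left]
  rw [this, mul_inv_rev, f', ← mul_assoc e, ← (c.mul_right c').eq, ← mul_assoc, mul_assoc k⁻¹, ← c'.eq]
  simp only [mul_assoc, inv_mul_cancel_left]

theorem th1 (h : Cx F) {k : G} (c : Cen F k) (e : vl F (RE .b1 .c1 .d1 .b2 .c2) = F .f1 * k) :
    vl F X1 = F .f1 * F .e1 * F .f1 :=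
  th_aux (c_x1 h) ((e12 h).trans e) (c _ (by decide)) (c _ (by decide)) (h.sq (by decide))

theorem th2 (h : Cx F) {k : G} (c : Cen F k) (e : vl F (RE .b2 .c2 .d2 .b1 .c1) = F .f2 * k) :
    vl F X2 = F .f2 * F .e2 * F .f2 :=
  th_aux (c_x2 h) ((e21 h).trans e) (c _ (by decide)) (c _ (by decide)) (h.sq (by decide))

theorem sq3 {e f : G} (he : e * e = 1) (hf : f * f = 1) (x : G) : x * (f * e * f) * f * e * f = x := by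
  calc _ = x * (f * (e * (f * f) * e) * f) := by simp only [mul_assoc]
    _ = x := by rw [hf, mul_one, he, mul_one, hf, mul_one]

theorem rab (h : Cx F) {k k' : G} (c : Cen F k) (c' : Cen F k')
    (e : vl F (RE .b1 .c1 .d1 .b2 .c2) = F .f1 * k) (e' : vl F (RE .b2 .c2 .d2 .b1 .c1) = F .f2 * k') :
    vl F RAB = F .b3 := by
  have h1 := c_m1 h
  have h2 := c_m2 h
  rw [th1 h c e, mul_assoc (vl F G1), mul_assoc (vl F G1), mul_inv_cancel_right, mul_eq_right] at h1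
  rw [th2 h c' e', sq3 (h.sq (by decide)) (h.sq (by decide)), mul_eq_right] at h2
  rw [eq_inv_of_mul_eq_one_right h2, eq_inv_of_mul_eq_one_left h1]

end TA

open TA

theorem rho_sq (h : Cx F) : vl F RHO * vl F RHO = 1 := c_sq h

theorem rho_conj (h : Cx F) {n : Nd} (h3 : n ≠ .e3) (hb : n ≠ .b3) :
    vl F RHO * F n * vl F RHO = F (sw12 n) := by
  have : vl F RHO * F n = F (sw12 n) * vl F RHO := by
    cases n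
    all_goals first
      | contradiction
      | exact c_a h | exact c_b1 h | exact c_c1 h | exact c_d1 h | exact c_e1 h | exact c_f1 h
      | exact c_b2 h | exact c_c2 h | exact c_d2 h | exact c_e2 h | exact c_f2 h
      | exact c_c3 h | exact c_d3 h | exact c_f3 h
  rw [this, mul_assoc, rho_sq h, mul_one]

theorem rho_b3 (h : Cx F) {k k' : G} (c : Cen F k) (c' : Cen F k')
    (e : vl F (RE .b1 .c1 .d1 .b2 .c2) = F .f1 * k) (e' : vl F (RE .b2 .c2 .d2 .b1 .c1) = F .f2 * k') :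
    vl F RHO * F .b3 * vl F RHO = F .b3 := by
  rw [c_rab h, rab h c c' e e', mul_assoc, rho_sq h, mul_one]

theorem rho_tri (h : Cx F) : ∃ lh la lb : List Nd,
    (∀ n ∈ lh ++ la ++ lb, n ∈ [Bimonster.Gen.f1, .e1, .d1, .c1, .b1, .a, .b2, .c2, .d2, .f2]) ∧
    vl F lh * F .f1 * (vl F lh)⁻¹ = F .d1 ∧
    vl F RHO * vl F lh * vl F RHO = vl F la * vl F RHO * vl F lb :=
  ⟨LH, LA, LB, by decide +kernel, by rw [c_lh h, mul_inv_cancel_right], c_tri h⟩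

end H10.Mon.T
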