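import Mathlib
import Cfsg.Agent.H10.TD
import Cfsg.Agent.H29.TB0

set_option autoImplicit false
set_option linter.all false
set_option maxRecDepth 100000

namespace H10.Mon.T

open Cfsg H9 H29 Cfsg.Spor H10.YW
open H10.Mon.Y (xB bN)

namespace TB
open H10.Mon.Y (xB_mem xB_f2 sys_xB sys_eq red_b2 baby_hom card_HHq)
open H29.YB (PY L3 NL PY_top tb_main)

theorem red_f1 : red [10, 11, 8, 9, 10, 11, 7, 8, 9, 10, 3, 4, 5, 7, 8, 10, 11, 12, 27, 28, 26, 27, 25, 26, 23, 24, 25, 26, 20, 21, 23, 24, 26, 27, 17, 19, 21, 22, 23, 24, 26, 28, 16, 17, 18, 19, 20, 21, 22, 23, 24, 25, 26, 27, 26, 27, 15, 13, 12, 13, 15, 17, 18, 19, 20, 21, 22, 23, 24, 26, 27, 29, 28, 23, 24, 25, 16, 14, 10, 11, 12, 13, 14, 16, 18, 19, 20, 21, 23, 24, 25, 27, 28, 10, 11, 12, 9, 8, 9, 11, 12, 14, 15, 16, 18, 19, 21, 22, 23, 24, 25, 27, 26, 27, 28, 29, 8, 9,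 7, 5, 7, 9, 11, 12, 13, 14, 15, 16, 17, 18, 19, 20, 21, 23, 24, 25, 26, 28, 25, 26, 27, 28, 10, 11, 12, 8, 9, 6, 7, 3, 4, 5, 6, 7, 9, 11, 12, 14, 15, 16, 17, 18, 19, 21, 22, 23, 25, 26, 28, 29, 41, 43, 44, 45, 46, 48, 37, 39, 41, 42, 43, 44, 45, 46, 48, 50, 47, 38, 36, 38, 40, 41, 42, 43, 44, 45, 47, 49, 34, 36, 37, 38, 40, 41, 42, 43, 45, 46, 47, 49, 32, 33, 34, 31, 32, 30, 25, 26, 27, 28, 30, 32, 34, 36, 37, 38, 39, 40, 41, 42, 43, 44, 35, 33, 27, 28, 24, 25, 27, 28, 30, 31, 32, 33, 35, 37, 38, 39, 40, 41, 30, 31, 23, 25, 26, 27, 28, 30, 31, 33, 34, 35, 37, 38, 39, 36, 26, 27, 28, 29, 25, 22, 23, 25, 27, 28, 29, 31, 32, 33, 34, 21, 22, 23, 24, 25, 26, 27, 20, 21, 22, 19, 17, 19, 21, 22, 24, 25, 26, 27, 29, 30, 31, 32, 33, 34, 36, 38, 39, 41, 43, 44, 46, 47, 48, 49, 50, 51, 31, 16, 14, 16, 18, 19, 20, 21, 22, 23, 24, 26,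 27, 28, 29, 31, 33, 34, 35, 36, 37, 32, 33, 17, 15, 13, 14, 15, 17, 19, 20, 21, 22, 24, 25, 26, 27, 29, 30, 11, 12, 13, 10, 8, 9, 10, 12, 13, 15, 16, 17, 19, 20, 22, 23, 24, 25, 27, 28, 29, 30, 32, 33, 35, 36, 37, 39, 40, 41, 43, 44, 46, 47, 48, 39, 28, 29, 30, 31, 18, 19, 17, 15, 9, 10, 11, 12, 13, 14, 15, 17, 19, 21, 22, 23, 24, 25, 26, 14, 15, 7, 9, 10, 11, 12, 14, 15, 17, 18, 19, 21, 22, 23, 24, 26, 27, 29, 30, 31, 33, 34, 35, 36, 37, 39, 41, 42, 43, 44, 46, 47, 48, 50, 51, 53, 54, 55, 52, 30, 31, 32, 33, 35, 36, 37, 29, 30, 31, 33, 34, 28, 29, 31, 32, 25, 27, 10, 11, 12, 13, 9, 3, 4, 5, 6, 7, 9, 11, 12, 13, 15, 16, 17, 18, 19, 21, 22, 23, 24, 25, 27, 29, 30, 31, 32, 34, 36, 37, 39, 40, 41, 42, 43, 44, 46, 47, 48, 50, 40, 41, 39, 36, 37, 20, 21, 22, 23, 24, 19, 20, 21, 22, 18, 19, 16, 17, 12, 13, 14, 15, 5, 6, 7, 8, 9,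 10, 11, 12, 13, 14, 15, 17, 19, 14, 15, 16, 17, 13, 14, 10, 11, 3, 5, 6, 7, 8, 9, 10, 11, 13, 14, 16, 17, 19, 20, 22, 24, 26, 27, 28, 29, 30, 31, 32, 33, 34, 35, 36, 37, 39, 41, 43, 44, 45, 46, 36, 37, 34, 25, 23, 21, 22, 23, 25, 27, 28, 29, 18, 20, 21, 10, 11, 12, 8, 2, 3, 5, 6, 7, 8, 10, 11, 12, 14, 15, 16, 17, 18, 20, 21, 23, 24, 25, 27, 28, 29, 31, 32, 33, 34, 36, 37, 39, 40, 41, 43, 44, 39, 31, 32, 15, 14, 15, 17, 18, 19, 5, 6, 1, 2, 3, 5, 6, 8, 9, 10, 11, 12, 14, 15, 17, 18, 19, 21, 22, 23, 24, 25, 27, 28, 29, 31, 32, 34, 35, 36, 37, 39, 41, 42, 43, 44, 46, 48, 49, 50, 52, 54, 55, 57, 58, 59, 56, 51, 52, 54, 48, 47, 48, 50, 45, 35, 36, 37, 34, 10, 11, 12, 9, 10, 11, 12, 14, 15, 16, 17, 8, 0, 1, 2, 3, 5, 6, 8, 10, 11, 12, 14, 15, 16, 17, 19, 20, 21, 22, 23, 24, 25, 27, 28, 29, 31, 32, 34, 36, 37, 39, 40, 41, 42, 43,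 44, 45, 47, 48, 50, 52, 53, 54, 56, 58, 59, 61, 62, 60, 61, 52, 51, 52, 54, 55, 56, 58, 54, 49, 46, 47, 48, 49, 51, 52, 54, 56, 57, 58, 60, 59, 26, 27, 28, 25, 26, 24, 22, 24, 26, 28, 30, 31, 32, 33, 34, 35, 36, 37, 38, 39, 40, 42, 43, 44, 29, 30, 27, 28, 25, 26, 20, 22, 23, 24, 25, 26, 28, 30, 32, 33, 34, 35, 36, 37, 38, 40, 31, 29, 22, 23, 24, 19, 20, 22, 23, 24, 26, 27, 28, 29, 31, 33, 34, 35, 36, 38, 39, 40, 42, 43, 44, 46, 33, 34, 32, 30, 16, 17, 18, 19, 20, 21, 22, 15, 16, 17, 14, 15, 10, 11, 12, 13, 14, 15, 17, 19, 20, 21, 22, 24, 25, 26, 27, 28, 29, 30, 32, 34, 36, 37, 38, 39, 40, 33, 25, 26, 14, 15, 16, 17, 18, 20, 21, 22, 23, 25, 26, 28, 29, 30, 31, 33, 35, 36, 37, 38, 28, 29, 12, 9, 10, 11, 12, 14, 15, 16, 18, 19, 20, 21, 23, 24, 25, 26, 28, 29, 31, 32, 33, 35, 36, 24, 25, 26, 27, 23, 14, 7, 8, 9, 10, 11, 12, 14,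 16, 17, 18, 19, 20, 21, 23, 25, 26, 27, 29, 30, 31, 32, 33, 35, 36, 38, 40, 41, 43, 44, 46, 48, 49, 50, 51, 52, 47, 48, 49, 45, 42, 43, 44, 45, 47, 39, 41, 42, 43, 40, 37, 38, 18, 19, 20, 21, 22, 23, 24, 25, 17, 18, 19, 20, 16, 17, 15, 13, 4, 5, 6, 7, 8, 9, 10, 11, 12, 13, 15, 17, 19, 20, 22, 23, 24, 25, 27, 28, 29, 30, 31, 32, 33, 35, 36, 37, 38, 40, 42, 43, 45, 46, 47, 49, 51, 52, 54, 55, 56, 57, 58, 34, 35, 36, 37, 33, 34, 35, 31, 33, 34, 35, 37, 39, 40, 38, 36, 30, 31, 29, 27, 29, 31, 32, 34, 35, 36, 38, 40, 42, 43, 44, 45, 46, 47, 48, 49, 50, 41, 42, 43, 44, 45, 46, 39, 40, 37, 38, 33, 34, 35, 36, 37, 38, 40, 42, 43, 30, 32, 33, 34, 35, 36, 31, 32, 28, 29, 26, 27, 28, 29, 31, 32, 34, 35, 36, 38, 39, 40, 42, 43, 45, 46, 48, 49, 50, 52, 53, 54, 55, 56, 57, 54, 53, 54, 56, 53, 54, 55, 49, 50, 51, 52, 48, 49, 47, 35, 36,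 37, 38, 39, 40, 41, 42, 43, 44, 45, 47, 49, 44, 45, 46, 47, 43, 44, 34, 35, 36, 33, 28, 29, 30, 31, 33, 35, 36, 38, 39, 40, 41, 43, 44, 46, 47, 49, 50, 52, 54, 53, 48, 50, 51, 52, 46, 45, 46, 48, 49, 50, 51, 43, 44, 42, 43, 44, 46, 47, 48, 49, 50, 48, 49, 40, 41, 42, 43, 44, 45, 46, 39, 37, 39, 41, 42, 43, 44, 35, 34, 35, 37, 38, 39, 41, 42, 37, 32, 33, 34, 35, 37, 39, 40, 33, 34, 35, 32, 27, 28, 29, 30, 32, 34, 35, 37, 38, 29, 30, 31, 32, 33, 28, 29, 26, 28, 29, 31, 32, 33, 35, 36, 37, 38, 40, 42, 44, 46, 48, 47, 45, 46, 43, 44, 45, 41, 42, 43, 44, 39, 40, 41, 42, 43, 37, 38, 36, 34, 36, 38, 40, 41, 42, 41, 40, 39, 37, 38, 35, 36, 37, 33, 34, 35, 36, 35, 24, 25, 26, 27, 28, 29, 30, 23, 24, 22, 21, 22, 24, 26, 27, 28, 19, 20, 18, 19, 20, 22, 23, 24, 26, 22, 16, 17, 18, 19, 20, 22, 24, 9, 10, 11, 12, 13, 14, 15, 16, 18, 19,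 20, 6, 7, 9, 10, 11, 12, 13, 14, 16, 17, 5, 6, 7, 9, 10, 11, 12, 14, 15, 9, 10, 3, 4, 5, 6, 7, 9, 10, 12, 13, 14, 15, 17, 19, 20, 22, 23, 24, 26, 28, 30, 32, 33, 34, 31, 29, 27, 28, 29, 31, 33, 32, 30, 31, 25, 26, 27, 28, 29, 30, 14, 15, 16, 17, 18, 13, 14, 11, 13, 14, 16, 17, 18, 20, 21, 22, 23, 24, 25, 26, 27, 28, 29, 22, 20, 22, 24, 25, 17, 18, 16, 17, 18, 20, 21, 22, 24, 25, 27, 28, 24, 25, 23, 21, 23, 25, 27, 26, 24, 25, 19, 21, 22, 23, 24, 17, 15, 16, 17, 19, 20, 21, 22, 23, 15, 14, 15, 17, 18, 19, 20, 21, 22, 19, 20, 21, 20, 19, 18, 17, 16, 15, 13, 14, 9, 10, 11, 8, 9, 3, 4, 5, 6, 2, 3, 4, 6, 7, 9, 11, 13, 12, 10, 11, 8, 9, 10, 1, 2, 4, 5, 6, 7, 8, 9, 0, 2, 3, 4, 5, 6, 7, 8, 3, 5, 6, 7, 6, 5, 4, 2, 3, 1, 2, 0, 1, 0]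
    ((RE .b1 .c1 .d1 .b2 .c2).reverse ++ YW.rep [.c2, .b2, .a, .b1, .c1, .d1, .b3] 9) = true := by
  decide +kernel

theorem red_f1s : red [10, 11, 8, 9, 10, 11, 7, 8, 9, 10, 3, 4, 5, 7, 8, 10, 11, 12, 27, 28, 26, 27, 25, 26, 24, 25, 21, 23, 24, 26, 17, 19, 21, 22, 23, 24, 26, 28, 16, 17, 18, 19, 20, 21, 22, 23, 24, 25, 26, 27, 26, 27, 15, 13, 12, 13, 15, 17, 18, 19, 20, 21, 22, 23, 24, 26, 27, 29, 28, 23, 24, 25, 16, 14, 11, 12, 13, 14, 16, 18, 19, 20, 21, 23, 24, 25, 27, 10, 11, 12, 9, 8, 9, 11, 12, 14, 15, 16, 18, 19, 21, 22, 23, 24, 25, 27, 26, 28, 29, 8, 9, 7, 5, 7, 9, 11, 12, 13, 14, 15, 16, 17, 18, 19, 20, 21, 23, 24, 25, 26, 28, 25, 26, 27, 10, 11, 12, 8, 9, 6, 7, 4, 5, 6, 7, 9, 11, 12, 14, 15, 16, 17, 18, 19, 21, 22, 23, 25, 26, 28, 41, 43, 44, 45, 46, 48, 37, 39, 41, 42, 43, 44, 45, 46, 48, 50, 47, 38, 36, 38, 40,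 41, 42, 43, 44, 45, 47, 49, 34, 36, 37, 38, 40, 41, 42, 43, 45, 46, 47, 49, 32, 33, 34, 35, 31, 32, 30, 25, 26, 27, 28, 30, 32, 34, 35, 37, 38, 39, 40, 41, 42, 43, 27, 28, 24, 25, 27, 28, 30, 31, 32, 34, 35, 37, 38, 39, 40, 41, 30, 23, 25, 26, 27, 28, 30, 32, 33, 34, 35, 37, 38, 39, 36, 26, 27, 28, 25, 22, 23, 25, 27, 28, 30, 31, 32, 33, 34, 21, 22, 23, 24, 25, 26, 20, 21, 22, 19, 17, 19, 21, 22, 24, 25, 26, 28, 29, 30, 31, 32, 33, 34, 36, 38, 39, 41, 43, 45, 46, 47, 48, 49, 50, 51, 52, 44, 42, 30, 31, 29, 25, 26, 27, 16, 14, 16, 18, 19, 20, 21, 22, 23, 24, 25, 26, 27, 29, 31, 33, 34, 35, 36, 37, 32, 33, 26, 27, 23, 24, 17, 15, 13, 14, 15, 17, 19, 20, 21, 22, 23, 24, 26, 27, 29, 30, 23, 24, 25, 21, 11, 12, 13, 10, 8, 9, 10, 12, 13, 15, 16, 17, 19, 20, 21, 23, 24, 25, 27, 28, 29, 30, 32, 33, 35, 36, 37, 39, 40, 41, 42, 44,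 46, 47, 48, 39, 40, 28, 29, 30, 31, 18, 19, 20, 17, 18, 15, 9, 10, 11, 12, 13, 14, 15, 17, 18, 20, 22, 23, 24, 25, 26, 14, 15, 16, 7, 9, 10, 11, 12, 14, 15, 16, 18, 19, 20, 22, 23, 24, 26, 27, 29, 30, 31, 33, 34, 35, 36, 37, 39, 40, 42, 43, 44, 46, 47, 48, 50, 51, 52, 54, 30, 31, 32, 33, 35, 36, 37, 38, 29, 30, 31, 33, 34, 28, 29, 31, 32, 25, 27, 10, 11, 12, 13, 14, 9, 3, 4, 5, 6, 7, 9, 11, 12, 13, 14, 16, 17, 18, 19, 20, 22, 23, 24, 25, 27, 29, 30, 31, 32, 34, 36, 37, 38, 40, 41, 42, 43, 44, 46, 47, 48, 41, 21, 22, 23, 24, 20, 21, 22, 19, 17, 5, 6, 7, 8, 9, 10, 11, 13, 14, 15, 16, 17, 19, 16, 17, 3, 5, 6, 7, 8, 9, 11, 12, 13, 14, 16, 17, 19, 20, 22, 24, 26, 27, 28, 29, 30, 31, 32, 33, 34, 35, 37, 38, 39, 41, 43, 44, 45, 46, 25, 23, 21, 22, 23, 25, 27, 28, 29, 18, 20, 21, 2, 3, 5, 6, 7, 9, 10, 11, 12, 14, 15, 16, 17, 18,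 20, 21, 23, 24, 25, 27, 28, 29, 31, 32, 33, 35, 36, 37, 39, 40, 41, 43, 44, 39, 31, 15, 14, 15, 17, 18, 19, 5, 1, 2, 3, 5, 7, 8, 9, 10, 11, 12, 14, 15, 17, 18, 19, 21, 22, 23, 24, 25, 27, 28, 29, 31, 33, 34, 35, 36, 37, 39, 41, 42, 43, 44, 46, 48, 49, 51, 52, 54, 56, 57, 58, 55, 56, 53, 50, 51, 52, 53, 47, 49, 50, 51, 48, 45, 46, 34, 35, 36, 37, 33, 34, 32, 30, 9, 10, 11, 12, 8, 9, 10, 11, 12, 14, 15, 16, 17, 7, 8, 6, 4, 0, 1, 2, 3, 4, 6, 8, 10, 11, 12, 14, 15, 16, 17, 19, 20, 21, 22, 23, 24, 25, 27, 28, 29, 30, 32, 34, 36, 37, 39, 40, 41, 42, 43, 44, 45, 46, 48, 50, 51, 53, 54, 56, 58, 60, 61, 62, 59, 60, 61, 57, 52, 54, 55, 56, 57, 54, 55, 47, 48, 50, 51, 52, 54, 55, 57, 58, 60, 59, 26, 27, 28, 29, 25, 26, 27, 24, 22, 24, 26, 27, 29, 31, 32, 33, 34, 35, 36, 37, 38, 39, 40, 42, 43, 30, 28, 20, 22, 23, 24, 26, 27, 28, 30,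 32, 33, 34, 35, 36, 37, 38, 40, 31, 29, 22, 19, 20, 22, 24, 25, 26, 27, 28, 29, 31, 33, 34, 35, 36, 38, 39, 40, 42, 43, 45, 46, 47, 48, 44, 33, 34, 32, 30, 16, 17, 18, 19, 20, 15, 16, 17, 14, 15, 10, 11, 12, 13, 14, 15, 17, 19, 20, 22, 23, 24, 25, 26, 27, 28, 29, 30, 32, 34, 36, 37, 38, 39, 40, 42, 33, 23, 24, 25, 26, 22, 23, 19, 20, 14, 15, 16, 17, 18, 19, 20, 22, 23, 25, 26, 28, 29, 30, 31, 33, 35, 36, 37, 38, 28, 29, 19, 20, 21, 17, 12, 9, 10, 11, 12, 14, 15, 16, 17, 19, 20, 21, 23, 24, 25, 26, 28, 29, 31, 32, 33, 35, 36, 24, 25, 26, 27, 23, 14, 15, 7, 8, 9, 10, 11, 12, 14, 15, 17, 18, 19, 20, 21, 23, 25, 26, 27, 29, 30, 31, 32, 33, 35, 36, 38, 40, 41, 42, 44, 46, 47, 48, 50, 51, 52, 53, 49, 43, 44, 46, 47, 40, 39, 40, 42, 37, 19, 20, 21, 22, 23, 24, 25, 18, 19, 20, 17, 5, 6, 7, 8, 9, 10, 11, 12, 14, 15, 17, 19, 20, 22,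 23, 24, 25, 27, 28, 29, 30, 31, 32, 33, 35, 36, 37, 39, 40, 42, 44, 45, 46, 47, 49, 51, 52, 53, 55, 56, 57, 58, 34, 35, 36, 33, 34, 31, 33, 34, 36, 38, 39, 40, 41, 42, 43, 44, 37, 38, 35, 36, 30, 31, 33, 34, 29, 27, 29, 31, 32, 33, 34, 36, 38, 40, 41, 42, 43, 44, 46, 47, 48, 49, 50, 51, 45, 46, 39, 37, 35, 36, 37, 39, 41, 42, 43, 31, 32, 30, 31, 32, 34, 35, 28, 26, 27, 28, 30, 31, 32, 34, 35, 37, 38, 39, 41, 42, 43, 45, 46, 48, 49, 50, 51, 53, 54, 55, 56, 57, 54, 56, 50, 51, 52, 53, 54, 55, 49, 50, 51, 52, 48, 49, 47, 42, 43, 44, 45, 47, 49, 44, 45, 46, 47, 43, 44, 34, 35, 36, 33, 31, 33, 35, 36, 38, 39, 40, 41, 43, 44, 46, 47, 49, 50, 52, 54, 53, 48, 50, 51, 52, 46, 45, 46, 48, 49, 50, 51, 43, 44, 42, 43, 44, 46, 47, 48, 49, 50, 48, 49, 40, 41, 42, 43, 44, 45, 46, 39, 37, 39, 41, 42, 43, 44, 35, 34, 35, 37, 38, 39, 41, 42,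 37, 32, 33, 34, 35, 37, 39, 40, 33, 34, 35, 32, 27, 28, 29, 30, 32, 34, 35, 37, 38, 29, 30, 31, 32, 33, 28, 29, 26, 28, 29, 31, 32, 33, 35, 36, 37, 38, 40, 42, 44, 46, 48, 47, 45, 46, 43, 44, 45, 41, 42, 43, 44, 39, 40, 41, 42, 43, 37, 38, 36, 34, 36, 38, 40, 41, 42, 41, 40, 39, 37, 38, 35, 36, 37, 33, 34, 35, 36, 35, 24, 25, 26, 27, 28, 29, 30, 23, 24, 22, 21, 22, 24, 26, 27, 28, 19, 20, 18, 19, 20, 22, 23, 24, 26, 22, 16, 17, 18, 19, 20, 22, 24, 9, 10, 11, 12, 13, 14, 15, 16, 18, 19, 20, 6, 7, 9, 10, 11, 12, 13, 14, 16, 17, 5, 6, 7, 9, 10, 11, 12, 14, 15, 4, 5, 6, 7, 9, 10, 12, 13, 14, 15, 17, 19, 20, 22, 23, 24, 26, 28, 30, 32, 33, 34, 31, 29, 27, 28, 29, 31, 33, 32, 30, 31, 25, 26, 27, 28, 29, 30, 14, 15, 16, 17, 18, 13, 14, 11, 13, 14, 16, 17, 18, 20, 21, 22, 23, 24, 25, 26, 27, 28, 29, 22, 20, 22, 24, 25, 17, 18, 16,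 17, 18, 20, 21, 22, 24, 25, 27, 28, 24, 25, 23, 21, 23, 25, 27, 26, 24, 25, 19, 21, 22, 23, 24, 17, 15, 16, 17, 19, 20, 21, 22, 23, 15, 14, 15, 17, 18, 19, 20, 21, 22, 19, 20, 21, 20, 19, 18, 17, 16, 15, 13, 14, 9, 10, 11, 8, 9, 3, 4, 5, 6, 2, 3, 4, 6, 7, 9, 11, 13, 12, 10, 11, 8, 9, 10, 1, 2, 4, 5, 6, 7, 8, 9, 0, 2, 3, 4, 5, 6, 7, 8, 3, 5, 6, 7, 6, 5, 4, 2, 3, 1, 2, 0, 1, 0]
    ((RE .b1 .c1 .d1 .b3 .c3).reverse ++ YW.rep [.c3, .b3, .a, .b1, .c1, .d1, .b2] 9) = true := by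
  decide +kernel

theorem red_b3s : red [10, 11, 9, 10, 8, 9, 5, 7, 8, 10, 27, 28, 26, 27, 24, 25, 26, 27, 23, 24, 25, 26, 19, 20, 21, 23, 24, 26, 27, 28, 26, 19, 17, 19, 21, 22, 23, 24, 26, 28, 16, 17, 18, 19, 20, 21, 22, 23, 24, 25, 26, 27, 26, 27, 15, 13, 12, 13, 15, 17, 18, 19, 20, 21, 22, 23, 24, 26, 27, 29, 23, 24, 25, 16, 14, 10, 11, 12, 13, 14, 16, 18, 19, 20, 21, 23, 24, 25, 27, 28, 29, 27, 28, 10, 11, 12, 9, 8, 9, 11, 12, 14, 15, 16, 18, 19, 21, 22, 23, 24, 25, 27, 26, 27, 28, 28, 29, 27, 28, 29, 8, 9, 7, 5, 7, 9, 11, 12, 13, 14, 15, 16, 17, 18, 19, 20, 21, 23, 24, 25, 27, 28, 10, 11, 12, 8, 9, 6, 7, 3, 4, 5, 6, 7, 9, 11, 12, 14, 15, 16, 17, 18, 19, 21, 22, 23, 25, 26, 28, 29, 30, 39, 40, 41, 43, 44, 45, 46, 48, 49, 50, 36, 37, 39, 41, 42, 43, 44, 45, 46, 48, 50, 51, 47, 38, 35, 36, 38, 40, 41, 42, 43, 44, 45, 47,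 49, 50, 34, 36, 37, 38, 40, 41, 42, 43, 45, 46, 47, 49, 56, 57, 58, 56, 52, 53, 54, 56, 58, 59, 55, 52, 53, 55, 57, 51, 53, 54, 55, 57, 59, 60, 62, 61, 32, 33, 34, 31, 32, 30, 28, 25, 26, 27, 28, 30, 32, 34, 36, 37, 38, 39, 40, 41, 42, 43, 44, 35, 33, 27, 28, 24, 25, 27, 28, 30, 31, 32, 33, 35, 37, 38, 39, 40, 41, 30, 31, 23, 25, 26, 27, 28, 30, 31, 33, 34, 35, 37, 38, 39, 36, 26, 27, 28, 29, 25, 22, 23, 25, 27, 28, 29, 31, 32, 33, 34, 21, 22, 23, 24, 25, 26, 27, 20, 21, 22, 19, 17, 19, 21, 22, 24, 25, 26, 27, 29, 30, 31, 32, 33, 34, 36, 38, 39, 41, 43, 44, 46, 47, 48, 49, 50, 51, 52, 31, 16, 14, 16, 18, 19, 20, 21, 22, 23, 24, 26, 27, 28, 29, 31, 33, 34, 35, 36, 37, 32, 33, 17, 15, 13, 14, 15, 17, 19, 20, 21, 22, 24, 25, 26, 27, 29, 30, 11, 12, 13, 10, 8, 9, 10, 12, 13, 15, 16, 17, 19, 20, 22, 23, 24, 25, 27, 28, 29, 30,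 32, 33, 35, 36, 37, 39, 40, 41, 43, 44, 46, 47, 48, 49, 39, 28, 29, 30, 31, 18, 19, 17, 15, 9, 10, 11, 12, 13, 14, 15, 17, 19, 21, 22, 23, 24, 25, 26, 14, 15, 7, 9, 10, 11, 12, 14, 15, 17, 18, 19, 21, 22, 23, 24, 26, 27, 29, 30, 31, 33, 34, 35, 36, 37, 39, 41, 42, 43, 44, 46, 47, 30, 31, 32, 33, 35, 36, 37, 29, 30, 31, 33, 34, 28, 29, 31, 32, 25, 27, 10, 11, 12, 13, 9, 3, 4, 5, 6, 7, 9, 11, 12, 13, 15, 16, 17, 18, 19, 21, 22, 23, 24, 25, 27, 29, 30, 31, 32, 34, 36, 37, 39, 40, 41, 42, 43, 44, 46, 47, 49, 51, 52, 54, 55, 40, 41, 39, 36, 37, 20, 21, 22, 23, 24, 19, 20, 21, 22, 18, 19, 16, 17, 12, 13, 14, 15, 5, 6, 7, 8, 9, 10, 11, 12, 13, 14, 15, 17, 19, 14, 15, 16, 17, 13, 14, 10, 11, 3, 5, 6, 7, 8, 9, 10, 11, 13, 14, 16, 17, 19, 20, 22, 24, 26, 27, 28, 29, 30, 31, 32, 33, 34, 35, 36, 37, 39, 41, 43, 44, 45, 36, 37, 34, 25,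 23, 21, 22, 23, 25, 27, 28, 29, 18, 20, 21, 10, 11, 12, 8, 2, 3, 5, 6, 7, 8, 10, 11, 12, 14, 15, 16, 17, 18, 20, 21, 23, 24, 25, 27, 28, 29, 31, 32, 33, 34, 36, 37, 39, 40, 41, 43, 44, 45, 47, 48, 49, 51, 52, 54, 55, 57, 58, 59, 60, 54, 55, 53, 51, 53, 55, 57, 50, 51, 48, 50, 51, 53, 54, 55, 57, 59, 28, 29, 30, 31, 27, 28, 29, 26, 24, 26, 28, 29, 31, 33, 34, 35, 36, 37, 38, 39, 40, 41, 42, 44, 45, 32, 33, 34, 30, 22, 24, 25, 26, 28, 29, 30, 32, 33, 34, 36, 37, 38, 39, 40, 42, 43, 24, 21, 22, 24, 26, 27, 28, 29, 30, 32, 33, 34, 36, 37, 38, 40, 41, 20, 21, 22, 19, 16, 17, 19, 21, 22, 24, 25, 26, 27, 28, 29, 30, 32, 33, 34, 36, 38, 39, 40, 41, 43, 45, 47, 48, 49, 50, 51, 52, 44, 45, 47, 48, 49, 35, 25, 26, 27, 24, 25, 21, 22, 14, 16, 17, 18, 19, 20, 21, 22, 24, 25, 27, 29, 30, 31, 32, 33, 35, 37, 38, 39, 21, 22, 23, 19, 13,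 14, 16, 17, 18, 19, 21, 22, 23, 25, 26, 27, 29, 30, 31, 33, 34, 35, 37, 38, 39, 41, 42, 43, 44, 45, 47, 41, 42, 43, 25, 16, 17, 12, 13, 14, 16, 17, 19, 20, 21, 22, 23, 25, 27, 28, 29, 31, 32, 33, 34, 35, 37, 38, 39, 41, 21, 22, 23, 24, 25, 26, 27, 20, 21, 22, 19, 7, 8, 9, 10, 11, 12, 13, 14, 16, 17, 19, 21, 22, 24, 25, 26, 27, 29, 30, 31, 32, 33, 34, 35, 37, 38, 39, 41, 43, 45, 46, 47, 49, 51, 52, 54, 55, 26, 27, 28, 29, 30, 25, 26, 27, 24, 25, 23, 9, 11, 12, 13, 14, 15, 16, 17, 18, 19, 20, 21, 23, 25, 27, 29, 30, 32, 33, 34, 35, 20, 21, 22, 23, 19, 20, 8, 9, 11, 12, 13, 14, 15, 16, 17, 19, 20, 22, 23, 25, 26, 27, 29, 30, 32, 33, 34, 35, 37, 38, 39, 40, 41, 42, 43, 44, 25, 16, 17, 18, 7, 8, 9, 11, 12, 13, 14, 16, 17, 18, 20, 21, 22, 23, 25, 27, 28, 29, 30, 32, 33, 34, 35, 37, 38, 21, 22, 23, 20, 6, 7, 8, 9, 11, 12, 14, 15,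 16, 17, 18, 20, 22, 23, 25, 26, 27, 28, 29, 30, 32, 33, 34, 35, 37, 38, 40, 41, 42, 44, 45, 47, 48, 49, 51, 52, 54, 55, 57, 58, 32, 33, 34, 35, 31, 32, 33, 30, 31, 29, 27, 29, 31, 33, 35, 37, 38, 39, 40, 41, 42, 43, 44, 45, 46, 47, 48, 49, 36, 37, 34, 35, 32, 33, 30, 31, 32, 33, 35, 37, 39, 40, 41, 42, 43, 44, 45, 38, 36, 26, 27, 22, 23, 24, 26, 27, 29, 30, 31, 21, 22, 24, 25, 26, 27, 29, 30, 31, 33, 34, 35, 36, 38, 40, 41, 42, 33, 34, 20, 22, 23, 24, 25, 26, 27, 29, 30, 31, 33, 34, 36, 37, 38, 40, 24, 25, 26, 27, 28, 29, 30, 31, 32, 23, 19, 20, 21, 23, 25, 26, 27, 28, 18, 19, 21, 22, 23, 25, 26, 21, 17, 18, 19, 21, 23, 24, 25, 26, 28, 30, 31, 32, 34, 35, 36, 37, 38, 40, 42, 44, 45, 47, 48, 49, 51, 52, 53, 35, 15, 17, 18, 19, 20, 21, 22, 23, 25, 26, 27, 28, 29, 31, 32, 33, 35, 37, 38, 14, 15, 17, 18, 19, 20, 21, 23, 13, 14,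 15, 17, 18, 19, 21, 22, 23, 25, 26, 27, 29, 30, 31, 33, 34, 35, 37, 38, 40, 41, 42, 44, 45, 47, 48, 49, 51, 52, 53, 55, 56, 57, 52, 53, 54, 51, 52, 50, 48, 50, 52, 54, 56, 55, 47, 48, 49, 50, 46, 47, 44, 46, 47, 49, 50, 52, 53, 54, 37, 38, 36, 34, 36, 38, 40, 41, 42, 43, 44, 45, 46, 47, 48, 39, 37, 32, 34, 35, 36, 37, 39, 41, 42, 43, 44, 34, 35, 31, 32, 34, 35, 37, 38, 39, 37, 30, 31, 32, 34, 35, 37, 39, 40, 42, 43, 44, 46, 47, 48, 50, 51, 52, 53, 51, 52, 47, 48, 49, 50, 51, 43, 44, 45, 46, 47, 48, 49, 50, 49, 48, 47, 46, 45, 42, 43, 44, 22, 23, 24, 25, 26, 27, 20, 22, 23, 24, 25, 19, 20, 22, 23, 18, 19, 20, 17, 18, 16, 14, 16, 18, 20, 21, 23, 25, 27, 29, 30, 31, 32, 33, 34, 35, 36, 37, 38, 39, 40, 41, 42, 43, 37, 39, 40, 36, 37, 35, 33, 35, 37, 38, 40, 42, 41, 39, 40, 32, 33, 30, 32, 33, 35, 36, 37, 38, 39, 35, 37, 38, 26,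 27, 29, 30, 31, 32, 33, 28, 24, 25, 26, 22, 23, 24, 25, 26, 28, 30, 31, 32, 33, 35, 36, 37, 23, 25, 26, 27, 28, 29, 30, 31, 24, 25, 22, 21, 22, 24, 25, 27, 28, 29, 30, 31, 33, 34, 35, 36, 35, 34, 30, 31, 32, 33, 29, 30, 31, 32, 31, 30, 29, 28, 27, 24, 25, 26, 11, 12, 13, 14, 15, 16, 10, 11, 12, 13, 5, 6, 7, 8, 10, 4, 5, 6, 8, 9, 10, 12, 13, 15, 16, 18, 19, 20, 21, 22, 23, 24, 25, 24, 23, 20, 21, 22, 19, 15, 16, 17, 19, 21, 20, 14, 15, 17, 18, 19, 13, 15, 16, 17, 18, 16, 17, 12, 13, 14, 15, 16, 9, 10, 11, 12, 13, 14, 15, 14, 13, 12, 11, 10, 3, 4, 6, 7, 8, 9, 2, 4, 5, 6, 7, 8, 5, 7, 6, 1, 2, 3, 4, 5, 0, 1, 2, 3, 4, 2, 3, 1, 2, 0, 1, 0]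
    ((RE .b3 .c3 .d3 .b1 .c1).reverse ++ YW.rep [.a, .b1, .c1, .b3, .c3, .d3, .b2] 9) = true := by
  decide +kernel

def gN (c : ℕ) : BabyMonster.Gen :=
  [.t5, .t4, .t3, .t2, .t1, .t6, .t7, .t8, .t9, .t10, .t11].getD c .t1
noncomputable def xh (c : ℕ) : HH tau := ⟨xB (bN (gN c)), xB_mem _⟩
noncomputable abbrev q : HH tau →* HH tau ⧸ Subgroup.center (HH tau) := QuotientGroup.mk' _
noncomputable def th : HH tau := ⟨tv 1 c0, tt_mem_HH⟩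

theorem th_comm (m : HH tau) : Commute th m :=
  Subtype.ext (mul_inv_eq_iff_eq_mul.1 (mem_HH.1 m.2).2).symm
theorem th_sq : th * th = 1 := Subtype.ext (tv_mul_self _ _)
theorem th_ne : th ≠ 1 := fun e => tt_ne_one (congrArg Subtype.val e)

theorem q_eq {a b : HH tau} (e : q a = q b) : a = b * 1 ∨ a = b * th := by
  have : b⁻¹ * a ∈ Subgroup.center (HH tau) := QuotientGroup.eq.1 e.symm
  rw [center_HH tri_tau, Subgroup.mem_subgroupOf] at this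
  refine (mem_zpowers_invol (tv_mul_self _ _) this).imp (fun h => ?_) fun h => ?_
  · exact inv_mul_eq_iff_eq_mul.1 (Subtype.ext h)
  · exact inv_mul_eq_iff_eq_mul.1 (Subtype.ext h)

theorem ev_xh (w : List ℕ) : (ev xh w).1 = vl xB (w.map fun c => bN (gN c)) := by
  induction w with
  | nil => rfl
  | cons c w ih => rw [ev_cons, List.map_cons, vl_cons, ← ih]; rfl

theorem pw_xh {w : List ℕ} {l r : List Nd} (c : List ℕ)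
    (e : red c (r.reverse ++ YW.rep l 9) = true) (hw : (w.map fun c => bN (gN c)) = l := by rfl)
    (hl : .e3 ∉ YW.rep l 9 := by decide) (hr : .e3 ∉ r := by decide) :
    (ev xh w ^ 9).1 = vl xB r := by
  rw [Subgroup.coe_pow, ev_xh, hw, ← vl_rep, sys_eq sys_xB c e hl hr]

theorem w_t : ev xh [0, 1, 2, 5, 6, 7, 8] ^ 9 = th :=
  Subtype.ext ((pw_xh _ red_b2).trans (sys_xB.e21.trans xB_f2))
theorem w_1 : ev xh [0, 1, 2, 8, 9, 10, 5] ^ 9 = 1 :=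
  Subtype.ext ((pw_xh _ red_b3s).trans (sys_xB.e31.trans sys_xB.f3))
theorem w_f : (ev xh [6, 5, 0, 1, 2, 3, 8] ^ 9).1 = xB .f1 := (pw_xh _ red_f1).trans sys_xB.e12
theorem w_f' : (ev xh [9, 8, 0, 1, 2, 3, 5] ^ 9).1 = xB .f1 := (pw_xh _ red_f1s).trans sys_xB.e13

theorem exists_f (h : IsB BabyMonster) : ∃ f : PY.G →* HH tau ⧸ Subgroup.center (HH tau),
    Function.Bijective f ∧ ∀ c < 11, f (PY.e c) = q (xh c) := by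
  obtain ⟨f, h1, h2⟩ := baby_hom
  have := h.1
  have hi : Function.Injective f := (MonoidHom.ker_eq_bot_iff f).1
    ((f.normal_ker.eq_bot_or_eq_top).resolve_right h1)
  refine ⟨f, (Nat.bijective_iff_injective_and_card f).2 ⟨hi, h.2.trans card_HHq.symm⟩, fun c hc => ?_⟩
  interval_cases c <;> exact h2 _

theorem lift {f : PY.G →* HH tau ⧸ Subgroup.center (HH tau)} (hf : ∀ c < 11, f (PY.e c) = q (xh c))
    {L : List ℕ} (hL : ∀ c ∈ L, c < 11) (ht : th ∈ gen xh L) {b : PY.G} (hb : b ∈ gen PY.e L)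
    {m : HH tau} (e : f b = q m) : m ∈ gen xh L := by
  have : f b ∈ (gen xh L).map q := by
    rw [map_gen, ← gen_congr fun c hc => hf c (hL c hc), ← map_gen]; exact ⟨b, hb, rfl⟩
  obtain ⟨k, hk, e'⟩ := this
  rcases q_eq (e.symm.trans e'.symm) with a | a <;> rw [a]
  · exact mul_mem hk (one_mem _)
  · exact mul_mem hk ht

theorem cox3 {a b : ℕ} (h : lb (bN (gN a)) (bN (gN b)) = 3) : (xh a * xh b) ^ 3 = 1 := by
  have := sys_xB.cox (bN (gN a)) (bN (gN b))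
  rw [h, inv_eq_of_mul_eq_one_right (sys_xB.sq (by cases gN b <;> decide))] at this
  exact Subtype.ext this

theorem conj_w {ω z : HH tau} (hz : ∀ m, Commute z m)
    (h : ∀ c < 11, ω * xh c * ω⁻¹ = xh (YB.ta c) * z) : ∀ w : List ℕ, (∀ c ∈ w, c < 11) →
    ω * ev xh w * ω⁻¹ = ev xh (w.map YB.ta) * z ^ w.length
  | [], _ => by simp
  | c :: w, hw => by
    rw [List.forall_mem_cons] at hw
    rw [ev_cons, List.map_cons, ev_cons, List.length_cons, pow_succ', mul_assoc (xh _),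
      ← mul_assoc (ev _ _), ← (hz _).eq, mul_assoc z, ← conj_w hz h w hw.2, ← mul_assoc (xh _),
      ← h c hw.1]
    group

theorem conj_9 {ω z : HH tau} (hz : z = 1 ∨ z = th)
    (h : ∀ c < 11, ω * xh c * ω⁻¹ = xh (YB.ta c) * z) (w : List ℕ) (hw : ∀ c ∈ w, c < 11)
    (hl : w.length = 7) : ω * ev xh w ^ 9 * ω⁻¹ = ev xh (w.map YB.ta) ^ 9 * z := by
  have hc : ∀ m, Commute z m := fun m => by
    rcases hz with rfl | rfl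
    exacts [Commute.one_left m, th_comm m]
  have h2 : z ^ 2 = 1 := by
    rcases hz with rfl | rfl
    exacts [one_pow 2, (sq _).trans th_sq]
  rw [← conj_pow, conj_w hc h w hw, hl, ((hc _).symm.pow_right 7).mul_pow, ← pow_mul,
    show 7 * 9 = 2 * 31 + 1 from rfl, pow_succ z, pow_mul, h2, one_pow, one_mul]

theorem om_of {ω : HH tau} (h : ∀ c < 11, q (ω * xh c * ω⁻¹) = q (xh (YB.ta c))) :
    ∀ c < 11, ω * xh c * ω⁻¹ = xh (YB.ta c) * th := by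
  have ed : ∀ {a b : ℕ} {z z' : HH tau}, lb (bN (gN a)) (bN (gN b)) = 3 →
      lb (bN (gN (YB.ta a))) (bN (gN (YB.ta b))) = 3 → (z = 1 ∨ z = th) → (z' = 1 ∨ z' = th) →
      ω * xh a * ω⁻¹ = xh (YB.ta a) * z → ω * xh b * ω⁻¹ = xh (YB.ta b) * z' → z' = z := by
    intro a b z z' h1 h2 hz hz' e1 e2
    have e : (xh (YB.ta a) * z * (xh (YB.ta b) * z')) ^ 3 = 1 := by
      rw [← e1, ← e2, conj_mul, conj_pow, cox3 h1, mul_one, mul_inv_cancel]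
    have k : (xh (YB.ta a) * xh (YB.ta b) * th) ^ 3 ≠ 1 := by
      rw [(th_comm _).symm.mul_pow, cox3 h2, one_mul, pow_three, th_sq, mul_one]; exact th_ne
    rcases hz with rfl | rfl <;> rcases hz' with rfl | rfl
    · rfl
    · exact absurd (by rwa [mul_one, ← mul_assoc] at e) k
    · exact absurd (by rwa [mul_one, mul_assoc, (th_comm _).eq, ← mul_assoc] at e) k
    · rfl
  have ex : ∀ c < 11, ∃ z, (z = 1 ∨ z = th) ∧ ω * xh c * ω⁻¹ = xh (YB.ta c) * z := fun c hc =>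
    (q_eq (h c hc)).elim (fun a => ⟨_, Or.inl rfl, a⟩) fun a => ⟨_, Or.inr rfl, a⟩
  obtain ⟨z, hz, h0⟩ := ex 0 (by omega)
  have st : ∀ a b, b < 11 → lb (bN (gN a)) (bN (gN b)) = 3 →
      lb (bN (gN (YB.ta a))) (bN (gN (YB.ta b))) = 3 → ω * xh a * ω⁻¹ = xh (YB.ta a) * z →
      ω * xh b * ω⁻¹ = xh (YB.ta b) * z := fun a b hb h1 h2 e => by
    obtain ⟨z', hz', e'⟩ := ex b hb
    rw [e', ed h1 h2 hz hz' e e']
  have h1 := st 0 1 (by omega) (by decide) (by decide) h0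
  have h2 := st 1 2 (by omega) (by decide) (by decide) h1
  have h3 := st 2 3 (by omega) (by decide) (by decide) h2
  have h4 := st 3 4 (by omega) (by decide) (by decide) h3
  have h5 := st 0 5 (by omega) (by decide) (by decide) h0
  have h6 := st 5 6 (by omega) (by decide) (by decide) h5
  have h7 := st 6 7 (by omega) (by decide) (by decide) h6
  have h8 := st 0 8 (by omega) (by decide) (by decide) h0
  have h9 := st 8 9 (by omega) (by decide) (by decide) h8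
  have h10 := st 9 10 (by omega) (by decide) (by decide) h9
  have al : ∀ c < 11, ω * xh c * ω⁻¹ = xh (YB.ta c) * z := fun c hc => by
    interval_cases c
    exacts [h0, h1, h2, h3, h4, h5, h6, h7, h8, h9, h10]
  have := conj_9 hz al [0, 1, 2, 5, 6, 7, 8] (by decide) rfl
  rw [w_t, show [0, 1, 2, 5, 6, 7, 8].map YB.ta = [0, 1, 2, 8, 9, 10, 5] by decide, w_1, one_mul,
    ← (th_comm ω).eq, mul_inv_cancel_right] at this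
  rwa [this]

theorem main (h : IsB BabyMonster) : gen xh NL = ⊤ ∧ ∃ ω : HH tau,
    (∀ c < 11, ω * xh c * ω⁻¹ = xh (YB.ta c) * th) ∧
    ∀ m : HH tau, m.1 * xB .f1 * m.1⁻¹ = xB .f1 → m ∈ gen xh L3 := by
  obtain ⟨f, hf, he⟩ := exists_f h
  obtain ⟨ω0, h1, h2⟩ := tb_main h
  have t3 : th ∈ gen xh L3 := w_t ▸ pow_mem (ev_mem_gen (by decide)) 9
  obtain ⟨ω, hω⟩ := QuotientGroup.mk'_surjective _ (f ω0)
  have ho := om_of (ω := ω) fun c hc => by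
    rw [map_mul, map_mul, map_inv, hω, ← he c hc, ← he _ (by interval_cases c <;> decide),
      ← h1 c hc, map_mul, map_mul, map_inv]
  refine ⟨eq_top_iff.2 fun m _ => ?_, ω, ho, fun m hm => ?_⟩
  · obtain ⟨b, hb⟩ := hf.2 (q m)
    exact lift he (by decide) (gen_mono (by decide) t3) (PY_top ▸ Subgroup.mem_top b) hb
  · obtain ⟨b, hb⟩ := hf.2 (q m)
    have hF : f (ev PY.e [6, 5, 0, 1, 2, 3, 8] ^ 9) = q (ev xh [6, 5, 0, 1, 2, 3, 8] ^ 9) := by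
      rw [map_pow, map_pow, map_ev, map_ev, ev_congr fun c hc => he c (by revert c; decide)]
    have hm' : m * ev xh [6, 5, 0, 1, 2, 3, 8] ^ 9 = ev xh [6, 5, 0, 1, 2, 3, 8] ^ 9 * m :=
      Subtype.ext (by rw [Subgroup.coe_mul, Subgroup.coe_mul, w_f]; exact mul_inv_eq_iff_eq_mul.1 hm)
    rcases h2 b (hf.1 (by rw [map_mul, map_mul, hF, hb, ← map_mul, hm', map_mul])) with a | a
    · exact lift he (by decide) t3 a hb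
    · have a' := lift he (by decide) t3 a (m := m * ω) (by rw [map_mul, map_mul, hb, hω])
      have cm : gen xh L3 ≤ Subgroup.centralizer {ev xh [6, 5, 0, 1, 2, 3, 8] ^ 9} :=
        gen_le.2 fun c hc => Subgroup.mem_centralizer_singleton_iff.2 (Subtype.ext (by
          rw [Subgroup.coe_mul, Subgroup.coe_mul, w_f]
          have e2 : lb (bN (gN c)) .f1 = 2 := by revert c; decide
          have := sys_xB.cox (bN (gN c)) .f1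
          rw [e2, pow_two, mul_eq_one_iff_eq_inv,
            mul_inv_rev, inv_inv, inv_eq_of_mul_eq_one_right (sys_xB.sq (n := .f1) (by decide)),
            inv_eq_of_mul_eq_one_right (sys_xB.sq (by cases gN c <;> decide))] at this
          exact this))
      have c1 := Subgroup.mem_centralizer_singleton_iff.1 (cm a')
      have c2 := conj_9 (Or.inr rfl) ho [6, 5, 0, 1, 2, 3, 8] (by decide) rfl
      rw [show [6, 5, 0, 1, 2, 3, 8].map YB.ta = [9, 8, 0, 1, 2, 3, 5] by decide,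
        show ev xh [9, 8, 0, 1, 2, 3, 5] ^ 9 = ev xh [6, 5, 0, 1, 2, 3, 8] ^ 9 from
          Subtype.ext (w_f'.trans w_f.symm)] at c2
      rw [← mul_assoc, ← hm', mul_assoc, mul_assoc, mul_right_inj] at c1
      rw [c1, mul_inv_cancel_right, left_eq_mul] at c2
      exact absurd c2 th_ne

theorem gen_val {L : List ℕ} {K : Subgroup E} (h : ∀ c ∈ L, xB (bN (gN c)) ∈ K) {m : HH tau}
    (hm : m ∈ gen xh L) : m.1 ∈ K :=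
  (gen_le (H := K.subgroupOf (HH tau))).2 h hm

end TB

theorem yb_gen (h : IsB BabyMonster) : Subgroup.closure (Set.range fun n => xB (bN n)) = HH tau := by
  refine le_antisymm ((Subgroup.closure_le _).2 ?_) fun m hm => ?_
  · rintro _ ⟨n, rfl⟩
    exact Y.xB_mem n
  · exact TB.gen_val (m := ⟨m, hm⟩) (fun c _ => Subgroup.subset_closure (Set.mem_range_self (f := fun n => xB (bN n)) _))
      ((TB.main h).1 ▸ Subgroup.mem_top _)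

theorem yb_om (h : IsB BabyMonster) :
    ∃ ω ∈ HH tau, ∀ n, ω * xB (bN n) * ω⁻¹ = xB (sw23 (bN n)) * tv 1 c0 := by
  obtain ⟨-, ω, h1, -⟩ := TB.main h
  refine ⟨ω, ω.2, fun n => ?_⟩
  have := congrArg Subtype.val (h1 (YB.gix n) (by cases n <;> decide))
  cases n <;> exact this

theorem yb_cent (h : IsB BabyMonster) {m : E} (hm : m ∈ HH tau) (e : m * xB .f1 * m⁻¹ = xB .f1) :
    m ∈ Subgroup.closure {x | ∃ n ∈ N333, x = xB n} := by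
  obtain ⟨-, ω, -, h1⟩ := TB.main h
  exact TB.gen_val (m := ⟨m, hm⟩)
    (fun c hc => Subgroup.subset_closure (show ∃ n ∈ N333, xB (bN (TB.gN c)) = xB n from
      ⟨_, by revert c; decide, rfl⟩)) (h1 _ e)

end H10.Mon.T
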