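import Mathlib
import Cfsg.Agent.H10.TD
import Cfsg.Agent.H19.MF2

/-!
# Relations between lifted points; coded points of the frame
-/

set_option autoImplicit false
set_option linter.all false
set_option maxRecDepth 100000

namespace H10.Mon.T

open Cfsg H9 H29

/-- `T` is the involution of the axis `u`. -/
def IvOf (u : U) (T : E) : Prop := ∃ m ∈ MM tau, m (ax 1 c0) = u ∧ T = m * tv 1 c0 * m⁻¹

theorem IvOf.uniq {u : U} {T T' : E} : IvOf u T → IvOf u T' → T = T' := by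
  rintro ⟨m, h1, h2, rfl⟩ ⟨k, k1, k2, rfl⟩
  exact conj_tv_eq (MM_le_Aut tri_tau h1) (MM_le_Aut tri_tau k1) (h2.trans k2.symm)

theorem IvOf.inj {u u' : U} {T : E} : IvOf u T → IvOf u' T → u = u' := by
  rintro ⟨m, h1, rfl, rfl⟩ ⟨k, k1, rfl, e⟩
  have := fix_M (k⁻¹ * m) (mul_mem (inv_mem k1) h1) (by
    rw [mul_inv_rev, inv_inv, mul_assoc _ m, mul_assoc, ← mul_assoc (m * _), e]; group)
  rw [← congrArg k this, ← LinearEquiv.mul_apply, mul_inv_cancel_left]

theorem IvOf.map {u : U} {T g : E} (hg : g ∈ MM tau) : IvOf u T → IvOf (g u) (g * T * g⁻¹) := by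
  rintro ⟨m, h1, rfl, rfl⟩
  exact ⟨g * m, mul_mem hg h1, rfl, by group⟩

theorem ivOf_ax (s : ZMod 2) (c : S) : IvOf (ax s c) (tv s c) := by
  obtain ⟨g, hg⟩ := (mem_OG_ax (t := 1) (c := c0)).2 ⟨s, c, rfl⟩
  exact ⟨rho g, rho_mem_MM _ _, hg, (conj_tv (rho_mem_Aut g) hg).symm⟩

theorem tv_sq {s t : ZMod 2} {c d : S} (h : bb c.1 d.1 + bb d.1 c.1 = 1) :
    (tv s c * tv t d) ^ 2 = zz := by
  rw [tv, tv, ← map_mul, qe_mul, sq, ← map_mul, qe_mul, two_zmod (c.1 + d.1), two_zmod (_ : ZMod 2),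
    zero_add, bb_add_left, bb_add_right, bb_add_right, bb_S, bb_S, zero_add, add_zero, h, zz]

variable {G X : Type*} [Group G] [MulAction G X] (A : Am G X)

/-- Equality, `2A`, `4A`, `6A`. -/
def Am.Rel : ℕ → X → X → Prop
  | 0, x, y => x = y
  | 1, x, y => A.Adj x y
  | 2, x, y => ∃ (g : G) (s t : ZMod 2) (c d : S), bb c.1 d.1 + bb d.1 c.1 = 1 ∧
      x = g • A.σ s c ∧ y = g • A.σ t d
  | _, x, y => ∃ a, A.Adj x a ∧ A.Adj a y ∧ ∃ T1 T2 T3, IvOf (A.p x) T1 ∧ IvOf (A.p y) T2 ∧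
      IvOf (A.p a) T3 ∧ (T1 * T2) ^ 3 = T3

variable {A}

theorem Am.Rel.smul (g : G) : ∀ {r : ℕ} {x y : X}, A.Rel r x y → A.Rel r (g • x) (g • y)
  | 0, _, _, h => congrArg (g • ·) h
  | 1, _, _, h => A.adj_smul g _ _ h
  | 2, _, _, ⟨k, s, t, c, d, h, e1, e2⟩ =>
    ⟨g * k, s, t, c, d, h, by rw [e1, mul_smul], by rw [e2, mul_smul]⟩
  | _ + 3, _, _, ⟨a, h1, h2, T1, T2, T3, i1, i2, i3, e⟩ =>
    ⟨g • a, A.adj_smul g _ _ h1, A.adj_smul g _ _ h2, _, _, _,
      A.p_smul g _ ▸ i1.map (A.mem g), A.p_smul g _ ▸ i2.map (A.mem g),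
      A.p_smul g _ ▸ i3.map (A.mem g), by rw [conj_mul, conj_pow, e]⟩

theorem Am.eq_of {g k : G} {x : X} (h1 : A.π g = A.π k) (h2 : g • x = k • x) : g = k := by
  have := A.free (k⁻¹ * g) x (by rw [map_mul, map_inv, h1, inv_mul_cancel])
    (by rw [mul_smul, h2, inv_smul_smul])
  rwa [inv_mul_eq_one, eq_comm] at this

theorem Am.eq_σ {g : G} {n : GT} {s s' : ZMod 2} {c c' : S} (h1 : A.π g = rho n)
    (h2 : g • A.σ s c = A.σ s' c') : g = A.ι n := by
  refine Am.eq_of (h1.trans (A.π_ι n).symm) (x := A.σ s c) ?_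
  have := congrArg A.p h2
  rw [A.p_smul, A.p_σ, A.p_σ, h1, rho_ax] at this
  rw [h2, A.ι_σ, (ax_inj this).1, (ax_inj this).2]

theorem Am.Rel.uniq : ∀ {r : ℕ} {x y z : X}, A.Rel r x y → A.Rel r x z → A.p y = A.p z → y = z
  | 0, _, _, _, h, k, _ => h.symm.trans k
  | 1, _, _, _, h, k, e => A.adj_uniq _ _ _ h k e
  | 2, _, _, _, ⟨g, s, t, c, d, h, e1, e2⟩, ⟨k, s', t', c', d', h', f1, f2⟩, e => by
    have a1 : (k⁻¹ * g) • A.σ s c = A.σ s' c' := by rw [mul_smul, ← e1, f1, inv_smul_smul]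
    have a2 := congrArg A.p a1
    have a3 : A.π (k⁻¹ * g) (ax t d) = ax t' d' := by
      rw [e2, f2, A.p_smul, A.p_smul, A.p_σ, A.p_σ] at e
      rw [map_mul, LinearEquiv.mul_apply, e, ← LinearEquiv.mul_apply, ← map_mul, inv_mul_cancel,
        map_one]; rfl
    rw [A.p_smul, A.p_σ, A.p_σ] at a2
    have ha := MM_le_Aut tri_tau (A.mem (k⁻¹ * g))
    obtain ⟨n, hn⟩ := mem_GG_of_comm ha (by
      rw [← mul_inv_eq_iff_eq_mul]
      conv_lhs => rw [← tv_sq (s := s) (t := t) h, ← conj_pow, ← conj_mul, conj_tv ha a2,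
        conj_tv ha a3, tv_sq h'])
    have a4 := Am.eq_σ hn.symm a1
    rw [← hn, rho_ax] at a3
    rw [e2, f2, ← (ax_inj a3).1, ← (ax_inj a3).2, ← A.ι_σ, ← a4, ← mul_smul, mul_inv_cancel_left]
  | _ + 3, _, _, _, ⟨a, h1, h2, T1, T2, T3, i1, i2, i3, e1⟩, ⟨b, k1, k2, R1, R2, R3, j1, j2, j3, e2⟩,
      e => by
    obtain rfl := i1.uniq j1
    obtain rfl := (e ▸ i2 : IvOf _ T2).uniq j2
    obtain rfl := A.adj_uniq _ _ _ h1 k1 (i3.inj (by rwa [← e1, e2]))
    exact A.adj_uniq _ _ _ h2 k2 e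

theorem Am.t_cube : A.t ^ 3 = 1 := by
  have := A.t_σ 1 c0 1 c0 ⟨1, one_mem _, one_smul _ _⟩ tau_fix
  refine A.free _ (A.σ 1 c0) (by rw [map_pow, A.π_t, tri_tau.cube]) ?_
  rw [pow_three, mul_smul, mul_smul, this, this, this]

theorem Am.t_fix (e : ℕ) : A.t ^ e • A.σ 1 c0 = A.σ 1 c0 :=
  (MulAction.stabilizer G _).pow_mem (A.t_σ 1 c0 1 c0 ⟨1, one_mem _, one_smul _ _⟩ tau_fix) e

theorem Am.nrm {n : GT} (h : co n • Om = Om) : ∃ n' e, A.t * A.ι n = A.ι n' * A.t ^ e := by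
  obtain ⟨n', e, k⟩ : ∃ (n' : GT) (e : ℕ), tau * rho n = rho n' * tau ^ e := by
    obtain ⟨c, c1, c2⟩ := pre_tau.inv
    rcases NE_or h c1 with b | b
    · obtain ⟨l, -, hl⟩ := pre_tau.conj b
      exact ⟨l, 1, by rw [pow_one, ← hl, inv_mul_cancel_right]⟩
    · obtain ⟨l, -, hl⟩ := pre_tau.conj b
      refine ⟨l * (qe 0 c)⁻¹, 2, ?_⟩
      rw [sq, map_mul rho l, ← hl, map_mul rho n, map_inv, ← pre_tau.inv_eq]
      conv_rhs => rw [mul_assoc, mul_assoc, mul_assoc, ← mul_assoc tau⁻¹, ← _root_.mul_inv_rev, ← c2]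
      group
  refine ⟨n', e, Am.eq_of (A := A) (x := A.σ 1 c0)
    (by simp only [map_mul, map_pow, A.π_t, A.π_ι, k]) ?_⟩
  rw [mul_smul, mul_smul, Am.t_fix, A.ι_σ, A.ι_σ]
  refine A.t_σ _ _ _ _ ⟨_, fix_Om.1 h, rfl⟩ ?_
  rw [← rho_ax, ← rho_ax, ← LinearEquiv.mul_apply, k, LinearEquiv.mul_apply,
    show (tau ^ e) (ax 1 c0) = ax 1 c0 from
      (MulAction.stabilizer E (ax 1 c0)).pow_mem tau_fix e]

/-! ### Codes -/

def sv (v : ℕ) : ZMod 2 := ((v / 16777216 : ℕ) : ZMod 2)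
def lab (v : ℕ) : ℕ := v / 33554432

/-- `f` is the action of `g` on codes. -/
def Mp (g : GT) (f : ℕ → ℕ) : Prop :=
  ∀ v, dec (f v) = co g • dec v ∧ sv (f v) = sv v + ep g (dec v) ∧ lab (f v) = lab v

theorem Mp.one : Mp 1 fun v => v := fun v => by simp [ep_one]

theorem Mp.comp {g h : GT} {f k : ℕ → ℕ} (a : Mp g f) (b : Mp h k) : Mp (h * g) fun v => k (f v) :=
  fun v => by
    rw [(b _).1, (b _).2.1, (b _).2.2, (a _).1, (a _).2.1, (a _).2.2, map_mul, mul_smul, ep_mul,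
      add_assoc]
    exact ⟨rfl, rfl, rfl⟩

noncomputable def par (x : ℕ) : ℕ :=
  lit (Nat.xor x (Nat.shiftRight x 16)) fun x => lit (Nat.xor x (Nat.shiftRight x 8)) fun y =>
    lit (Nat.xor y (Nat.shiftRight y 4)) fun z => lit (Nat.xor z (Nat.shiftRight z 2)) fun t =>
      Nat.land (Nat.xor t (Nat.shiftRight t 1)) 1

theorem cast_land (x : ℕ) : ((x &&& 1 : ℕ) : ZMod 2) = bt x 0 := by
  rw [Nat.and_one_is_mod, bt, Nat.testBit_zero]
  rcases Nat.mod_two_eq_zero_or_one x with h | h <;> simp [h]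

theorem par_eq (x : ℕ) : (par x : ZMod 2) = ∑ j ∈ Finset.range 32, bt x j := by
  simp only [par, lit_eq, land_eq, cast_land, xor_eq, shr_eq, bt_xor, MF.bt_shr,
    Finset.sum_range_succ, Finset.sum_range_zero]
  norm_num only
  ring

theorem par_le (x : ℕ) : par x ≤ 1 := by
  simp only [par, lit_eq, land_eq]; exact Nat.and_le_right

noncomputable def act (W : List ℕ) (v : ℕ) : ℕ :=
  lit (apC W v) fun r => Nat.add (Nat.add (Nat.mod r 16777216) (Nat.mul 16777216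
    (par (Nat.land (Nat.lor (Nat.land (Nat.shiftRight r 24) 33554431) 33554432)
      (Nat.succ (Nat.mul 2 v)))))) (Nat.mul 33554432 (Nat.div v 33554432))

noncomputable def qOk (W : List ℕ) (lam : ℕ) : Bool :=
  allN 24 fun k => Nat.beq (Nat.shiftRight (nth 0 W k) 24) (Nat.add
    (Nat.mul 2 (Nat.land (cdv (mapL (fun a => bbN a (nth 0 W k)) W []) 0) (ones k)))
    (Nat.land (Nat.shiftRight lam k) 1))

theorem bt_odd (n j : ℕ) : bt (2 * n + 1) (j + 1) = bt n j :=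
  bt_congr (by rw [Nat.testBit_succ]; congr 1; omega)

theorem sv_eq (v : ℕ) : sv v = bt v 24 := by
  rw [← MF.bt_shr v 24 0, ← cast_land, Nat.and_one_is_mod, Nat.shiftRight_eq_div_pow, sv,
    ZMod.natCast_mod]

theorem ep_of {g : GT} {W : List ℕ} {lam : ℕ} (hc : Cols (co g) W)
    (hl : ∀ j < 24, ep g (dec (2 ^ j)) = bt lam j) (hq : qOk W lam = true) (n : ℕ) :
    ep g (dec n) = ∑ i ∈ Finset.range 25, bt (apC W n) (24 + i) * bt (2 * n + 1) i := by
  have b : ∀ j < 24, bt (nth 0 (bits n) j) 0 = bt n j := fun j hj => bt_congr (by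
    rw [show nth 0 (bits n) j = n >>> j by interval_cases j <;> rfl, Nat.testBit_shiftRight, add_zero])
  have e := bt_epP (F := 1) (Q := bits n) (p := 0) hc hl rfl rfl 24 le_rfl
  rw [Finset.sum_congr rfl fun j hj => by rw [b j (Finset.mem_range.1 hj)], ← dec_sum] at e
  have k : ∀ k ≤ 24, bt (epP 1 (bits n) W lam k) 0 = ∑ j ∈ Finset.range k, bt n j *
      ∑ i ∈ Finset.range 25, bt (nth 0 W j) (24 + i) * bt (2 * n + 1) i := fun k hk => by
    induction k with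
    | zero => exact bt_zero _
    | succ k ih =>
      change bt (epP 1 (bits n) W lam k ^^^ (nth 0 (bits n) k &&& apC (1 :: bits n) (Nat.add _ _))) 0 = _
      rw [← H29.beq_true.1 (allN_true.1 hq k (by omega)), bt_xor, bt_and, ih (by omega),
        Finset.sum_range_succ, b k (by omega), bt_apC]
      refine congrArg (_ + bt n k * ·) (Finset.sum_congr rfl fun i hi => ?_)
      rw [shr_eq, MF.bt_shr]
      congr 1
      cases i with
      | zero => exact bt_congr (by simp [nth, Nat.testBit_zero])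
      | succ i => rw [bt_odd]; exact b i (by have := Finset.mem_range.1 hi; omega)
  rw [← e, k 24 le_rfl]
  simp only [bt_apC, hc.1, Finset.mul_sum, Finset.sum_mul, mul_assoc]
  exact Finset.sum_comm

theorem bt_mask (r j : ℕ) : bt (r >>> 24 &&& (2 ^ 25 - 1) ||| 2 ^ 25) j =
    if j < 25 then bt r (24 + j) else if j = 25 then 1 else 0 := by
  rw [bt, Nat.testBit_or, Nat.testBit_and, Nat.testBit_two_pow_sub_one, Nat.testBit_two_pow,
    Nat.testBit_shiftRight]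
  by_cases a : j < 25
  · simp only [a, bt, show 25 ≠ j by omega, decide_true, decide_false, Bool.and_true, Bool.or_false,
      if_true]
  · simp only [a, eq_comm (a := 25), decide_false, Bool.and_false, Bool.false_or, if_false,
      decide_eq_true_eq]

theorem sum_mask (r u : ℕ) {a b : ℕ} (ha : a = 2 ^ 25 - 1) (hb : b = 2 ^ 25) :
    ∑ j ∈ Finset.range 32, bt ((r >>> 24 &&& a ||| b) &&& u) j =
    bt u 25 + ∑ j ∈ Finset.range 25, bt r (24 + j) * bt u j := by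
  rw [ha, hb, show 32 = 25 + 1 + 6 from rfl, Finset.sum_range_add, Finset.sum_range_succ,
    Finset.sum_eq_zero (s := Finset.range 6) fun j _ => by
      rw [bt_and, bt_mask, if_neg (by omega), if_neg (by omega), zero_mul],
    add_zero, bt_and, bt_mask, if_neg (by omega), if_pos rfl, one_mul, add_comm,
    Finset.sum_congr rfl fun j hj => by rw [bt_and, bt_mask, if_pos (Finset.mem_range.1 hj)]]

theorem mp_act {g : GT} {W : List ℕ} {lam : ℕ} (hc : Cols (co g) W)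
    (hl : ∀ j < 24, ep g (dec (2 ^ j)) = bt lam j) (hq : qOk W lam = true) : Mp g (act W) := fun v => by
  simp only [act, lit_eq, Nat.add_eq, Nat.mul_eq, show ∀ a b, Nat.mod a b = a % b from fun _ _ => rfl,
    show ∀ a b, Nat.div a b = a / b from fun _ _ => rfl, Nat.succ_eq_add_one,
    land_eq, lor_eq, shr_eq]
  have h1 := par_le ((apC W v >>> 24 &&& 33554431 ||| 33554432) &&& (2 * v + 1))
  have h2 := par_eq ((apC W v >>> 24 &&& 33554431 ||| 33554432) &&& (2 * v + 1))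
  rw [sum_mask (apC W v) (2 * v + 1) (a := 33554431) (b := 33554432) (by norm_num) (by norm_num)] at h2
  generalize par _ = b at h1 h2
  refine ⟨?_, ?_, by unfold lab; omega⟩
  · rw [← hc.ap]
    refine dec_congr fun j hj => ?_
    have : ∀ a, a.testBit j = (a % 2 ^ 24).testBit j := fun a => by
      rw [Nat.testBit_mod_two_pow, decide_eq_true hj, Bool.true_and]
    rw [this, this (apC W v)]
    congr 1; omega
  · rw [sv, show (apC W v % 16777216 + 16777216 * b + 33554432 * (v / 33554432)) / 16777216 =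
      b + 2 * (v / 33554432) by omega, Nat.cast_add, Nat.cast_mul, h2, ep_of hc hl hq, sv_eq,
      show ((2 : ℕ) : ZMod 2) = 0 from rfl, zero_mul, add_zero, bt_odd v 24]

/-- A word in compiled elements. -/
noncomputable def runP (Ws : List (List ℕ)) (u : List ℕ) : ℕ → ℕ :=
  List.rec (motive := fun _ => ℕ → ℕ) (fun v => v)
    (fun c _ ih v => lit (act (nth hCI Ws c) v) ih) u

theorem mp_id : Mp 1 (act hCI) :=
  mp_act (lam := 0) (by rw [map_one]; exact cols_one) (fun j _ => (ep_one _).trans (bt_zero _).symm)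
    (by decide +kernel)

theorem mp_runP {Ws : List (List ℕ)} {T : Subgroup GT} (h : ∀ W ∈ Ws, ∃ g ∈ T, Mp g (act W)) :
    ∀ u, ∃ g ∈ T, Mp g (runP Ws u)
  | [] => ⟨1, one_mem _, Mp.one⟩
  | c :: u => by
    obtain ⟨g, g1, g2⟩ := nth_forall (p := fun W => ∃ g ∈ T, Mp g (act W)) ⟨1, one_mem _, mp_id⟩ h c
    obtain ⟨k, k1, k2⟩ := mp_runP h u
    exact ⟨_, mul_mem k1 g1, g2.comp k2⟩

theorem mp_gw {Ws : List (List ℕ)} (h : ∀ c ≤ 52, Mp (gl c) (act (nth hCI Ws c))) :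
    ∀ {u}, noT u = true → Mp (gw u) (runP Ws u)
  | [], _ => Mp.one
  | c :: u, e => (h c (H29.ble_true.1 (allL_cons.1 e).1)).comp (mp_gw h (allL_cons.1 e).2)

/-- The table `W` agrees with `f` on the basis. -/
noncomputable def cmp (f : ℕ → ℕ) (W : List ℕ) (lam : ℕ) : Bool :=
  and2 (Nat.beq W.length 24) (and2 (qOk W lam) (allN 24 fun j => Nat.beq (f (Nat.pow 2 j))
    (Nat.add (Nat.mod (nth 0 W j) 16777216) (Nat.mul 16777216 (Nat.land (Nat.shiftRight lam j) 1)))))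

theorem dec_low (a b : ℕ) : dec (a % 16777216 + 16777216 * b) = dec a := dec_congr fun j hj => by
  have : ∀ a, a.testBit j = (a % 2 ^ 24).testBit j := fun a => by
    rw [Nat.testBit_mod_two_pow, decide_eq_true hj, Bool.true_and]
  rw [this, this a]
  congr 1; omega

theorem cmp_true {g : GT} {f : ℕ → ℕ} (h : Mp g f) {W : List ℕ} {lam : ℕ} (e : cmp f W lam = true) :
    Mp g (act W) := by
  simp only [cmp, and2_true, allN_true, H29.beq_true] at e
  obtain ⟨e1, e2, e3⟩ := e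
  refine mp_act ⟨e1, fun j hj => ?_⟩ (fun j hj => ?_) e2
  · rw [← (h _).1]; exact (congrArg dec (e3 j hj)).trans (dec_low _ _)
  · have := (h (2 ^ j)).2.1
    rw [show f (2 ^ j) = nth 0 W j % 16777216 + 16777216 * (lam >>> j &&& 1) from e3 j hj, sv, sv,
      Nat.div_eq_of_lt (show 2 ^ j < 16777216 from Nat.pow_lt_pow_right (n := 24) (by norm_num) hj),
      Nat.cast_zero, zero_add] at this
    rw [← this, show (nth 0 W j % 16777216 + 16777216 * (lam >>> j &&& 1)) / 16777216 =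
      lam >>> j &&& 1 by omega, cast_land, MF.bt_shr, add_zero]

/-! ### Facts -/

variable (A)

/-- The lifted point `x` has the coded relation to the coded point of the frame. -/
def Am.Rl (v : ℕ) (x : X) : Prop := ∃ c : S, c.1 = dec v ∧ A.Rel (lab v) (A.σ (sv v) c) x

/-- Two coded points determine the same lift of the root. -/
def Am.J (i a b : ℕ) : Prop := ∃ x, A.p x = av i ∧ A.Rl a x ∧ A.Rl b x

variable {A}

theorem Am.Rl.uniq {v : ℕ} {x y : X} : A.Rl v x → A.Rl v y → A.p x = A.p y → x = y := by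
  rintro ⟨c, h1, h2⟩ ⟨d, k1, k2⟩
  obtain rfl : c = d := Subtype.ext (h1.trans k1.symm)
  exact h2.uniq k2

theorem Am.Rel.smul_iff (g : G) {r : ℕ} {x y : X} : A.Rel r (g • x) (g • y) ↔ A.Rel r x y :=
  ⟨fun h => by simpa only [inv_smul_smul] using h.smul g⁻¹, Am.Rel.smul g⟩

theorem Am.rl_iff {g : GT} {f : ℕ → ℕ} (h : Mp g f) {v : ℕ} {x : X} :
    A.Rl (f v) (A.ι g • x) ↔ A.Rl v x := by
  obtain ⟨h1, h2, h3⟩ := h v
  constructor
  · rintro ⟨c, k1, k2⟩
    have e : ((co g)⁻¹ • c).1 = dec v := by rw [smul_val, k1, h1, inv_smul_smul]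
    refine ⟨_, e, (Am.Rel.smul_iff (A.ι g)).1 ?_⟩
    rwa [A.ι_σ, e, smul_inv_smul, ← h2, ← h3]
  · rintro ⟨c, k1, k2⟩
    refine ⟨co g • c, by rw [smul_val, k1, h1], ?_⟩
    rw [h2, h3, ← k1, ← A.ι_σ]
    exact k2.smul _

theorem Am.J.symm {i a b : ℕ} : A.J i a b → A.J i b a := fun ⟨x, h1, h2, h3⟩ => ⟨x, h1, h3, h2⟩

theorem Am.J.trans {i a b c : ℕ} : A.J i a b → A.J i b c → A.J i a c := by
  rintro ⟨x, h1, h2, h3⟩ ⟨y, k1, k2, k3⟩
  obtain rfl := h3.uniq k2 (h1.trans k1.symm)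
  exact ⟨x, h1, h2, k3⟩

theorem Am.J.mv {i a b : ℕ} {g : GT} {f : ℕ → ℕ} (hg : g ∈ Stb (av i)) (h : Mp g f) :
    A.J i a b → A.J i (f a) (f b) := fun ⟨x, h1, h2, h3⟩ =>
  ⟨A.ι g • x, by rw [A.p_smul, A.π_ι, h1]; exact hg, (Am.rl_iff h).2 h2, (Am.rl_iff h).2 h3⟩

/-- The elements that fix a lifted point. -/
def Am.Fx (A : Am G X) (x : X) : Subgroup GT := (MulAction.stabilizer G x).comap A.ι

theorem Am.fx_of {i a : ℕ} {g : GT} {f : ℕ → ℕ} (hg : g ∈ Stb (av i)) (h : Mp g f)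
    (j : A.J i a (f a)) {x : X} (h1 : A.p x = av i) (h2 : A.Rl a x) : g ∈ A.Fx x := by
  obtain ⟨y, k1, k2, k3⟩ := j
  obtain rfl := h2.uniq k2 (h1.trans k1.symm)
  exact ((Am.rl_iff h).2 h2).uniq k3 (by rw [A.p_smul, A.π_ι, h1]; exact hg)

end H10.Mon.T
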