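import Mathlib
import Cfsg.Agent.H10.TE0

/-!
# Compiled letters, transport of facts along the triples
-/

set_option autoImplicit false
set_option linter.all false
set_option maxRecDepth 100000
set_option Elab.async false

namespace H10.Mon.T

open Cfsg H9 H29

def LW : List (List ℕ) := [[3216, 4005, 3446, 552, 3616, 2170, 2948, 3710, 40, 520, 1108, 2048, 17108699, 137438959550, 412335539043, 962075228735, 962077417423, 274895291905, 6597070626418, 824651836155, 32435616914562, 42331203424080, 106927506075565, 64046581707863],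
  [2329, 793, 2353, 110, 1465, 107, 2597, 1378, 1231, 2051, 3352, 2048, 20413101, 3836260, 137440299819, 687200255909, 1374393824304, 1374390569215, 8383777900834, 17317309251753, 13606461208654, 9620743790605, 28449869202456, 206433339857263],
  [473, 1423, 1405, 604, 693, 892, 3858, 340, 3702, 172, 1525, 2048, 2082858, 137445803016, 412321865784, 137440276321, 1099515261160, 2886225096955, 7146828886037, 14431115207784, 19791232030392, 43293274829888, 133040924541632, 76553529107752],
  [2051, 1044, 3348, 3114, 4005, 136, 76, 3086, 1068, 3702, 30, 2048, 23960818, 137440424984, 274902911730, 824653558903, 1374413488160, 2061607734065, 4810384967825, 13331581236913, 6459631648191, 23914399760818, 108576775830783, 83288034596021],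
  [1525, 3925, 4007, 1520, 2586, 1025, 188, 3794, 30, 505, 1540, 2048, 19877176, 16985400, 18745647, 412336254262, 1099534654452, 1099532072159, 1099512751113, 6459631471889, 19104019476866, 32435593381944, 8658660916972, 94558029902128],
  [2000, 3544, 1364, 1438, 3430, 337, 577, 1343, 3305, 3917, 447, 2048, 24071071, 137444968330, 137446880396, 549760549216, 687218463008, 1236952992753, 1374393195490, 1236969411569, 13056705456808, 48241097347251, 93870809326773, 75453993888920],
  [2157, 303, 3689, 112, 3383, 1047, 515, 967, 1518, 3133, 3586, 2048, 1297448, 137441634374, 137458721315, 687198069031, 1236970565617, 2748802342576, 2199029247183, 13056725652048, 6459655362417, 64871192369007, 99230927049185, 58136707089685],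
  [743, 3672, 847, 2329, 1710, 5, 1071, 3349, 1025, 3948, 3935, 2048, 2884208, 19541591, 412324229471, 824638821969, 549758174221, 1236968720337, 8383797221181, 9483294078388, 11819752284054, 30236591480258, 26388299581754, 77103266159392],
  [2394, 3208, 2744, 776, 613, 520, 1997, 372, 644, 264, 2832, 2048, 11453, 137439627743, 137443961882, 962076509339, 2061589174987, 2886219850958, 7146830449365, 3161096205715, 24051817145878, 55937657054975, 21852798418803, 108576782645209],
  [2329, 793, 2353, 110, 1465, 107, 2597, 1378, 1231, 2051, 3352, 2048, 3635885, 20613476, 137440299819, 687200255909, 1374393824304, 1374390569215, 8383777900834, 17317309251753, 13606461208654, 9620727013389, 28449869202456, 206433323080047],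
  [880, 2812, 2037, 2467, 49, 497, 1693, 3495, 473, 2290, 2982, 2048, 4288616, 137457049633, 274886025280, 2292151, 687201046884, 2611347671485, 3298540836536, 10170488927536, 12644388861960, 65833260254472, 12781828205450, 123832506777609],
  [3467, 1418, 3202, 1021, 3829, 3082, 3903, 989, 2054, 3261, 629, 2048, 73192, 137462585101, 8219912, 824639915266, 962078994415, 3573416038333, 4810365731853, 2336462409669, 28862180311840, 55250461458596, 137442749835, 66108147750245],
  [3376, 3434, 3385, 552, 891, 447, 573, 3477, 116, 1065, 3344, 2048, 2257124, 1655084, 5534780, 962076149351, 4045499, 2199025671711, 4260610225200, 137441891632, 4535487625631, 4123173413904, 113662019433707, 132216282244767],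
  [724, 3332, 495, 3702, 211, 1475, 1249, 1951, 1734, 1653, 799, 2048, 8259233, 21594691, 412323791877, 687202674951, 1649272356513, 1649273276408, 6734512353512, 14293656453095, 30648893698299, 28312426779107, 42193762515974, 5635008702817],
  [1952, 94, 3163, 919, 101, 2537, 2436, 1222, 473, 1982, 3040, 2048, 3112796, 23011918, 137442835018, 412320035393, 1236952910256, 687198041917, 1786708023250, 4535487038576, 20615844671256, 47966199759796, 91946667428721, 83700337430643],
  [3020, 134, 3052, 424, 1736, 2946, 185, 3723, 1188, 1303, 2764, 2048, 6213758, 137443497734, 274885202390, 137445631060, 1099516388847, 274880339137, 6320687, 17179869254560, 9070977798116, 54563270916459, 131529086673914, 84937288494850],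
  [58176, 54768, 45120, 31616, 3104, 32, 3184, 128, 256, 512, 1024, 1072, 33558078, 67110077, 134221115, 268437239, 511975535, 2199535427615, 4398281682968, 8796429135370, 15393532984324, 8796397147273, 96757539482511, 228698586711429],
  [2049, 2, 4, 8, 16, 32, 64, 128, 256, 512, 1024, 2048, 4096, 16786480, 16794672, 16811056, 1924145416622, 4123168737758, 4398046774176, 15393163314288, 15393163838576, 8796095120448, 125069451856782, 147334583292976],
  [1, 2050, 4, 8, 16, 32, 64, 128, 256, 512, 1024, 2048, 16782384, 8192, 16794672, 16811056, 1786706460685, 1786706526989, 262272, 8796093547584, 4398047560736, 4398048609312, 124932012901261, 8396800],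
  [1, 2, 2052, 8, 16, 32, 64, 128, 256, 512, 1024, 2048, 16782384, 16786480, 16384, 16811056, 1511828556331, 3710851877467, 4398046774048, 525824, 8796094071872, 32985350931696, 124657134996363, 147334583305264],
  [1, 2, 4, 2056, 16, 32, 64, 128, 256, 512, 1024, 2048, 16782384, 16786480, 16794672, 32768, 962072741191, 962072807431, 2199023518608, 8796093547584, 10995117326416, 8796095120448, 91122030346903, 4398071709728],
  [1, 2, 4, 8, 2064, 32, 64, 128, 256, 512, 1024, 2048, 6574, 137438961677, 412316879403, 962072708423, 65536, 687194902469, 5497558402088, 4535485989665, 23227184185513, 22539990466724, 14293655357544, 145822738088997],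
  [1, 2, 4, 8, 16, 2080, 64, 128, 256, 512, 1024, 2048, 6622, 137438962445, 412316879451, 962072709127, 687194836933, 131072, 2886218287125, 2336462736657, 20203527210643, 38208031163670, 125344346540944, 171111522370781],
  [1, 2, 4, 8, 16, 32, 2112, 128, 256, 512, 1024, 2048, 5024, 8320, 17184, 16812944, 1099511694376, 2886218156053, 262144, 1511829015819, 19378893489293, 1786708493325, 125344346540944, 163827241190568],
  [1, 2, 4, 8, 16, 32, 64, 2176, 256, 512, 1024, 2048, 5232, 16788544, 17920, 16813120, 137439019809, 2336462343441, 1511828753675, 524288, 15393163838576, 2748781168660, 50440116896111, 84937282159210],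
  [1, 2, 4, 8, 16, 32, 64, 128, 2304, 512, 1024, 2048, 5232, 9248, 16796736, 32848, 1236950646953, 2611340248723, 1786706658445, 15393163314288, 1048576, 4398048609312, 102117163401959, 549765251076],
  [1, 2, 4, 8, 16, 32, 64, 128, 256, 2560, 1024, 2048, 16784448, 9248, 17648, 16813120, 549755879588, 3023657108758, 1786706658317, 2748779595796, 4398047560736, 2097152, 50440116896111, 18829147111561],
  [1, 2, 4, 8, 16, 32, 64, 128, 256, 512, 3072, 2048, 7054, 137438962573, 412316879755, 962072707735, 1099511695464, 2199023387536, 2199023518608, 15255724362095, 31748399303399, 50440098023791, 4194304, 126031532917653],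
  [1, 2, 4, 8, 16, 32, 64, 128, 256, 512, 1024, 2048, 16781312, 8192, 16384, 32768, 65536, 131072, 262144, 524288, 1048576, 2097152, 4194304, 8388608],
  [1, 2, 4, 8, 16, 32, 64, 128, 256, 512, 1024, 2048, 4096, 16785408, 16384, 32768, 65536, 131072, 262144, 524288, 1048576, 2097152, 4194304, 8388608],
  [1, 2, 4, 8, 16, 32, 64, 128, 256, 512, 1024, 2048, 4096, 8192, 16793600, 32768, 65536, 131072, 262144, 524288, 1048576, 2097152, 4194304, 8388608],
  [1, 2, 4, 8, 16, 32, 64, 128, 256, 512, 1024, 2048, 4096, 8192, 16384, 16809984, 65536, 131072, 262144, 524288, 1048576, 2097152, 4194304, 8388608],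
  [1, 2, 4, 8, 16, 32, 64, 128, 256, 512, 1024, 2048, 4096, 8192, 16384, 32768, 16842752, 131072, 262144, 524288, 1048576, 2097152, 4194304, 8388608],
  [1, 2, 4, 8, 16, 32, 64, 128, 256, 512, 1024, 2048, 4096, 8192, 16384, 32768, 65536, 16908288, 262144, 524288, 1048576, 2097152, 4194304, 8388608],
  [1, 2, 4, 8, 16, 32, 64, 128, 256, 512, 1024, 2048, 4096, 8192, 16384, 32768, 65536, 131072, 17039360, 524288, 1048576, 2097152, 4194304, 8388608],
  [1, 2, 4, 8, 16, 32, 64, 128, 256, 512, 1024, 2048, 4096, 8192, 16384, 32768, 65536, 131072, 262144, 17301504, 1048576, 2097152, 4194304, 8388608],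
  [1, 2, 4, 8, 16, 32, 64, 128, 256, 512, 1024, 2048, 4096, 8192, 16384, 32768, 65536, 131072, 262144, 524288, 17825792, 2097152, 4194304, 8388608],
  [1, 2, 4, 8, 16, 32, 64, 128, 256, 512, 1024, 2048, 4096, 8192, 16384, 32768, 65536, 131072, 262144, 524288, 1048576, 18874368, 4194304, 8388608],
  [1, 2, 4, 8, 16, 32, 64, 128, 256, 512, 1024, 2048, 4096, 8192, 16384, 32768, 65536, 131072, 262144, 524288, 1048576, 2097152, 20971520, 8388608],
  [1, 2, 4, 8, 16, 32, 64, 128, 256, 512, 1024, 2048, 4096, 8192, 16384, 32768, 65536, 131072, 262144, 524288, 1048576, 2097152, 4194304, 25165824],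
  [16777217, 2, 4, 8, 16, 32, 64, 128, 256, 512, 1024, 2048, 4096, 8192, 16384, 32768, 65536, 131072, 262144, 524288, 1048576, 2097152, 4194304, 8388608],
  [1, 16777218, 4, 8, 16, 32, 64, 128, 256, 512, 1024, 2048, 4096, 8192, 16384, 32768, 65536, 131072, 262144, 524288, 1048576, 2097152, 4194304, 8388608],
  [1, 2, 16777220, 8, 16, 32, 64, 128, 256, 512, 1024, 2048, 4096, 8192, 16384, 32768, 65536, 131072, 262144, 524288, 1048576, 2097152, 4194304, 8388608],
  [1, 2, 4, 16777224, 16, 32, 64, 128, 256, 512, 1024, 2048, 4096, 8192, 16384, 32768, 65536, 131072, 262144, 524288, 1048576, 2097152, 4194304, 8388608],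
  [1, 2, 4, 8, 16777232, 32, 64, 128, 256, 512, 1024, 2048, 4096, 8192, 16384, 32768, 65536, 131072, 262144, 524288, 1048576, 2097152, 4194304, 8388608],
  [1, 2, 4, 8, 16, 16777248, 64, 128, 256, 512, 1024, 2048, 4096, 8192, 16384, 32768, 65536, 131072, 262144, 524288, 1048576, 2097152, 4194304, 8388608],
  [1, 2, 4, 8, 16, 32, 16777280, 128, 256, 512, 1024, 2048, 4096, 8192, 16384, 32768, 65536, 131072, 262144, 524288, 1048576, 2097152, 4194304, 8388608],
  [1, 2, 4, 8, 16, 32, 64, 16777344, 256, 512, 1024, 2048, 4096, 8192, 16384, 32768, 65536, 131072, 262144, 524288, 1048576, 2097152, 4194304, 8388608],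
  [1, 2, 4, 8, 16, 32, 64, 128, 16777472, 512, 1024, 2048, 4096, 8192, 16384, 32768, 65536, 131072, 262144, 524288, 1048576, 2097152, 4194304, 8388608],
  [1, 2, 4, 8, 16, 32, 64, 128, 256, 16777728, 1024, 2048, 4096, 8192, 16384, 32768, 65536, 131072, 262144, 524288, 1048576, 2097152, 4194304, 8388608],
  [1, 2, 4, 8, 16, 32, 64, 128, 256, 512, 16778240, 2048, 4096, 8192, 16384, 32768, 65536, 131072, 262144, 524288, 1048576, 2097152, 4194304, 8388608],
  [1, 2, 4, 8, 16, 32, 64, 128, 256, 512, 1024, 16779264, 4096, 8192, 16384, 32768, 65536, 131072, 262144, 524288, 1048576, 2097152, 4194304, 8388608],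
  [1, 2, 4, 8, 16, 32, 64, 128, 256, 512, 1024, 2048, 4096, 8192, 16384, 32768, 65536, 131072, 262144, 524288, 1048576, 2097152, 4194304, 8388608]]

def gP0 : List (List ℕ) := [[2738458, 232, 20976270, 142024274, 156540688, 957648192, 19104026, 1900024330, 19103920, 5525249514, 2739483, 2282, 53456405130, 166982376505, 16793600, 441877036659, 188363415530, 1427853289626, 7060316136984, 10227301769265, 30991047924752, 58296531273817, 19065438554, 59408036107066],
  [2656901, 2133, 2656896, 192369599, 271090371, 285248176, 271090323, 2858769828, 285248400, 7437407648, 21745929860, 87, 41532374790, 178971313541, 453836847491, 32768, 1003589380640, 962075461712, 2240555328672, 9620735119430, 10995119980551, 2336467965969, 2748785887299, 116864639989301],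
  [880, 2812, 2037, 2467, 49, 497, 1693, 3495, 473, 2290, 2982, 2048, 4288616, 137457049633, 274886025280, 2292151, 687201046884, 2611347671485, 3298540836536, 10170488927536, 12644388861960, 65833260254472, 12781828205450, 123832506777609]]
def gP1 : List (List ℕ) := [[19982320, 4741120, 58111992, 189157381, 16781277, 422627473, 405849916, 16789440, 3410383117, 3410383373, 26175661041, 16779213, 83070000, 83889984, 79007304, 549834801444, 137460408161, 3435978314457, 7872939905334, 13194219967520, 29313401183834, 60649483620662, 38521805820311, 240831886467351],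
  [24511236, 1658522, 83895508, 24511245, 67117213, 3185881, 19962084, 83895376, 71744044, 21405180, 3184889, 16780381, 26084609904, 8192, 175333825024, 32744304, 1236982787049, 3911649067353, 7834035965753, 2949592345872, 12807896603897, 34248389081181, 61710101277121, 169388174354389],
  [1, 21775286, 4597761, 71696512, 877, 87082017, 19984305, 67119117, 71696776, 71697032, 19982476, 2941, 66849822702, 137438962557, 443820879851, 830152967015, 865645899554, 3751880892447, 7462715457551, 37672493061, 12547958054943, 12547975880735, 2236671723541, 136403208651796],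
  [2080, 25574, 67130725, 16808200, 16780128, 402713057, 469814732, 83894525, 3238032440, 3238033208, 26256393660, 16780336, 63850157924, 83887101, 26248112732, 613588035012, 1812959529004, 1812887898081, 8447542913113, 17073837746191, 24220761301026, 33739399717415, 37008730830661, 188153935209984],
  [1, 7163870, 74852481, 7737168, 67117213, 49292, 67166305, 67118941, 49580, 67167601, 67167089, 3920, 23941452, 8192, 200791498761, 201194152101, 1786788816352, 2262381629272, 8246419825329, 63352039256, 8246437388977, 50165315053024, 78752615277232, 19241881362464]]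
def gP2 : List (List ℕ) := [[2049, 2, 4, 8, 16, 32, 64, 128, 256, 512, 1024, 2048, 4096, 16786480, 16794672, 16811056, 1924145416622, 4123168737758, 4398046774176, 15393163314288, 15393163838576, 8796095120448, 125069451856782, 147334583292976],
  [2394, 16780424, 2744, 776, 16777829, 16777736, 16779213, 372, 16777860, 264, 2832, 2048, 11453, 137439627743, 137443961882, 962093286555, 2061605952203, 2886236628174, 7146830449365, 3161112982931, 24051817145878, 55937673832191, 21852798418803, 108576799422425],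
  [16777689, 16778639, 16778621, 604, 693, 892, 3858, 16777556, 16780918, 172, 1525, 2048, 18860074, 137445803016, 412321865784, 137440276321, 1099532038376, 2886241874171, 7146828886037, 14431115207784, 19791215253176, 43293291607104, 133040924541632, 76553529107752]]
def gP3 : List (List ℕ) := [[2230677, 2650087, 74900474, 204994565, 2228241, 959, 339582161, 2230747, 339580512, 2228896, 19008583, 2453, 67634848958, 137930394348, 134220798, 137594849829, 1385338380019, 2199364770051, 3584248660667, 14579337298559, 10170964282435, 27900272424273, 132089846406274, 74136205679669],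
  [59248, 58545571, 40451934, 192748706, 469820465, 32, 335588922, 469821425, 335588394, 469820785, 469820273, 2896, 359214762, 471131265, 16384, 471090305, 1374757409696, 1374548898001, 1374740304800, 16905008622715, 1511977939024, 52089729077329, 98956184778891, 138538944611457]]
def gP4 : List (List ℕ) := [[2583280, 36492594, 120369282, 203909881, 38121, 37337, 201389071, 201351222, 256, 201388879, 1024, 3328, 21242547230, 321676905, 321652329, 20940557799, 845572390241, 3456912439774, 21242289086, 6480585808232, 33006818568440, 61435533103174, 46180004601887, 327193081],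
  [16830800, 22126597, 89254958, 41779722, 486578800, 944864455, 1652392467, 3660379092, 4085079066, 14554074650, 21264947123, 16780768, 30147017, 43070051108, 461224991176, 181189402705, 460805559613, 3029655217148, 8564268740886, 4285285970968, 23568921065408, 18734774927341, 33948102777630, 183524756066979]]
def gP5 : List (List ℕ) := [[16778108, 16779318, 16779838, 1040, 16777525, 16779548, 2137, 822, 2330, 249, 16779574, 2048, 21723880, 18776808, 412333699824, 20972287, 412338840233, 1099529077916, 4947823786221, 9895628473734, 8658671776898, 70231322527246, 128642885347289, 14980873624599],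
  [21881477, 36224518, 54343331, 241555056, 16780324, 16778401, 16778866, 3618, 3155, 834, 16777349, 16778887, 33558127, 67109631, 150998119, 285213757, 10374310, 209915421, 2199229921145, 175342602, 2199025163425, 8796110849783, 127543413054842, 169325167619164]]
def gP6 : List (List ℕ) := [[3301688, 35157582, 19092910, 37436822, 16777656, 3512, 1662, 1682, 2290, 16777702, 1024, 2542, 33557918, 83889775, 150998555, 285213757, 414752004, 2199384338182, 4398215213377, 15393382274562, 235740172, 54976086713871, 24189724325060, 169325260566813],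
  [17111315, 35130434, 121367266, 254017302, 2520, 16779304, 16777600, 16781300, 16777338, 2438, 2544, 16777742, 33555904, 67111651, 134220233, 285213075, 16723032, 2199288010944, 4398221176875, 15393318310475, 19791519580167, 57174927098363, 46179620898063, 274878099692457]]
def gP7 : List (List ℕ) := [[1, 2050, 4, 2056, 16, 32, 64, 128, 256, 512, 1024, 2048, 4096, 16786480, 16384, 16811056, 1374406380874, 1374389666570, 2199023518480, 524288, 15393163838576, 13194158407776, 38757789075738, 142936520041488],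
  [132, 16780615, 3393, 16780066, 3189, 16780074, 16779888, 16779614, 2826, 1135, 2373, 2048, 526155, 137440340885, 137462098053, 137440365455, 1649267774504, 2199045203969, 2199030425601, 17317331827969, 21165617056267, 14980849147837, 52501684425985, 214542222654201],
  [3484, 3766, 2448, 3376, 1166, 288, 16781089, 3660, 40, 3751, 140, 2048, 18780048, 137458095763, 412334442258, 962093112978, 1236955387651, 4260613352328, 1099535580095, 17039360, 11957210560434, 47553901848577, 4398065051936, 191864787768251]]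
def gP8 : List (List ℕ) := [[19070747, 51037469, 21460509, 170029548, 239597291, 239598029, 1735346970, 2238025009, 4261449056, 6749532914, 10473668507, 119, 45336840252, 10500781901, 156833822096, 610070966557, 1419741580458, 1381150610295, 5107117661268, 10758871508485, 8933543765636, 55978125808848, 8168655865091, 138280268552620],
  [19199408, 19200215, 7394319, 107184490, 257453257, 544265354, 1331194204, 2803064539, 7353102487, 11376220136, 31395966011, 16780050, 58898202128, 14294768, 458059655542, 167774229103, 1788286915544, 3573432275179, 2670254360252, 16551582891669, 5527911396593, 66153889767154, 85546786623108, 224035563998455]]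
def gP9 : List (List ℕ) := [[35184, 21846535, 10795973, 135401156, 358219315, 681685184, 1360496305, 83706069, 6592161120, 16513552642, 28521089, 4853715590, 111225079363, 26966559946, 399632634, 273610063106, 1924150717655, 1867161250877, 8707133417170, 10747351121857, 30457991079104, 40788534461544, 88272584758308, 107250847472257],
  [3309776, 40422182, 50178351, 132341922, 393610405, 1073550299, 809188356, 264645391, 5597815854, 12483788676, 15393857774, 43190470981, 12877279454, 206885803733, 384869160907, 418060616005, 565478649750, 2219448969366, 4123548422574, 735921827648, 4793411202875, 19050367260768, 65546772025075, 94238762492069]]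
def gP10 : List (List ℕ) := [[24548092, 23336533, 16786697, 7773416, 16780333, 88534577, 71747276, 12237, 396, 16777713, 88533484, 797, 6594471535, 137506071645, 419217122335, 831513407203, 1518435864563, 281771100279, 5949837862890, 4679812759354, 6634719847864, 48928593061108, 37933539460217, 34259978943152],
  [1, 2050, 2052, 8, 16, 2080, 64, 2176, 2304, 512, 1024, 2048, 6622, 137438965597, 412316879915, 962072708119, 1511828557419, 2748779203284, 7009403666995, 4535485989665, 18004503954051, 68444617705970, 4123189575710, 77927896738359]]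
def gP11 : List (List ℕ) := [[337, 16778331, 1336678, 142473337, 25015864, 880, 689227917, 543765605, 5259465976, 13707044992, 20140872008, 2896, 32888435333, 150754804327, 183487915002, 563046552749, 458366898240, 2644252041343, 733259425568, 3320973154569, 17777685068784, 51415459100598, 136361857870408, 139556647073262],
  [23383262, 52010183, 57269040, 157089382, 207931255, 1755, 639738337, 2372193793, 4934705372, 10945347761, 10962125444, 3835, 56489170915, 194066334789, 479480604541, 137915065476, 1512312849339, 4179648517854, 4398055340638, 9402541797884, 24189735408750, 5910241953438, 50714976260788, 271783985463362]]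

noncomputable def GP (i : ℕ) : List (List ℕ) :=
  nth [] [gP0, gP1, gP2, gP3, gP4, gP5, gP6, gP7, gP8, gP9, gP10, gP11] i

theorem lw_ok : allN 53 (fun c => and2 (Nat.beq (nth hCI LW c).length 24) (and2 (qOk (nth hCI LW c) (lt c).lam)
    (allN 24 fun j => Nat.beq (Nat.mod (nth 0 (nth hCI LW c) j) 16777216) (nth 0 (lt c).C j)))) = true := by
  decide +kernel

theorem mp_lw : ∀ c ≤ 52, Mp (gl c) (act (nth hCI LW c)) := fun c hc => by
  have := allN_true.1 lw_ok c (by omega)
  simp only [and2_true, allN_true, H29.beq_true] at this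
  refine mp_act ⟨this.1, fun j hj => ?_⟩ (fun j => gl_ep c) this.2.1
  rw [(gl_cols c).2 j hj, ← this.2.2 j hj]
  exact dec_low _ 0

theorem mp_w {u : List ℕ} (h : noT u = true) : Mp (gw u) (runP LW u) := mp_gw mp_lw h

def Gn (i : ℕ) (B W : List ℕ) : Prop := ∃ g ∈ Stb (av i), Cols (co g) B ∧ Mp g (act W)

theorem gn {i : ℕ} {w B W : List ℕ} (lam : ℕ) (h : chkT i w B = true)
    (e : cmp (runP LW w) W lam = true) : Gn i B W := by
  simp only [chkT, and2_true] at h
  exact ⟨gw w, mem_Stb.2 (by rw [← wd_gw h.1]; exact wd_run (Φ_av i) (Φ_av i) h.2.2),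
    eqL_true h.2.1 ▸ cols_colW w, cmp_true (mp_w h.1) e⟩

theorem g2_0 : List.Forall₂ (Gn 0) (tgA 0) (GP 0) :=
  show List.Forall₂ _ [nth [] gA0 0, nth [] gA0 1, nth [] gA0 2] [nth [] gP0 0, nth [] gP0 1, nth [] gP0 2] from
  .cons (gn 377844 tgc0_0 (by decide +kernel)) (.cons (gn 8663848 tgc0_1 (by decide +kernel)) (.cons (gn 8192 tgc0_2 (by decide +kernel)) (.nil)))
theorem g2_1 : List.Forall₂ (Gn 1) (tgA 1) (GP 1) :=
  show List.Forall₂ _ [nth [] gA1 0, nth [] gA1 1, nth [] gA1 2, nth [] gA1 3, nth [] gA1 4] [nth [] gP1 0, nth [] gP1 1, nth [] gP1 2, nth [] gP1 3, nth [] gP1 4] from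
  .cons (gn 8727485 tgc1_0 (by decide +kernel)) (.cons (gn 11111117 tgc1_1 (by decide +kernel)) (.cons (gn 2770018 tgc1_2 (by decide +kernel)) (.cons (gn 1064856 tgc1_3 (by decide +kernel)) (.cons (gn 15732736 tgc1_4 (by decide +kernel)) (.nil)))))
theorem g2_2 : List.Forall₂ (Gn 2) (tgA 2) (GP 2) :=
  show List.Forall₂ _ [nth [] gA2 0, nth [] gA2 1, nth [] gA2 2] [nth [] gP2 0, nth [] gP2 1, nth [] gP2 2] from
  .cons (gn 8445952 tgc2_0 (by decide +kernel)) (.cons (gn 11239794 tgc2_1 (by decide +kernel)) (.cons (gn 15405447 tgc2_2 (by decide +kernel)) (.nil)))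
theorem g2_3 : List.Forall₂ (Gn 3) (tgA 3) (GP 3) :=
  show List.Forall₂ _ [nth [] gA3 0, nth [] gA3 1] [nth [] gP3 0, nth [] gP3 1] from
  .cons (gn 2405376 tgc3_0 (by decide +kernel)) (.cons (gn 2822154 tgc3_1 (by decide +kernel)) (.nil))
theorem g2_4 : List.Forall₂ (Gn 4) (tgA 4) (GP 4) :=
  show List.Forall₂ _ [nth [] gA4 0, nth [] gA4 1] [nth [] gP4 0, nth [] gP4 1] from
  .cons (gn 12083204 tgc4_0 (by decide +kernel)) (.cons (gn 11730711 tgc4_1 (by decide +kernel)) (.nil))
theorem g2_5 : List.Forall₂ (Gn 5) (tgA 5) (GP 5) :=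
  show List.Forall₂ _ [nth [] gA5 0, nth [] gA5 1] [nth [] gP5 0, nth [] gP5 1] from
  .cons (gn 16774199 tgc5_0 (by decide +kernel)) (.cons (gn 6343797 tgc5_1 (by decide +kernel)) (.nil))
theorem g2_6 : List.Forall₂ (Gn 6) (tgA 6) (GP 6) :=
  show List.Forall₂ _ [nth [] gA6 0, nth [] gA6 1] [nth [] gP6 0, nth [] gP6 1] from
  .cons (gn 4907540 tgc6_0 (by decide +kernel)) (.cons (gn 15370733 tgc6_1 (by decide +kernel)) (.nil))
theorem g2_7 : List.Forall₂ (Gn 7) (tgA 7) (GP 7) :=
  show List.Forall₂ _ [nth [] gA7 0, nth [] gA7 1, nth [] gA7 2] [nth [] gP7 0, nth [] gP7 1, nth [] gP7 2] from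
  .cons (gn 2203648 tgc7_0 (by decide +kernel)) (.cons (gn 1720554 tgc7_1 (by decide +kernel)) (.cons (gn 8187968 tgc7_2 (by decide +kernel)) (.nil)))
theorem g2_8 : List.Forall₂ (Gn 8) (tgA 8) (GP 8) :=
  show List.Forall₂ _ [nth [] gA8 0, nth [] gA8 1] [nth [] gP8 0, nth [] gP8 1] from
  .cons (gn 4563143 tgc8_0 (by decide +kernel)) (.cons (gn 8260819 tgc8_1 (by decide +kernel)) (.nil))
theorem g2_9 : List.Forall₂ (Gn 9) (tgA 9) (GP 9) :=
  show List.Forall₂ _ [nth [] gA9 0, nth [] gA9 1] [nth [] gP9 0, nth [] gP9 1] from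
  .cons (gn 1473618 tgc9_0 (by decide +kernel)) (.cons (gn 9663928 tgc9_1 (by decide +kernel)) (.nil))
theorem g2_10 : List.Forall₂ (Gn 10) (tgA 10) (GP 10) :=
  show List.Forall₂ _ [nth [] gA10 0, nth [] gA10 1] [nth [] gP10 0, nth [] gP10 1] from
  .cons (gn 15029815 tgc10_0 (by decide +kernel)) (.cons (gn 6553600 tgc10_1 (by decide +kernel)) (.nil))
theorem g2_11 : List.Forall₂ (Gn 11) (tgA 11) (GP 11) :=
  show List.Forall₂ _ [nth [] gA11 0, nth [] gA11 1] [nth [] gP11 0, nth [] gP11 1] from
  .cons (gn 926546 tgc11_0 (by decide +kernel)) (.cons (gn 11039887 tgc11_1 (by decide +kernel)) (.nil))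

theorem g2 {i : ℕ} (hi : i < 12) : List.Forall₂ (Gn i) (tgA i) (GP i) := by
  interval_cases i
  exacts [g2_0, g2_1, g2_2, g2_3, g2_4, g2_5, g2_6, g2_7, g2_8, g2_9, g2_10, g2_11]

theorem f2_left {α β : Type} {R : α → β → Prop} {l : List α} {m : List β} (h : List.Forall₂ R l m) :
    ∀ a ∈ l, ∃ b ∈ m, R a b := by
  induction h with
  | nil => simp
  | cons h _ ih =>
    rw [List.forall_mem_cons]
    exact ⟨⟨_, List.mem_cons_self, h⟩, fun a ha =>
      let ⟨b, h1, h2⟩ := ih a ha; ⟨b, List.mem_cons_of_mem _ h1, h2⟩⟩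

theorem gp_stb {i : ℕ} (hi : i < 12) : ∀ W ∈ GP i, ∃ g ∈ Stb (av i), Mp g (act W) := fun W h =>
  let ⟨_, _, g, h1, _, h2⟩ := f2_left (g2 hi).flip W h; ⟨g, h1, h2⟩

/-! ### The points permuted by `τ` -/

def bc (s r : ℕ) : ℕ := 3040 + 16777216 * s + 33554432 * r

theorem dec_bc (s r : ℕ) : dec (bc s r) = c0.1 := by
  rw [c0_dec, ← dec_low 0xbe0 (s + 2 * r), bc]; congr 1; omega

theorem sv_bc (s r : ℕ) : sv (bc s r) = s := by
  rw [sv, show bc s r / 16777216 = s + 2 * r by unfold bc; omega, Nat.cast_add, Nat.cast_mul,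
    show ((2 : ℕ) : ZMod 2) = 0 from rfl, zero_mul, add_zero]

theorem lab_bc {s : ℕ} (h : s ≤ 1) (r : ℕ) : lab (bc s r) = r := by unfold lab bc; omega

theorem fr {w : List ℕ} (h : noT w = true) (s r : ℕ) :
    (co (gw w) • c0).1 = dec (runP LW w (bc s r)) ∧
    rho (gw w) (ax s c0) = ax (sv (runP LW w (bc s r))) (co (gw w) • c0) := by
  rw [(mp_w h _).1, (mp_w h _).2.1, dec_bc, sv_bc, rho_ax]
  exact ⟨rfl, rfl⟩

def tb (k : ℕ) : List ℕ := if k < 2 then [] else [22]
def ts (k : ℕ) : ℕ := if k = 0 ∨ k = 2 then 1 else 0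
def nx (k : ℕ) : ℕ := if k = 0 then 0 else if k < 3 then k + 1 else 1

noncomputable def TP (u : List ℕ) (k r : ℕ) : ℕ := runP LW (tb k ++ u) (bc (ts k) r)

theorem gw_app : ∀ u w : List ℕ, gw (u ++ w) = gw w * gw u
  | [], _ => (mul_one _).symm
  | c :: u, w => by rw [List.cons_append, gw, gw, gw_app u w, mul_assoc]

theorem lo3_n0 : ∀ {u : List ℕ}, lo3 u = true → noT u = true ∧ co (gw u) ∈ N0
  | [], _ => ⟨rfl, by rw [gw, map_one]; exact one_mem _⟩
  | c :: u, h => by
    have h1 := H29.ble_true.1 (allL_cons.1 h).1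
    have h2 := lo3_n0 (allL_cons.1 h).2
    refine ⟨allL_cons.2 ⟨H29.ble_true.2 (by omega), h2.1⟩, ?_⟩
    rw [gw, map_mul]
    refine mul_mem h2.2 (fix_Om.1 ?_)
    rw [← dec_Om, ← (gl_cols c).ap]
    have : allN 3 (fun c => Nat.beq (apC (lt c).C 2048) 2048) = true := by decide +kernel
    exact congrArg dec (H29.beq_true.1 (allN_true.1 this c (by omega)))

theorem tb_ok (k : ℕ) : noT (tb k) = true ∧ co (gw (tb k)) ∈ N0 ∧ ts k ≤ 1 ∧
    tau (rho (gw (tb k)) (ax (ts k) c0)) = rho (gw (tb (nx k))) (ax (ts (nx k)) c0) := by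
  have a : co (gw []) ∈ N0 := by rw [gw, map_one]; exact one_mem _
  have b : co (gw [22]) ∈ N0 := fix_Om.1 (by
    rw [← dec_Om, ← dec_apL]; exact congrArg dec (H29.beq_true.1 (by decide +kernel)))
  have e0 : ∀ v, rho (gw []) v = v := fun v => by rw [gw, map_one]; rfl
  have e1 : gw [22] = gl 22 := one_mul _
  match k with
  | 0 => exact ⟨rfl, a, le_rfl, by
    change tau (rho (gw []) (ax 1 c0)) = rho (gw []) (ax 1 c0)
    rw [e0, tau_fix]⟩
  | 1 => exact ⟨rfl, a, zero_le_one, by
    change tau (rho (gw []) (ax 0 c0)) = rho (gw [22]) (ax 1 c0)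
    rw [e0, e1, tau_a]⟩
  | 2 => exact ⟨rfl, b, le_rfl, by
    change tau (rho (gw [22]) (ax 1 c0)) = rho (gw [22]) (ax 0 c0)
    rw [e1, tau_b]⟩
  | k + 3 =>
    rw [show tb (k + 3) = [22] from if_neg (by omega), show ts (k + 3) = 0 from if_neg (by omega),
      show nx (k + 3) = 1 from (if_neg (by omega)).trans (if_neg (by omega))]
    exact ⟨rfl, b, zero_le_one, by
      change tau (rho (gw [22]) (ax 0 c0)) = rho (gw []) (ax 0 c0)
      rw [e0, e1, tau_c]⟩

theorem noT_app {u w : List ℕ} (h : noT u = true) (k : noT w = true) : noT (u ++ w) = true :=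
  allL_true.2 fun c hc => (List.mem_append.1 hc).elim (allL_true.1 h c) (allL_true.1 k c)

variable {G X : Type*} [Group G] [MulAction G X] {A : Am G X}

theorem Am.rl_of {g : G} {a b : ℕ} {c d : S} (hc : c.1 = dec a) (hd : d.1 = dec b)
    (hl : lab b = lab a) (h : g • A.σ (sv a) c = A.σ (sv b) d) {x : X} :
    A.Rl b (g • x) ↔ A.Rl a x := by
  constructor
  · rintro ⟨e, h1, h2⟩
    obtain rfl : d = e := Subtype.ext (hd.trans h1.symm)
    exact ⟨c, hc, (Am.Rel.smul_iff g).1 (by rwa [h, ← hl])⟩
  · rintro ⟨e, h1, h2⟩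
    obtain rfl : c = e := Subtype.ext (hc.trans h1.symm)
    exact ⟨d, hd, by rw [← h, hl]; exact h2.smul g⟩

theorem Am.rl_t {u : List ℕ} (h : lo3 u = true) (k r : ℕ) {x : X} :
    A.Rl (TP u (nx k) r) (A.t • x) ↔ A.Rl (TP u k r) x := by
  have n := fun k => noT_app (tb_ok k).1 (lo3_n0 h).1
  refine Am.rl_of (fr (n k) _ r).1 (fr (n _) _ r).1 ?_ (A.t_σ _ _ _ _ ⟨_, ?_, rfl⟩ ?_)
  · rw [(mp_w (n _) _).2.2, (mp_w (n _) _).2.2, lab_bc (tb_ok _).2.2.1, lab_bc (tb_ok _).2.2.1]
  · rw [gw_app, map_mul]; exact mul_mem (lo3_n0 h).2 (tb_ok k).2.1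
  · rw [← (fr (n k) _ r).2, ← (fr (n _) _ r).2, gw_app, gw_app, map_mul, map_mul,
      LinearEquiv.mul_apply, LinearEquiv.mul_apply, ← (tb_ok k).2.2.2, ← LinearEquiv.mul_apply tau,
      (tau_gw h).eq]
    rfl

theorem Am.rl_pow {u : List ℕ} (h : lo3 u = true) (k r : ℕ) {x : X} : ∀ e : ℕ,
    A.Rl (TP u (nx^[e] k) r) (A.t ^ e • x) ↔ A.Rl (TP u k r) x
  | 0 => by rw [pow_zero, one_smul]; rfl
  | e + 1 => by rw [pow_succ', mul_smul, Function.iterate_succ_apply', Am.rl_t h, Am.rl_pow h k r e]

/-- `v` is the image of the point at position `e` of the triple. -/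
noncomputable def tp (d : TD) (e : ℕ) (u : List ℕ) (k r v : ℕ) : Bool :=
  and2 (lo3 u) (and2 (noT (nth [] d.w e)) (Bool.rec (Nat.beq (runP LW (nth [] d.w e) (TP u (nx^[e] k) r)) v)
    (Nat.beq (runP LW (nth [] d.w e) v) (TP u k r)) (Nat.beq e 0)))

noncomputable def Am.K (A : Am G X) (d : TD) (e : ℕ) : G := A.ι (d.k e) * A.t ^ e

theorem Am.tp_iff {d : TD} {e : ℕ} {u : List ℕ} {k r v : ℕ} (h : tp d e u k r v = true) {x : X} :
    A.Rl v (A.K d e • x) ↔ A.Rl (TP u k r) x := by
  simp only [tp, and2_true] at h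
  obtain ⟨h1, h2, h3⟩ := h
  rw [Am.K, mul_smul, TD.k]
  rcases e with _ | e
  · rw [if_pos rfl, ← H29.beq_true.1 h3, ← Am.rl_iff (mp_w h2), map_inv, smul_inv_smul, pow_zero,
      one_smul]
  · rw [if_neg e.succ_ne_zero, ← H29.beq_true.1 h3, Am.rl_iff (mp_w h2), Am.rl_pow h1]

theorem Am.p_K {d : TD} (hd : d.Ok) {e : ℕ} (he : e < 3) {x : X} :
    A.p (A.K d e • x) = av (nth 0 d.i e) ↔ A.p x = d.y := by
  rw [← hd.root e he, A.p_smul, Am.K, map_mul, map_pow, A.π_ι, A.π_t, LinearEquiv.mul_apply,
    (rho _).injective.eq_iff, (tau ^ e).injective.eq_iff]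

theorem Am.link {d : TD} (hd : d.Ok) {e e' : ℕ} (he : e < 3) (he' : e' < 3) {u1 u2 : List ℕ}
    {k1 k2 r1 r2 a b a' b' : ℕ} (h1 : tp d e u1 k1 r1 a = true) (h2 : tp d e u2 k2 r2 b = true)
    (h3 : tp d e' u1 k1 r1 a' = true) (h4 : tp d e' u2 k2 r2 b' = true) :
    A.J (nth 0 d.i e) a b → A.J (nth 0 d.i e') a' b' := by
  rintro ⟨x, x1, x2, x3⟩
  rw [← smul_inv_smul (A.K d e) x] at x1 x2 x3
  exact ⟨A.K d e' • _, (Am.p_K hd he').2 ((Am.p_K hd he).1 x1), (Am.tp_iff h3).2 ((Am.tp_iff h1).1 x2),
    (Am.tp_iff h4).2 ((Am.tp_iff h2).1 x3)⟩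

/-! ### Closed roots -/

noncomputable def an (i : ℕ) : ℕ := nth 0 [16780256, 33562765, 67111904, 50334688, 83888032, 33557392,
  117441536, 117440539, 88627059, 109176653, 67117197, 117442592] i

def Am.Cl (A : Am G X) (i : ℕ) : Prop := i < 12 ∧ ∀ W ∈ GP i, A.J i (an i) (act W (an i))

theorem fc {α : Type} {p : α → Prop} {a : α} {l : List α} (h : p a) (k : ∀ b ∈ l, p b) :
    ∀ b ∈ a :: l, p b := List.forall_mem_cons.2 ⟨h, k⟩

theorem fn {α : Type} {p : α → Prop} : ∀ b ∈ ([] : List α), p b := List.forall_mem_nil _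

theorem Am.cl_of (A : Am G X) {i : ℕ} (l : List ℕ) (h : ∀ b ∈ l, A.J i (an i) b)
    (e : and2 (Nat.ble i 11) (H29.allL (GP i) fun W => l.any (Nat.beq (act W (an i)))) = true) :
    A.Cl i := by
  simp only [and2_true, allL_true, List.any_eq_true, H29.beq_true, H29.ble_true] at e
  exact ⟨by omega, fun W hW => let ⟨b, h1, h2⟩ := e.2 W hW; h2 ▸ h b h1⟩

theorem Am.J.rl {i a b : ℕ} (h : A.J i a b) {x : X} (h1 : A.p x = av i) (h2 : A.Rl a x) :
    A.Rl b x := by
  obtain ⟨y, k1, k2, k3⟩ := h
  rwa [h2.uniq k2 (h1.trans k1.symm)]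

theorem Am.Cl.mv {i : ℕ} (c : A.Cl i) (z : List ℕ) {b v : ℕ} (h : A.J i (an i) b)
    (e : Nat.beq (runP (GP i) z b) v = true) : A.J i (an i) v := by
  obtain ⟨x, h1, h2, h3⟩ := h
  obtain ⟨g, g1, g2⟩ := mp_runP (T := A.Fx x) (fun W hW =>
    let ⟨g, g1, g2⟩ := gp_stb c.1 W hW; ⟨g, Am.fx_of g1 g2 (c.2 W hW) h1 h2, g2⟩) z
  refine ⟨x, h1, h2, ?_⟩
  rw [← H29.beq_true.1 e, ← show A.ι g • x = x from g1]
  exact (Am.rl_iff g2).2 h3

noncomputable def ptc (d : TD) (e e' i r : ℕ) (z u : List ℕ) (k m : ℕ) : Bool :=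
  and2 (lit (runP (GP i) z r) (tp d e u k (Nat.div r 33554432))) (tp d e' u k (Nat.div r 33554432) m)

noncomputable def okJ (j e i : ℕ) : Bool :=
  and2 (Nat.ble j 122) (and2 (Nat.ble e 2) (Nat.beq (nth 0 (td j).i e) i))

theorem Am.edge (A : Am G X) (j e e' : ℕ) (z1 u1 : List ℕ) (k1 m1 : ℕ) (z2 u2 : List ℕ) (k2 m2 : ℕ)
    (w : List ℕ) {i i' r1 r2 a b : ℕ} (c : A.Cl i) (h1 : A.J i (an i) r1) (h2 : A.J i (an i) r2)
    (h : and2 (and2 (okJ j e i) (okJ j e' i')) (and2 (and2 (ptc (td j) e e' i r1 z1 u1 k1 m1)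
      (ptc (td j) e e' i r2 z2 u2 k2 m2)) (and2 (Nat.beq (runP (GP i') w m1) a)
      (Nat.beq (runP (GP i') w m2) b))) = true) : A.J i' a b := by
  simp only [okJ, ptc, and2_true, lit_eq, H29.beq_true, H29.ble_true] at h
  obtain ⟨⟨⟨a1, a2, rfl⟩, -, a3, rfl⟩, ⟨⟨b1, b2⟩, b3, b4⟩, rfl, rfl⟩ := h
  obtain ⟨g, g1, g2⟩ := mp_runP (gp_stb (td_lt (j := j) (e := e') (by omega) (by omega))) w
  exact (Am.link (td_ok (by omega)) (by omega) (by omega) b1 b3 b2 b4
    ((c.mv z1 h1 (H29.beq_true.2 rfl)).symm.trans (c.mv z2 h2 (H29.beq_true.2 rfl)))).mv g1 g2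

/-- The lifts of the roots are linked along the triple. -/
def Am.Ed (A : Am G X) (j : ℕ) : Prop := ∃ u k r, ∀ e < 3, ∃ v, tp (td j) e u k r v = true ∧
  A.J (nth 0 (td j).i e) (an (nth 0 (td j).i e)) v

theorem Am.ed_of (A : Am G X) {j : ℕ} (u : List ℕ) (k : ℕ) (z0 z1 z2 : List ℕ) {i0 i1 i2 r0 r1 r2 : ℕ}
    (c0 : A.Cl i0) (h0 : A.J i0 (an i0) r0) (c1 : A.Cl i1) (h1 : A.J i1 (an i1) r1)
    (c2 : A.Cl i2) (h2 : A.J i2 (an i2) r2)
    (h : and2 (and2 (okJ j 0 i0) (and2 (okJ j 1 i1) (okJ j 2 i2)))
      (and2 (lit (runP (GP i0) z0 r0) (tp (td j) 0 u k (Nat.div r0 33554432)))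
      (and2 (lit (runP (GP i1) z1 r1) (tp (td j) 1 u k (Nat.div r0 33554432)))
      (lit (runP (GP i2) z2 r2) (tp (td j) 2 u k (Nat.div r0 33554432))))) = true) : A.Ed j := by
  simp only [okJ, and2_true, lit_eq, H29.beq_true] at h
  obtain ⟨⟨⟨-, -, rfl⟩, ⟨-, -, rfl⟩, -, -, rfl⟩, b0, b1, b2⟩ := h
  refine ⟨u, k, Nat.div r0 33554432, fun e he => ?_⟩
  interval_cases e
  exacts [⟨_, b0, c0.mv z0 h0 (H29.beq_true.2 rfl)⟩, ⟨_, b1, c1.mv z1 h1 (H29.beq_true.2 rfl)⟩,
    ⟨_, b2, c2.mv z2 h2 (H29.beq_true.2 rfl)⟩]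

/-! ### Base cases -/

theorem Am.rl_an (A : Am G X) : A.Rl (an 0) (A.σ 1 c0) :=
  ⟨c0, (dec_bc 1 0).symm, by rw [show an 0 = bc 1 0 from rfl, lab_bc le_rfl, sv_bc]; rfl⟩

theorem Am.base0 (A : Am G X) : A.J 0 (an 0) 16780256 :=
  ⟨_, (A.p_σ _ _).trans av_zero.symm, A.rl_an, A.rl_an⟩

theorem Am.base1 (A : Am G X) (w : List ℕ) (s : ℕ) (w' : List ℕ) {v : ℕ}
    (h : and2 (and2 (noT w) (Nat.ble s 1)) (and2 (Nat.beq (runP LW w (bc s 1)) v)
      (Nat.beq (Nat.xor v (bc s 1) % 16777216) (apL w' 3040))) = true) : A.J 0 (an 0) v := by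
  simp only [and2_true, H29.beq_true, H29.ble_true] at h
  obtain ⟨⟨h1, h2⟩, rfl, h3⟩ := h
  refine ⟨_, (A.p_σ _ _).trans av_zero.symm, A.rl_an, _, (fr h1 s 1).1, ?_⟩
  rw [(mp_w h1 _).2.2, lab_bc h2]
  refine A.adj_σ _ _ _ _ ⟨co (gw w') • c0, ?_⟩
  rw [(fr h1 s 1).1, ← dec_bc s 1, ← dec_xor, smul_val, c0_dec, ← dec_apL, ← h3]
  exact (dec_low _ 0).symm

theorem Am.base2 (A : Am G X) (w : List ℕ) (s : ℕ) {v : ℕ}
    (h : and2 (and2 (noT w) (Nat.ble s 1)) (and2 (Nat.beq (runP LW w (bc s 2)) v)
      (decide (bb (dec v) (dec 3040) + bb (dec 3040) (dec v) = 1))) = true) : A.J 0 (an 0) v := by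
  simp only [and2_true, H29.beq_true, H29.ble_true, decide_eq_true_eq] at h
  obtain ⟨⟨h1, h2⟩, rfl, h3⟩ := h
  refine ⟨_, (A.p_σ _ _).trans av_zero.symm, A.rl_an, _, (fr h1 s 2).1, ?_⟩
  rw [(mp_w h1 _).2.2, lab_bc h2]
  exact ⟨1, _, _, _, _, by rw [(fr h1 s 2).1, c0_dec]; exact h3, (one_smul _ _).symm, (one_smul _ _).symm⟩

def w6 : List ℕ := [5, 16, 7, 16, 15, 19, 29]
def m6 : List ℕ := [12, 16, 0, 16, 53, 3, 43, 44, 45, 47, 49, 50, 52]
def r6 : List ℕ := [8, 16, 1, 16, 0, 20]

theorem chk6a : (runW mv m6 (stAx 1)).beq (rt 2) = true := by decide +kernel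

theorem chk6b : (invo w6 [29, 19, 7, 16, 15, 16, 13] (rt 2) fun y =>
    invo m6 [52, 50, 49, 47, 45, 44, 43, 11, 53, 53, 16, 8, 16, 4] y fun z =>
      z.beq (runW mv r6 (stAx 1))) = true := by decide +kernel

theorem Am.base6 (A : Am G X) (h : A.J 2 (an 2) 50334688) : A.J 2 (an 2) 109390847 := by
  obtain ⟨x, h1, h2, c, h3, h4⟩ := h
  obtain rfl : c0 = c := Subtype.ext ((dec_bc 1 1).symm.trans h3.symm)
  rw [show (50334688 : ℕ) = bc 1 1 from rfl, lab_bc le_rfl, sv_bc] at h4
  have a := fr (w := w6) rfl 1 3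
  have b := fr (w := r6) rfl 1 0
  rw [show runP LW w6 (bc 1 3) = 109390847 from H29.beq_true.1 (by decide +kernel)] at a
  rw [show runP LW r6 (bc 1 0) = 8724511 from H29.beq_true.1 (by decide +kernel)] at b
  rw [← wd_gw (w := w6) rfl, Nat.cast_one] at a
  rw [← wd_gw (w := r6) rfl, Nat.cast_one] at b
  generalize co (gw w6) • c0 = c at a
  generalize co (gw r6) • c0 = d at b
  have e : c.1 + c0.1 = d.1 := by rw [a.1, b.1, c0_dec]; decide +kernel
  obtain ⟨y, y1, y2⟩ := invo_true chk6b (Φ_av 2)
  obtain ⟨z, z1, z2⟩ := invo_true y2 y1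
  have i2 : IvOf (av 2) (wd m6 * tv 1 c0 * (wd m6)⁻¹) := ⟨_, wd_mem _, wd_run Φ_ax1 (Φ_av 2) chk6a, rfl⟩
  have m2 : wd m6 * tv 1 c0 * (wd m6)⁻¹ ∈ MM tau :=
    mul_mem (mul_mem (wd_mem _) (rho_mem_MM _ _)) (inv_mem (wd_mem _))
  have s2 : wd m6 * tv 1 c0 * (wd m6)⁻¹ * (wd m6 * tv 1 c0 * (wd m6)⁻¹) = 1 := by
    rw [conj_mul, tv_mul_self, mul_one, mul_inv_cancel]
  rw [conj_tv (MM_le_Aut tri_tau (wd_mem _)) a.2, St.eq_of_beq z2, ← Φ_run Φ_ax1, b.2] at z1
  generalize wd m6 * tv 1 c0 * (wd m6)⁻¹ = T at i2 m2 s2 z1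
  have k := (i2.map (mul_mem m2 (rho_mem_MM _ (qe (1 + sv 109390847) c.1))))
  rw [LinearEquiv.mul_apply] at k
  have k2 := (show IvOf (ax _ d) _ from Φ_inj z1 ▸ k).uniq (ivOf_ax _ _)
  refine ⟨x, h1, h2, c, a.1, A.σ 1 c0, A.adj_σ _ _ _ _ ⟨d, e⟩, h4, _, T, _,
    A.p_σ _ _ ▸ ivOf_ax _ _, h1 ▸ i2, A.p_σ _ _ ▸ ivOf_ax _ _, ?_⟩
  rw [mul_inv_rev, inv_eq_of_mul_eq_one_right s2, ← tv,
    inv_eq_of_mul_eq_one_right (tv_mul_self _ _)] at k2
  calc _ = tv (sv 109390847) c * tv (sv 8724511) d := by rw [← k2, pow_three]; simp only [mul_assoc]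
    _ = _ := by
      rw [tv, tv, tv, ← map_mul, qe_mul, a.1, b.1, c0_dec]
      congr 2 <;> decide +kernel

end H10.Mon.T
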