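import Mathlib
import Cfsg.Agent.H10.TE1

/-!
# The lifts of the roots
-/

set_option autoImplicit false
set_option linter.all false
set_option maxRecDepth 100000
set_option Elab.async false

namespace H10.Mon.T.E

open Cfsg H9 H29

variable {G X : Type*} [Group G] [MulAction G X] (A : Am G X)

theorem l0_0 : A.J 0 (an 0) 42278943 := A.base1 [8, 16, 1, 16, 0, 20] 1 [5, 16, 7, 16, 15, 19] (by decide +kernel)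
theorem l0_1 : A.J 0 (an 0) 75964447 := A.base2 [8, 16, 8, 16, 24] 0 (by decide +kernel)
theorem l0_2 : A.J 0 (an 0) 16780256 := A.base0
theorem cl0 : A.Cl 0 := A.cl_of [16780256] (fc (l0_2 A) fn) (by decide +kernel)
theorem e0 : A.J 1 33562765 33562765 :=
  A.edge 12 2 0 [1, 2, 1, 2, 2, 1, 2, 0, 1, 2, 2, 0] [] 0 50334688 [1, 2, 1, 2, 2, 1, 2, 0, 1, 2, 2, 0] [] 0 50334688 [0, 2, 0, 1, 3, 2] (cl0 A) (l0_0 A) (l0_0 A) (by decide +kernel)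
theorem l1_1 : A.J 1 (an 1) 33562765 := e0 A
theorem e1 : A.J 1 33562765 50331744 :=
  A.edge 12 2 0 [1, 2, 1, 0, 2, 0, 2, 2, 0, 2, 0] [0, 0, 0, 1, 0] 3 33556413 [1, 2, 0, 1, 0, 1, 2, 1, 2, 0, 2, 0] [0] 0 50333600 [4, 3, 3, 3, 2, 1, 3, 1, 2] (cl0 A) (l0_0 A) (l0_0 A) (by decide +kernel)
theorem e2 : A.J 1 50331744 33563632 :=
  A.edge 12 2 1 [1, 2, 2, 1, 2, 1, 2, 0, 1, 2, 2, 0] [] 2 50332640 [0, 2, 2, 0, 1, 2, 2, 0, 1, 0, 2, 2] [0, 1, 0, 0, 2, 2] 3 33554685 [4, 3, 3, 4, 3, 2] (cl0 A) (l0_0 A) (l0_0 A) (by decide +kernel)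
theorem e3 : A.J 1 33562765 50333517 :=
  A.edge 12 2 1 [1, 2, 0, 1, 2, 1, 2, 2, 2, 0, 2] [0, 1, 0, 2, 2] 3 33557693 [0, 1, 2, 0, 2, 2, 1, 0] [0, 1, 0] 1 33555520 [4, 1, 3, 3, 0, 1, 3, 2] (cl0 A) (l0_0 A) (l0_0 A) (by decide +kernel)
theorem cl1 : A.Cl 1 := A.cl_of [33562765, 33563632, 50333517] (fc (l1_1 A) (fc ((e1 A).trans (e2 A)) (fc (e3 A) fn))) (by decide +kernel)
theorem e4 : A.J 1 50333533 75833375 :=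
  A.edge 12 2 0 [1, 2, 1, 2, 2, 1, 2, 0, 1, 2, 2, 0] [] 0 50334688 [0, 1, 2, 2, 2, 0, 1, 0, 2, 2, 0, 2, 1] [0, 2] 0 83888391 [4, 1, 2, 4, 2, 0, 3] (cl0 A) (l0_0 A) (l0_1 A) (by decide +kernel)
theorem l1_0 : A.J 1 (an 1) 75833375 := ((cl1 A).mv [3, 0, 3, 3, 4] (l1_1 A) (by decide +kernel)).trans (e4 A)
theorem e5 : A.J 2 67111904 67111904 :=
  A.edge 0 0 1 [2, 2, 1, 0, 2, 0, 2, 1, 2, 2, 2, 2] [0, 2, 2, 0] 2 83886735 [2, 2, 1, 0, 2, 0, 2, 1, 2, 2, 2, 2] [0, 2, 2, 0] 2 83886735 [1, 1, 2, 1, 1, 1, 0, 2, 1] (cl0 A) (l0_1 A) (l0_1 A) (by decide +kernel)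
theorem l2_2 : A.J 2 (an 2) 67111904 := e5 A
theorem e6 : A.J 2 67111904 83889981 :=
  A.edge 0 0 2 [2, 0, 2, 1, 2, 0, 2, 0, 2, 0, 2, 1, 0] [0, 0, 1, 2, 0, 2, 2, 0] 2 67108891 [2, 1, 2, 1, 0, 2, 0, 2, 2] [0, 1, 0, 2, 0, 2, 2, 0] 0 83889630 [1, 2, 2, 1, 2, 1] (cl0 A) (l0_1 A) (l0_1 A) (by decide +kernel)
theorem cl2 : A.Cl 2 := A.cl_of [67111904, 83889981] (fc (l2_2 A) (fc (e6 A) fn)) (by decide +kernel)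
theorem e7 : A.J 2 67109856 67112000 :=
  A.edge 0 0 1 [2, 2, 1, 0, 2, 0, 2, 1, 2, 2, 2, 2] [0, 2, 2, 0] 2 83886735 [0, 1, 0, 2, 2, 2, 2, 0, 2, 2, 2, 0, 1] [] 0 83889808 [2, 1, 1, 2, 1, 1, 1, 2, 1] (cl0 A) (l0_1 A) (l0_1 A) (by decide +kernel)
theorem l2_4 : A.J 2 (an 2) 67112000 := ((cl2 A).mv [1, 0, 1, 1, 2, 2, 1, 2, 1] (l2_2 A) (by decide +kernel)).trans (e7 A)
theorem e8 : A.J 2 67109856 50334688 :=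
  A.edge 0 0 1 [2, 2, 1, 0, 2, 0, 2, 1, 2, 2, 2, 2] [0, 2, 2, 0] 2 83886735 [0, 1, 0, 2, 2, 2, 2, 1, 0, 2, 1, 2] [0, 2, 2, 0] 0 33557135 [1, 1, 2, 1, 1, 1, 2, 1] (cl0 A) (l0_1 A) (l0_0 A) (by decide +kernel)
theorem l2_3 : A.J 2 (an 2) 50334688 := ((cl2 A).mv [1, 0, 1, 1, 2, 2, 1, 2, 1] (l2_2 A) (by decide +kernel)).trans (e8 A)
theorem e9 : A.J 2 83886883 71981771 :=
  A.edge 1 0 1 [0, 3, 2, 1, 3, 1, 4, 0] [] 0 67112019 [1, 2, 0, 4, 3, 4, 2, 1, 0] [0, 0, 0, 1] 0 71986917 [2, 2, 2, 0, 1, 1, 2, 1, 1, 0] (cl1 A) (l1_0 A) (l1_0 A) (by decide +kernel)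
theorem l2_0 : A.J 2 (an 2) 71981771 := ((cl2 A).mv [2, 0, 2, 2, 1, 1, 2, 1, 2] (l2_4 A) (by decide +kernel)).trans (e9 A)
theorem l2_1 : A.J 2 (an 2) 109390847 := A.base6 ((cl2 A).mv [] (l2_3 A) (by decide +kernel))
theorem e10 : A.J 3 50334688 50334688 :=
  A.edge 2 0 1 [1, 1, 1, 1, 1, 2, 2] [0, 1, 2, 2, 0, 2, 2, 0] 1 50334688 [1, 1, 1, 1, 1, 2, 2] [0, 1, 2, 2, 0, 2, 2, 0] 1 50334688 [] (cl2 A) (l2_3 A) (l2_3 A) (by decide +kernel)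
theorem l3_6 : A.J 3 (an 3) 50334688 := e10 A
theorem cl3 : A.Cl 3 := A.cl_of [50334688] (fc (l3_6 A) fn) (by decide +kernel)
theorem e11 : A.J 3 50334688 67791793 :=
  A.edge 2 0 1 [1, 1, 1, 1, 1, 2, 2] [0, 1, 2, 2, 0, 2, 2, 0] 1 50334688 [1, 2, 1, 1, 2, 2, 1] [] 0 83887463 [1, 0, 1, 0, 0, 0, 0, 0, 0, 0, 0, 1, 0, 1, 0, 1] (cl2 A) (l2_3 A) (l2_4 A) (by decide +kernel)
theorem l3_4 : A.J 3 (an 3) 67791793 := ((cl3 A).mv [] (l3_6 A) (by decide +kernel)).trans (e11 A)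
theorem e12 : A.J 3 50334688 105602498 :=
  A.edge 2 0 1 [1, 1, 1, 1, 1, 2, 2] [0, 1, 2, 2, 0, 2, 2, 0] 1 50334688 [1, 0, 2, 1, 2, 0, 2, 1, 0, 1, 1, 0] [0, 1] 0 102923847 [0, 0, 0, 0, 1, 0, 0, 0, 0, 0, 0, 1, 0, 0, 1, 0, 1, 0, 0, 0] (cl2 A) (l2_3 A) (l2_1 A) (by decide +kernel)
theorem l3_2 : A.J 3 (an 3) 105602498 := ((cl3 A).mv [] (l3_6 A) (by decide +kernel)).trans (e12 A)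
theorem e13 : A.J 3 50334688 75833375 :=
  A.edge 2 0 1 [1, 1, 1, 1, 1, 2, 2] [0, 1, 2, 2, 0, 2, 2, 0] 1 50334688 [2, 2, 0, 2, 2, 1, 2, 1, 2, 0] [0, 0, 0] 0 85263613 [0, 0, 0, 0, 0, 1, 0, 0, 0, 1, 0, 1, 0] (cl2 A) (l2_3 A) (l2_0 A) (by decide +kernel)
theorem l3_0 : A.J 3 (an 3) 75833375 := ((cl3 A).mv [] (l3_6 A) (by decide +kernel)).trans (e13 A)
theorem e14 : A.J 3 50334688 101338113 :=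
  A.edge 2 0 1 [1, 1, 1, 1, 1, 2, 2] [0, 1, 2, 2, 0, 2, 2, 0] 1 50334688 [1, 1, 1, 1, 0, 2, 0, 1, 1, 1, 1, 2, 2] [0, 1, 2, 0, 1] 2 121074063 [0, 0, 0, 0, 0, 0, 0, 0, 1, 0, 0, 1] (cl2 A) (l2_3 A) (l2_1 A) (by decide +kernel)
theorem l3_3 : A.J 3 (an 3) 101338113 := ((cl3 A).mv [] (l3_6 A) (by decide +kernel)).trans (e14 A)
theorem e15 : A.J 3 50334688 90796090 :=
  A.edge 15 2 0 [2, 3, 0, 1, 3] [] 0 50334688 [4, 3, 0, 4, 3, 1, 2] [0, 0, 2] 1 67112667 [0, 1, 0, 1, 0, 1, 0, 0, 0] (cl1 A) (l1_1 A) (l1_0 A) (by decide +kernel)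
theorem l3_5 : A.J 3 (an 3) 90796090 := ((cl3 A).mv [] (l3_6 A) (by decide +kernel)).trans (e15 A)
theorem e16 : A.J 3 67112555 109518879 :=
  A.edge 17 1 0 [2, 2, 1, 2, 2, 2, 2] [] 3 67110910 [1, 0, 2, 0, 1, 1, 0, 2, 1, 2, 1, 1] [0, 1] 0 123762859 [1, 1, 0, 0, 0, 1, 0, 0, 1, 0, 1, 0] (cl2 A) (l2_4 A) (l2_1 A) (by decide +kernel)
theorem l3_1 : A.J 3 (an 3) 109518879 := ((cl3 A).mv [0, 0, 1, 0, 0, 0, 0, 0] (l3_5 A) (by decide +kernel)).trans (e16 A)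
theorem e17 : A.J 4 83888032 83888032 :=
  A.edge 3 0 1 [0, 1, 1, 1, 1, 2, 1, 1, 1, 1, 1, 1, 1] [0] 2 83887113 [0, 1, 1, 1, 1, 2, 1, 1, 1, 1, 1, 1, 1] [0] 2 83887113 [1, 0, 1, 0, 1] (cl2 A) (l2_0 A) (l2_0 A) (by decide +kernel)
theorem l4_3 : A.J 4 (an 4) 83888032 := e17 A
theorem e18 : A.J 4 83888032 83888800 :=
  A.edge 14 2 1 [1, 3, 1, 2, 1, 0, 4, 1] [0, 0, 1, 0, 2, 0, 1, 0] 1 67109440 [3, 3, 4, 1, 4, 0] [0] 0 83888032 [0, 1] (cl1 A) (l1_0 A) (l1_0 A) (by decide +kernel)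
theorem cl4 : A.Cl 4 := A.cl_of [83888032, 83888800] (fc (l4_3 A) (fc (e18 A) fn)) (by decide +kernel)
theorem e19 : A.J 4 83890080 67174400 :=
  A.edge 3 0 1 [0, 1, 1, 1, 1, 2, 1, 1, 1, 1, 1, 1, 1] [0] 2 83887113 [2, 1, 0, 2, 2, 1, 1, 0, 1, 2, 2, 0] [] 2 67109521 [0, 1, 0, 1, 1, 1, 1, 1, 0, 1, 1, 1, 0, 1, 1] (cl2 A) (l2_0 A) (l2_0 A) (by decide +kernel)
theorem l4_1 : A.J 4 (an 4) 67174400 := ((cl4 A).mv [1, 0] (l4_3 A) (by decide +kernel)).trans (e19 A)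
theorem e20 : A.J 4 83886752 70038918 :=
  A.edge 3 0 1 [0, 1, 1, 1, 1, 2, 1, 1, 1, 1, 1, 1, 1] [0] 2 83887113 [1, 1, 2, 1, 1] [0] 0 83886740 [1, 1, 1, 0, 1, 1, 0, 1, 0, 1, 1, 0, 1] (cl2 A) (l2_0 A) (l2_4 A) (by decide +kernel)
theorem l4_2 : A.J 4 (an 4) 70038918 := ((cl4 A).mv [1, 0, 1, 0, 1, 0, 1] (l4_3 A) (by decide +kernel)).trans (e20 A)
theorem e21 : A.J 4 83888032 109387807 :=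
  A.edge 3 0 1 [0, 1, 1, 1, 1, 2, 1, 1, 1, 1, 1, 1, 1] [0] 2 83887113 [0, 2, 0, 1, 1, 0, 2, 0, 1, 1] [0, 0, 2] 0 102422662 [1, 1, 0, 1, 1, 1, 0, 1, 0, 1, 0, 1, 1, 1, 1, 0, 1, 0, 1, 1, 1, 0, 1] (cl2 A) (l2_0 A) (l2_1 A) (by decide +kernel)
theorem l4_0 : A.J 4 (an 4) 109387807 := ((cl4 A).mv [] (l4_3 A) (by decide +kernel)).trans (e21 A)
theorem e22 : A.J 5 33557392 33557392 :=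
  A.edge 4 0 1 [] [0] 0 50332640 [] [0] 0 50332640 [0] (cl3 A) (l3_6 A) (l3_6 A) (by decide +kernel)
theorem l5_7 : A.J 5 (an 5) 33557392 := e22 A
theorem e23 : A.J 5 33557392 50332640 :=
  A.edge 20 2 1 [1, 1, 1, 1, 1, 2, 2] [] 2 50332640 [1, 0, 1, 1, 2, 2, 1, 2, 1] [0, 1, 0, 2, 2, 2] 1 33557392 [0] (cl2 A) (l2_3 A) (l2_3 A) (by decide +kernel)
theorem cl5 : A.Cl 5 := A.cl_of [50332640, 33557392] (fc (e23 A) (fc (l5_7 A) fn)) (by decide +kernel)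
theorem e24 : A.J 5 50332640 126296095 :=
  A.edge 4 0 1 [] [0] 0 50332640 [1, 0, 0, 0, 0, 0, 0, 1, 0, 0, 0, 0, 1] [] 1 117442365 [0, 0, 1, 1, 0, 0, 0, 0, 1, 1] (cl3 A) (l3_6 A) (l3_3 A) (by decide +kernel)
theorem l5_3 : A.J 5 (an 5) 126296095 := ((cl5 A).mv [0] (l5_7 A) (by decide +kernel)).trans (e24 A)
theorem e25 : A.J 5 50332640 75964447 :=
  A.edge 4 0 1 [] [0] 0 50332640 [1, 0, 1, 0, 0, 0, 0, 0, 1, 0, 1, 0, 0, 1, 1, 0, 1, 0, 1] [] 2 67110717 [0, 0, 1, 1, 0, 0, 0, 0, 1, 1] (cl3 A) (l3_6 A) (l3_0 A) (by decide +kernel)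
theorem l5_2 : A.J 5 (an 5) 75964447 := ((cl5 A).mv [0] (l5_7 A) (by decide +kernel)).trans (e25 A)
theorem e26 : A.J 5 50332640 88833711 :=
  A.edge 4 0 1 [] [0] 0 50332640 [1, 0, 1, 0, 0, 0, 0, 0, 1, 0, 1, 0, 0, 0, 1, 0, 1] [] 3 83887168 [0, 1, 0, 0, 1, 0, 0, 1, 0] (cl3 A) (l3_6 A) (l3_0 A) (by decide +kernel)
theorem l5_6 : A.J 5 (an 5) 88833711 := ((cl5 A).mv [0] (l5_7 A) (by decide +kernel)).trans (e26 A)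
theorem e27 : A.J 5 50332640 105602498 :=
  A.edge 4 0 1 [] [0] 0 50332640 [1, 0, 0, 0, 0, 0, 0, 0, 0, 0, 1, 0, 1, 0, 1, 0, 1, 0, 0, 1] [0] 2 117440669 [1, 1, 1, 1, 0, 0, 0, 0, 1, 0, 1, 0] (cl3 A) (l3_6 A) (l3_2 A) (by decide +kernel)
theorem l5_5 : A.J 5 (an 5) 105602498 := ((cl5 A).mv [0] (l5_7 A) (by decide +kernel)).trans (e27 A)
theorem e28 : A.J 5 33557392 117443472 :=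
  A.edge 4 0 1 [] [0] 0 50332640 [1, 0, 0, 0, 0, 0, 0, 0, 0, 0, 1, 0, 1, 0, 1, 0, 1, 1, 1, 0, 0, 1] [0] 3 100664288 [0] (cl3 A) (l3_6 A) (l3_2 A) (by decide +kernel)
theorem l5_8 : A.J 5 (an 5) 117443472 := ((cl5 A).mv [] (l5_7 A) (by decide +kernel)).trans (e28 A)
theorem e29 : A.J 5 33557392 109387807 :=
  A.edge 4 0 1 [] [0] 0 50332640 [1, 0, 0, 1, 0, 1, 0, 1, 0, 1, 0, 0, 0, 1] [0, 1] 0 101338113 [1, 1, 1, 1, 1, 0, 0, 1, 1, 1, 0, 0, 1, 1, 1, 1, 0, 1] (cl3 A) (l3_6 A) (l3_2 A) (by decide +kernel)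
theorem l5_0 : A.J 5 (an 5) 109387807 := ((cl5 A).mv [] (l5_7 A) (by decide +kernel)).trans (e29 A)
theorem e30 : A.J 5 50332640 75900890 :=
  A.edge 4 0 1 [] [0] 0 50332640 [1, 0, 0, 1, 0, 0, 0, 1, 0, 0, 0] [0, 2] 0 70944452 [1, 1, 1, 1, 1, 1, 0, 0, 1, 1] (cl3 A) (l3_6 A) (l3_0 A) (by decide +kernel)
theorem l5_4 : A.J 5 (an 5) 75900890 := ((cl5 A).mv [0] (l5_7 A) (by decide +kernel)).trans (e30 A)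
theorem e31 : A.J 5 126630453 109324319 :=
  A.edge 25 2 1 [0, 1, 0, 1, 0, 1, 0, 0, 1, 0, 0, 0, 0, 1, 0, 0, 0, 1, 0, 1] [] 1 117441174 [0, 0, 1, 0, 0, 1, 0, 1, 0, 0, 0, 1, 1, 0, 1] [0, 2] 0 102433641 [0, 0, 0, 0, 0, 0, 1, 1, 0, 1] (cl3 A) (l3_2 A) (l3_1 A) (by decide +kernel)
theorem l5_1 : A.J 5 (an 5) 109324319 := ((cl5 A).mv [0, 0, 0, 0, 1, 1, 0, 1, 1, 0, 0, 0, 0, 0] (l5_5 A) (by decide +kernel)).trans (e31 A)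
theorem e32 : A.J 6 117441536 117441536 :=
  A.edge 5 0 1 [1, 0, 0, 0, 0, 0, 1, 0, 1, 0, 0, 0, 0, 1, 0, 0, 0, 1] [0, 1, 0, 0] 0 117441536 [1, 0, 0, 0, 0, 0, 1, 0, 1, 0, 0, 0, 0, 1, 0, 0, 0, 1] [0, 1, 0, 0] 0 117441536 [] (cl3 A) (l3_2 A) (l3_2 A) (by decide +kernel)
theorem l6_9 : A.J 6 (an 6) 117441536 := e32 A
theorem e33 : A.J 6 117441536 117443056 :=
  A.edge 28 2 1 [1, 0, 0, 0, 0, 1, 0, 1, 0, 0, 0, 0, 0, 1] [0, 1, 2, 2, 0, 2, 2, 0] 2 100666864 [1, 0, 0, 1, 0, 0, 1, 0, 1, 0, 0, 0, 0, 1, 0, 1] [0, 0, 1, 0, 2, 2, 0] 0 117441536 [0, 0, 1] (cl3 A) (l3_1 A) (l3_1 A) (by decide +kernel)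
theorem cl6 : A.Cl 6 := A.cl_of [117441536, 117443056] (fc (l6_9 A) (fc (e33 A) fn)) (by decide +kernel)
theorem e34 : A.J 6 117441536 67115534 :=
  A.edge 5 0 1 [1, 0, 0, 0, 0, 0, 1, 0, 1, 0, 0, 0, 0, 1, 0, 0, 0, 1] [0, 1, 0, 0] 0 117441536 [1, 0, 0, 0, 0, 1, 0, 0, 1, 0, 0, 1, 0, 1, 0, 1, 0, 0] [] 0 67111936 [0, 0, 0] (cl3 A) (l3_2 A) (l3_4 A) (by decide +kernel)
theorem l6_6 : A.J 6 (an 6) 67115534 := ((cl6 A).mv [] (l6_9 A) (by decide +kernel)).trans (e34 A)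
theorem e35 : A.J 6 100666864 100689334 :=
  A.edge 5 0 1 [1, 0, 0, 0, 0, 0, 1, 0, 1, 0, 0, 0, 0, 1, 0, 0, 0, 1] [0, 1, 0, 0] 0 117441536 [0, 1, 0, 0, 1, 0, 1, 0, 1, 0, 0, 1, 0, 1, 0, 1, 0, 0] [] 2 117440644 [1, 1, 0, 0, 1, 0, 0, 1, 1, 0, 0] (cl3 A) (l3_2 A) (l3_2 A) (by decide +kernel)
theorem l6_8 : A.J 6 (an 6) 100689334 := ((cl6 A).mv [1, 0] (l6_9 A) (by decide +kernel)).trans (e35 A)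
theorem e36 : A.J 6 117441536 117447182 :=
  A.edge 5 0 1 [1, 0, 0, 0, 0, 0, 1, 0, 1, 0, 0, 0, 0, 1, 0, 0, 0, 1] [0, 1, 0, 0] 0 117441536 [1, 0, 1, 0, 1, 0, 1, 0, 1, 0, 0, 0, 1, 0, 0, 1] [] 3 117443584 [0, 0, 0] (cl3 A) (l3_2 A) (l3_2 A) (by decide +kernel)
theorem l6_7 : A.J 6 (an 6) 117447182 := ((cl6 A).mv [] (l6_9 A) (by decide +kernel)).trans (e36 A)
theorem e37 : A.J 6 117443056 101277153 :=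
  A.edge 5 0 1 [1, 0, 0, 0, 0, 0, 1, 0, 1, 0, 0, 0, 0, 1, 0, 0, 0, 1] [0, 1, 0, 0] 0 117441536 [1, 0, 0, 0, 1, 0, 0, 0, 0, 0, 1, 0, 1] [0] 0 117443585 [1, 0, 1, 1, 1, 1, 1] (cl3 A) (l3_2 A) (l3_2 A) (by decide +kernel)
theorem l6_5 : A.J 6 (an 6) 101277153 := ((cl6 A).mv [1] (l6_9 A) (by decide +kernel)).trans (e37 A)
theorem e38 : A.J 6 100666864 105602498 :=
  A.edge 5 0 1 [1, 0, 0, 0, 0, 0, 1, 0, 1, 0, 0, 0, 0, 1, 0, 0, 0, 1] [0, 1, 0, 0] 0 117441536 [0, 1, 0, 0, 0, 0, 1, 0, 1, 0, 0, 1, 0, 1, 0, 0, 1, 0, 1, 0, 1] [0, 2] 0 103818273 [0, 0, 1, 0, 0, 1, 1, 0, 0, 1, 1, 0, 0, 0, 1, 0, 0] (cl3 A) (l3_2 A) (l3_2 A) (by decide +kernel)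
theorem l6_3 : A.J 6 (an 6) 105602498 := ((cl6 A).mv [1, 0] (l6_9 A) (by decide +kernel)).trans (e38 A)
theorem e39 : A.J 6 117443056 75769887 :=
  A.edge 5 0 1 [1, 0, 0, 0, 0, 0, 1, 0, 1, 0, 0, 0, 0, 1, 0, 0, 0, 1] [0, 1, 0, 0] 0 117441536 [1, 0, 0, 1, 0, 1, 0, 0, 1, 0, 0, 0, 1] [0, 0, 2] 0 86622340 [0, 1, 0, 0, 0, 0, 1, 1, 1, 1, 0] (cl3 A) (l3_2 A) (l3_4 A) (by decide +kernel)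
theorem l6_0 : A.J 6 (an 6) 75769887 := ((cl6 A).mv [1] (l6_9 A) (by decide +kernel)).trans (e39 A)
theorem e40 : A.J 6 100666864 126101535 :=
  A.edge 5 0 1 [1, 0, 0, 0, 0, 0, 1, 0, 1, 0, 0, 0, 0, 1, 0, 0, 0, 1] [0, 1, 0, 0] 0 117441536 [1, 0, 0, 0, 1, 0, 0, 0, 0, 0, 0, 1] [0, 2, 0] 1 120176873 [1, 0, 0, 1, 1, 1, 1, 1, 0, 0, 0, 0, 1, 0] (cl3 A) (l3_2 A) (l3_2 A) (by decide +kernel)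
theorem l6_1 : A.J 6 (an 6) 126101535 := ((cl6 A).mv [1, 0] (l6_9 A) (by decide +kernel)).trans (e40 A)
theorem e41 : A.J 6 117443056 105536203 :=
  A.edge 5 0 1 [1, 0, 0, 0, 0, 0, 1, 0, 1, 0, 0, 0, 0, 1, 0, 0, 0, 1] [0, 1, 0, 0] 0 117441536 [0, 0, 0, 0, 0, 1, 0, 1, 0, 0, 0, 1, 1, 1, 0] [0, 0, 0, 1, 0] 0 104458562 [1, 1, 0, 1, 0, 1, 1, 0, 0, 1] (cl3 A) (l3_2 A) (l3_1 A) (by decide +kernel)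
theorem l6_2 : A.J 6 (an 6) 105536203 := ((cl6 A).mv [1] (l6_9 A) (by decide +kernel)).trans (e41 A)
theorem e42 : A.J 6 100666864 100863941 :=
  A.edge 5 0 1 [1, 0, 0, 0, 0, 0, 1, 0, 1, 0, 0, 0, 0, 1, 0, 0, 0, 1] [0, 1, 0, 0] 0 117441536 [0, 1, 0, 1, 0, 0, 1, 0, 0, 1, 0, 0, 1, 0, 0, 0, 0] [0, 1, 0, 0, 1] 0 118079609 [1, 0, 1, 1, 1, 0, 0, 1, 1, 0, 1, 1, 0] (cl3 A) (l3_2 A) (l3_1 A) (by decide +kernel)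
theorem l6_4 : A.J 6 (an 6) 100863941 := ((cl6 A).mv [1, 0] (l6_9 A) (by decide +kernel)).trans (e42 A)
theorem e43 : A.J 7 117440539 117440539 :=
  A.edge 6 0 1 [0, 0, 0, 0, 1, 0, 0, 0, 0, 0, 0, 1, 1, 0, 1, 0, 1, 0, 1, 0, 0, 1] [0, 0, 1, 0, 2, 0, 0] 1 100665451 [0, 0, 0, 0, 1, 0, 0, 0, 0, 0, 0, 1, 1, 0, 1, 0, 1, 0, 1, 0, 0, 1] [0, 0, 1, 0, 2, 0, 0] 1 100665451 [1, 2, 2, 0, 2, 1, 1] (cl3 A) (l3_2 A) (l3_2 A) (by decide +kernel)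
theorem l7_12 : A.J 7 (an 7) 117440539 := e43 A
theorem e44 : A.J 7 117440539 100665440 :=
  A.edge 46 1 0 [0, 0, 1, 0, 0, 1, 0, 1, 0, 0] [0, 0, 1, 2, 0, 0, 1] 3 100666496 [0, 0, 1, 1, 1, 0, 0, 0, 0, 0, 1, 0, 1] [0, 1, 0, 0] 2 117441619 [1, 1, 2, 1, 2, 0, 2, 1, 1] (cl6 A) (l6_8 A) (l6_8 A) (by decide +kernel)
theorem e45 : A.J 7 100665440 117443220 :=
  A.edge 18 2 0 [1, 2, 0, 1, 2, 2, 1, 1, 1, 2, 0, 2] [0, 0, 0] 0 117444062 [0, 1, 0, 1, 0, 1, 2, 2, 2, 1, 1, 1, 2, 1] [0, 2, 0, 1, 0, 2, 2] 2 117444422 [1, 2, 2, 0, 2, 2, 0, 2, 1, 2, 1] (cl2 A) (l2_1 A) (l2_1 A) (by decide +kernel)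
theorem cl7 : A.Cl 7 := A.cl_of [117440539, 117443220] (fc (l7_12 A) (fc ((e44 A).trans (e45 A)) fn)) (by decide +kernel)
theorem e46 : A.J 7 100665024 83889120 :=
  A.edge 6 0 1 [0, 0, 0, 0, 1, 0, 0, 0, 0, 0, 0, 1, 1, 0, 1, 0, 1, 0, 1, 0, 0, 1] [0, 0, 1, 0, 2, 0, 0] 1 100665451 [0, 0, 1, 0, 0, 0, 0, 1, 0, 0, 1, 0, 1, 0, 0, 1, 0] [] 0 83889296 [2, 1, 1, 2, 2] (cl3 A) (l3_2 A) (l3_4 A) (by decide +kernel)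
theorem l7_9 : A.J 7 (an 7) 83889120 := ((cl7 A).mv [1, 2, 1, 2, 0, 2, 1, 2] (l7_12 A) (by decide +kernel)).trans (e46 A)
theorem e47 : A.J 7 117444085 117442589 :=
  A.edge 6 0 1 [0, 0, 0, 0, 1, 0, 0, 0, 0, 0, 0, 1, 1, 0, 1, 0, 1, 0, 1, 0, 0, 1] [0, 0, 1, 0, 2, 0, 0] 1 100665451 [1, 0, 0, 1, 0, 0, 0, 1, 0, 0, 0, 1, 0, 1, 1, 0, 1, 0, 1, 0] [0] 0 117444504 [2, 2, 2] (cl3 A) (l3_2 A) (l3_2 A) (by decide +kernel)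
theorem l7_11 : A.J 7 (an 7) 117442589 := ((cl7 A).mv [1, 1, 1, 2, 2, 0, 2, 2, 2, 1] (l7_12 A) (by decide +kernel)).trans (e47 A)
theorem e48 : A.J 7 100665024 100665373 :=
  A.edge 6 0 1 [0, 0, 0, 0, 1, 0, 0, 0, 0, 0, 0, 1, 1, 0, 1, 0, 1, 0, 1, 0, 0, 1] [0, 0, 1, 0, 2, 0, 0] 1 100665451 [1, 0, 1, 0, 0, 0, 1, 0, 0, 0, 1, 0, 1, 0, 0, 1, 0, 1, 0, 1, 0] [0] 2 100665856 [2, 1, 1, 1, 2, 0] (cl3 A) (l3_2 A) (l3_2 A) (by decide +kernel)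
theorem l7_10 : A.J 7 (an 7) 100665373 := ((cl7 A).mv [1, 2, 1, 2, 0, 2, 1, 2] (l7_12 A) (by decide +kernel)).trans (e48 A)
theorem e49 : A.J 7 100665024 105536203 :=
  A.edge 6 0 1 [0, 0, 0, 0, 1, 0, 0, 0, 0, 0, 0, 1, 1, 0, 1, 0, 1, 0, 1, 0, 0, 1] [0, 0, 1, 0, 2, 0, 0] 1 100665451 [0, 0, 1, 0, 1, 0, 1, 0, 0, 0, 0, 0, 0, 1, 0, 1, 0, 0, 0, 0] [0, 1] 0 102626863 [1, 1, 1, 2, 1, 1, 1, 2, 2, 1, 0, 2, 0, 2] (cl3 A) (l3_2 A) (l3_2 A) (by decide +kernel)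
theorem l7_1 : A.J 7 (an 7) 105536203 := ((cl7 A).mv [1, 2, 1, 2, 0, 2, 1, 2] (l7_12 A) (by decide +kernel)).trans (e49 A)
theorem e50 : A.J 7 100666884 117506048 :=
  A.edge 6 0 1 [0, 0, 0, 0, 1, 0, 0, 0, 0, 0, 0, 1, 1, 0, 1, 0, 1, 0, 1, 0, 0, 1] [0, 0, 1, 0, 2, 0, 0] 1 100665451 [0, 0, 1, 0, 0, 0, 0, 1, 0, 0, 1, 0] [0, 2] 0 106729295 [1, 1, 2, 1, 2, 2, 2, 1, 0, 2, 1, 1] (cl3 A) (l3_2 A) (l3_1 A) (by decide +kernel)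
theorem l7_2 : A.J 7 (an 7) 117506048 := ((cl7 A).mv [1, 1, 1, 2, 2, 0, 2] (l7_12 A) (by decide +kernel)).trans (e50 A)
theorem e51 : A.J 7 100665024 100799440 :=
  A.edge 6 0 1 [0, 0, 0, 0, 1, 0, 0, 0, 0, 0, 0, 1, 1, 0, 1, 0, 1, 0, 1, 0, 0, 1] [0, 0, 1, 0, 2, 0, 0] 1 100665451 [0, 1, 0, 0, 1, 0, 1, 0, 1, 0, 0, 1, 0, 0, 0, 0, 1, 0, 0, 0, 1, 1, 0] [0, 0, 2] 0 100693176 [2, 2, 2, 0, 2, 1, 2, 0, 2, 2, 1, 2] (cl3 A) (l3_2 A) (l3_2 A) (by decide +kernel)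
theorem l7_4 : A.J 7 (an 7) 100799440 := ((cl7 A).mv [1, 2, 1, 2, 0, 2, 1, 2] (l7_12 A) (by decide +kernel)).trans (e51 A)
theorem e52 : A.J 7 100664325 88420355 :=
  A.edge 6 0 1 [0, 0, 0, 0, 1, 0, 0, 0, 0, 0, 0, 1, 1, 0, 1, 0, 1, 0, 1, 0, 0, 1] [0, 0, 1, 0, 2, 0, 0] 1 100665451 [1, 0, 0, 0, 0, 0, 1, 0, 1, 0, 0, 1, 0, 1, 0, 1, 0] [0, 1, 2, 0, 2] 0 71636552 [1, 2, 1, 2, 1, 0, 2, 2, 0, 2, 0] (cl3 A) (l3_2 A) (l3_0 A) (by decide +kernel)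
theorem l7_6 : A.J 7 (an 7) 88420355 := ((cl7 A).mv [1, 1] (l7_12 A) (by decide +kernel)).trans (e52 A)
theorem e53 : A.J 7 117443670 105197571 :=
  A.edge 6 0 1 [0, 0, 0, 0, 1, 0, 0, 0, 0, 0, 0, 1, 1, 0, 1, 0, 1, 0, 1, 0, 0, 1] [0, 0, 1, 0, 2, 0, 0] 1 100665451 [0, 1, 0, 0, 0, 0, 1, 0, 1, 0, 0, 0, 0, 1, 1] [0, 1, 2, 0, 2] 2 121967568 [2, 1, 2, 2, 1, 2, 0, 2, 0] (cl3 A) (l3_2 A) (l3_2 A) (by decide +kernel)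
theorem l7_5 : A.J 7 (an 7) 105197571 := ((cl7 A).mv [1, 2, 1, 2] (l7_12 A) (by decide +kernel)).trans (e53 A)
theorem e54 : A.J 7 117442037 101404302 :=
  A.edge 6 0 1 [0, 0, 0, 0, 1, 0, 0, 0, 0, 0, 0, 1, 1, 0, 1, 0, 1, 0, 1, 0, 0, 1] [0, 0, 1, 0, 2, 0, 0] 1 100665451 [0, 1, 0, 1, 0, 0, 0, 0, 0, 1, 0, 0, 1, 0, 0, 0, 1, 0, 0] [0, 0, 1, 0, 2, 0] 0 119139708 [1, 1, 2, 0, 2, 1, 0, 2, 1, 0, 2, 0] (cl3 A) (l3_2 A) (l3_1 A) (by decide +kernel)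
theorem l7_3 : A.J 7 (an 7) 101404302 := ((cl7 A).mv [1, 2] (l7_12 A) (by decide +kernel)).trans (e54 A)
theorem e55 : A.J 7 100667323 67110918 :=
  A.edge 6 0 1 [0, 0, 0, 0, 1, 0, 0, 0, 0, 0, 0, 1, 1, 0, 1, 0, 1, 0, 1, 0, 0, 1] [0, 0, 1, 0, 2, 0, 0] 1 100665451 [0, 1, 0, 0, 0, 0, 1, 0, 1, 0, 0, 1, 1, 0, 0] [0, 1, 0, 0, 1, 2, 0, 2] 0 83886086 [1, 0] (cl3 A) (l3_2 A) (l3_0 A) (by decide +kernel)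
theorem l7_13 : A.J 7 (an 7) 67110918 := ((cl7 A).mv [1, 1, 1, 2, 2, 0, 2, 2] (l7_12 A) (by decide +kernel)).trans (e55 A)
theorem e56 : A.J 7 121501755 126165023 :=
  A.edge 40 2 0 [0, 0, 0, 0, 1, 1, 0, 0, 1, 1, 1, 1, 1, 1, 0] [] 0 117500960 [1, 1, 1, 1, 1, 1, 0, 1, 1, 0, 1, 1, 1, 0, 0] [0, 1] 1 126934680 [1, 2, 1, 1, 2, 2, 2, 0, 2, 1, 1, 0] (cl5 A) (l5_5 A) (l5_0 A) (by decide +kernel)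
theorem l7_0 : A.J 7 (an 7) 126165023 := ((cl7 A).mv [2, 1, 2, 2, 2, 2, 2, 1, 2] (l7_1 A) (by decide +kernel)).trans (e56 A)
theorem e57 : A.J 7 106754069 109389826 :=
  A.edge 40 2 0 [0, 0, 0, 0, 1, 1, 0, 0, 1, 1, 1, 1, 1, 1, 0] [] 0 117500960 [0, 0, 0, 1, 0, 1, 0, 1, 0, 1, 0, 0, 1, 1] [0, 0, 0, 1, 0] 0 126894632 [1, 2, 2, 2, 1, 2, 1, 0, 2, 1, 2, 2, 1, 2, 2, 0] (cl5 A) (l5_5 A) (l5_0 A) (by decide +kernel)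
theorem l7_7 : A.J 7 (an 7) 109389826 := ((cl7 A).mv [2, 1, 1, 1, 2, 2, 1, 2, 0, 2, 2, 1] (l7_1 A) (by decide +kernel)).trans (e57 A)
theorem e58 : A.J 7 106532342 75833348 :=
  A.edge 40 2 0 [0, 0, 0, 0, 1, 1, 0, 0, 1, 1, 1, 1, 1, 1, 0] [] 0 117500960 [0, 1, 1, 1, 1, 0, 0, 0, 1, 1, 0, 0, 0] [0, 0, 1, 0, 0] 0 76606520 [2, 1, 2, 2, 0, 2, 1, 2, 0, 2, 0, 2, 0] (cl5 A) (l5_5 A) (l5_4 A) (by decide +kernel)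
theorem l7_8 : A.J 7 (an 7) 75833348 := ((cl7 A).mv [2, 2, 2, 2, 1, 2, 1, 2, 0, 2] (l7_1 A) (by decide +kernel)).trans (e58 A)
theorem e59 : A.J 8 88627059 88627059 :=
  A.edge 8 0 1 [0, 1, 0, 1, 0, 1, 0, 1, 1, 0, 1, 1, 1, 1, 1, 1, 0, 1, 0, 1, 1] [] 1 67111584 [0, 1, 0, 1, 0, 1, 0, 1, 1, 0, 1, 1, 1, 1, 1, 1, 0, 1, 0, 1, 1] [] 1 67111584 [0, 0, 1, 1, 1] (cl4 A) (l4_1 A) (l4_1 A) (by decide +kernel)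
theorem l8_1 : A.J 8 (an 8) 88627059 := e59 A
theorem e60 : A.J 8 88627059 132874747 :=
  A.edge 8 0 2 [0, 1, 1, 0, 1, 1, 1, 1, 0, 1, 0, 1, 0, 1, 1] [0, 1, 0, 0] 3 67111584 [1, 1, 1, 0, 1, 1, 0, 1, 1, 1, 0, 1, 1, 1, 1, 1, 1, 0, 1, 1, 1, 1, 1, 0] [0, 1, 0, 0, 0, 2] 0 117471776 [0, 0, 1, 1, 1] (cl4 A) (l4_1 A) (l4_0 A) (by decide +kernel)
theorem e61 : A.J 8 132874747 73425049 :=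
  A.edge 8 0 1 [0, 1, 0, 1, 0, 1, 0, 1, 0, 1, 0, 1, 0, 1, 1, 1, 0, 1, 0, 1, 1, 0, 1, 1] [0, 0, 2, 0] 2 108455833 [0, 1, 1, 1, 1, 0, 1, 1, 0, 1, 0, 1, 0, 1, 0, 1, 1, 0] [0, 2, 0, 1, 0, 1] 1 67112007 [1, 1, 1, 1, 1, 1, 1, 0, 0, 0] (cl4 A) (l4_0 A) (l4_1 A) (by decide +kernel)
theorem e62 : A.J 8 88627059 128188580 :=
  A.edge 8 0 1 [0, 1, 0, 1, 0, 1, 0, 1, 1, 0, 1, 1, 1, 1, 1, 1, 0, 1, 0, 1, 1] [] 1 67111584 [0, 1, 1, 1, 0, 1, 1, 0, 1, 1, 0, 1, 0, 1, 1, 1, 0, 1, 0, 1, 1, 0] [0, 0, 2, 0, 0, 0, 1, 0, 0] 2 108455421 [1, 1, 0, 0, 1, 0, 1] (cl4 A) (l4_1 A) (l4_0 A) (by decide +kernel)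
theorem e63 : A.J 8 128188580 92270667 :=
  A.edge 8 0 1 [0, 1, 0, 1, 0, 1, 1, 0, 1, 0, 1, 1, 1, 0, 1, 0, 1, 0, 1, 0, 1, 1, 1, 0] [0, 0, 0, 1, 0, 2] 0 122385048 [1, 1, 1, 0, 1, 1, 1, 0, 1, 1, 1, 0, 1, 0, 1, 0, 1, 0] [0, 1, 2, 0, 0, 0] 0 67111607 [1, 1, 0, 1, 0, 1, 0, 1, 1] (cl4 A) (l4_0 A) (l4_1 A) (by decide +kernel)
theorem cl8 : A.Cl 8 := A.cl_of [73425049, 92270667] (fc ((e60 A).trans (e61 A)) (fc ((e62 A).trans (e63 A)) fn)) (by decide +kernel)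
theorem e64 : A.J 8 72936385 101404302 :=
  A.edge 8 0 1 [0, 1, 0, 1, 0, 1, 0, 1, 1, 0, 1, 1, 1, 1, 1, 1, 0, 1, 0, 1, 1] [] 1 67111584 [0, 1, 1, 0, 1, 0, 1, 1, 1, 1, 1, 1, 0, 1, 0, 1, 1, 0, 1, 1, 1, 1, 0] [0] 0 117440708 [0, 0, 0, 1, 1, 0, 1, 0, 0, 0, 1, 0, 1, 0, 1, 0] (cl4 A) (l4_1 A) (l4_0 A) (by decide +kernel)
theorem l8_2 : A.J 8 (an 8) 101404302 := ((cl8 A).mv [1, 0, 1, 0, 1, 1] (l8_1 A) (by decide +kernel)).trans (e64 A)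
theorem e65 : A.J 8 72902303 126165023 :=
  A.edge 8 0 1 [0, 1, 0, 1, 0, 1, 0, 1, 1, 0, 1, 1, 1, 1, 1, 1, 0, 1, 0, 1, 1] [] 1 67111584 [0, 1, 1, 1, 0, 1, 1, 1, 1, 1, 1, 0, 1, 0, 1, 0, 1, 1, 1, 0, 1, 1, 0] [0, 2] 0 124350703 [0, 1, 0, 1, 0, 0, 0, 1, 1, 0, 1, 0] (cl4 A) (l4_1 A) (l4_0 A) (by decide +kernel)
theorem l8_0 : A.J 8 (an 8) 126165023 := ((cl8 A).mv [1, 1, 0, 0, 1] (l8_1 A) (by decide +kernel)).trans (e65 A)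
theorem e66 : A.J 9 109176653 109176653 :=
  A.edge 9 0 1 [0, 0, 0, 0, 1, 0, 0, 1, 0, 0, 1, 0, 1, 0, 0, 0, 0] [0, 2, 2, 0, 1, 0, 1] 2 117443584 [0, 0, 0, 0, 1, 0, 0, 1, 0, 0, 1, 0, 1, 0, 0, 0, 0] [0, 2, 2, 0, 1, 0, 1] 2 117443584 [0, 0, 0, 0, 0, 0, 0, 0] (cl3 A) (l3_1 A) (l3_1 A) (by decide +kernel)
theorem l9_7 : A.J 9 (an 9) 109176653 := e66 A
theorem e67 : A.J 9 109176653 111629127 :=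
  A.edge 45 1 0 [1, 0, 1, 1, 1, 1, 1, 1, 0, 1, 1] [0, 1, 2, 2, 0, 2, 2, 0] 2 117441984 [1, 1, 0, 1, 1, 1, 1, 1, 0, 1, 1, 1, 1, 0] [0, 0, 1, 0, 2, 0, 2, 2, 2] 3 100664819 [1, 1, 0, 1, 1, 0, 0, 0, 0, 1] (cl5 A) (l5_1 A) (l5_1 A) (by decide +kernel)
theorem e68 : A.J 9 109176653 122927038 :=
  A.edge 9 0 1 [0, 0, 0, 0, 1, 0, 0, 1, 0, 0, 1, 0, 1, 0, 0, 0, 0] [0, 2, 2, 0, 1, 0, 1] 2 117443584 [0, 0, 0, 1, 0, 0, 1, 0, 1, 0, 1, 0, 0, 1, 0, 1, 0, 1, 0, 0, 1] [0, 1, 0, 0, 2, 2, 2, 0] 3 117441024 [0, 0, 0, 1, 1, 1, 1, 0, 0, 0] (cl3 A) (l3_1 A) (l3_2 A) (by decide +kernel)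
theorem e69 : A.J 9 122927038 100663669 :=
  A.edge 50 1 2 [1, 1, 0, 0, 1, 0, 0, 0, 1, 0, 0] [0] 1 100663408 [0, 1, 1, 1, 0, 0, 1, 1, 0, 0, 0, 1, 1, 1, 1] [0, 0, 1, 0, 1, 2, 0, 1, 0] 1 117443584 [0, 1, 0, 0, 0, 1, 0, 0, 0, 0, 1] (cl6 A) (l6_8 A) (l6_2 A) (by decide +kernel)
theorem cl9 : A.Cl 9 := A.cl_of [111629127, 100663669] (fc (e67 A) (fc ((e68 A).trans (e69 A)) fn)) (by decide +kernel)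
theorem e70 : A.J 9 130229236 126101535 :=
  A.edge 9 0 1 [0, 0, 0, 0, 1, 0, 0, 1, 0, 0, 1, 0, 1, 0, 0, 0, 0] [0, 2, 2, 0, 1, 0, 1] 2 117443584 [0, 0, 0, 0, 0, 1, 0, 0, 0, 0, 1, 0, 1, 0, 0, 0, 0, 1, 1] [0] 2 100704256 [1, 1, 0, 1, 0, 0, 0, 0, 0, 0, 0, 1, 1, 0, 0, 0] (cl3 A) (l3_1 A) (l3_2 A) (by decide +kernel)
theorem l9_1 : A.J 9 (an 9) 126101535 := ((cl9 A).mv [1, 0, 1, 0, 0, 1, 1, 0] (l9_7 A) (by decide +kernel)).trans (e70 A)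
theorem e71 : A.J 9 113854533 75964447 :=
  A.edge 9 0 1 [0, 0, 0, 0, 1, 0, 0, 1, 0, 0, 1, 0, 1, 0, 0, 0, 0] [0, 2, 2, 0, 1, 0, 1] 2 117443584 [0, 0, 1, 0, 0, 0, 0, 1, 0, 1, 1, 1] [0, 1] 0 67168272 [1, 1, 1, 0, 1, 0, 0, 1, 0, 1, 0, 0] (cl3 A) (l3_1 A) (l3_0 A) (by decide +kernel)
theorem l9_2 : A.J 9 (an 9) 75964447 := ((cl9 A).mv [1, 0, 0, 0, 0, 1] (l9_7 A) (by decide +kernel)).trans (e71 A)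
theorem e72 : A.J 9 113693756 109515903 :=
  A.edge 9 0 1 [0, 0, 0, 0, 1, 0, 0, 1, 0, 0, 1, 0, 1, 0, 0, 0, 0] [0, 2, 2, 0, 1, 0, 1] 2 117443584 [0, 0, 1, 0, 0, 0, 0, 0, 0, 0, 1, 0, 1, 0, 1, 0, 0, 1, 0, 0, 0, 1] [0, 0, 2] 0 100708128 [1, 1, 1, 1, 0, 1, 0, 0, 1, 0, 1] (cl3 A) (l3_1 A) (l3_2 A) (by decide +kernel)
theorem l9_3 : A.J 9 (an 9) 109515903 := ((cl9 A).mv [0, 0, 0, 0, 1, 0, 0, 1, 0] (l9_7 A) (by decide +kernel)).trans (e72 A)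
theorem e73 : A.J 9 100664821 101277153 :=
  A.edge 9 0 1 [0, 0, 0, 0, 1, 0, 0, 1, 0, 0, 1, 0, 1, 0, 0, 0, 0] [0, 2, 2, 0, 1, 0, 1] 2 117443584 [0, 1, 0, 0, 1, 0, 0, 1, 0, 0, 0, 0, 1, 0, 0, 0, 1, 0, 0, 1, 0, 1] [0, 2, 2] 2 117480944 [1, 1, 1, 0, 0, 0, 1, 0, 1] (cl3 A) (l3_1 A) (l3_1 A) (by decide +kernel)
theorem l9_5 : A.J 9 (an 9) 101277153 := ((cl9 A).mv [0, 0, 1, 1, 0, 1, 0] (l9_7 A) (by decide +kernel)).trans (e73 A)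
theorem e74 : A.J 9 112091066 101274888 :=
  A.edge 9 0 1 [0, 0, 0, 0, 1, 0, 0, 1, 0, 0, 1, 0, 1, 0, 0, 0, 0] [0, 2, 2, 0, 1, 0, 1] 2 117443584 [0, 1, 0, 0, 0, 0, 0, 0, 0, 1, 0, 1, 0, 1, 0, 1] [0, 0, 0, 1, 0] 0 100676656 [1, 0, 1, 0, 1, 0, 1] (cl3 A) (l3_1 A) (l3_1 A) (by decide +kernel)
theorem l9_6 : A.J 9 (an 9) 101274888 := ((cl9 A).mv [1, 0, 0, 0, 1, 1, 0] (l9_7 A) (by decide +kernel)).trans (e74 A)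
theorem e75 : A.J 9 113853877 92399437 :=
  A.edge 9 0 1 [0, 0, 0, 0, 1, 0, 0, 1, 0, 0, 1, 0, 1, 0, 0, 0, 0] [0, 2, 2, 0, 1, 0, 1] 2 117443584 [0, 1, 0, 1, 0, 1, 0, 0, 0, 0, 0, 1, 0, 0, 0, 1] [0, 2, 2, 0, 1, 0, 1] 0 67110960 [1, 1, 0, 0, 1, 1, 1, 0, 0] (cl3 A) (l3_1 A) (l3_0 A) (by decide +kernel)
theorem l9_8 : A.J 9 (an 9) 92399437 := ((cl9 A).mv [1, 0, 0, 0, 1, 1, 1] (l9_7 A) (by decide +kernel)).trans (e75 A)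
theorem e76 : A.J 9 119439790 109387807 :=
  A.edge 43 1 0 [0, 1, 1, 0, 1, 1, 1, 1, 0, 1, 1, 0, 1, 1, 1, 0] [] 2 117451840 [1, 0, 0, 0, 1, 0, 1, 1, 0, 0, 1, 1, 0, 1, 0, 0, 1] [0, 0, 0] 0 127383436 [0, 1, 0, 1, 0, 0, 0, 1, 0, 0, 0, 1, 1, 1, 0, 1] (cl5 A) (l5_5 A) (l5_0 A) (by decide +kernel)
theorem l9_0 : A.J 9 (an 9) 109387807 := ((cl9 A).mv [0, 1, 0, 0, 0, 0, 0, 1, 1, 0, 0, 0, 0, 0] (l9_1 A) (by decide +kernel)).trans (e76 A)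
theorem e77 : A.J 9 103756511 71983058 :=
  A.edge 43 1 0 [0, 1, 1, 0, 1, 1, 1, 1, 0, 1, 1, 0, 1, 1, 1, 0] [] 2 117451840 [0, 0, 1, 0, 0, 1, 0, 0, 0, 1, 0, 0, 1] [0, 1, 2, 0, 2, 0] 0 88485796 [0, 0, 1, 0, 1, 0, 0, 1, 0] (cl5 A) (l5_5 A) (l5_4 A) (by decide +kernel)
theorem l9_4 : A.J 9 (an 9) 71983058 := ((cl9 A).mv [1, 0, 0, 0, 1, 0, 0, 1, 0, 0, 1, 0] (l9_1 A) (by decide +kernel)).trans (e77 A)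
theorem e78 : A.J 10 67117197 67117197 :=
  A.edge 7 0 1 [1, 0, 0, 0] [0, 1, 0, 0, 0, 0] 0 83895456 [1, 0, 0, 0] [0, 1, 0, 0, 0, 0] 0 83895456 [0, 0, 0, 0, 1, 0, 1] (cl8 A) (l8_1 A) (l8_1 A) (by decide +kernel)
theorem l10_8 : A.J 10 (an 10) 67117197 := e78 A
theorem e79 : A.J 10 67117197 67121104 :=
  A.edge 37 1 2 [1, 1, 0, 1, 1, 1, 1, 1, 1, 0, 1, 1, 0] [0] 0 83888032 [1, 1, 1, 1, 0, 1, 0, 1, 1, 1, 1, 0, 1] [0, 0, 0, 1, 0] 1 67118896 [1, 1, 0, 1, 0, 1] (cl4 A) (l4_1 A) (l4_1 A) (by decide +kernel)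
theorem cl10 : A.Cl 10 := A.cl_of [67117197, 67121104] (fc (l10_8 A) (fc (e79 A) fn)) (by decide +kernel)
theorem e80 : A.J 10 67121104 118181620 :=
  A.edge 7 0 1 [1, 0, 0, 0] [0, 1, 0, 0, 0, 0] 0 83895456 [0, 1, 1, 0, 1, 1, 0, 0, 0, 0, 0, 0, 1, 0, 0, 1] [] 0 119199689 [1, 0, 0, 0, 1, 0, 1, 0, 0, 1, 0, 0, 1, 0, 1, 0, 0, 1, 0, 0, 0, 0] (cl8 A) (l8_1 A) (l8_2 A) (by decide +kernel)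
theorem l10_7 : A.J 10 (an 10) 118181620 := ((cl10 A).mv [1] (l10_8 A) (by decide +kernel)).trans (e80 A)
theorem e81 : A.J 10 67119053 101404404 :=
  A.edge 7 0 1 [1, 0, 0, 0] [0, 1, 0, 0, 0, 0] 0 83895456 [0, 0, 0, 1, 1, 0, 0, 1, 0, 0, 1, 1, 0, 1, 0, 0, 0, 1] [] 2 107798344 [0, 1, 0, 1, 0, 0, 0, 1, 0, 0, 1, 0, 1, 0, 1, 0, 0] (cl8 A) (l8_1 A) (l8_2 A) (by decide +kernel)
theorem l10_6 : A.J 10 (an 10) 101404404 := ((cl10 A).mv [1, 0, 0, 0, 1] (l10_8 A) (by decide +kernel)).trans (e81 A)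
theorem e82 : A.J 10 67117184 118181518 :=
  A.edge 7 0 1 [1, 0, 0, 0] [0, 1, 0, 0, 0, 0] 0 83895456 [0, 1, 1, 0, 0, 1, 1, 1, 1, 1, 1, 0, 0] [0, 1] 1 115679886 [1, 0, 1, 0, 1, 0, 1, 0, 1, 0, 0, 1, 0, 0, 0, 0, 0, 1, 0, 0, 0] (cl8 A) (l8_1 A) (l8_0 A) (by decide +kernel)
theorem l10_5 : A.J 10 (an 10) 118181518 := ((cl10 A).mv [1, 0, 0, 1, 0, 1, 0, 1, 0, 1, 0, 0, 1] (l10_8 A) (by decide +kernel)).trans (e82 A)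
theorem e83 : A.J 10 67117197 105536203 :=
  A.edge 7 0 1 [1, 0, 0, 0] [0, 1, 0, 0, 0, 0] 0 83895456 [0, 0, 0, 0, 1, 0, 1, 0, 1, 0, 0, 1, 1] [0, 0, 0] 0 113178473 [1, 0, 0, 0, 0, 0, 0, 0, 0, 0, 1, 0, 0, 0, 0, 0, 0] (cl8 A) (l8_1 A) (l8_0 A) (by decide +kernel)
theorem l10_3 : A.J 10 (an 10) 105536203 := ((cl10 A).mv [] (l10_8 A) (by decide +kernel)).trans (e83 A)
theorem e84 : A.J 10 83897424 105261944 :=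
  A.edge 7 0 1 [1, 0, 0, 0] [0, 1, 0, 0, 0, 0] 0 83895456 [0, 0, 1, 1, 1, 1, 0, 0, 0, 1, 0, 1, 0, 1] [0, 0, 1] 0 122038272 [0, 1, 0, 1, 0, 1, 0, 1, 0, 1, 0, 0] (cl8 A) (l8_1 A) (l8_2 A) (by decide +kernel)
theorem l10_9 : A.J 10 (an 10) 105261944 := ((cl10 A).mv [1, 0, 0, 0, 1, 0, 0, 0, 0, 0] (l10_8 A) (by decide +kernel)).trans (e84 A)
theorem e85 : A.J 10 67118285 92547103 :=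
  A.edge 29 2 0 [0, 1, 0, 0, 0, 0, 0, 1, 0, 1, 0, 0, 0, 1, 0, 1] [] 0 83889120 [0, 1, 0, 0, 0, 1, 0, 0, 1, 0, 0, 0, 0, 0, 0, 0, 1, 0, 0, 1] [0, 2] 0 83888391 [1, 0, 0, 1, 0, 1, 0, 0, 1, 0, 0, 0, 0, 1] (cl3 A) (l3_0 A) (l3_0 A) (by decide +kernel)
theorem l10_1 : A.J 10 (an 10) 92547103 := ((cl10 A).mv [1, 0, 0, 1, 0, 1, 0, 1, 0] (l10_8 A) (by decide +kernel)).trans (e85 A)
theorem e86 : A.J 10 67118285 109324319 :=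
  A.edge 29 2 0 [0, 1, 0, 0, 0, 0, 0, 1, 0, 1, 0, 0, 0, 1, 0, 1] [] 0 83889120 [0, 1, 0, 0, 0, 1, 0, 1, 0, 1, 0, 0, 0, 1, 0, 0, 0, 0, 0] [0, 2] 1 100665607 [1, 0, 0, 1, 0, 1, 0, 0, 1, 0, 0, 0, 0, 1] (cl3 A) (l3_0 A) (l3_1 A) (by decide +kernel)
theorem l10_0 : A.J 10 (an 10) 109324319 := ((cl10 A).mv [1, 0, 0, 1, 0, 1, 0, 1, 0] (l10_8 A) (by decide +kernel)).trans (e86 A)
theorem e87 : A.J 10 67112765 126104511 :=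
  A.edge 29 2 0 [0, 1, 0, 0, 0, 0, 0, 1, 0, 1, 0, 0, 0, 1, 0, 1] [] 0 83889120 [1, 0, 0, 1, 0, 1, 0, 0, 1, 0, 1, 0, 0, 0, 0, 1, 0, 0, 1, 0, 1] [0, 0, 1] 0 117444599 [1, 0, 1, 0, 1, 0, 1, 0, 1, 0, 1, 0, 0, 1, 0, 1, 0, 0] (cl3 A) (l3_0 A) (l3_2 A) (by decide +kernel)
theorem l10_2 : A.J 10 (an 10) 126104511 := ((cl10 A).mv [1, 0, 0, 1] (l10_8 A) (by decide +kernel)).trans (e87 A)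
theorem e88 : A.J 10 67117965 105600810 :=
  A.edge 29 2 0 [0, 1, 0, 0, 0, 0, 0, 1, 0, 1, 0, 0, 0, 1, 0, 1] [] 0 83889120 [0, 0, 0, 0, 0, 1, 0, 1, 0, 1, 0, 0, 1, 0, 0, 1, 0, 0, 1, 0, 0, 0] [0, 1, 0, 0, 0, 0] 0 117443203 [0, 0, 0, 0, 0, 0, 1, 0, 0, 1] (cl3 A) (l3_0 A) (l3_1 A) (by decide +kernel)
theorem l10_4 : A.J 10 (an 10) 105600810 := ((cl10 A).mv [1, 0, 0, 1, 0] (l10_8 A) (by decide +kernel)).trans (e88 A)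
theorem e89 : A.J 11 117442592 117442592 :=
  A.edge 26 2 0 [0, 1, 0, 0, 0, 0, 1, 0, 1, 0, 0, 0, 1] [0, 0, 1, 2, 0, 0, 1] 2 117442592 [0, 1, 0, 0, 0, 0, 1, 0, 1, 0, 0, 0, 1] [0, 0, 1, 2, 0, 0, 1] 2 117442592 [] (cl3 A) (l3_2 A) (l3_2 A) (by decide +kernel)
theorem l11_23 : A.J 11 (an 11) 117442592 := e89 A
theorem cl11 : A.Cl 11 := A.cl_of [117442592] (fc (l11_23 A) fn) (by decide +kernel)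
theorem e90 : A.J 11 117442592 68456262 :=
  A.edge 26 2 0 [0, 1, 0, 0, 0, 0, 1, 0, 1, 0, 0, 0, 1] [0, 0, 1, 2, 0, 0, 1] 2 117442592 [0, 1, 0, 1, 0, 1, 0, 1, 0, 0, 1, 0, 1] [] 0 83889120 [1, 0, 0] (cl3 A) (l3_2 A) (l3_0 A) (by decide +kernel)
theorem l11_21 : A.J 11 (an 11) 68456262 := ((cl11 A).mv [] (l11_23 A) (by decide +kernel)).trans (e90 A)
theorem e91 : A.J 11 117442592 118787910 :=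
  A.edge 26 2 0 [0, 1, 0, 0, 0, 0, 1, 0, 1, 0, 0, 0, 1] [0, 0, 1, 2, 0, 0, 1] 2 117442592 [0, 0, 0, 0, 0, 1, 0, 1, 0, 0, 1, 0, 1, 0, 0, 1, 0, 0] [] 1 100666336 [1, 0, 0] (cl3 A) (l3_2 A) (l3_2 A) (by decide +kernel)
theorem l11_22 : A.J 11 (an 11) 118787910 := ((cl11 A).mv [] (l11_23 A) (by decide +kernel)).trans (e91 A)
theorem e92 : A.J 11 117442592 109518879 :=
  A.edge 26 2 0 [0, 1, 0, 0, 0, 0, 1, 0, 1, 0, 0, 0, 1] [0, 0, 1, 2, 0, 0, 1] 2 117442592 [0, 0, 1, 0, 0, 0, 0, 0, 1, 0, 0, 0, 0, 0, 1, 0, 0, 0, 0, 1, 0, 0] [0, 2] 1 100665607 [1, 1, 1, 1, 1, 0, 1, 1, 1, 1, 1, 1, 1, 1, 0] (cl3 A) (l3_2 A) (l3_1 A) (by decide +kernel)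
theorem l11_3 : A.J 11 (an 11) 109518879 := ((cl11 A).mv [] (l11_23 A) (by decide +kernel)).trans (e92 A)
theorem e93 : A.J 11 117442592 85233034 :=
  A.edge 26 2 0 [0, 1, 0, 0, 0, 0, 1, 0, 1, 0, 0, 0, 1] [0, 0, 1, 2, 0, 0, 1] 2 117442592 [0, 1, 0, 1, 0, 0, 0, 1, 0, 0, 1, 0, 0, 1, 0, 1, 1, 1] [0, 0, 1] 1 67112951 [0, 0, 1, 1, 0, 0, 0] (cl3 A) (l3_2 A) (l3_0 A) (by decide +kernel)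
theorem l11_20 : A.J 11 (an 11) 85233034 := ((cl11 A).mv [] (l11_23 A) (by decide +kernel)).trans (e93 A)
theorem e94 : A.J 11 117442592 121639840 :=
  A.edge 26 2 0 [0, 1, 0, 0, 0, 0, 1, 0, 1, 0, 0, 0, 1] [0, 0, 1, 2, 0, 0, 1] 2 117442592 [0, 0, 0, 0, 0, 0, 0, 1, 0, 0, 0, 1, 0, 0, 0] [0, 1, 0, 0] 0 117442512 [0, 0, 0, 1, 1] (cl3 A) (l3_2 A) (l3_2 A) (by decide +kernel)
theorem l11_10 : A.J 11 (an 11) 121639840 := ((cl11 A).mv [] (l11_23 A) (by decide +kernel)).trans (e94 A)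
theorem e95 : A.J 11 117442592 121639520 :=
  A.edge 26 2 0 [0, 1, 0, 0, 0, 0, 1, 0, 1, 0, 0, 0, 1] [0, 0, 1, 2, 0, 0, 1] 2 117442592 [0, 0, 0, 0, 0, 0, 0, 1, 0, 1, 0, 0, 1, 0, 0, 1, 0, 0] [0, 1, 2, 0] 0 117443887 [1, 0, 1, 1, 1, 1, 1, 0] (cl3 A) (l3_2 A) (l3_2 A) (by decide +kernel)
theorem l11_8 : A.J 11 (an 11) 121639520 := ((cl11 A).mv [] (l11_23 A) (by decide +kernel)).trans (e95 A)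
theorem e96 : A.J 11 117442592 122732468 :=
  A.edge 26 2 0 [0, 1, 0, 0, 0, 0, 1, 0, 1, 0, 0, 0, 1] [0, 0, 1, 2, 0, 0, 1] 2 117442592 [1, 0, 0, 0, 0, 1, 0, 1, 0, 1, 0, 1, 1, 0, 0, 1] [0, 0, 1, 0] 1 100664215 [0, 1, 1, 1, 0, 1, 1, 1, 0, 1] (cl3 A) (l3_2 A) (l3_1 A) (by decide +kernel)
theorem l11_15 : A.J 11 (an 11) 122732468 := ((cl11 A).mv [] (l11_23 A) (by decide +kernel)).trans (e96 A)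
theorem e97 : A.J 11 117442592 71308192 :=
  A.edge 26 2 0 [0, 1, 0, 0, 0, 0, 1, 0, 1, 0, 0, 0, 1] [0, 0, 1, 2, 0, 0, 1] 2 117442592 [0, 0, 1, 0, 1, 0, 1, 0, 1, 0, 0, 1, 0, 0, 0, 0, 0] [0, 1, 0, 0] 1 67110864 [0, 0, 0, 1, 1] (cl3 A) (l3_2 A) (l3_4 A) (by decide +kernel)
theorem l11_9 : A.J 11 (an 11) 71308192 := ((cl11 A).mv [] (l11_23 A) (by decide +kernel)).trans (e97 A)
theorem e98 : A.J 11 117442592 121641202 :=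
  A.edge 26 2 0 [0, 1, 0, 0, 0, 0, 1, 0, 1, 0, 0, 0, 1] [0, 0, 1, 2, 0, 0, 1] 2 117442592 [1, 0, 0, 0, 0, 0, 0, 1, 0, 0, 0, 1, 0, 1, 0, 1, 0, 0, 0, 0, 0, 0] [0, 0, 0, 1, 0] 0 117444541 [0, 0, 1, 0, 0, 1, 0, 0, 1, 1] (cl3 A) (l3_2 A) (l3_2 A) (by decide +kernel)
theorem l11_12 : A.J 11 (an 11) 121641202 := ((cl11 A).mv [] (l11_23 A) (by decide +kernel)).trans (e98 A)
theorem e99 : A.J 11 117442592 104863986 :=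
  A.edge 26 2 0 [0, 1, 0, 0, 0, 0, 1, 0, 1, 0, 0, 0, 1] [0, 0, 1, 2, 0, 0, 1] 2 117442592 [1, 0, 0, 0, 0, 1, 0, 1, 0, 0, 1, 0, 0, 0, 0, 0, 0, 0, 0, 0] [0, 1, 2, 0, 2] 0 117441416 [1, 1, 0, 0, 0, 0, 1, 0, 1] (cl3 A) (l3_2 A) (l3_2 A) (by decide +kernel)
theorem l11_11 : A.J 11 (an 11) 104863986 := ((cl11 A).mv [] (l11_23 A) (by decide +kernel)).trans (e99 A)
theorem e100 : A.J 11 117442592 105955303 :=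
  A.edge 26 2 0 [0, 1, 0, 0, 0, 0, 1, 0, 1, 0, 0, 0, 1] [0, 0, 1, 2, 0, 0, 1] 2 117442592 [0, 1, 0, 0, 1, 0, 0, 0, 0, 1, 0, 0, 0, 0, 0, 1, 1, 1, 0] [0, 0, 1, 0, 0, 1] 0 117440652 [1, 1, 1, 1, 1, 0, 0, 1, 0, 1, 0, 1, 0, 0] (cl3 A) (l3_2 A) (l3_1 A) (by decide +kernel)
theorem l11_14 : A.J 11 (an 11) 105955303 := ((cl11 A).mv [] (l11_23 A) (by decide +kernel)).trans (e100 A)
theorem e101 : A.J 11 83888289 105469075 :=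
  A.edge 27 2 0 [0, 1, 0, 0, 0, 0, 1, 0, 1, 0, 1, 0, 0, 0, 0, 0, 0, 1] [] 0 83889809 [1, 0, 0, 0, 0, 1, 0, 0, 1, 0, 0, 0, 0, 0, 0, 1, 0, 1, 0] [0, 2] 0 101192288 [0, 1, 1, 0, 1, 1, 0, 1, 1, 0, 1, 1, 0, 0, 0] (cl3 A) (l3_0 A) (l3_1 A) (by decide +kernel)
theorem l11_5 : A.J 11 (an 11) 105469075 := ((cl11 A).mv [1, 1, 0, 0, 0, 1, 0, 0, 0] (l11_9 A) (by decide +kernel)).trans (e101 A)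
theorem e102 : A.J 11 83889262 71916945 :=
  A.edge 27 2 0 [0, 1, 0, 0, 0, 0, 1, 0, 1, 0, 1, 0, 0, 0, 0, 0, 0, 1] [] 0 83889809 [1, 0, 0, 1, 0, 1, 0, 0, 0, 0, 0, 0, 1, 0, 1, 0, 1, 0, 1] [0, 1] 1 75266376 [1, 1, 1, 0, 0] (cl3 A) (l3_0 A) (l3_0 A) (by decide +kernel)
theorem l11_7 : A.J 11 (an 11) 71916945 := ((cl11 A).mv [1, 1, 0, 0, 0, 1, 0, 0] (l11_9 A) (by decide +kernel)).trans (e102 A)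
theorem e103 : A.J 11 83888289 122246291 :=
  A.edge 27 2 0 [0, 1, 0, 0, 0, 0, 1, 0, 1, 0, 1, 0, 0, 0, 0, 0, 0, 1] [] 0 83889809 [0, 0, 0, 0, 0, 1, 0, 0, 1, 0, 1, 0, 1, 0, 0, 0, 1, 1, 1, 0, 0, 0, 1] [0, 2] 1 117969504 [0, 1, 1, 0, 1, 1, 0, 1, 1, 0, 1, 1, 0, 0, 0] (cl3 A) (l3_0 A) (l3_2 A) (by decide +kernel)
theorem l11_6 : A.J 11 (an 11) 122246291 := ((cl11 A).mv [1, 1, 0, 0, 0, 1, 0, 0, 0] (l11_9 A) (by decide +kernel)).trans (e103 A)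
theorem e104 : A.J 11 83886528 119136728 :=
  A.edge 27 2 0 [0, 1, 0, 0, 0, 0, 1, 0, 1, 0, 1, 0, 0, 0, 0, 0, 0, 1] [] 0 83889809 [0, 1, 0, 0, 0, 1, 0, 0, 0, 0, 1, 0, 1, 0, 0, 1, 0, 0, 0, 1, 0, 0, 1] [0, 1, 2, 0] 0 106559623 [0, 1, 1, 0, 1, 0, 1] (cl3 A) (l3_0 A) (l3_2 A) (by decide +kernel)
theorem l11_17 : A.J 11 (an 11) 119136728 := ((cl11 A).mv [1, 0, 1, 0, 0, 1] (l11_9 A) (by decide +kernel)).trans (e104 A)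
theorem e105 : A.J 11 83889809 123335288 :=
  A.edge 27 2 0 [0, 1, 0, 0, 0, 0, 1, 0, 1, 0, 1, 0, 0, 0, 0, 0, 0, 1] [] 0 83889809 [0, 1, 0, 0, 0, 1, 0, 1, 0, 0, 1, 0, 0, 1, 0, 0] [0, 0, 0, 1] 1 123335288 [] (cl3 A) (l3_0 A) (l3_1 A) (by decide +kernel)
theorem l11_19 : A.J 11 (an 11) 123335288 := ((cl11 A).mv [1, 1, 0, 0, 1, 0, 1] (l11_9 A) (by decide +kernel)).trans (e105 A)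
theorem e106 : A.J 11 83886528 102359512 :=
  A.edge 27 2 0 [0, 1, 0, 0, 0, 0, 1, 0, 1, 0, 1, 0, 0, 0, 0, 0, 0, 1] [] 0 83889809 [0, 0, 1, 0, 0, 0, 0, 0, 0, 0, 0, 0, 0, 0, 0, 0, 0, 1, 0, 0] [0, 1, 2, 0] 1 123336839 [0, 1, 1, 0, 1, 0, 1] (cl3 A) (l3_0 A) (l3_1 A) (by decide +kernel)
theorem l11_16 : A.J 11 (an 11) 102359512 := ((cl11 A).mv [1, 0, 1, 0, 0, 1] (l11_9 A) (by decide +kernel)).trans (e106 A)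
theorem e107 : A.J 11 67112877 105469699 :=
  A.edge 32 1 0 [1, 0, 1, 1, 0, 1, 0, 1, 1, 0, 1, 1, 1, 0, 1] [] 0 83889120 [1, 1, 1, 0, 1, 1, 0, 1, 1, 1, 1, 1, 1, 0, 1, 1, 1, 1, 0, 1, 1, 1, 0, 1, 1] [0, 0, 0, 1] 0 117501984 [1, 0, 1, 0, 0, 0, 1, 0, 0, 1, 0, 0, 1, 0] (cl4 A) (l4_1 A) (l4_0 A) (by decide +kernel)
theorem l11_4 : A.J 11 (an 11) 105469699 := ((cl11 A).mv [1, 1] (l11_21 A) (by decide +kernel)).trans (e107 A)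
theorem e108 : A.J 11 83887723 102362492 :=
  A.edge 32 1 0 [1, 0, 1, 1, 0, 1, 0, 1, 1, 0, 1, 1, 1, 0, 1] [] 0 83889120 [0, 1, 1, 1, 1, 1, 0, 1, 1, 1, 1, 1, 1, 0, 1, 1, 0, 1, 1, 0, 1, 1, 1, 1] [0, 0, 1, 2, 0, 2] 0 117470352 [0, 1, 1, 0, 0, 1, 1, 0] (cl4 A) (l4_1 A) (l4_0 A) (by decide +kernel)
theorem l11_18 : A.J 11 (an 11) 102362492 := ((cl11 A).mv [0, 0] (l11_21 A) (by decide +kernel)).trans (e108 A)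
theorem e109 : A.J 11 68452797 126165023 :=
  A.edge 41 1 0 [0, 1, 0, 1, 0, 0, 0, 0, 1, 1, 1, 0, 0] [] 0 83889120 [1, 1, 1, 1, 1, 0, 0, 1, 1, 1, 0, 1, 0, 0, 1, 0] [0, 2] 0 122928174 [1, 0, 1, 0, 1, 1, 1, 1, 0, 1, 1, 1, 1, 0, 0] (cl5 A) (l5_4 A) (l5_0 A) (by decide +kernel)
theorem l11_0 : A.J 11 (an 11) 126165023 := ((cl11 A).mv [1, 1, 0, 1, 0] (l11_21 A) (by decide +kernel)).trans (e109 A)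
theorem e110 : A.J 11 67112331 109324319 :=
  A.edge 41 1 0 [0, 1, 0, 1, 0, 0, 0, 0, 1, 1, 1, 0, 0] [] 0 83889120 [0, 0, 1, 0, 0, 0, 0, 0, 0, 0, 1] [0, 0, 1, 0] 0 122928374 [1, 0, 1, 1, 0, 1] (cl5 A) (l5_4 A) (l5_1 A) (by decide +kernel)
theorem l11_1 : A.J 11 (an 11) 109324319 := ((cl11 A).mv [1, 0, 1, 0] (l11_21 A) (by decide +kernel)).trans (e110 A)
theorem e111 : A.J 11 67112331 92547103 :=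
  A.edge 41 1 0 [0, 1, 0, 1, 0, 0, 0, 0, 1, 1, 1, 0, 0] [] 0 83889120 [0, 0, 0, 1, 0, 0, 0, 0, 0, 1, 0, 0, 0] [0, 0, 1, 0] 1 72596726 [1, 0, 1, 1, 0, 1] (cl5 A) (l5_4 A) (l5_4 A) (by decide +kernel)
theorem l11_2 : A.J 11 (an 11) 92547103 := ((cl11 A).mv [1, 0, 1, 0] (l11_21 A) (by decide +kernel)).trans (e111 A)
theorem e112 : A.J 11 112966065 100871240 :=
  A.edge 44 2 0 [1, 0, 0, 1, 1, 1, 1, 0, 1, 0, 1, 0, 1, 1, 0] [0, 0] 1 100665898 [0, 1, 1, 0, 0, 1, 0, 0, 0, 1, 1, 1, 0, 0, 0, 0] [] 0 101368007 [0, 0, 0, 0, 1, 0, 0, 0, 1, 1, 1, 1, 1, 0] (cl5 A) (l5_5 A) (l5_0 A) (by decide +kernel)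
theorem l11_13 : A.J 11 (an 11) 100871240 := ((cl11 A).mv [0, 0, 1, 1, 0] (l11_3 A) (by decide +kernel)).trans (e112 A)
theorem ed0 : A.Ed 0 := A.ed_of [] 0 [0, 1, 0, 2, 2, 2, 2, 0, 2, 2, 2, 0, 1] [1, 2, 1, 1, 2, 2, 1] [1, 2, 1, 1, 2, 2, 1] (cl0 A) (l0_1 A) (cl2 A) (l2_4 A) (cl2 A) (l2_4 A) (by decide +kernel)
theorem ed1 : A.Ed 1 := A.ed_of [] 0 [0, 3, 2, 1, 3, 1, 4, 0] [2, 1, 1, 1, 2, 2, 1, 1] [2, 0, 1, 1, 2, 1, 1, 2, 1] (cl1 A) (l1_0 A) (cl2 A) (l2_4 A) (cl2 A) (l2_4 A) (by decide +kernel)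
theorem ed2 : A.Ed 2 := A.ed_of [0, 1, 2, 2, 0, 2, 2, 0] 1 [1, 1, 1, 1, 1, 2, 2] [] [] (cl2 A) (l2_3 A) (cl3 A) (l3_6 A) (cl3 A) (l3_6 A) (by decide +kernel)
theorem ed3 : A.Ed 3 := A.ed_of [0] 2 [0, 1, 1, 1, 1, 2, 1, 1, 1, 1, 1, 1, 1] [1, 1, 1] [1, 1, 1, 0, 1, 0, 1, 1, 1, 0, 1, 1, 1, 0, 1, 1, 1, 0, 1] (cl2 A) (l2_0 A) (cl4 A) (l4_3 A) (cl4 A) (l4_2 A) (by decide +kernel)
theorem ed4 : A.Ed 4 := A.ed_of [0] 0 [] [0] [0] (cl3 A) (l3_6 A) (cl5 A) (l5_7 A) (cl5 A) (l5_7 A) (by decide +kernel)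
theorem ed5 : A.Ed 5 := A.ed_of [] 0 [1, 0, 0, 0, 0, 1, 0, 0, 1, 0, 0, 1, 0, 1, 0, 1, 0, 0] [0, 0, 0] [0, 0, 1] (cl3 A) (l3_4 A) (cl6 A) (l6_6 A) (cl6 A) (l6_6 A) (by decide +kernel)
theorem ed6 : A.Ed 6 := A.ed_of [] 0 [0, 0, 1, 0, 0, 0, 0, 1, 0, 0, 1, 0, 1, 0, 0, 1, 0] [1, 1, 2, 1, 2] [1] (cl3 A) (l3_4 A) (cl7 A) (l7_9 A) (cl7 A) (l7_9 A) (by decide +kernel)
theorem ed7 : A.Ed 7 := A.ed_of [0, 1, 0, 0, 0, 0] 0 [1, 0, 0, 0] [1, 0, 1] [1, 0, 0, 0] (cl8 A) (l8_1 A) (cl10 A) (l10_8 A) (cl10 A) (l10_8 A) (by decide +kernel)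
theorem ed8 : A.Ed 8 := A.ed_of [] 1 [0, 1, 0, 1, 0, 1, 0, 1, 1, 0, 1, 1, 1, 1, 1, 1, 0, 1, 0, 1, 1] [0, 1, 0, 1, 1] [0, 1, 1, 0, 0, 0] (cl4 A) (l4_1 A) (cl8 A) (l8_1 A) (cl8 A) (l8_1 A) (by decide +kernel)
theorem ed9 : A.Ed 9 := A.ed_of [0, 1] 1 [0, 0, 1, 0, 0, 0, 0, 1, 0, 1] [0, 1, 1, 0, 1, 1, 0, 1, 1, 0, 0, 0, 0] [0, 0, 0, 0, 0, 0, 0] (cl3 A) (l3_0 A) (cl9 A) (l9_2 A) (cl9 A) (l9_2 A) (by decide +kernel)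
theorem ed10 : A.Ed 10 := A.ed_of [] 3 [1, 0, 0, 0, 0, 0, 0, 0, 0, 0, 0, 0, 0] [1, 1, 1, 0, 1, 1, 1, 0, 1, 1] [0, 1, 1, 0] (cl9 A) (l9_3 A) (cl11 A) (l11_15 A) (cl11 A) (l11_8 A) (by decide +kernel)
theorem ed11 : A.Ed 11 := A.ed_of [] 0 [] [] [] (cl0 A) (l0_2 A) (cl0 A) (l0_2 A) (cl0 A) (l0_2 A) (by decide +kernel)
theorem ed12 : A.Ed 12 := A.ed_of [0] 2 [3, 1, 0, 2] [3, 1, 0, 2] [1, 2, 1, 0, 2, 1, 2, 0, 2, 0] (cl1 A) (l1_1 A) (cl1 A) (l1_1 A) (cl0 A) (l0_0 A) (by decide +kernel)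
theorem ed13 : A.Ed 13 := A.ed_of [0, 0, 1, 0, 2, 0, 0] 3 [2, 3, 3, 2] [3, 2, 1] [2, 3, 3, 2] (cl1 A) (l1_1 A) (cl1 A) (l1_1 A) (cl1 A) (l1_1 A) (by decide +kernel)
theorem ed14 : A.Ed 14 := A.ed_of [0] 0 [] [] [3, 3, 4, 1, 4, 0] (cl4 A) (l4_3 A) (cl4 A) (l4_3 A) (cl1 A) (l1_0 A) (by decide +kernel)
theorem ed15 : A.Ed 15 := A.ed_of [] 0 [] [] [2, 3, 0, 1, 3] (cl3 A) (l3_6 A) (cl3 A) (l3_6 A) (cl1 A) (l1_1 A) (by decide +kernel)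
theorem ed16 : A.Ed 16 := A.ed_of [] 0 [1, 1, 1, 2, 2, 1, 2] [] [1, 1, 1, 2, 2, 1] (cl2 A) (l2_3 A) (cl2 A) (l2_3 A) (cl2 A) (l2_3 A) (by decide +kernel)
theorem ed17 : A.Ed 17 := A.ed_of [0] 0 [0, 0, 1, 0, 0, 1] [2, 1, 2, 2] [0, 0, 1, 0, 0, 1] (cl3 A) (l3_5 A) (cl2 A) (l2_4 A) (cl3 A) (l3_5 A) (by decide +kernel)
theorem ed18 : A.Ed 18 := A.ed_of [] 0 [] [] [1, 1, 1, 0, 2, 2, 1, 2, 1, 0] (cl7 A) (l7_9 A) (cl7 A) (l7_9 A) (cl2 A) (l2_0 A) (by decide +kernel)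
theorem ed19 : A.Ed 19 := A.ed_of [0, 1, 2] 0 [0, 0, 1, 1] [0, 0, 1, 1] [0, 1, 0, 1, 0, 1, 2, 2, 0, 1, 2, 1] (cl6 A) (l6_7 A) (cl6 A) (l6_7 A) (cl2 A) (l2_1 A) (by decide +kernel)
theorem ed20 : A.Ed 20 := A.ed_of [] 2 [0] [0] [1, 1, 1, 1, 1, 2, 2] (cl5 A) (l5_7 A) (cl5 A) (l5_7 A) (cl2 A) (l2_3 A) (by decide +kernel)
theorem ed21 : A.Ed 21 := A.ed_of [] 0 [] [] [] (cl3 A) (l3_6 A) (cl3 A) (l3_6 A) (cl3 A) (l3_6 A) (by decide +kernel)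
theorem ed22 : A.Ed 22 := A.ed_of [0] 2 [0, 0, 0, 0, 0, 1, 0, 1, 0, 1, 0, 1, 0, 1] [1, 1, 1, 1, 1, 1, 1, 0, 1] [1, 1, 0, 1, 0, 1, 1, 0, 1, 0, 1] (cl3 A) (l3_4 A) (cl4 A) (l4_2 A) (cl4 A) (l4_2 A) (by decide +kernel)
theorem ed23 : A.Ed 23 := A.ed_of [0, 1, 2, 0] 1 [1, 0, 0, 0, 0, 1, 0, 1, 0, 0, 0, 1, 0, 1, 0] [0, 0, 0, 0, 1, 0, 1, 0, 0, 1, 0, 0, 0, 0, 0] [0, 1, 0, 0, 0, 1] (cl3 A) (l3_1 A) (cl3 A) (l3_1 A) (cl3 A) (l3_1 A) (by decide +kernel)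
theorem ed24 : A.Ed 24 := A.ed_of [] 0 [0, 0, 1, 0, 0, 1, 0, 0, 0, 0, 0, 0, 1] [0, 0, 0, 0, 1, 0, 1, 0, 1, 0, 0, 1, 0, 1, 0] [1, 1, 0, 1, 0, 1] (cl3 A) (l3_4 A) (cl3 A) (l3_4 A) (cl4 A) (l4_2 A) (by decide +kernel)
theorem ed25 : A.Ed 25 := A.ed_of [0, 0, 1] 0 [0, 1, 0, 0, 1, 1, 1, 0, 1] [1, 0, 0, 0, 1, 1, 1, 1, 1, 0, 0, 1] [1, 0, 1, 0, 0, 0, 0, 0] (cl6 A) (l6_2 A) (cl5 A) (l5_1 A) (cl3 A) (l3_1 A) (by decide +kernel)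
theorem ed26 : A.Ed 26 := A.ed_of [] 0 [0, 1, 1, 1, 1] [0, 1, 1, 1, 1] [0, 1, 0, 1, 0, 1, 0, 1, 0, 0, 1, 0, 1] (cl11 A) (l11_21 A) (cl11 A) (l11_21 A) (cl3 A) (l3_0 A) (by decide +kernel)
theorem ed27 : A.Ed 27 := A.ed_of [] 1 [1, 1, 0, 0, 1, 0, 1] [1, 1, 1, 1, 1] [0, 0, 0, 1, 0, 0, 0, 1, 0, 0, 0, 0, 1, 0, 1, 0, 0, 1] (cl11 A) (l11_10 A) (cl11 A) (l11_10 A) (cl3 A) (l3_1 A) (by decide +kernel)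
theorem ed28 : A.Ed 28 := A.ed_of [] 2 [1, 0, 0, 1, 0, 0, 1] [1, 0, 0, 1, 1, 1, 0, 0, 1] [1, 0, 0, 0, 0, 1, 0, 1, 0, 1, 0, 0, 0, 0] (cl6 A) (l6_0 A) (cl6 A) (l6_0 A) (cl3 A) (l3_4 A) (by decide +kernel)
theorem ed29 : A.Ed 29 := A.ed_of [0, 2, 2] 2 [1, 0, 0, 0, 0, 0] [1, 0, 0, 0, 0, 0] [0, 1, 0, 1, 0, 0] (cl10 A) (l10_8 A) (cl10 A) (l10_8 A) (cl3 A) (l3_5 A) (by decide +kernel)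
theorem ed30 : A.Ed 30 := A.ed_of [] 0 [1, 0, 1, 0, 1, 1, 1, 1, 1, 0, 1, 1, 0, 1] [1, 1, 0, 1, 0, 1, 1, 1, 0, 1, 1, 0, 1, 0] [0, 1, 1, 0, 1, 1, 1, 1, 1, 1, 0, 1, 1, 0] (cl4 A) (l4_1 A) (cl4 A) (l4_2 A) (cl4 A) (l4_1 A) (by decide +kernel)
theorem ed31 : A.Ed 31 := A.ed_of [] 3 [1, 1, 0] [1, 1, 1, 0, 1, 1, 0, 1, 1, 1, 0, 1, 1] [1, 1, 0, 1, 0, 1, 1, 0, 1, 1, 0] (cl4 A) (l4_2 A) (cl4 A) (l4_2 A) (cl4 A) (l4_2 A) (by decide +kernel)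
theorem ed32 : A.Ed 32 := A.ed_of [] 0 [0, 1, 1, 1, 1] [1, 0, 1, 1, 0, 1, 0, 1, 1, 0, 1, 1, 1, 0, 1] [0, 1, 1, 1, 1] (cl11 A) (l11_21 A) (cl4 A) (l4_1 A) (cl11 A) (l11_21 A) (by decide +kernel)
theorem ed33 : A.Ed 33 := A.ed_of [] 0 [1, 0, 1, 0, 1, 0, 1] [1, 0, 0, 0, 1] [1, 1, 1, 0, 1, 1, 1, 1, 1, 1, 1, 0, 1, 1] (cl6 A) (l6_6 A) (cl6 A) (l6_6 A) (cl4 A) (l4_1 A) (by decide +kernel)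
theorem ed34 : A.Ed 34 := A.ed_of [0] 2 [2, 0, 2] [2, 1, 2, 2, 1] [1, 1, 1, 0, 1, 1, 0, 1, 0, 1, 1, 1, 0, 1, 0] (cl7 A) (l7_9 A) (cl7 A) (l7_9 A) (cl4 A) (l4_1 A) (by decide +kernel)
theorem ed35 : A.Ed 35 := A.ed_of [0] 2 [0, 0, 1, 1, 1, 1, 0, 1, 1] [0, 0, 1, 1, 1, 1, 0, 1, 1] [1, 1, 0, 1, 1, 1, 0, 1, 1, 1, 1, 1, 1, 0, 1] (cl9 A) (l9_2 A) (cl9 A) (l9_2 A) (cl4 A) (l4_1 A) (by decide +kernel)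
theorem ed36 : A.Ed 36 := A.ed_of [] 3 [0, 1, 0, 0, 1, 0, 0, 1, 0] [1, 0, 1, 0, 1, 1, 1, 0, 1, 0, 1] [0, 1, 0, 0, 1, 0, 0, 1, 0] (cl10 A) (l10_1 A) (cl4 A) (l4_1 A) (cl10 A) (l10_1 A) (by decide +kernel)
theorem ed37 : A.Ed 37 := A.ed_of [] 3 [1, 0, 0, 0, 1, 0] [1, 1, 1, 0, 1, 1, 1, 0, 1, 1, 1, 0] [1, 0, 0, 0, 1, 0] (cl10 A) (l10_8 A) (cl4 A) (l4_2 A) (cl10 A) (l10_8 A) (by decide +kernel)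
theorem ed38 : A.Ed 38 := A.ed_of [0, 1, 0, 2] 2 [1, 1, 0, 0] [0, 0, 0, 0] [1, 1, 0, 1, 0, 1, 1, 0, 1, 0, 1, 1, 1] (cl8 A) (l8_1 A) (cl8 A) (l8_1 A) (cl4 A) (l4_2 A) (by decide +kernel)
theorem ed39 : A.Ed 39 := A.ed_of [] 0 [1, 2, 2, 1, 2] [0, 0, 1, 1, 0] [0, 0, 1, 0, 1, 0, 1, 1, 1, 1] (cl7 A) (l7_9 A) (cl5 A) (l5_2 A) (cl6 A) (l6_0 A) (by decide +kernel)
theorem ed40 : A.Ed 40 := A.ed_of [] 1 [2, 1, 2, 2, 0, 2, 0, 1, 2, 0, 2, 1, 2] [1, 2, 0, 1, 2, 2, 2, 1, 2, 2, 1, 2] [0, 1, 0, 0, 0, 1, 0, 0, 0, 1, 1, 1] (cl7 A) (l7_1 A) (cl7 A) (l7_4 A) (cl5 A) (l5_0 A) (by decide +kernel)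
theorem ed41 : A.Ed 41 := A.ed_of [] 3 [0, 1, 0, 0, 1] [1, 0, 0, 0, 1, 0, 0, 1, 0, 0, 0] [0, 1, 1, 1, 1] (cl11 A) (l11_20 A) (cl5 A) (l5_4 A) (cl11 A) (l11_21 A) (by decide +kernel)
theorem ed42 : A.Ed 42 := A.ed_of [0, 0] 2 [0] [0] [] (cl5 A) (l5_7 A) (cl5 A) (l5_7 A) (cl5 A) (l5_7 A) (by decide +kernel)
theorem ed43 : A.Ed 43 := A.ed_of [0, 1, 0, 2, 0, 2] 3 [1, 0, 1, 0] [0, 1, 1, 0, 0, 0, 0, 0, 0, 1, 1, 1, 0] [1, 0, 1, 0] (cl9 A) (l9_1 A) (cl5 A) (l5_5 A) (cl9 A) (l9_1 A) (by decide +kernel)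
theorem ed44 : A.Ed 44 := A.ed_of [0, 1, 0, 0, 2, 0] 1 [0] [0] [0, 1, 0, 0, 1, 1, 1, 1, 0, 0] (cl11 A) (l11_21 A) (cl11 A) (l11_21 A) (cl5 A) (l5_6 A) (by decide +kernel)
theorem ed45 : A.Ed 45 := A.ed_of [0, 2, 2, 0] 0 [1, 1, 0, 0, 0, 0, 0, 1] [0, 1, 1, 1, 1] [1, 1, 0, 0, 0, 0, 0, 1] (cl9 A) (l9_8 A) (cl5 A) (l5_2 A) (cl9 A) (l9_8 A) (by decide +kernel)
theorem ed46 : A.Ed 46 := A.ed_of [] 1 [1, 2, 2, 1, 1, 2, 1] [0, 1, 1, 0, 0, 1, 1, 1, 0, 0, 1] [0, 1, 0, 1, 0, 1, 1, 1] (cl7 A) (l7_11 A) (cl6 A) (l6_8 A) (cl6 A) (l6_8 A) (by decide +kernel)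
theorem ed47 : A.Ed 47 := A.ed_of [0, 0] 3 [0, 0, 1] [0, 0, 1, 0, 0, 1, 1, 0, 1, 1, 0, 1, 1, 1] [1, 2, 2] (cl11 A) (l11_21 A) (cl6 A) (l6_0 A) (cl7 A) (l7_9 A) (by decide +kernel)
theorem ed48 : A.Ed 48 := A.ed_of [0, 1, 0, 2, 0, 0, 2] 2 [] [1, 0, 1, 0, 0, 0, 0, 0, 1, 1, 0, 0] [] (cl11 A) (l11_2 A) (cl6 A) (l6_0 A) (cl11 A) (l11_2 A) (by decide +kernel)
theorem ed49 : A.Ed 49 := A.ed_of [0, 0, 1, 0, 0, 0] 2 [1, 1, 1, 0, 1, 1] [1, 1, 1, 0, 1, 1] [0, 0, 0] (cl11 A) (l11_21 A) (cl11 A) (l11_21 A) (cl6 A) (l6_6 A) (by decide +kernel)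
theorem ed50 : A.Ed 50 := A.ed_of [0] 1 [1, 1, 1, 0, 0, 0, 0, 0, 0, 1] [1, 1, 0, 0, 1, 0, 0, 0, 1, 0, 0] [1, 1, 1, 0, 0, 0, 0, 0, 0, 1] (cl9 A) (l9_1 A) (cl6 A) (l6_8 A) (cl9 A) (l9_1 A) (by decide +kernel)
theorem ed51 : A.Ed 51 := A.ed_of [] 3 [0, 0, 0, 0, 1] [0, 0, 0, 0, 0, 1, 1, 1, 1, 1, 1, 1] [0, 0, 0, 0, 1] (cl9 A) (l9_2 A) (cl6 A) (l6_0 A) (cl9 A) (l9_2 A) (by decide +kernel)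
theorem ed52 : A.Ed 52 := A.ed_of [0] 3 [0, 0, 1, 0, 0, 0, 0, 0, 0] [0, 0, 1, 0, 0, 0, 0, 0, 1, 0] [1, 1, 0, 1, 1, 0, 1, 1, 1, 0, 0, 0] (cl10 A) (l10_4 A) (cl10 A) (l10_4 A) (cl6 A) (l6_4 A) (by decide +kernel)
theorem ed53 : A.Ed 53 := A.ed_of [] 1 [0, 2, 1, 1, 1, 2, 1] [0, 2, 1, 1, 1, 2, 1] [1, 0, 0, 0, 0, 1, 1, 1, 1, 0] (cl7 A) (l7_6 A) (cl7 A) (l7_6 A) (cl6 A) (l6_0 A) (by decide +kernel)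
theorem ed54 : A.Ed 54 := A.ed_of [0, 0] 3 [1, 0, 0, 1, 1, 0, 0, 0] [1, 0, 0, 1, 1, 0, 0, 0] [1, 0, 0, 1, 1, 0, 0, 0] (cl6 A) (l6_0 A) (cl6 A) (l6_0 A) (cl6 A) (l6_0 A) (by decide +kernel)
theorem ed55 : A.Ed 55 := A.ed_of [0, 1, 0, 0, 1, 0, 0, 0, 0] 0 [0, 1] [0, 1] [0, 1, 0, 0, 1, 0, 1, 1, 1, 0, 1] (cl10 A) (l10_1 A) (cl10 A) (l10_1 A) (cl6 A) (l6_0 A) (by decide +kernel)
theorem ed56 : A.Ed 56 := A.ed_of [0, 2, 0] 3 [1, 1] [0, 1, 0, 1, 0, 1, 0, 1] [1, 1] (cl11 A) (l11_12 A) (cl6 A) (l6_5 A) (cl11 A) (l11_12 A) (by decide +kernel)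
theorem ed57 : A.Ed 57 := A.ed_of [0] 2 [0, 0, 0, 0, 0, 1, 0, 0, 0, 0, 0, 0, 0, 1, 0, 0] [1, 1, 1, 0, 0, 0, 0, 1, 0, 0, 1, 1] [0, 1, 1, 0, 1, 0, 1, 1] (cl10 A) (l10_9 A) (cl6 A) (l6_4 A) (cl11 A) (l11_8 A) (by decide +kernel)
theorem ed58 : A.Ed 58 := A.ed_of [0] 0 [0, 1, 1, 1, 1, 0] [0, 1, 1, 0, 0, 1, 0, 1, 1, 1] [0, 1, 0, 1, 1] (cl11 A) (l11_21 A) (cl6 A) (l6_0 A) (cl9 A) (l9_2 A) (by decide +kernel)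
theorem ed59 : A.Ed 59 := A.ed_of [] 0 [] [0, 0, 0, 0, 1, 1, 0, 0, 0, 1, 1, 0, 0, 1] [0, 0, 0, 0, 0, 1, 1, 1, 1, 0, 1, 1, 1, 1] (cl6 A) (l6_9 A) (cl9 A) (l9_3 A) (cl6 A) (l6_4 A) (by decide +kernel)
theorem ed60 : A.Ed 60 := A.ed_of [0] 3 [1, 0, 0, 0, 1, 1, 1, 0, 1, 1] [1, 0, 0, 0, 1, 1, 1, 0, 1, 1] [1, 0, 0, 0, 1, 1, 1, 0, 1, 1] (cl6 A) (l6_0 A) (cl6 A) (l6_0 A) (cl6 A) (l6_0 A) (by decide +kernel)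
theorem ed61 : A.Ed 61 := A.ed_of [] 1 [0, 2, 1, 1, 1, 2, 1] [0, 2, 1, 1, 1, 2, 1] [0, 1, 0, 0, 1, 0, 1, 1, 1, 0, 0, 1, 0, 1] (cl7 A) (l7_6 A) (cl7 A) (l7_6 A) (cl6 A) (l6_0 A) (by decide +kernel)
theorem ed62 : A.Ed 62 := A.ed_of [] 0 [2, 1, 2, 1, 2] [2, 1, 2, 1, 2] [2, 1, 2, 1, 2] (cl7 A) (l7_11 A) (cl7 A) (l7_11 A) (cl7 A) (l7_11 A) (by decide +kernel)
theorem ed63 : A.Ed 63 := A.ed_of [] 0 [1, 0, 1, 0, 0, 0] [1, 1, 0, 1, 1, 1, 1, 0, 0] [2, 0, 1, 1, 1, 2, 1] (cl10 A) (l10_8 A) (cl11 A) (l11_7 A) (cl7 A) (l7_6 A) (by decide +kernel)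
theorem ed64 : A.Ed 64 := A.ed_of [0] 0 [2, 2] [1, 0, 0] [1] (cl7 A) (l7_9 A) (cl9 A) (l9_2 A) (cl11 A) (l11_21 A) (by decide +kernel)
theorem ed65 : A.Ed 65 := A.ed_of [0, 1, 0, 2, 0, 1] 1 [1, 0, 1, 1, 0] [2, 2, 2] [1, 1, 0, 1] (cl11 A) (l11_7 A) (cl7 A) (l7_9 A) (cl9 A) (l9_8 A) (by decide +kernel)
theorem ed66 : A.Ed 66 := A.ed_of [] 0 [0, 1, 1, 0, 1] [1, 0, 1] [0, 2, 1, 2, 1, 2] (cl11 A) (l11_20 A) (cl11 A) (l11_21 A) (cl7 A) (l7_6 A) (by decide +kernel)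
theorem ed67 : A.Ed 67 := A.ed_of [0] 0 [0, 0, 0, 1, 0, 1, 0, 1, 0, 0] [1, 2, 0, 2, 1, 2, 2, 1, 1, 1] [0, 0, 1, 0, 0, 0, 0, 0, 0, 0, 1, 0, 1, 0, 0, 0, 1, 0, 0, 0] (cl10 A) (l10_9 A) (cl7 A) (l7_2 A) (cl10 A) (l10_5 A) (by decide +kernel)
theorem ed68 : A.Ed 68 := A.ed_of [] 0 [1, 1, 2, 1, 2] [0, 2, 0, 2, 0, 2, 2, 1, 2, 0, 1, 2, 0, 1] [2, 1, 2, 0, 2, 2, 1, 1, 2, 0] (cl7 A) (l7_11 A) (cl7 A) (l7_1 A) (cl7 A) (l7_1 A) (by decide +kernel)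
theorem ed69 : A.Ed 69 := A.ed_of [] 2 [1, 0, 0] [1, 1, 1, 0, 1, 1, 0, 1, 0, 1] [1, 1, 2, 0, 1, 2, 0, 2, 2] (cl11 A) (l11_8 A) (cl11 A) (l11_5 A) (cl7 A) (l7_2 A) (by decide +kernel)
theorem ed70 : A.Ed 70 := A.ed_of [0] 2 [1, 0, 1, 1, 1, 1, 1, 0, 0] [0, 2, 1, 1, 2, 2, 2, 1, 1, 2] [2, 1, 2, 1, 2, 2] (cl11 A) (l11_11 A) (cl7 A) (l7_4 A) (cl7 A) (l7_10 A) (by decide +kernel)
theorem ed71 : A.Ed 71 := A.ed_of [] 0 [] [0, 0, 1, 0, 1, 1, 0, 0] [0, 1, 1, 1, 0, 0, 1, 0, 1, 0] (cl7 A) (l7_9 A) (cl11 A) (l11_7 A) (cl11 A) (l11_7 A) (by decide +kernel)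
theorem ed72 : A.Ed 72 := A.ed_of [0, 0] 3 [1, 0, 0, 0, 0, 0, 0] [0, 1, 0, 1, 1, 0, 0, 1, 1, 1, 1, 1, 0] [1, 1, 2, 0, 1, 2, 1, 1] (cl10 A) (l10_8 A) (cl9 A) (l9_2 A) (cl7 A) (l7_9 A) (by decide +kernel)
theorem ed73 : A.Ed 73 := A.ed_of [] 1 [0, 2, 2, 1, 2, 1, 1, 2, 1, 2, 2] [0, 0, 1, 0, 0, 1, 0, 1, 0, 0, 1] [1, 0, 0, 1, 0, 0, 0, 0, 0, 1, 0, 1, 0, 0] (cl7 A) (l7_2 A) (cl9 A) (l9_5 A) (cl9 A) (l9_3 A) (by decide +kernel)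
theorem ed74 : A.Ed 74 := A.ed_of [0, 1, 0] 3 [0, 2, 1, 2, 2] [1] [0, 1, 0, 0, 0, 0, 1, 0, 0, 0, 1, 0, 0, 1, 0] (cl7 A) (l7_11 A) (cl8 A) (l8_0 A) (cl8 A) (l8_0 A) (by decide +kernel)
theorem ed75 : A.Ed 75 := A.ed_of [0] 1 [1, 0, 1, 0, 1, 0, 0, 1] [1, 0, 1, 1, 1, 0, 1, 0, 1, 0] [0, 2, 0, 2, 1, 2, 1, 2, 2, 2] (cl10 A) (l10_9 A) (cl11 A) (l11_16 A) (cl7 A) (l7_2 A) (by decide +kernel)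
theorem ed76 : A.Ed 76 := A.ed_of [0, 0, 1, 0, 2] 1 [1, 0, 0, 1, 1, 1, 1, 0, 1] [0, 1, 1, 0, 0, 1] [0, 2] (cl11 A) (l11_15 A) (cl9 A) (l9_6 A) (cl7 A) (l7_10 A) (by decide +kernel)
theorem ed77 : A.Ed 77 := A.ed_of [0] 0 [1, 1, 0, 1, 0, 1, 1, 0, 0, 0] [2, 2, 2, 0, 2, 1, 2, 0, 2, 1, 2] [0, 0, 1, 0, 0, 0, 0, 0, 0, 0, 1, 0, 1, 0, 0, 0, 1] (cl11 A) (l11_6 A) (cl7 A) (l7_7 A) (cl10 A) (l10_7 A) (by decide +kernel)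
theorem ed78 : A.Ed 78 := A.ed_of [0] 0 [0, 1, 0, 1] [0, 2, 0, 1, 2, 0, 2, 0, 2, 1, 1, 2, 0, 2, 0, 2] [0, 2, 0, 2, 2, 1, 2, 0] (cl10 A) (l10_4 A) (cl7 A) (l7_7 A) (cl7 A) (l7_1 A) (by decide +kernel)
theorem ed79 : A.Ed 79 := A.ed_of [] 3 [1, 0, 1, 1, 0, 1, 1, 0, 1, 0, 1, 1] [0, 1, 0, 1, 0, 0, 0, 1, 1] [0, 2, 0, 1, 2, 1, 2, 1, 1, 2, 1, 2, 0] (cl11 A) (l11_4 A) (cl11 A) (l11_12 A) (cl7 A) (l7_7 A) (by decide +kernel)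
theorem ed80 : A.Ed 80 := A.ed_of [0] 1 [1, 1, 0, 0, 1, 0, 1] [0, 2, 1, 1, 2, 0, 1, 1, 2, 2, 0] [0, 2, 1, 1, 2, 0, 1, 2, 1, 1, 2] (cl9 A) (l9_8 A) (cl7 A) (l7_8 A) (cl7 A) (l7_8 A) (by decide +kernel)
theorem ed81 : A.Ed 81 := A.ed_of [0] 0 [1, 0, 0, 1, 0, 0, 0, 1, 0, 1, 0, 1] [0, 1, 1, 2, 2, 1, 2, 1, 1] [1, 1, 1, 1, 0, 1, 1, 0, 0, 1, 1] (cl10 A) (l10_9 A) (cl7 A) (l7_0 A) (cl11 A) (l11_5 A) (by decide +kernel)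
theorem ed82 : A.Ed 82 := A.ed_of [] 1 [1, 1, 1, 1, 0, 1, 1, 1, 0, 0, 1] [0, 2, 0, 2, 1, 2, 0, 2, 0, 2, 0] [0, 1, 1, 0, 0, 0, 0, 1, 0, 0, 0] (cl11 A) (l11_5 A) (cl7 A) (l7_2 A) (cl11 A) (l11_3 A) (by decide +kernel)
theorem ed83 : A.Ed 83 := A.ed_of [] 2 [1, 1, 1, 1, 1, 1, 0, 1, 0, 1, 1, 1, 0, 0] [0, 2, 0, 1, 2, 1, 2, 0, 1, 1] [0, 2, 1, 1, 1, 2, 2] (cl11 A) (l11_4 A) (cl7 A) (l7_7 A) (cl7 A) (l7_2 A) (by decide +kernel)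
theorem ed84 : A.Ed 84 := A.ed_of [0] 3 [0, 0, 0, 1, 0, 1, 0, 0] [2, 0, 1, 2, 0, 2, 2, 1, 1] [1, 0, 0, 0, 1, 0, 0, 0, 1, 0, 0, 1] (cl10 A) (l10_9 A) (cl7 A) (l7_1 A) (cl10 A) (l10_6 A) (by decide +kernel)
theorem ed85 : A.Ed 85 := A.ed_of [] 0 [1, 1, 0, 1, 0, 1, 1, 0, 1, 1, 1, 1] [0, 2, 2, 2, 1, 1, 2, 0, 1, 2, 1] [1, 0, 0, 1, 1, 1, 0, 0, 1, 1, 0] (cl11 A) (l11_13 A) (cl7 A) (l7_4 A) (cl11 A) (l11_0 A) (by decide +kernel)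
theorem ed86 : A.Ed 86 := A.ed_of [] 2 [0, 1, 0, 0, 0, 0, 0, 1, 1, 0, 0, 0] [1, 2, 0, 1, 2, 1, 1, 2, 2, 2, 0, 2, 1] [2, 0, 2, 1, 2, 0, 2, 1, 1, 2, 0] (cl9 A) (l9_3 A) (cl7 A) (l7_1 A) (cl7 A) (l7_1 A) (by decide +kernel)
theorem ed87 : A.Ed 87 := A.ed_of [] 2 [1, 1, 1, 0, 1, 1, 1, 1, 1, 1, 0, 1] [0, 1, 2, 0, 1, 2, 1, 1, 1, 2, 2, 2, 2] [0, 2, 2, 1, 2, 0, 1, 2, 0] (cl11 A) (l11_5 A) (cl7 A) (l7_1 A) (cl7 A) (l7_2 A) (by decide +kernel)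
theorem ed88 : A.Ed 88 := A.ed_of [0, 2, 0, 1, 0, 2, 0] 2 [1] [1] [0, 1, 0, 1, 1, 0, 1, 0] (cl11 A) (l11_21 A) (cl11 A) (l11_9 A) (cl8 A) (l8_1 A) (by decide +kernel)
theorem ed89 : A.Ed 89 := A.ed_of [] 0 [0, 1, 1, 1, 0, 0, 1, 0, 0, 1] [0, 0, 1, 0, 1, 0, 0] [0, 1, 0, 1, 0, 0, 1, 0, 0, 0, 1, 0, 1, 0, 0, 0, 1, 0, 1, 0, 1] (cl11 A) (l11_6 A) (cl8 A) (l8_2 A) (cl10 A) (l10_5 A) (by decide +kernel)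
theorem ed90 : A.Ed 90 := A.ed_of [0, 2, 2] 3 [0, 0, 1, 0, 0, 0, 0, 0, 1, 0, 0] [0, 0, 0, 0, 1, 0, 0, 1, 0, 1, 0, 1] [1, 0, 0, 0, 0, 0, 0] (cl10 A) (l10_2 A) (cl8 A) (l8_0 A) (cl10 A) (l10_9 A) (by decide +kernel)
theorem ed91 : A.Ed 91 := A.ed_of [] 1 [0, 0, 1, 1, 1, 0, 0, 0, 0, 0, 1, 1, 0, 1, 0, 0] [0, 0, 1, 0, 0, 1, 0, 1, 0, 1, 1] [] (cl11 A) (l11_13 A) (cl8 A) (l8_2 A) (cl11 A) (l11_3 A) (by decide +kernel)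
theorem ed92 : A.Ed 92 := A.ed_of [] 0 [0, 1, 0, 1, 0, 0, 0, 0, 0, 1, 0, 0, 1, 0, 1, 0] [1, 1, 1, 0, 0] [1, 0, 0, 0, 1, 0, 0, 0, 0, 0, 0, 1, 0] (cl10 A) (l10_9 A) (cl11 A) (l11_11 A) (cl9 A) (l9_1 A) (by decide +kernel)
theorem ed93 : A.Ed 93 := A.ed_of [0, 0] 3 [1, 0, 1, 0, 1, 0] [1, 0, 0, 0, 0, 1, 0, 0, 1, 0, 1, 0, 0] [0, 0, 0, 0, 0, 0] (cl10 A) (l10_8 A) (cl10 A) (l10_1 A) (cl9 A) (l9_8 A) (by decide +kernel)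
theorem ed94 : A.Ed 94 := A.ed_of [0, 2] 2 [1, 1, 0, 0, 0, 0, 1, 1] [0, 1, 0, 0, 1, 1, 0, 1, 0, 0, 1, 0, 1, 0, 1] [1, 1, 0, 0, 0, 0, 1, 1] (cl11 A) (l11_3 A) (cl9 A) (l9_3 A) (cl11 A) (l11_3 A) (by decide +kernel)
theorem ed95 : A.Ed 95 := A.ed_of [] 3 [1, 0, 0, 0, 0, 0, 1, 0, 0, 1] [1, 0, 0, 0, 0, 0, 1, 0, 0, 1] [0, 1, 1, 0, 0, 1, 0, 0, 1, 0, 0, 1, 0, 1] (cl10 A) (l10_6 A) (cl10 A) (l10_6 A) (cl9 A) (l9_3 A) (by decide +kernel)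
theorem ed96 : A.Ed 96 := A.ed_of [0, 2, 2] 3 [0, 0, 0, 0, 1, 1, 0, 1] [1, 0, 0] [0, 0, 0, 0, 1, 1, 0, 1] (cl11 A) (l11_2 A) (cl9 A) (l9_8 A) (cl11 A) (l11_2 A) (by decide +kernel)
theorem ed97 : A.Ed 97 := A.ed_of [0] 3 [1, 1, 0] [1, 1, 1, 1, 0, 0, 0, 1, 1] [1, 1, 0, 1, 0, 0] (cl11 A) (l11_1 A) (cl9 A) (l9_6 A) (cl11 A) (l11_1 A) (by decide +kernel)
theorem ed98 : A.Ed 98 := A.ed_of [] 0 [0, 1, 0, 0, 1, 0, 1, 0, 0, 1] [0, 1, 0, 0, 1, 0, 1, 0, 0, 1] [0, 1, 0, 0, 1, 0, 1, 0, 0, 1] (cl9 A) (l9_6 A) (cl9 A) (l9_6 A) (cl9 A) (l9_6 A) (by decide +kernel)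
theorem ed99 : A.Ed 99 := A.ed_of [] 3 [1, 0, 0, 0, 0, 0, 1, 0, 0, 1, 0] [1, 0, 1, 0, 1, 0, 1, 0, 0, 1] [1, 0, 0, 0, 0, 0, 1, 0, 0, 0, 0, 1, 0, 0, 1, 0] (cl10 A) (l10_9 A) (cl11 A) (l11_11 A) (cl10 A) (l10_2 A) (by decide +kernel)
theorem ed100 : A.Ed 100 := A.ed_of [0, 0, 0, 1] 0 [1, 0, 1, 0, 0, 1, 0, 0, 0, 1, 0] [0, 1, 1, 0, 1, 0, 1, 1] [1, 1, 0, 1] (cl10 A) (l10_1 A) (cl11 A) (l11_7 A) (cl11 A) (l11_21 A) (by decide +kernel)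
theorem ed101 : A.Ed 101 := A.ed_of [0, 2, 2] 0 [0, 0, 1, 0, 1, 1, 1, 1] [1, 1, 0, 1, 1, 1, 0] [0, 1, 0, 1, 0, 0, 0, 0, 1, 0, 0, 0] (cl11 A) (l11_7 A) (cl11 A) (l11_7 A) (cl10 A) (l10_1 A) (by decide +kernel)
theorem ed102 : A.Ed 102 := A.ed_of [] 1 [0, 1, 1, 1, 1, 1, 1, 0, 0] [1, 0, 1, 0, 1, 0, 1, 0, 0, 0, 0, 1] [1, 0, 1, 1, 0, 0, 1, 1, 0, 0, 1, 0, 0, 1] (cl11 A) (l11_8 A) (cl10 A) (l10_3 A) (cl11 A) (l11_0 A) (by decide +kernel)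
theorem ed103 : A.Ed 103 := A.ed_of [0] 0 [1, 0, 0, 0, 0, 1, 1, 0, 1, 0, 1] [] [0, 0, 1, 0, 0, 1, 0, 0, 0, 0, 0, 0, 1, 0, 0, 1, 0, 0, 0, 1, 0] (cl11 A) (l11_4 A) (cl11 A) (l11_23 A) (cl10 A) (l10_3 A) (by decide +kernel)
theorem ed104 : A.Ed 104 := A.ed_of [0, 1, 2, 0, 0] 2 [1, 0, 0, 0, 0, 1, 0, 1, 0, 0, 1] [1, 0, 0, 1, 0, 1, 0, 1, 0, 0, 0] [1, 0, 1, 0, 1, 0, 1, 0, 0, 0, 1, 0] (cl10 A) (l10_1 A) (cl10 A) (l10_8 A) (cl10 A) (l10_1 A) (by decide +kernel)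
theorem ed105 : A.Ed 105 := A.ed_of [] 0 [1, 0, 1, 0, 0, 0] [1, 1, 0, 0, 0, 1] [0, 1, 1, 1, 0, 1, 0, 1, 0, 1] (cl10 A) (l10_8 A) (cl11 A) (l11_7 A) (cl11 A) (l11_7 A) (by decide +kernel)
theorem ed106 : A.Ed 106 := A.ed_of [0, 0, 0] 2 [0, 0, 1, 0, 0, 0, 1, 0, 1, 0, 1] [0, 0, 0, 1, 0, 0, 1, 0, 1, 0, 1, 0, 1, 0, 1, 0] [1, 0, 0, 1, 0, 1, 0, 1, 0, 0, 0] (cl10 A) (l10_4 A) (cl10 A) (l10_5 A) (cl10 A) (l10_3 A) (by decide +kernel)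
theorem ed107 : A.Ed 107 := A.ed_of [] 0 [1, 0, 0, 0, 1, 0, 0] [1, 0, 0, 1, 0, 1] [1, 0, 1] (cl10 A) (l10_8 A) (cl10 A) (l10_8 A) (cl10 A) (l10_8 A) (by decide +kernel)
theorem ed108 : A.Ed 108 := A.ed_of [] 2 [1, 1, 0, 0, 0, 1, 0, 0] [1, 0, 0, 1, 0, 1, 0, 1, 0, 0] [0, 0, 0, 0, 1, 0, 1, 0, 0, 1, 0, 0, 0, 0, 0, 0, 1, 0] (cl11 A) (l11_11 A) (cl10 A) (l10_6 A) (cl10 A) (l10_6 A) (by decide +kernel)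
theorem ed109 : A.Ed 109 := A.ed_of [0] 1 [1, 1, 0, 0, 0, 1, 0, 0, 0, 1, 0, 1, 0] [1, 0, 1, 0, 0, 1, 0, 0, 0, 0, 0, 1, 0, 0] [1, 0, 0, 1, 0, 0, 0, 0, 0, 0, 0] (cl11 A) (l11_5 A) (cl10 A) (l10_2 A) (cl10 A) (l10_3 A) (by decide +kernel)
theorem ed110 : A.Ed 110 := A.ed_of [] 2 [1, 0, 1, 1] [1, 0, 0, 1, 0, 0, 0, 0, 0, 1, 0, 1, 0, 0, 1] [1, 0, 1, 0, 0, 1, 0, 1] (cl11 A) (l11_7 A) (cl10 A) (l10_1 A) (cl11 A) (l11_9 A) (by decide +kernel)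
theorem ed111 : A.Ed 111 := A.ed_of [0, 0] 2 [1, 1, 1, 0, 0, 0, 1, 0, 0, 1, 1, 1] [0, 0, 1, 0] [1, 0, 0, 1, 0, 1, 0, 1, 0, 1, 0, 1] (cl11 A) (l11_6 A) (cl10 A) (l10_9 A) (cl10 A) (l10_2 A) (by decide +kernel)
theorem ed112 : A.Ed 112 := A.ed_of [] 3 [0, 1, 0, 0] [1, 0, 0, 1, 1, 0, 1, 1, 0, 1, 1, 0, 0] [1, 0, 0, 0, 0, 1, 0, 1, 0, 1, 0, 0, 0, 1] (cl11 A) (l11_4 A) (cl11 A) (l11_4 A) (cl10 A) (l10_6 A) (by decide +kernel)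
theorem ed113 : A.Ed 113 := A.ed_of [] 0 [0, 1, 1, 1, 1] [1, 0, 0, 0, 1, 0, 0, 0, 1, 0, 0, 0, 0] [0, 1, 0, 1, 0, 0, 1, 0, 0, 0, 1, 0] (cl11 A) (l11_21 A) (cl10 A) (l10_1 A) (cl10 A) (l10_1 A) (by decide +kernel)
theorem ed114 : A.Ed 114 := A.ed_of [] 3 [1, 0, 0, 0, 0, 0, 1, 0, 1, 0, 0, 0, 0, 0, 0, 0, 1] [0, 0, 1, 0, 0, 1, 0, 0, 0, 1, 0, 1] [0, 0, 0, 1, 0, 0, 1, 0, 0, 1, 0, 0, 0, 1, 0, 1, 0] (cl10 A) (l10_6 A) (cl10 A) (l10_4 A) (cl10 A) (l10_5 A) (by decide +kernel)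
theorem ed115 : A.Ed 115 := A.ed_of [] 1 [1, 0, 1, 1, 1, 0] [1, 1, 1, 0, 0, 1, 0, 0, 1] [1, 1, 0, 0, 1, 0, 0] (cl11 A) (l11_8 A) (cl11 A) (l11_11 A) (cl11 A) (l11_12 A) (by decide +kernel)
theorem ed116 : A.Ed 116 := A.ed_of [] 0 [0, 1, 0, 0, 1, 0] [1, 0, 0, 1, 0, 1, 0] [1, 1, 0, 0, 0, 1, 0, 1] (cl11 A) (l11_21 A) (cl11 A) (l11_7 A) (cl11 A) (l11_7 A) (by decide +kernel)
theorem ed117 : A.Ed 117 := A.ed_of [] 2 [1, 1, 0, 0, 0, 1, 1] [0, 0, 1, 0, 0, 1, 1, 0, 1, 1] [0, 0, 0, 1, 0, 0, 0, 1, 0, 0, 1, 1] (cl11 A) (l11_11 A) (cl11 A) (l11_15 A) (cl11 A) (l11_6 A) (by decide +kernel)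
theorem ed118 : A.Ed 118 := A.ed_of [] 1 [0, 1, 0, 1, 1, 1, 1, 1] [1, 1, 1, 1, 1, 1, 0, 1, 1] [0, 1, 0, 0, 1, 1, 0, 1, 0, 0, 0, 1, 0] (cl11 A) (l11_12 A) (cl11 A) (l11_0 A) (cl11 A) (l11_13 A) (by decide +kernel)
theorem ed119 : A.Ed 119 := A.ed_of [] 1 [0, 1, 0, 1, 1, 1, 1, 1] [1, 1, 1, 0, 0, 0, 1, 0, 1, 0, 1] [0, 1, 0, 0, 1, 1, 0, 1, 1, 0, 0] (cl11 A) (l11_12 A) (cl11 A) (l11_6 A) (cl11 A) (l11_3 A) (by decide +kernel)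
theorem ed120 : A.Ed 120 := A.ed_of [] 0 [1, 1, 0, 0, 0, 0, 0, 1, 0] [0, 1, 1, 1, 1, 1, 0, 0, 0, 0, 1] [0, 1, 0, 1, 0, 1, 1, 0, 0, 1, 1] (cl11 A) (l11_0 A) (cl11 A) (l11_4 A) (cl11 A) (l11_6 A) (by decide +kernel)
theorem ed121 : A.Ed 121 := A.ed_of [] 0 [0, 0, 1, 0, 1, 0, 1, 0, 0] [0, 0, 1, 1, 1] [0, 0, 1, 1, 1, 0, 1, 1, 0, 1] (cl11 A) (l11_12 A) (cl11 A) (l11_12 A) (cl11 A) (l11_12 A) (by decide +kernel)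
theorem ed122 : A.Ed 122 := A.ed_of [0] 1 [0, 1, 1, 1, 1, 1, 0, 0, 0] [1, 1, 0, 0, 1, 1, 1, 0, 0, 1, 0, 0, 1] [1, 1, 1, 0, 1, 1, 1, 1, 0] (cl11 A) (l11_5 A) (cl11 A) (l11_13 A) (cl11 A) (l11_3 A) (by decide +kernel)

theorem cl_all {i : ℕ} (hi : i < 12) : A.Cl i := by
  interval_cases i
  exacts [cl0 A, cl1 A, cl2 A, cl3 A, cl4 A, cl5 A, cl6 A, cl7 A, cl8 A, cl9 A, cl10 A, cl11 A]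

theorem l_all {i : ℕ} (hi : i < 12) : ∃ v, A.J i (an i) v := by
  interval_cases i
  exacts [⟨_, l0_2 A⟩, ⟨_, l1_1 A⟩, ⟨_, l2_2 A⟩, ⟨_, l3_6 A⟩, ⟨_, l4_3 A⟩, ⟨_, l5_7 A⟩, ⟨_, l6_9 A⟩, ⟨_, l7_12 A⟩, ⟨_, l8_1 A⟩, ⟨_, l9_7 A⟩, ⟨_, l10_8 A⟩, ⟨_, l11_23 A⟩]

theorem ed_all {j : ℕ} (hj : j < 123) : A.Ed j := by
  interval_cases j
  exacts [ed0 A, ed1 A, ed2 A, ed3 A, ed4 A, ed5 A, ed6 A, ed7 A, ed8 A, ed9 A, ed10 A, ed11 A, ed12 A, ed13 A, ed14 A, ed15 A, ed16 A, ed17 A, ed18 A, ed19 A, ed20 A, ed21 A, ed22 A, ed23 A, ed24 A, ed25 A, ed26 A, ed27 A, ed28 A, ed29 A, ed30 A, ed31 A, ed32 A, ed33 A, ed34 A, ed35 A, ed36 A, ed37 A, ed38 A, ed39 A, ed40 A, ed41 A, ed42 A, ed43 A, ed44 A, ed45 A, ed46 A, ed47 A, ed48 A, ed49 A, ed50 A, ed51 A, ed52 A, ed53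 A, ed54 A, ed55 A, ed56 A, ed57 A, ed58 A, ed59 A, ed60 A, ed61 A, ed62 A, ed63 A, ed64 A, ed65 A, ed66 A, ed67 A, ed68 A, ed69 A, ed70 A, ed71 A, ed72 A, ed73 A, ed74 A, ed75 A, ed76 A, ed77 A, ed78 A, ed79 A, ed80 A, ed81 A, ed82 A, ed83 A, ed84 A, ed85 A, ed86 A, ed87 A, ed88 A, ed89 A, ed90 A, ed91 A, ed92 A, ed93 A, ed94 A, ed95 A, ed96 A, ed97 A, ed98 A, ed99 A, ed100 A, ed101 A, ed102 A, ed103 A, ed104 A, ed105 A, ed106 A, ed107 A, ed108 A, ed109 A, ed110 A, ed111 A, ed112 A, ed113 A, ed114 A, ed115 A, ed116 A, ed117 A, ed118 A, ed119 A, ed120 A, ed121 A, ed122 A]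

end H10.Mon.T.E
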