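import Mathlib
import Cfsg.Agent.H10.TE2

/-!
# The section over the frame is compatible with the whole group
-/

set_option autoImplicit false
set_option linter.all false
set_option maxRecDepth 100000

namespace H10.Mon.T

open Cfsg H9 H29

theorem cover {gens : List (List ℕ)} {seeds : List (ℕ × ℕ)} {n : List ℕ} (hc : Cov gens seeds n)
    {T : Subgroup G0} (hg : ∀ B ∈ gens, ∃ h ∈ T, Cols h B)
    (h2 : ∀ s ∈ seeds, 3 ≤ s.1 → dec s.2 ∈ MulAction.orbit G0 Om) (n2 : (n.drop 3).sum = 8292375)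
    (g : G0) : ∃ s ∈ seeds, 3 ≤ s.1 ∧ ∃ h ∈ T, h • dec s.2 = g • Om := by
  classical
  obtain ⟨D, D1, D2, D3⟩ := hc T (fun l => {c | 3 ≤ l → ∃ s ∈ seeds, 3 ≤ s.1 ∧ ∃ h ∈ T, h • dec s.2 = c})
    hg (fun l k hk c hc hl => by
      obtain ⟨s, s1, s2, h, h1, rfl⟩ := hc hl
      exact ⟨s, s1, s2, k * h, mul_mem hk h1, mul_smul _ _ _⟩)
    fun s hs hl => ⟨s, hs, hl, 1, one_mem _, one_smul _ _⟩
  obtain ⟨l, hl, h⟩ := exhaust (X := MulAction.orbit G0 Om) (Set.toFinite _)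
    (I := Finset.Ico 3 (3 + (n.drop 3).length))
    (fun l hl c hc => by
      obtain ⟨s, s1, s2, h, -, rfl⟩ := D1 l hc (Finset.mem_Ico.1 hl).1
      exact MulAction.mem_orbit_of_mem_orbit _ (h2 s s1 s2)) D3
    (by
      rw [ncard_orbit_Om, ← n2, sum_eq_nth, Finset.sum_Ico_eq_sum_range, Nat.add_sub_cancel_left]
      refine Finset.sum_congr rfl fun i _ => ?_
      rw [D2, nth_eq, nth_eq, List.getD_eq_getElem?_getD, List.getD_eq_getElem?_getD,
        List.getElem?_drop]) (MulAction.mem_orbit Om g)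
  exact D1 l h (Finset.mem_Ico.1 hl).1

theorem Am.main {G X : Type*} [Group G] [MulAction G X] (A : Am G X) {g : G}
    (hg : g ∈ A.ι.range ⊔ Subgroup.zpowers A.t) {s : ZMod 2} {c : S}
    (h : A.π g (ax 1 c0) = ax s c) : g • A.σ 1 c0 = A.σ s c := by
  have : ∀ i, ∃ x, i < 12 → A.p x = av i ∧ A.Rl (an i) x := fun i => by
    by_cases hi : i < 12
    · obtain ⟨_, x, h1, h2, -⟩ := E.l_all A hi
      exact ⟨x, fun _ => ⟨h1, h2⟩⟩
    · exact ⟨A.σ 1 c0, fun h => absurd h hi⟩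
  choose y hy using this
  let P : X → Prop := fun x => ∃ i < 12, ∃ k : GT, x = A.ι k • y i
  have h1 : ∀ (k : GT) x, P x → P (A.ι k • x) := by
    rintro k _ ⟨i, hi, l, rfl⟩
    exact ⟨i, hi, k * l, by rw [map_mul, mul_smul]⟩
  have h2 : ∀ x, P x → P (A.t • x) := by
    rintro _ ⟨i, hi, k, rfl⟩
    obtain ⟨s, s1, s2, _, ⟨l, l1, rfl⟩, l2⟩ := cover (cov_all hi) (T := (A.Fx (y i)).map co)
      (fun B hB => by
        obtain ⟨W, hW, m, m1, m2, m3⟩ := f2_left (g2 hi) B hB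
        exact ⟨_, ⟨m, Am.fx_of m1 m3 ((E.cl_all A hi).2 W hW) (hy i hi).1 (hy i hi).2, rfl⟩, m2⟩)
      (fun s hs h => let ⟨_, _, hw⟩ := wit hi hs h; ⟨_, (wOk_true hw).2.2.2.1⟩)
      (by interval_cases i <;> rfl) (co k)⁻¹
    obtain ⟨j, e, hw⟩ := wit hi s1 s2
    obtain ⟨hj, he, rfl, w1, -⟩ := wOk_true hw
    obtain ⟨u, q, r, f⟩ := E.ed_all A hj
    have f1 : ∀ e < 3, ∀ x, A.K (td j) e • x = y (nth 0 (td j).i e) ↔
        A.p x = (td j).y ∧ A.Rl (TP u q r) x := fun e he x => by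
      obtain ⟨v, v1, v2⟩ := f e he
      have a := hy _ (td_lt hj he)
      rw [← Am.p_K (td_ok hj) he, ← Am.tp_iff v1]
      exact ⟨fun b => b ▸ ⟨a.1, v2.rl a.1 a.2⟩, fun b => b.2.uniq (v2.rl a.1 a.2) (b.1.trans a.1.symm)⟩
    obtain ⟨x, hx⟩ : ∃ x, A.K (td j) e • x = y (nth 0 (td j).i e) := ⟨_, smul_inv_smul _ _⟩
    obtain ⟨n, m, hn⟩ := A.nrm (n := k * l * (td j).k e) (by
      rw [map_mul, map_mul, mul_smul, mul_smul, w1, l2, smul_inv_smul])
    have h3 : (m + e) % 3 < 3 := Nat.mod_lt _ (by norm_num)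
    refine ⟨_, td_lt hj h3, n * ((td j).k ((m + e) % 3))⁻¹, ?_⟩
    rw [← (f1 _ h3 x).2 ((f1 e he x).1 hx), ← show A.ι l • y _ = y _ from l1, ← hx]
    simp only [← mul_smul, Am.K]
    rw [← pow_eq_pow_mod _ A.t_cube, map_mul, map_inv, mul_assoc (A.ι n), inv_mul_cancel_left, pow_add,
      ← mul_assoc (A.ι n), ← hn, map_mul, map_mul]
    simp only [mul_assoc]
  let H : Subgroup G :=
    { carrier := {g | ∀ x, P (g • x) ↔ P x}
      one_mem' := fun x => by rw [one_smul]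
      mul_mem' := fun ha hb x => by rw [mul_smul]; exact (ha _).trans (hb _)
      inv_mem' := fun {a} ha x => by rw [← ha, smul_inv_smul] }
  have h3 : g ∈ H := sup_le (by
      rintro _ ⟨k, rfl⟩ x
      exact ⟨fun a => by simpa only [map_inv, inv_smul_smul] using h1 k⁻¹ _ a, h1 k x⟩)
    (Subgroup.zpowers_le.2 fun x => ⟨fun a => by
      have := h2 _ (h2 _ a)
      rwa [← mul_smul, ← mul_smul, mul_assoc, ← pow_three, A.t_cube, one_smul] at this, h2 x⟩) hg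
  have y0 : y 0 = A.σ 1 c0 := (hy 0 (by norm_num)).2.uniq A.rl_an
    ((hy 0 (by norm_num)).1.trans (av_zero.trans (A.p_σ _ _).symm))
  obtain ⟨i, hi, k, hk⟩ := (h3 (A.σ 1 c0)).2 ⟨0, by norm_num, 1, by rw [map_one, one_smul, y0]⟩
  have e := congrArg A.p hk
  rw [A.p_smul, A.p_smul, A.p_σ, h, A.π_ι, (hy i hi).1] at e
  obtain ⟨l, hl⟩ := (mem_OG_ax (t := 1) (c := c0)).2 ⟨s, c, rfl⟩
  obtain rfl := av_sep hi (j := 0) (by norm_num)
    ⟨k⁻¹ * l, by rw [map_mul, LinearEquiv.mul_apply, av_zero, hl, e, rho_inv_apply]⟩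
  rw [av_zero, rho_ax] at e
  rw [hk, y0, A.ι_σ, (ax_inj e).1, (ax_inj e).2]

end H10.Mon.T
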