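import Mathlib
import Cfsg.Agent.H10.TD
import Cfsg.Agent.H4.TLc

set_option autoImplicit false
set_option linter.all false
set_option maxRecDepth 100000

namespace H10.Mon.T

open Cfsg H9 H29 Cfsg.Spor H10.YW H4.TL

theorem adS_iff_B (s t : ZMod 2) (c d : S) : AdS c d ↔ B (ax s c) (ax t d) = 4 := by
  rw [B_ax, mA_ax, fS_ax, trace_pm_mul, rv_dot]
  by_cases e : c = d
  · subst e
    refine iff_of_false (fun h => h.ne rfl) ?_
    rw [dot_self, rep_norm, Pi.single_eq_same]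
    rcases z2 s with rfl | rfl <;> rcases z2 t with rfl | rfl <;> simp [sg] <;> norm_num
  · rw [Pi.single_eq_of_ne e, mul_zero, add_zero]
    refine ad_rep.trans ⟨fun h => ?_, fun h => ?_⟩
    · rcases h with h | h <;> rw [show dotInt _ _ = _ from h] <;> norm_num
    · have h1 : ((dt (rep c) (rep d) : ℤ) : ℝ) ^ 2 = (16 : ℝ) ^ 2 := by
        linear_combination 64 * h
      rcases sq_eq_sq_iff_eq_or_eq_neg.1 h1 with h2 | h2
      · exact .inl (by exact_mod_cast h2)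
      · exact .inr (by exact_mod_cast h2)

/-- The common neighbours of two non-adjacent classes (equal classes included) are connected. -/
theorem lc_conn {x u : S} (h : ¬ AdS x u) (M : Set S)
    (hM : ∀ a ∈ M, ∀ b, AdS x b → AdS u b → AdS a b → b ∈ M) {a : S} (ha : a ∈ M)
    (h1 : AdS x a) (h2 : AdS u a) {b : S} (h3 : AdS x b) (h4 : AdS u b) : b ∈ M := by
  have k : ∀ y : L, (∃ h, cl y h ∈ M) → ∃ h, cl (-y) h ∈ M := fun y ⟨h, e⟩ =>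
    ⟨h.neg, by rwa [show cl (-y) h.neg = cl y h from Subtype.ext (kap_neg y)]⟩
  obtain ⟨_, e⟩ := vconn (rep_norm x) (rep_norm u) (fun e => h (ad_rep.2 e)) (fun y => ∃ h, cl y h ∈ M)
    (fun y => ⟨fun e => by simpa only [neg_neg] using k _ e, k y⟩)
    (fun a b ha hb k1 k2 k3 ⟨_, q⟩ => ⟨hb, hM _ q _ ((ad_cl hb).2 k1) ((ad_cl hb).2 k2)
      ((ad_iff ha hb).2 k3)⟩) (rep_norm a) (rep_norm b) (ad_rep.1 h1) (ad_rep.1 h2) (ad_rep.1 h3)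
    (ad_rep.1 h4) ⟨rep_norm a, (cl_rep a).symm ▸ ha⟩
  exact cl_rep b ▸ e

theorem lc_cover {x u : S} (h : ¬ AdS x u) {v : S} (hv : AdS u v) :
    ∃ a, AdS x a ∧ AdS u a ∧ AdS a v := by
  obtain ⟨a, h1, h2, h3, h4⟩ := vcover (rep_norm x) (rep_norm u) (fun e => h (ad_rep.2 e)) (rep_norm v)
    (ad_rep.1 hv)
  exact ⟨cl a h1, (ad_cl h1).2 h2, (ad_cl h1).2 h3, AdS.symm ((ad_cl h1).2 h4.symm)⟩

theorem lc_edge {c d c' d' : S} (h : AdS c d) (h' : AdS c' d') :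
    ∃ g : G0, g • c = c' ∧ g • d = d' := by
  obtain ⟨y, p1, p2, p3⟩ := sgnS (ad_rep.1 h)
  obtain ⟨y', q1, q2, q3⟩ := sgnS (ad_rep.1 h')
  obtain ⟨g, e1, e2⟩ := pair_tr (rep_norm c) p1 (rep_norm c') q1 (p3.trans q3.symm)
  exact ⟨g, smul_of (kap_rep c) (kap_rep c') e1, smul_of p2 q2 e2⟩

theorem lc_tri {c d e c' d' e' : S} (h1 : AdS c d) (h2 : AdS c e) (h3 : AdS d e)
    (h4 : c.1 + d.1 ≠ e.1) (h1' : AdS c' d') (h2' : AdS c' e') (h3' : AdS d' e')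
    (h4' : c'.1 + d'.1 ≠ e'.1) : ∃ g : G0, g • c = c' ∧ g • d = d' ∧ g • e = e' := by
  obtain ⟨y, w, p1, p2, p3, p4, p5, p6, p7⟩ := tri_rep h1 h2 h3 h4
  obtain ⟨y', w', q1, q2, q3, q4, q5, q6, q7⟩ := tri_rep h1' h2' h3' h4'
  obtain ⟨g, e1, e2, e3⟩ := vtri (rep_norm c) p1 p2 p5 p6 p7 (rep_norm c') q1 q2 q5 q6 q7
  exact ⟨g, smul_of (kap_rep c) (kap_rep c') e1, smul_of p3 q3 e2, smul_of p4 q4 e3⟩

theorem lc_T {v : S} (h : TS v) : AdS c0 v ∨ ∃ a, TS a ∧ AdS c0 a ∧ AdS a v := by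
  obtain ⟨g, hg, rfl⟩ := h
  have h1 : H4.TL.Mv (g • vU') := H4.TL.Mv.smul norm_vU' g
  have e : g • c0 = cl _ h1 := smul_of (x := vU') rfl rfl rfl
  rw [e]
  by_cases h2 : Ad vU' (g • vU')
  · exact .inl ((ad_iff norm_vU' h1).2 h2)
  obtain ⟨a, ha, h3, h4⟩ := near88 h1 (.inr ⟨by rw [shp_N0 hg, shp_U'], h2⟩)
  obtain ⟨k, hk, e2⟩ := tr_N0 vU' a norm_vU' ha.1 (shp_U'.trans h3.symm)
  exact .inr ⟨cl a ha.1, ⟨k, hk, smul_of (x := vU') rfl rfl e2⟩, (ad_iff norm_vU' ha.1).2 ha.2.2,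
    (ad_iff ha.1 h1).2 h4⟩

end H10.Mon.T
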