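import Mathlib
import Cfsg.Agent.H10.TLC

set_option autoImplicit false
set_option linter.all false
set_option maxRecDepth 100000

namespace H10.Mon.T

open Cfsg H9 H29 Cfsg.Spor H10.YW

namespace F1

theorem pol {ι : Type} {v : ι → C} (h : LinearIndependent (ZMod 2) v) (a : ι → ZMod 2) :
    ∃ q, ∀ i, a i = bb q (v i) + bb (v i) q := by
  obtain ⟨g, hg⟩ := (Finsupp.linearCombination (ZMod 2) v).exists_leftInverse_of_injective
    (LinearMap.ker_eq_bot.2 h)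
  obtain ⟨q, hq⟩ := exists_polar ((Finsupp.linearCombination (ZMod 2) a).comp g).toAddMonoidHom
  refine ⟨q, fun i => Eq.trans ?_ (hq _)⟩
  have := LinearMap.congr_fun hg (Finsupp.single i 1)
  rw [LinearMap.comp_apply, Finsupp.linearCombination_single, one_smul] at this
  change _ = Finsupp.linearCombination (ZMod 2) a (g (v i))
  rw [this, LinearMap.id_apply, Finsupp.linearCombination_single, one_smul]

theorem add0 {c d : C} : c + d = 0 ↔ c = d := by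
  rw [add_eq_zero_iff_eq_neg, neg_eq_of_add_eq_zero_right (two_zmod d)]

theorem li2 {c d : S} (h : c ≠ d) : LinearIndependent (ZMod 2) ![c.1, d.1] := by
  rw [LinearIndependent.pair_iff]
  intro s t e
  have := S_ne_zero c
  have := S_ne_zero d
  have : c.1 ≠ d.1 := fun e => h (Subtype.ext e)
  rcases z2 s with rfl | rfl <;> rcases z2 t with rfl | rfl <;> simp_all [add0]

theorem li3 {c d e : S} (h1 : c ≠ d) (h2 : c ≠ e) (h3 : d ≠ e) (h : c.1 + d.1 ≠ e.1) :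
    LinearIndependent (ZMod 2) ![c.1, d.1, e.1] := by
  rw [Fintype.linearIndependent_iff]
  intro g k
  rw [Fin.sum_univ_three] at k
  have := S_ne_zero c
  have := S_ne_zero d
  have := S_ne_zero e
  have : c.1 ≠ d.1 := fun e => h1 (Subtype.ext e)
  have : c.1 ≠ e.1 := fun e => h2 (Subtype.ext e)
  have : d.1 ≠ e.1 := fun e => h3 (Subtype.ext e)
  rw [Fin.forall_fin_succ, Fin.forall_fin_two]
  change g 0 = 0 ∧ g 1 = 0 ∧ g 2 = 0
  change g 0 • c.1 + g 1 • d.1 + g 2 • e.1 = 0 at k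
  rcases z2 (g 0) with a | a <;> rcases z2 (g 1) with b | b <;> rcases z2 (g 2) with f | f <;>
    rw [a, b, f] at k <;> simp_all [add0]

theorem sgn {l : GT} {q : C} {s t : ZMod 2} {c : S}
    (h : s + ep l c.1 + t = bb q (co l • c).1 + bb (co l • c).1 q) :
    rho (qe 0 q * l) (ax s c) = ax t (co l • c) := by
  rw [map_mul, LinearEquiv.mul_apply, rho_ax, rho_ax, co_qe, one_smul, ep_qe, ← h, ← add_assoc,
    two_zmod, zero_add]

theorem edge {c d c' d' : S} (h : AdS c d) (h' : AdS c' d') (s t s' t' : ZMod 2) :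
    ∃ l : GT, rho l (ax s c) = ax s' c' ∧ rho l (ax t d) = ax t' d' := by
  obtain ⟨g, rfl, rfl⟩ := lc_edge h h'
  obtain ⟨l, rfl⟩ := co_surj g
  obtain ⟨q, hq⟩ := pol (li2 h'.ne) ![s + ep l c.1 + s', t + ep l d.1 + t']
  exact ⟨_, sgn (hq 0), sgn (hq 1)⟩

theorem tri {c d e c' d' e' : S} (h1 : AdS c d) (h2 : AdS c e) (h3 : AdS d e)
    (h4 : c.1 + d.1 ≠ e.1) (h1' : AdS c' d') (h2' : AdS c' e') (h3' : AdS d' e')
    (h4' : c'.1 + d'.1 ≠ e'.1) (r s t r' s' t' : ZMod 2) : ∃ l : GT, rho l (ax r c) = ax r' c' ∧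
      rho l (ax s d) = ax s' d' ∧ rho l (ax t e) = ax t' e' := by
  obtain ⟨g, rfl, rfl, rfl⟩ := lc_tri h1 h2 h3 h4 h1' h2' h3' h4'
  obtain ⟨l, rfl⟩ := co_surj g
  obtain ⟨q, hq⟩ := pol (li3 h1'.ne h2'.ne h3'.ne h4')
    ![r + ep l c.1 + r', s + ep l d.1 + s', t + ep l e.1 + t']
  exact ⟨_, sgn (hq 0), sgn (hq 1), sgn (hq 2)⟩

theorem decB (u : List ℕ) {n : ℕ} (h : Nat.beq (apL u 0xbe0) n = true) : (co (gw u) • c0).1 = dec n := by
  rw [smul_val, c0_dec, ← dec_apL, H29.beq_true.1 h]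

theorem decC (u : List ℕ) {n : ℕ} (h : Nat.beq (apL u 0x3e0) n = true) : (co (gw u) • c1).1 = dec n := by
  rw [smul_val, c1_dec, ← dec_apL, H29.beq_true.1 h]

def D4 : List ℕ := [3040, 1952, 112, 3136, 2960, 2000, 992, 4000, 2160, 1088, 912, 4048]

theorem d4 {n : ℕ} (h : n ∈ D4) : ∃ c : S, c.1 = dec n := by
  simp only [D4, List.mem_cons, List.not_mem_nil, or_false] at h
  rcases h with rfl | rfl | rfl | rfl | rfl | rfl | rfl | rfl | rfl | rfl | rfl | rfl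
  exacts [⟨_, c0_dec⟩, ⟨_, decB [0] (by decide +kernel)⟩, ⟨_, decB [0, 0] (by decide +kernel)⟩,
    ⟨_, decB [0, 1, 0] (by decide +kernel)⟩, ⟨_, decB [0, 1, 0, 2, 2, 2] (by decide +kernel)⟩,
    ⟨_, decB [0, 1, 0, 0] (by decide +kernel)⟩, ⟨_, c1_dec⟩, ⟨_, decC [0] (by decide +kernel)⟩,
    ⟨_, decC [0, 0] (by decide +kernel)⟩, ⟨_, decC [0, 1, 0] (by decide +kernel)⟩,
    ⟨_, decC [0, 1, 0, 2, 2, 2] (by decide +kernel)⟩, ⟨_, decC [0, 1, 0, 0] (by decide +kernel)⟩]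

theorem ad {c d : S} {m n : ℕ} (hc : c.1 = dec m) (hd : d.1 = dec n) (h : m ^^^ n ∈ D4 := by decide) :
    AdS c d := by
  obtain ⟨e, he⟩ := d4 h
  exact ⟨e, by rw [hc, hd, he, dec_xor]⟩

theorem ne3 {c d e : S} {m n k : ℕ} (hc : c.1 = dec m) (hd : d.1 = dec n) (he : e.1 = dec k)
    (h : m ^^^ n < 2 ^ 24 ∧ k < 2 ^ 24 ∧ m ^^^ n ≠ k := by decide) : c.1 + d.1 ≠ e.1 := by
  rw [hc, hd, he, ← dec_xor]
  exact fun e => h.2.2 (dec_inj h.1 h.2.1 e)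

variable {G : Type*} [Group G] {A : Cv G}

/-- The triangle lifts. -/
def Tr (A : Cv G) (a b c : U) : Prop :=
  ∀ x y z, A.p x = a → A.p y = b → A.p z = c → A.Adj x y → A.Adj x z → A.Adj y z

theorem Tr.of {m : E} (hm : m ∈ MM tau) {a b c : U} (h : Tr A (m a) (m b) (m c)) : Tr A a b c := by
  intro x y z hx hy hz a1 a2
  obtain ⟨g, rfl⟩ := A.onto m hm
  simpa only [inv_smul_smul] using (h (g • x) (g • y) (g • z) (by rw [Cv.p_smul, hx])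
    (by rw [Cv.p_smul, hy]) (by rw [Cv.p_smul, hz]) (a1.smul g) (a2.smul g)).smul g⁻¹

theorem p_one : A.p ((1 : G) : G ⧸ A.H) = ax 1 c0 := by rw [Cv.p_mk, map_one]; rfl

theorem adj0 : A.Adj ((1 : G) : G ⧸ A.H) (A.w : G ⧸ A.H) := ⟨1, rfl, by rw [one_mul]⟩

theorem base : Tr A (ax 1 c0) (ax A.s1 A.d1) (ax A.s2 A.d2) := by
  intro x y z hx hy hz a1 a2
  obtain ⟨h, hh, e, a, ha, b, hb, k⟩ := A.l3
  obtain ⟨g, g1, rfl⟩ := Cv.lift (one_mem (MM tau)) (x := ((1 : G) : G ⧸ A.H)) (y := x)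
    (p_one.trans hx.symm)
  have b2 : A.Adj ((1 : G) : G ⧸ A.H) ((h * A.w : G) : G ⧸ A.H) :=
    ⟨h, QuotientGroup.eq.2 (by rwa [inv_one, one_mul]), rfl⟩
  have b3 : A.Adj (A.w : G ⧸ A.H) ((h * A.w : G) : G ⧸ A.H) :=
    ⟨A.w * a, QuotientGroup.eq.2 (by rwa [inv_mul_cancel_left]), (QuotientGroup.eq.2 (by
      rwa [show (A.w * a * A.w)⁻¹ * (h * A.w) = A.w⁻¹ * a⁻¹ * (A.w⁻¹ * h * A.w) by group, k,
        show A.w⁻¹ * a⁻¹ * (a * A.w * b) = b by group])).symm⟩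
  rw [a1.uniq (adj0.smul g) (by rw [hy, Cv.p_smul, g1, Cv.p_mk, A.w0]; rfl),
    a2.uniq (b2.smul g) (by rw [hz, Cv.p_smul, g1, Cv.p_mk, map_mul, LinearEquiv.mul_apply, A.w0, e]; rfl)]
  exact b3.smul g

theorem tr1 {c d e : S} (h1 : AdS c d) (h2 : AdS c e) (h3 : AdS d e) (h4 : c.1 + d.1 ≠ e.1)
    (r s t : ZMod 2) : Tr A (ax r c) (ax s d) (ax t e) := by
  obtain ⟨l, e1, e2, e3⟩ := tri h1 h2 h3 h4 A.a01 A.a02 A.a12 A.ne r s t 1 A.s1 A.s2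
  exact Tr.of (rho_mem_MM _ l) (by rw [e1, e2, e3]; exact base)

theorem tr2 {c d e : S} (h : AdS c d) (he : c.1 + d.1 = e.1) (r s : ZMod 2) :
    ∃ t, Tr A (ax r c) (ax s d) (ax t e) := by
  have k1 := decB [0] (n := 1952) (by decide +kernel)
  have k2 := decB [0, 1, 0] (n := 3136) (by decide +kernel)
  have k3 := decC [0, 1, 0] (n := 1088) (by decide +kernel)
  have cm : ∀ {u}, lo3 u = true → ∀ v, tau (rho (gw u) v) = rho (gw u) (tau v) := fun h v =>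
    LinearEquiv.congr_fun (tau_gw h).eq v
  have b : Tr A (ax 1 c0) (rho (gw [0]) (ax 1 c0)) (rho (gw [0, 1, 0]) (ax 0 c0)) := by
    refine Tr.of (tau_mem_MM _) ?_
    rw [cm (by decide), cm (by decide), tau_fix, tau_a, rho_ax, rho_ax, rho_ax]
    exact tr1 (ad c0_dec k1) (ad c0_dec k3) (ad k1 k3) (ne3 c0_dec k1 k3) _ _ _
  rw [rho_ax, rho_ax] at b
  obtain ⟨l, e1, e2⟩ := edge h (ad c0_dec k1) r s 1 (1 + ep (gw [0]) c0.1)
  obtain ⟨t, ht⟩ := ax_back l e (x := co (gw [0, 1, 0]) • c0) (by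
    rw [rho_ax] at e1 e2
    rw [← he, smul_add, ← smul_val, ← smul_val, (ax_inj e1).2, (ax_inj e2).2, k1, k2, c0_dec, ← dec_xor]
    rfl) (0 + ep (gw [0, 1, 0]) c0.1)
  exact ⟨t, Tr.of (rho_mem_MM _ l) (by rwa [e1, e2, ← ht])⟩

end F1

open F1

variable {G : Type*} [Group G] {A : Cv G}

theorem Cv.adj_ex {x : G ⧸ A.H} {s t : ZMod 2} {c d : S} (hx : A.p x = ax s c) (h : AdS c d) :
    ∃ y, A.Adj x y ∧ A.p y = ax t d := by
  obtain ⟨l, e1, e2⟩ := edge A.a01 h 1 A.s1 s t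
  obtain ⟨g, g1, rfl⟩ := Cv.lift (rho_mem_MM _ l) (x := ((1 : G) : G ⧸ A.H)) (y := x)
    (by rw [p_one, e1, hx])
  exact ⟨_, adj0.smul g, by rw [Cv.p_smul, g1, Cv.p_mk, A.w0, e2]⟩

theorem F1.oct {x y w : S} (hx : x.1 = dec 3040) (hy : y.1 = dec 3136) (hw : w.1 = dec 1952)
    (r s t : ZMod 2) : Tr A (ax r x) (ax s y) (ax t w) := by
  intro X Y W pX pY pW a1 a2
  obtain ⟨x', hx'⟩ := d4 (n := 2000) (by decide)
  obtain ⟨y', hy'⟩ := d4 (n := 2160) (by decide)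
  obtain ⟨w', hw'⟩ := d4 (n := 2960) (by decide)
  obtain ⟨W', a3, pW'⟩ := Cv.adj_ex (t := 0) pX (ad hx hw')
  obtain ⟨Y', a4, pY'⟩ := Cv.adj_ex (t := 0) pX (ad hx hy')
  obtain ⟨t0, h0⟩ := tr2 (A := A) (e := x') (ad hw' hy) (by rw [hw', hy, hx', ← dec_xor]; rfl) 0 s
  obtain ⟨X', a5, pX'⟩ := Cv.adj_ex (t := t0) pW' (ad hw' hx')
  have b1 := tr1 (ad hx hy) (ad hx hw') (ad hy hw') (ne3 hx hy hw') _ _ _ _ _ _ pX pY pW' a1 a3
  have b2 := tr1 (ad hx hw) (ad hx hy') (ad hw hy') (ne3 hx hw hy') _ _ _ _ _ _ pX pW pY' a2 a4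
  have b3 := tr1 (ad hx hy') (ad hx hw') (ad hy' hw') (ne3 hx hy' hw') _ _ _ _ _ _ pX pY' pW' a4 a3
  have b4 := tr1 (ad hw' hy') (ad hw' hx') (ad hy' hx') (ne3 hw' hy' hx') _ _ _ _ _ _ pW' pY' pX' b3.symm a5
  have b5 := h0 _ _ _ pW' pY pX' b1.symm a5
  have b6 := tr1 (ad hy' hw) (ad hy' hx') (ad hw hx') (ne3 hy' hw hx') _ _ _ _ _ _ pY' pW pX' b2.symm b4
  exact tr1 (ad hx' hy) (ad hx' hw) (ad hy hw) (ne3 hx' hy hw) _ _ _ _ _ _ pX' pY pW b5.symm b6.symm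

/-- All triangles in the frame lift. -/
theorem Cv.adj_tri {x y z : G ⧸ A.H} {r s t : ZMod 2} {c d e : S} (hx : A.p x = ax r c)
    (hy : A.p y = ax s d) (hz : A.p z = ax t e) (h1 : AdS c d) (h2 : AdS c e) (h3 : AdS d e)
    (a1 : A.Adj x y) (a2 : A.Adj x z) : A.Adj y z := by
  by_cases h : c.1 + d.1 = e.1
  swap
  · exact tr1 h1 h2 h3 h _ _ _ _ _ _ hx hy hz a1 a2
  obtain ⟨y0, k⟩ := d4 (n := 3136) (by decide)
  obtain ⟨g, e1, e2⟩ := lc_edge h1 (ad c0_dec k)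
  obtain ⟨l, rfl⟩ := co_surj g
  refine Tr.of (rho_mem_MM _ l) ?_ _ _ _ hx hy hz a1 a2
  rw [rho_ax, rho_ax, rho_ax]
  refine oct (e1 ▸ c0_dec) (e2 ▸ k) ?_ _ _ _
  rw [smul_val, ← h, smul_add, ← smul_val, ← smul_val, e1, e2, c0_dec, k, ← dec_xor]
  rfl

end H10.Mon.T
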