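import Mathlib
import Cfsg.Agent.H10.TF1

/-!
# The section over the frame
-/

set_option autoImplicit false
set_option linter.all false
set_option maxRecDepth 100000

namespace H10.Mon.T

open Cfsg H9 H29 Cfsg.Spor H10.YW

variable {G : Type*} [Group G]

namespace F2

variable {A : Cv G} {x y z v : G ⧸ A.H} {r s t : ZMod 2} {a b c d : S}

theorem step (hx : A.p x = ax r c) (hy : A.p y = ax s d) (hz : A.p z = ax t a) (h1 : AdS c a)
    (h2 : AdS d a) (a1 : A.Adj x z) (a2 : A.Adj y z) (h3 : AdS c b) (h4 : AdS d b) (h5 : AdS a b)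
    (t' : ZMod 2) (v : G ⧸ A.H) (hv : A.p v = ax t' b) (a3 : A.Adj x v) : A.Adj y v := by
  obtain ⟨w, a4, hw⟩ := Cv.adj_ex (t := t') hy h4
  rwa [(Cv.adj_tri hx hz hv h1 h3 h5 a1 a3).uniq (Cv.adj_tri hy hz hw h2 h4 h5 a2 a4) (hv.trans hw.symm)]

theorem key (hx : A.p x = ax r c) (hy : A.p y = ax s d) (hz : A.p z = ax t a) (n : ¬ AdS c d)
    (h1 : AdS c a) (h2 : AdS d a) (a1 : A.Adj x z) (a2 : A.Adj y z) (h3 : AdS c b) (h4 : AdS d b)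
    (t' : ZMod 2) (v : G ⧸ A.H) (hv : A.p v = ax t' b) (a3 : A.Adj x v) : A.Adj y v := by
  obtain ⟨e, e1, e2, e3⟩ := lc_cover n h2
  refine (lc_conn n {b | AdS c b ∧ AdS d b ∧ ∀ (t' : ZMod 2) (v : G ⧸ A.H), A.p v = ax t' b →
    A.Adj x v → A.Adj y v} (fun a ha b b1 b2 b3 => ⟨b1, b2, ?_⟩)
    ⟨e1, e2, step hx hy hz h1 h2 a1 a2 e1 e2 e3.symm⟩ e1 e2 h3 h4).2.2 t' v hv a3
  obtain ⟨w, a4, hw⟩ := Cv.adj_ex (t := 0) hx ha.1
  exact step hx hy hw ha.1 ha.2.1 a4 (ha.2.2 0 w hw a4) b1 b2 b3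

variable (A) in
/-- The points near the base point. -/
def Sg (s : ZMod 2) (c : S) (y : G ⧸ A.H) : Prop :=
  A.p y = ax s c ∧ (AdS c0 c ∧ A.Adj ((1 : G) : G ⧸ A.H) y ∨ ¬ AdS c0 c ∧ ∃ t a z, A.p z = ax t a ∧
    AdS c0 a ∧ AdS c a ∧ A.Adj ((1 : G) : G ⧸ A.H) z ∧ A.Adj y z)

theorem p1 : A.p ((1 : G) : G ⧸ A.H) = ax 1 c0 := by rw [Cv.p_mk, map_one]; rfl

theorem mid (A : Cv G) (n : ¬ AdS c0 c) : ∃ a, AdS c0 a ∧ AdS c a := by
  obtain ⟨g, rfl⟩ := trans_S c0 c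
  obtain ⟨a, h1, h2, -⟩ := lc_cover n (A.a01.smul g)
  exact ⟨a, h1, h2⟩

theorem sg_ex (A : Cv G) (s : ZMod 2) (c : S) : ∃ y, Sg A s c y := by
  by_cases n : AdS c0 c
  · obtain ⟨y, a1, hy⟩ := Cv.adj_ex (A := A) (t := s) p1 n
    exact ⟨y, hy, .inl ⟨n, a1⟩⟩
  · obtain ⟨a, h1, h2⟩ := mid A n
    obtain ⟨z, a1, hz⟩ := Cv.adj_ex (A := A) (t := 0) p1 h1
    obtain ⟨y, a2, hy⟩ := Cv.adj_ex (t := s) hz h2.symm
    exact ⟨y, hy, .inr ⟨n, 0, a, z, hz, h1, h2, a1, a2.symm⟩⟩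

theorem Sg.uniq (h : Sg A s c y) (h' : Sg A s c v) : y = v := by
  obtain ⟨e, ⟨n, a1⟩ | ⟨n, t, a, z, hz, h1, h2, a1, a2⟩⟩ := h <;>
    obtain ⟨e', ⟨n', b1⟩ | ⟨n', t', a', z', hz', k1, k2, b1, b2⟩⟩ := h'
  · exact a1.uniq b1 (e.trans e'.symm)
  · exact absurd n n'
  · exact absurd n' n
  · exact (key p1 e hz n h1 h2 a1 a2 k1 k2 t' z' hz' b1).symm.uniq b2.symm (e.trans e'.symm)

theorem Sg.close (h : Sg A s c y) (hd : AdS c d) (hv : A.p v = ax t d) (a : A.Adj y v) : Sg A t d v := by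
  have k : ∀ {r e z}, A.p z = ax r e → AdS c0 e → AdS e d → A.Adj ((1 : G) : G ⧸ A.H) z → A.Adj z v →
      Sg A t d v := fun hz h1 h2 a1 a2 => ⟨hv, (em _).imp
    (fun n => ⟨n, Cv.adj_tri hz p1 hv h1.symm h2 n a1.symm a2⟩)
    fun n => ⟨n, _, _, _, hz, h1, h2.symm, a1, a2.symm⟩⟩
  obtain ⟨e, ⟨n, a1⟩ | ⟨n, t', b, z, hz, h1, h2, a1, a2⟩⟩ := h
  · exact k e n hd a1 a
  · obtain ⟨f, f1, f2, f3⟩ := lc_cover n hd
    obtain ⟨w, a3, hw⟩ := Cv.adj_ex (A := A) (t := 0) p1 f1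
    exact k hw f1 f3 a3 (Cv.adj_tri e hw hv f2 hd f3 (key p1 e hz n h1 h2 a1 a2 f1 f2 0 w hw a3) a)

variable (A) in
/-- The section. -/
noncomputable def sec (s : ZMod 2) (c : S) : G ⧸ A.H := (sg_ex A s c).choose

theorem sec_sg (s : ZMod 2) (c : S) : Sg A s c (sec A s c) := (sg_ex A s c).choose_spec

theorem p_sec (s : ZMod 2) (c : S) : A.p (sec A s c) = ax s c := (sec_sg s c).1

theorem adj_sec (s t : ZMod 2) (h : AdS c d) : A.Adj (sec A s c) (sec A t d) := by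
  obtain ⟨v, a, hv⟩ := Cv.adj_ex (t := t) (p_sec (A := A) s c) h
  rwa [(sec_sg t d).uniq ((sec_sg s c).close h hv a)]

theorem sec_one : sec A 1 c0 = ((1 : G) : G ⧸ A.H) := by
  obtain ⟨z, a1, hz⟩ := Cv.adj_ex (A := A) (t := 0) p1 A.a01
  exact (sec_sg 1 c0).uniq ⟨p1, .inr ⟨fun h => h.ne rfl, 0, _, z, hz, A.a01, A.a01, a1, a1⟩⟩

theorem sec_w : sec A A.s1 A.d1 = (A.w : G ⧸ A.H) :=
  (sec_sg _ _).uniq ⟨A.w0, .inl ⟨A.a01, 1, rfl, by rw [one_mul]⟩⟩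

theorem carry {g : G} {s' t' : ZMod 2} {c' d' : S} (h : g • sec A s c = sec A s' c') (h1 : AdS c d)
    (h2 : AdS c' d') (e : A.π g (ax t d) = ax t' d') : g • sec A t d = sec A t' d' :=
  (h ▸ (adj_sec s t h1).smul g).uniq (adj_sec s' t' h2) (by rw [Cv.p_smul, p_sec, p_sec, e])

theorem ex_io (A : Cv G) (g : GT) : ∃ k, A.π k = rho g ∧
    ∀ s c, k • sec A s c = sec A (s + ep g c.1) (co g • c) := by
  obtain ⟨k, h1, h2⟩ := Cv.lift (A := A) (rho_mem_MM tau g) (x := sec A 1 c0)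
    (y := sec A (1 + ep g c0.1) (co g • c0)) (by rw [p_sec, p_sec, rho_ax])
  have st : ∀ {s t c d}, k • sec A s c = sec A (s + ep g c.1) (co g • c) → AdS c d →
      k • sec A t d = sec A (t + ep g d.1) (co g • d) := fun h a =>
    carry h a (a.smul _) (by rw [h1, rho_ax])
  refine ⟨k, h1, fun s c => ?_⟩
  by_cases n : AdS c0 c
  · exact st h2 n
  · obtain ⟨a, a1, a2⟩ := mid A n
    exact st (st (t := 0) h2 a1) a2.symm

theorem ts_tau (h : TS c) (s : ZMod 2) : ∃ s' c', tau (ax s c) = ax s' c' := by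
  obtain ⟨k, hk, rfl⟩ := h
  obtain ⟨l, rfl⟩ := co_surj k
  obtain ⟨q, hq⟩ := exists_polar_one (S_ne_zero c0)
  obtain ⟨n, h1, h2⟩ : ∃ n : GT, co n = co l ∧ rho n (ax 1 c0) = ax s (co l • c0) := by
    rcases z2_or s (1 + ep l c0.1) with e | e
    · exact ⟨l, rfl, by rw [rho_ax, e]⟩
    · exact ⟨l * qe 0 q, by rw [map_mul, co_qe, mul_one], by
        rw [map_mul, LinearEquiv.mul_apply, rho_ax (qe 0 q), co_qe, one_smul, ep_qe,
          add_comm (bb q _), hq, rho_ax, e, add_right_comm]⟩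
  obtain ⟨u, u1, u2⟩ := pre_tau.inv
  rw [← h2, ← LinearEquiv.mul_apply]
  rcases NE_or (g := n) (h1 ▸ fix_Om.2 hk) u1 with e | e
  · obtain ⟨m, -, f⟩ := pre_tau.conj e
    exact ⟨_, _, by rw [mul_inv_eq_iff_eq_mul.1 f, LinearEquiv.mul_apply, tau_fix, rho_ax]⟩
  · obtain ⟨m, -, f⟩ := pre_tau.conj e
    have f1 : tau * rho n = rho (m * (qe 0 u)⁻¹) * tau⁻¹ := by
      rw [map_mul, map_inv, ← f, ← u2, map_mul, u2]
      calc _ = tau * rho n * rho (qe 0 u) * tau⁻¹ * (rho (qe 0 u))⁻¹ *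
          (rho (qe 0 u) * tau * (rho (qe 0 u))⁻¹) := by group
        _ = _ := by rw [u2]; group
    have f2 : tau⁻¹ (ax 1 c0) = ax 1 c0 := by
      rw [← congrArg (tau⁻¹ : E) tau_fix, ← LinearEquiv.mul_apply, inv_mul_cancel]; rfl
    exact ⟨_, _, by rw [f1, LinearEquiv.mul_apply, f2, rho_ax]⟩

theorem t_sec {k : G} (hk : k ∈ A.H) (e : A.π k = tau) (h : TS c) {s' : ZMod 2} {c' : S}
    (f : tau (ax s c) = ax s' c') : k • sec A s c = sec A s' c' := by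
  have b : k • sec A 1 c0 = sec A 1 c0 := by
    rw [sec_one, MulAction.Quotient.smul_mk, smul_eq_mul, mul_one, eq_comm, QuotientGroup.eq]
    simpa using hk
  have st : ∀ {s t s' t' c d c' d'}, k • sec A s c = sec A s' c' → AdS c d → tau (ax t d) = ax t' d' →
      k • sec A t d = sec A t' d' := fun {s t s' t' c d c' d'} h a f => by
    have h1 := congrArg A.p h
    rw [Cv.p_smul, p_sec, p_sec, e] at h1
    exact carry h a ((adS_iff_B s' t' _ _).2 (by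
      rw [← h1, ← f, tri_tau.aut.1, ← adS_iff_B]; exact a)) (e ▸ f)
  rcases lc_T h with a | ⟨a, a1, a2, a3⟩
  · exact st b a f
  · obtain ⟨_, _, f'⟩ := ts_tau a1 0
    exact st (st b a2 f') a3 f

end F2

open F2

theorem Cv.exists_am (A : Cv G) : ∃ B : Am G (G ⧸ A.H), B.π = A.π ∧
    B.σ 1 c0 = ((1 : G) : G ⧸ A.H) ∧ B.σ A.s1 A.d1 = (A.w : G ⧸ A.H) := by
  choose i h1 h2 using ex_io A
  obtain ⟨t, t1, t2⟩ := A.full tau (tau_mem_MM tau) tau_fix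
  exact ⟨⟨A.π, A.p, F2.sec A, MonoidHom.mk' i fun g h => (inv_mul_eq_one.1 (Cv.free
    (by rw [map_mul, map_mul, map_inv, h1, h1, h1, map_mul, inv_mul_cancel]) (x := F2.sec A 1 c0) (by
      rw [mul_smul, mul_smul, inv_smul_eq_iff, h2, h2, h2, ep_mul, map_mul, mul_smul, add_assoc]; rfl))),
    t, A.Adj, A.mem, Cv.p_smul, p_sec, h1, t2, h2, fun _ _ _ _ a b => t_sec t1 t2 a b,
    fun _ _ a b => Cv.free a b, fun g _ _ a => a.smul g, fun _ _ a => a.symm,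
    fun _ _ _ a b => a.uniq b, fun s _ t _ a => adj_sec s t a⟩, rfl, sec_one, sec_w⟩

end H10.Mon.T
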