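import Mathlib
import Cfsg.Agent.H10.TF2
import Cfsg.Agent.H10.TE

/-!
# Simple connectivity
-/

set_option autoImplicit false
set_option linter.all false
set_option maxRecDepth 100000

namespace H10.Mon.T

open Cfsg H9 H29 Cfsg.Spor H10.YW

theorem Cv.injective {G : Type*} [Group G] (A : Cv G) : Function.Injective A.π := by
  obtain ⟨B, e, h1, h2⟩ := A.exists_am
  have key : ∀ g : G, ∀ s c, A.π g (ax 1 c0) = ax s c → B.σ s c = (g : G ⧸ A.H) →
      g ∈ B.ι.range ⊔ Subgroup.zpowers B.t := fun g s c a b => by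
    have : MM tau ≤ (B.ι.range ⊔ Subgroup.zpowers B.t).map A.π := sup_le
      (by rintro _ ⟨k, rfl⟩; exact ⟨_, Subgroup.mem_sup_left ⟨k, rfl⟩, e ▸ B.π_ι k⟩)
      (Subgroup.zpowers_le.2 ⟨_, Subgroup.mem_sup_right (Subgroup.mem_zpowers _), e ▸ B.π_t⟩)
    obtain ⟨k, hk, f⟩ := this (A.mem g)
    have m := B.main hk (s := s) (c := c) (by rw [e, f, a])
    rw [h1, b] at m
    have : g⁻¹ * k = 1 := Cv.free (A := A) (by rw [map_mul, map_inv, f, inv_mul_cancel])
      (x := ((1 : G) : G ⧸ A.H)) (by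
        rw [mul_smul, m, MulAction.Quotient.smul_mk, smul_eq_mul, inv_mul_cancel])
    rwa [inv_mul_eq_one.1 this]
  have top : ⊤ ≤ B.ι.range ⊔ Subgroup.zpowers B.t := A.gen ▸ sup_le
    (fun h hh => key h 1 c0 (A.sub h hh) (h1.trans (QuotientGroup.eq.2 (by simpa using hh))))
    (Subgroup.zpowers_le.2 (key _ _ _ A.w0 h2))
  refine (injective_iff_map_eq_one _).2 fun g hg => Cv.free hg (x := B.σ 1 c0) ?_
  exact B.main (top trivial) (by rw [e, hg]; rfl)

end H10.Mon.T
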