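import Mathlib
import Cfsg.Agent.H10.TF3
import Cfsg.Agent.H10.TA1
import Cfsg.Agent.H10.TB

set_option autoImplicit false
set_option linter.all false
set_option maxRecDepth 100000

namespace H10.Mon.T

open Cfsg H9 H29 Cfsg.Spor H10.YW
open H10.Mon.Y (xB bN)

namespace TH

open H10.Mon.Y hiding Nd lb
open H10.Mon.MS

attribute [local irreducible] wd

noncomputable def kT (n : Nd) : GT := (gw (wD .f2))⁻¹ * gw (wD n)
noncomputable def sN (n : Nd) : ZMod 2 := 1 + ep (kT n) c0.1
noncomputable def dN (n : Nd) : S := co (kT n) • c0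

theorem xB_tv {n : Nd} (h : n = .f1 ∨ n = .d1) : xB n = tv (sN n) (dN n) := by
  have h1 : n ≠ .e3 := by rcases h with rfl | rfl <;> decide
  have h2 : n ∈ L15 := by rcases h with rfl | rfl <;> decide
  have h3 : W n = wD n := by rcases h with rfl | rfl <;> rfl
  have h4 : noT (wD n) = true := by rcases h with rfl | rfl <;> decide +kernel
  have k : xB n = (wd (wD .f2))⁻¹ * xU n * (wd (wD .f2))⁻¹⁻¹ := rfl
  rw [sN, dN, ← conj_tv (rho_mem_Aut (kT n)) (rho_ax _ _ _), k, xU_ne h1, x0, ← iW_W h2, iW, h3,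
    wd_gw h4, wd_gw (w := wD .f2) (by decide +kernel), kT, map_mul, map_inv]
  group

theorem val0 (n : Nd) : (co (gw (wD n)) • c0).1 = dec (apL (wD n) 0xbe0) := by
  rw [smul_val, c0_dec, dec_apL]

theorem valN (n : Nd) : (co (gw (wD .f2)) • dN n).1 = dec (apL (wD n) 0xbe0) := by
  rw [dN, kT, map_mul, map_inv, smul_smul, mul_inv_cancel_left, val0]

theorem ads {c d : S} {a b : ℕ} (p : ℕ) (h1 : c.1 = dec a) (h2 : d.1 = dec b) (hp : p < 98280)
    (h : Nat.beq (cdv CP p) (a ^^^ b) = true) : AdS c d :=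
  ⟨⟨cls p, cls_S hp⟩, by
    rw [h1, h2, ← dec_xor, ← H29.beq_true.1 h, dec_cdv]; rfl⟩

theorem a01 : AdS c0 (dN .f1) :=
  (ads 98153 (val0 .f2) (valN .f1) (by norm_num) (by decide +kernel)).of_smul

theorem a02 : AdS c0 (dN .d1) :=
  (ads 98157 (val0 .f2) (valN .d1) (by norm_num) (by decide +kernel)).of_smul

theorem a12 : AdS (dN .f1) (dN .d1) :=
  (ads 97986 (valN .f1) (valN .d1) (by norm_num) (by decide +kernel)).of_smul

theorem ne12 : c0.1 + (dN .f1).1 ≠ (dN .d1).1 := fun e => by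
  have := congrArg (co (gw (wD .f2)) • ·) e
  simp only [smul_add, ← smul_val, val0, valN, ← dec_xor] at this
  exact absurd (dec_inj (by decide +kernel) (by decide +kernel) this) (by decide +kernel)

theorem xB_MM (n : Nd) : xB n ∈ MM tau :=
  mul_mem (mul_mem (inv_mem (wd_mem _)) (xU_mem _)) (inv_mem (inv_mem (wd_mem _)))

theorem bN_ne (n : BabyMonster.Gen) : bN n ≠ .e3 := by cases n <;> decide

variable {G : Type*} [Group G] {y : Nd → G}

theorem vl_mem {H : Subgroup G} : ∀ {l : List Nd}, (∀ n ∈ l, y n ∈ H) → vl y l ∈ H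
  | [], _ => one_mem _
  | n :: l, h => mul_mem (h n List.mem_cons_self) (vl_mem fun m hm => h m (List.mem_cons_of_mem _ hm))

theorem baby3 {L : Type*} [Group L] (h : Sy3 y) {H : Subgroup G}
    (hH : ∀ n, y (bN n) ∈ H) (φ : H →* L) (hφ : ∀ x : H, (x : G) = y .f2 → φ x = 1) :
    ∃ f : BabyMonster →* L, ∀ n, f (PresentedGroup.of n) = φ ⟨_, hH n⟩ := by
  have k : ∀ x : H, (x : G) = 1 → φ x = 1 := fun x e => by rw [show x = 1 from Subtype.ext e, map_one]
  have b2 : vl y [.a, .b1, .c1, .b2, .c2, .d2, .b3] ^ 9 = y .f2 := by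
    rw [← vl_rep, h.cox.eq _ (by decide) (by decide) red_b2, h.e21]
  have b3 : vl y [.a, .b1, .c1, .b2, .b3, .c3, .d3] ^ 9 = 1 := by
    rw [← vl_rep, h.cox.eq _ (by decide) (by decide) red_b3, h.e31]
  refine ⟨PresentedGroup.toGroup (f := fun n => φ ⟨_, hH n⟩) ?_, fun n => PresentedGroup.toGroup.of _⟩
  rintro r (⟨n, -, m, -, rfl⟩ | hr)
  · simp only [map_mul, map_pow, FreeGroup.lift_apply_of]
    rw [← map_mul, ← map_pow]
    refine k _ ?_
    have := h.cox (bN n) (bN m) (bN_ne n) (bN_ne m)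
    rwa [show YW.lb (bN n) (bN m) = coxLabel BabyMonster.edges n m by cases n <;> cases m <;> rfl] at this
  · simp only [BabyMonster.extra, Set.mem_setOf_eq, List.mem_cons, List.not_mem_nil, or_false] at hr
    rcases hr with rfl | rfl | rfl <;>
      simp only [map_mul, map_pow, FreeGroup.lift_apply_of] <;> simp only [← map_mul, ← map_pow]
    · exact k _ (by simpa only [SP, vl_cons, vl_nil, mul_one, ← mul_assoc, Subgroup.coe_pow, Subgroup.coe_mul, bN] using h.sp)
    · exact hφ _ (by simpa only [vl_cons, vl_nil, mul_one, ← mul_assoc, Subgroup.coe_pow, Subgroup.coe_mul, bN] using b2)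
    · exact k _ (by simpa only [vl_cons, vl_nil, mul_one, ← mul_assoc, Subgroup.coe_pow, Subgroup.coe_mul, bN] using b3)

/-- The subgroup on the nodes of `Y433`. -/
def HB (y : Nd → G) : Subgroup G := Subgroup.closure (Set.range fun n => y (bN n))

theorem bN_mem (n : BabyMonster.Gen) : y (bN n) ∈ HB y := Subgroup.subset_closure ⟨n, rfl⟩

theorem n333_mem {n : Nd} (h : n ∈ N333) : y n ∈ HB y := by
  obtain ⟨m, rfl⟩ : ∃ m, bN m = n := by
    simp only [N333, List.mem_cons, List.not_mem_nil, or_false] at h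
    rcases h with rfl | rfl | rfl | rfl | rfl | rfl | rfl | rfl | rfl | rfl
    exacts [⟨.t5, rfl⟩, ⟨.t4, rfl⟩, ⟨.t3, rfl⟩, ⟨.t2, rfl⟩, ⟨.t6, rfl⟩, ⟨.t7, rfl⟩, ⟨.t8, rfl⟩,
      ⟨.t9, rfl⟩, ⟨.t10, rfl⟩, ⟨.t11, rfl⟩]
  exact bN_mem m

theorem nd_mem (h : Sy3 y) {n : Nd} (h3 : n ≠ .e3) (h2 : n ≠ .e2) : y n ∈ HB y := by
  by_cases k : n ∈ N333
  · exact n333_mem k
  cases n
  case e1 => exact bN_mem .t1
  case f1 => exact h.e12 ▸ vl_mem fun n hn => n333_mem (by revert n; decide)
  case f2 => exact h.e21 ▸ vl_mem fun n hn => n333_mem (by revert n; decide)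
  case f3 => exact h.f3 ▸ one_mem _
  all_goals first | contradiction | exact absurd (by decide) k

theorem f2_comm (h : Sy3 y) {x : G} (hx : x ∈ HB y) : Commute (y .f2) x := by
  have : HB y ≤ Subgroup.centralizer {y .f2} := (Subgroup.closure_le _).2 (by
    rintro _ ⟨n, rfl⟩
    have := h.cox (bN n) .f2 (bN_ne n) (by decide)
    rwa [show YW.lb (bN n) .f2 = 2 by cases n <;> rfl, pow_two, mul_eq_one_iff_eq_inv, mul_inv_rev,
      inv_eq_of_mul_eq_one_right (h.cox.sq (bN_ne n)),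
      inv_eq_of_mul_eq_one_right (h.cox.sq (n := .f2) (by decide)),
      ← Subgroup.mem_centralizer_singleton_iff] at this)
  exact (Subgroup.mem_centralizer_singleton_iff.1 (this hx)).symm

section
variable (hB : IsB BabyMonster) (h : Sy3 y) {π : G →* E} (hπ : ∀ n, n ≠ .e3 → π (y n) = xB n)
include hB hπ

theorem map_HB : (HB y).map π = HH tau := by
  rw [HB, MonoidHom.map_closure, ← Set.range_comp, ← yb_gen hB]
  congr 2
  exact funext fun n => hπ _ (bN_ne n)

include h

theorem inj_HB {x : G} (hx : x ∈ HB y) (e : π x = 1) : x = 1 := by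
  have mp : ∀ x : HB y, π x ∈ HH tau := fun x => map_HB hB hπ ▸ Subgroup.mem_map_of_mem π x.2
  let Z : Subgroup (HB y) := (Subgroup.zpowers (y .f2)).subgroupOf (HB y)
  have : Z.Normal := ⟨fun z hz g => by
    obtain ⟨k, hk⟩ := Subgroup.mem_subgroupOf.1 hz
    have : g * z * g⁻¹ = z := mul_inv_eq_iff_eq_mul.2 (Subtype.ext (by
      rw [Subgroup.coe_mul, Subgroup.coe_mul, ← hk]
      exact ((f2_comm h g.2).zpow_left k).eq.symm))
    rwa [this]⟩
  obtain ⟨F, hF⟩ := baby3 h bN_mem (QuotientGroup.mk' Z) fun x e => by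
    rw [QuotientGroup.mk'_apply, QuotientGroup.eq_one_iff, Subgroup.mem_subgroupOf, e]
    exact Subgroup.mem_zpowers _
  let p : HB y →* HH tau := (π.comp (HB y).subtype).codRestrict _ mp
  let q := QuotientGroup.map Z (Subgroup.center (HH tau)) p (by
    intro z hz
    obtain ⟨k, hk⟩ := Subgroup.mem_subgroupOf.1 hz
    rw [Subgroup.mem_comap, center_HH tri_tau, Subgroup.mem_subgroupOf]
    refine ⟨k, ?_⟩
    change tv 1 c0 ^ k = π z
    rw [← hk, map_zpow, hπ _ (by decide), xB_f2])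
  obtain ⟨f, h1, h2⟩ := baby_hom
  have := hB.1
  have hi : Function.Injective f := (MonoidHom.ker_eq_bot_iff f).1
    ((f.normal_ker.eq_bot_or_eq_top).resolve_right h1)
  have e1 : q.comp F = f := PresentedGroup.ext fun n => by
    rw [h2, MonoidHom.comp_apply, hF]
    exact congrArg QuotientGroup.mk (Subtype.ext (hπ _ (bN_ne n)))
  obtain ⟨b, hb⟩ : QuotientGroup.mk' Z ⟨x, hx⟩ ∈ F.range := by
    clear e
    induction hx using Subgroup.closure_induction with
    | mem x hx => obtain ⟨n, rfl⟩ := hx; exact ⟨_, hF n⟩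
    | one => exact one_mem _
    | mul a b ha hb h1 h2 => exact mul_mem h1 h2
    | inv a ha h1 => exact inv_mem h1
  have e2 : b = 1 := hi (by
    rw [← e1, MonoidHom.comp_apply, hb, map_one]
    exact congrArg QuotientGroup.mk (Subtype.ext e))
  rw [e2, map_one, eq_comm, QuotientGroup.mk'_apply, QuotientGroup.eq_one_iff,
    Subgroup.mem_subgroupOf] at hb
  refine (mem_zpowers_invol (h.cox.sq (by decide)) hb).resolve_right fun k => ?_
  change x = _ at k
  rw [k, hπ _ (by decide), xB_f2] at e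
  exact tt_ne_one e

end

theorem rho_norm (h : Sy3 y) {x : G} (hx : x ∈ Subgroup.closure {x | ∃ n ∈ N333, x = y n}) :
    (vl y RHO)⁻¹ * x * vl y RHO ∈ HB y := by
  have e := inv_eq_of_mul_eq_one_right (rho_sq h.cox)
  induction hx using Subgroup.closure_induction with
  | mem x hx =>
    obtain ⟨n, hn, rfl⟩ := hx
    rw [e]
    by_cases k : n = .b3
    · rw [k, rho_b3 h.cox (k := 1) (k' := 1) (fun _ _ => Commute.one_left _)
        (fun _ _ => Commute.one_left _) (h.e12.trans (mul_one _).symm) (h.e21.trans (mul_one _).symm)]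
      exact bN_mem .t9
    · rw [rho_conj h.cox (by rintro rfl; revert hn; decide) k]
      exact n333_mem (by clear k; revert n; decide)
  | one => rw [mul_one, inv_mul_cancel]; exact one_mem _
  | mul a b _ _ h1 h2 =>
    have := mul_mem h1 h2
    rwa [mul_assoc _ (vl y RHO), ← mul_assoc (vl y RHO), ← mul_assoc (vl y RHO), mul_inv_cancel,
      one_mul, ← mul_assoc, mul_assoc _ a] at this
  | inv a _ h1 =>
    have := inv_mem h1
    rwa [mul_inv_rev, mul_inv_rev, inv_inv, ← mul_assoc] at this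

end TH

open TH

/-- The group presented on `Y553`, modulo `f3`, is the Monster. -/
theorem inj553 (hB : IsB BabyMonster) {G : Type*} [Group G] {y : Nd → G} (h : Sy3 y)
    (hg : Subgroup.closure {g | ∃ n, n ≠ .e3 ∧ g = y n} = ⊤) (π : G →* E)
    (hπ : ∀ n, n ≠ .e3 → π (y n) = xB n) : Function.Injective π := by
  have mem : ∀ g, π g ∈ MM tau := fun g => by
    have : Subgroup.closure {g | ∃ n, n ≠ .e3 ∧ g = y n} ≤ (MM tau).comap π :=
      (Subgroup.closure_le _).2 (by
        rintro _ ⟨n, hn, rfl⟩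
        exact Subgroup.mem_comap.2 (hπ n hn ▸ xB_MM n))
    exact this (hg ▸ Subgroup.mem_top g)
  have e := inv_eq_of_mul_eq_one_right (rho_sq h.cox)
  have mp := map_HB hB hπ
  obtain ⟨lh, la, lb, l1, l2, l3⟩ := rho_tri h.cox
  have l4 : ∀ n ∈ lh ++ la ++ lb, y n ∈ HB y := fun n hn =>
    nd_mem h (by have := l1 n hn; rintro rfl; revert this; decide)
      (by have := l1 n hn; rintro rfl; revert this; decide)
  refine Cv.injective
    { π := π, H := HB y, w := vl y RHO, s1 := sN .f1, s2 := sN .d1, d1 := dN .f1, d2 := dN .d1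
      mem := mem, onto := fun m hm => ?_, inj := fun x hx => inj_HB hB h hπ hx
      sub := fun x hx => fix_M _ (mem x) (mem_HH.1 (mp ▸ Subgroup.mem_map_of_mem π hx)).2
      full := fun m hm k => mp.ge (mem_HH.2 ⟨hm, conj_tv (MM_le_Aut tri_tau hm) k⟩)
      gen := ?_, ww := rho_sq h.cox ▸ one_mem _, w0 := ax_of_conj (mem _) ?_
      a01 := a01, a02 := a02, a12 := a12, ne := ne12, l2 := fun x hx k => ?_
      l3 := ⟨vl y lh, vl_mem fun n hn => l4 n (by simp [hn]), ax_of_conj (mem _) ?_,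
        vl y la, vl_mem fun n hn => l4 n (by simp [hn]), vl y lb,
        vl_mem fun n hn => l4 n (by simp [hn]), by rw [e, l3]⟩ }
  · obtain ⟨_, ⟨g, rfl⟩, k⟩ := Y.gen_M (H := π.range.map (MulAut.conj (wd (Y.W .f2))).toMonoidHom)
      (fun n hn => ⟨xB n, ⟨_, hπ n hn⟩, by rw [← Y.xU_ne hn]; simp [xB, mul_assoc]⟩)
      (mul_mem (mul_mem (wd_mem (Y.W .f2)) hm) (inv_mem (wd_mem (Y.W .f2))))
    exact ⟨g, (MulAut.conj (wd (Y.W .f2))).injective k⟩
  · rw [eq_top_iff, ← hg, Subgroup.closure_le]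
    rintro _ ⟨n, hn, rfl⟩
    by_cases k : n = .e2
    · have := rho_conj h.cox (n := .e1) (by decide) (by decide)
      have w := Subgroup.mem_sup_right (S := HB y) (Subgroup.mem_zpowers (vl y RHO))
      rw [k, ← show _ = y .e2 from this]
      exact mul_mem (mul_mem w (Subgroup.mem_sup_left (bN_mem .t1))) w
    · exact Subgroup.mem_sup_left (nd_mem h hn k)
  · rw [← xB_tv (Or.inl rfl), ← Y.xB_f2, ← hπ _ (by decide), ← hπ _ (by decide), ← map_inv, e,
      ← map_mul, ← map_mul, rho_conj h.cox (by decide) (by decide)]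
    rfl
  · have := yb_cent hB (mp ▸ Subgroup.mem_map_of_mem π hx)
      (by rw [xB_tv (Or.inl rfl)]; exact conj_tv (MM_le_Aut tri_tau (mem x)) k)
    have e1 : {x | ∃ n ∈ N333, x = xB n} = π '' {x | ∃ n ∈ N333, x = y n} := by
      ext u
      constructor
      · rintro ⟨n, hn, rfl⟩
        exact ⟨_, ⟨n, hn, rfl⟩, hπ n (by rintro rfl; revert hn; decide)⟩
      · rintro ⟨_, ⟨n, hn, rfl⟩, rfl⟩
        exact ⟨n, hn, hπ n (by rintro rfl; revert hn; decide)⟩
    rw [e1, ← MonoidHom.map_closure] at this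
    obtain ⟨k', k1, k2⟩ := this
    have k3 : k' ∈ HB y := (Subgroup.closure_le (HB y)).2 (by rintro _ ⟨n, hn, rfl⟩; exact n333_mem hn) k1
    have := inj_HB hB h hπ (mul_mem (inv_mem k3) hx) (by rw [map_mul, map_inv, k2, inv_mul_cancel])
    rw [← inv_mul_eq_one.1 this]
    exact rho_norm h k1
  · rw [← xB_tv (Or.inl rfl), ← xB_tv (Or.inr rfl), ← hπ _ (by decide), ← hπ _ (by decide), ← map_inv,
      ← map_mul, ← map_mul, l2]

end H10.Mon.T
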