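import Mathlib
import Cfsg.Agent.H10.RuR
import Cfsg.Agent.H20.Tits

/-!
# The Rudvalis group: order, simplicity, point stabiliser
-/

set_option autoImplicit false
set_option linter.all false
set_option maxRecDepth 100000

namespace H10.Ru

open H29 H10.R3 Cfsg.Spor H10.RuR
open Finset hiding val

theorem ext_mem {G : Type*} [Group G] {e : ℕ → G} {n : ℕ} {defs : List (List ℕ)}
    {ivl0 ivl : List ℕ} (h : chkExt n defs ivl0 ivl = true) {M : Subgroup G} {S : List ℕ}
    (h0 : ∀ c ∈ S, c < n → e c ∈ M)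
    (h1 : allL S (fun c => or2 (Nat.ble (c + 1) n)
      (allL (nth [] defs ((c - n) / 2)) fun y => memL y S)) = true) :
    ∀ c ∈ S, extE e n defs c ∈ M := by
  have he := isExt_extE e (chkExt_wf h)
  simp only [allL_true, or2_true, ble_true, memL_true] at h1
  intro c
  induction c using Nat.strong_induction_on with
  | _ c ih =>
    intro hc
    have key : ∀ j, n + 2 * j ≤ c → c ≤ n + 2 * j + 1 → extE e n defs (n + 2 * j) ∈ M :=
      fun j a b => by
        rw [he.even]
        refine ev_mem fun y hy => ih y (lt_of_lt_of_le (chkExt_wf h j y hy) a) ?_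
        have := (h1 c hc).resolve_left (by omega)
        rw [show (c - n) / 2 = j by omega] at this
        exact this y hy
    rcases ext_cases n c with a | ⟨j, rfl⟩ | ⟨j, rfl⟩
    · rw [extE_lt _ _ _ a]; exact h0 c hc a
    · exact key j le_rfl (by omega)
    · rw [he.odd]; exact M.inv_mem (key j (by omega) le_rfl)

/-- The letters. -/
noncomputable def e1 : ℕ → Ru := extE e0 7 defs

theorem ρ_e1 (c : ℕ) : ρ (e1 c) = sg nx c := RuR.map ρ_e0 c

theorem hiv0 : IvOK e0 (ivOf RuD.ivl) := fun c =>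
  ρ_inj (by rw [map_inv, ρ_e0, ρ_e0, RuD.hiv])

theorem hiv1 : IvOK e1 (ivOf ivx) := fun c => ρ_inj (by rw [map_inv, ρ_e1, ρ_e1, hiv])

theorem e13 : extE e0 7 defs 3 = (e1 2)⁻¹ := hiv1 2

theorem e15 : extE e0 7 defs 5 = (e1 4)⁻¹ := hiv1 4

theorem MM : Model ρ 4060 DD 1755 2304 1 1756 :=
  model_of_chk hn (by norm_num) ρ_e1 ρ_trans ρ_fix ρ_inj DD_inv model

theorem faith (g : Ru) (h : ∀ i < 4060, ρ g i = i) : g = 1 := ρ_inj (by
  ext i
  by_cases hi : i < 4060
  · simp [h i hi]
  · simp [ρ_fix g i (not_lt.1 hi)])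

theorem autB : Nat.card (AutG ρ 4060 DD) ≤ 145926144000 := aut_le MM hn (by norm_num) ρ_e1 aut

theorem card_top : Nat.card Ru = 145926144000 ∧
    gen e1 [0, 1, 2, 3, 4, 5, 6, 7, 9, 11, 13, 15] = ⊤ := by
  have := MM.finite
  have : Finite (AutG ρ 4060 DD) := finite_of_fix fun _ h => h.1
  have h1 := (Subgroup.card_le_of_le MM.range_le).trans autB
  rw [← Nat.card_congr (MonoidHom.ofInjective ρ_inj).toEquiv] at h1
  have h2 := le_card_gen_of_chain hn faith (fun c _ => ρ_e1 c) ch
  have h3 := Subgroup.card_le_card_group (gen e1 [0, 1, 2, 3, 4, 5, 6, 7, 9, 11, 13, 15])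
  norm_num at h2
  exact ⟨by omega, Subgroup.eq_top_of_card_eq _ (by omega)⟩

theorem card_Ru : Nat.card Ru = 145926144000 := card_top.1

theorem simple_Ru : IsSimpleGroup Ru := by
  have hw := rels_of_faithful faith ρ_e1 wit
  simp only [List.mem_cons, List.not_mem_nil, or_false, forall_eq_or_imp, forall_eq, ev_powW,
    ev_append, ev_cons, ev_nil, mul_one] at hw
  obtain ⟨w, a0, b0, a1, b1, a2, b2, a4, b4, a6, b6⟩ := hw
  refine isSimpleGroup_of_cert (q := 29) (m := 5031936000) hn prim ρ_trans ρ_e1 faith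
    (by rw [card_Ru]) (by norm_num) (by norm_num) (by norm_num) w fun M _ hu => ?_
  have c2 := mem_of_coprime (M.pow_mem hu _) a2 b2 (by norm_num)
  have c4 := mem_of_coprime (M.pow_mem hu _) a4 b4 (by norm_num)
  rw [eq_top_iff, ← card_top.2, gen_le]
  intro c hc
  refine ext_mem hext (S := List.range 17) (fun c _ h => ?_) (by decide +kernel) c
    (by simp at hc ⊢; omega)
  rw [← extE_lt e0 7 defs h]
  interval_cases c
  · exact mem_of_coprime (M.pow_mem hu _) a0 b0 (by norm_num)
  · exact mem_of_coprime (M.pow_mem hu _) a1 b1 (by norm_num)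
  · exact c2
  · exact e13 ▸ M.inv_mem c2
  · exact c4
  · exact e15 ▸ M.inv_mem c4
  · exact mem_of_coprime (M.pow_mem hu _) a6 b6 (by norm_num)

theorem card_H : Nat.card (stab ρ 0) = 35942400 := by
  have := ρ_trans.card_eq
  rw [card_Ru] at this
  omega

theorem stab_eq : stab ρ 0 = gen e1 LH :=
  have := MM.finite
  stab_eq_gen hn ρ_e1 ρ_inj ρ_fix chH (by rw [card_H]; norm_num)

theorem uu3 : U3 ρ 4060 DD 1756 := u3_of_chk MM hn ρ_e1 u3

theorem bt_gApp (c : ℕ → ℕ) (n i : ℕ) : ∀ k, bt (H20.Tits.gApp c n k) i =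
    (∑ j ∈ range k, bt n j * bt (c j) i) % 2
  | 0 => by simp [H20.Tits.gApp, bt]
  | k + 1 => by
    rw [show H20.Tits.gApp c n (k + 1) = bif n.testBit k then c k ^^^ H20.Tits.gApp c n k
      else H20.Tits.gApp c n k from rfl, sum_range_succ]
    cases h : n.testBit k
    · rw [cond_false, bt_gApp c n i k, bt_of_false h]; simp
    · rw [cond_true, bt_xor, bt_gApp c n i k, bt_of_true h]; omega

/-- The columns of the generators. -/
noncomputable def tcol (i : ℕ) : List ℕ := (List.range 52).map (H19.fld (H20.Tits.gT i) 52)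

theorem cT : allN 4 (fun i => allN 52 fun q => Nat.beq
    (Nat.land ((nx (nth 0 [0, 1, 2, 4] i)).pull (nth 0 tp q)) DD)
    (Nat.land (gA ((List.range 52).map (nth 0 tp)) (valK (tcol i) q)) DD)) = true := by
  decide +kernel

theorem cS : sep tp DD = true := by decide +kernel

theorem val_lt (P : List ℕ) (i : ℕ) : val P i < 2 ^ P.length :=
  Nat.lt_pow_two_of_testBit _ fun j hj => by rw [testBit_val, nth_default _ hj]; simp

open H20.Tits Matrix in
theorem tits_act {i : ℕ} (hi : i < 4) {x : ℕ} (hx : DD.testBit x = true) :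
    toV (val tp (ρ (e1 (nth 0 [0, 1, 2, 4] i)) x)) = mat (e i) *ᵥ toV (val tp x) := by
  rw [coe_e hi, (rep_gen i hi).app, ← toV_mod, ← toV_mod (gApp _ _ _)]
  refine congrArg toV (Nat.eq_of_testBit_eq fun q => ?_)
  rw [Nat.testBit_mod_two_pow, Nat.testBit_mod_two_pow]
  by_cases hq : q < 52
  · have := congrArg (fun y => bt y x) (H29.beq_true.1 (allN_true.1 (allN_true.1 cT i hi) q hq))
    simp only [land_eq, bt_and, bt_of_true hx, mul_one] at this
    rw [bt_gA, List.length_map, List.length_range, bt, Net.testBit_pull (hn _), ← bt] at this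
    refine congrArg _ (bt_inj ?_)
    rw [bt_val, ρ_e1, sg, this, bt_gApp]
    refine congrArg (· % 2) (sum_congr rfl fun j hj => ?_)
    rw [valK_eq, bt_val, bt_val, tcol, nth_range _ (mem_range.1 hj), nth_range _ (mem_range.1 hj),
      mul_comm]
  · simp [hq]

open H20.Tits Matrix in
theorem stab_iso : Nonempty (stab ρ 0 ≃* Γ) := by
  have := MM.finite
  let f : ℕ → _ := fun x => toV (val tp x)
  have f1 : ∀ x y, DD.testBit x = true → DD.testBit y = true → f x = f y → x = y :=
    fun x y hx hy h => sep_spec tp cS hx hy (val_inj tp (toV_inj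
      ((val_lt tp x).trans (by decide)) ((val_lt tp y).trans (by decide)) h))
  let Δ : Subgroup (Γ × stab ρ 0) :=
    { carrier := {a | ∀ x, DD.testBit x = true → f (ρ a.2 x) = mat a.1 *ᵥ f x}
      one_mem' := fun x _ => by simp
      mul_mem' := fun {a b} ha hb x hx => by
        rw [Prod.fst_mul, Prod.snd_mul, Subgroup.coe_mul, map_mul, map_mul, Equiv.Perm.mul_apply,
          ha _ ((DD_inv _ b.2.2 x).trans hx), hb x hx, mulVec_mulVec]
      inv_mem' := fun {a} ha x hx => by
        have := ha (ρ a.2⁻¹ x) ((DD_inv _ a.2⁻¹.2 x).trans hx)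
        rw [← Equiv.Perm.mul_apply, ← map_mul, mul_inv_cancel, map_one,
          Equiv.Perm.one_apply] at this
        rw [this, mulVec_mulVec, ← map_mul, Prod.fst_inv, inv_mul_cancel, map_one, one_mulVec]
        rfl }
  let p : Δ →* Γ := (MonoidHom.fst _ _).comp Δ.subtype
  let q : Δ →* stab ρ 0 := (MonoidHom.snd _ _).comp Δ.subtype
  have hf := gen_le.1 (gen_le_stab hn ρ_e1 (L := [0, 1, 2, 4]) (b := 0) (by decide +kernel))
  have hm : ∀ i < 4, nth 0 [0, 1, 2, 4] i ∈ [0, 1, 2, 4] := by decide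
  have p1 : Function.Surjective p := H20.Tits.induction (P := fun g => ∃ a, p a = g)
    ⟨1, map_one p⟩ (by rintro _ _ ⟨a, rfl⟩ ⟨b, rfl⟩; exact ⟨a * b, map_mul p a b⟩)
    fun i hi => ⟨⟨(e i, ⟨_, hf _ (hm i hi)⟩), fun x hx => tits_act hi hx⟩, rfl⟩
  have p2 : Function.Injective p := (injective_iff_map_eq_one p).2 fun a ha =>
    Subtype.ext (Prod.ext ha (Subtype.ext (faith_D MM uu3 a.1.2.2 fun x hx =>
      f1 _ _ ((DD_inv _ a.1.2.2 x).trans hx) hx (by
        rw [a.2 x hx, show a.1.1 = 1 from ha, map_one, one_mulVec]))))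
  have q1 : Function.Surjective q := by
    have h1 : ∀ i < 4, e1 (nth 0 [0, 1, 2, 4] i) ∈ q.range.map (stab ρ 0).subtype := fun i hi =>
      ⟨_, ⟨⟨(e i, ⟨_, hf _ (hm i hi)⟩), fun x hx => tits_act hi hx⟩, rfl⟩, rfl⟩
    have h2 : gen e1 LH ≤ q.range.map (stab ρ 0).subtype := gen_le.2 fun c hc =>
      ext_mem hext (S := [0, 1, 2, 3, 4, 5, 7, 8, 9, 10, 11, 12, 13, 14, 15, 16]) (fun c hc h => by
        rw [← extE_lt e0 7 defs h]
        interval_cases c
        · exact h1 0 (by omega)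
        · exact h1 1 (by omega)
        · exact h1 2 (by omega)
        · exact e13 ▸ Subgroup.inv_mem _ (h1 2 (by omega))
        · exact h1 3 (by omega)
        · exact e15 ▸ Subgroup.inv_mem _ (h1 3 (by omega))
        · simp at hc) (by decide +kernel) c (by simp [LH] at hc ⊢; omega)
    intro h
    obtain ⟨_, ⟨a, rfl⟩, h3⟩ := h2 (stab_eq.le h.2)
    exact ⟨a, Subtype.ext h3⟩
  have e1 := MulEquiv.ofBijective p ⟨p2, p1⟩
  have c1 : Nat.card Γ = 35942400 := Cfsg.Agent.S1068.result (K := ZMod 2) (m := 0) rfl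
  have : Finite Δ := Nat.finite_of_card_ne_zero (by rw [Nat.card_congr e1.toEquiv, c1]; norm_num)
  exact ⟨(MulEquiv.ofBijective q ((Nat.bijective_iff_surjective_and_card q).2
    ⟨q1, by rw [Nat.card_congr e1.toEquiv, c1, card_H]⟩)).symm.trans e1⟩

end H10.Ru
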