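import Mathlib
import Cfsg.Agent.H10.BO1

/-!
# Square roots of involutions of the first class
-/

set_option autoImplicit false
set_option linter.all false

namespace H10.Mon.MG.BO

open H10.Mon.LFt (eO eD s0 sqO)

variable {M : Type*} [Group M] {x y γ : M} {q : ZMod 2 → C → M}

theorem inv_ac {k : GT} {s : G0} (h : Ac (co k) s) (hs : ∀ c : C, s • s • c = c) (c : C) :
    co k⁻¹ • c = s • c := by rw [map_inv, inv_smul_eq_iff, h, hs]

theorem co_conj (l k : GT) : co (l * k * l⁻¹) = co l * co k * (co l)⁻¹ := by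
  rw [map_mul, map_mul, map_inv]

theorem pg4 {a : M} (h : a * a * (a * a) = 1) : IsPGroup 2 (Subgroup.zpowers a) := pg_of 2 fun g hg => by
  obtain ⟨n, rfl⟩ := Subgroup.mem_zpowers_iff.1 hg
  rw [← zpow_natCast, ← zpow_mul, mul_comm, zpow_mul, zpow_natCast,
    show a ^ 2 ^ 2 = a * a * (a * a) by rw [show 2 ^ 2 = 2 * 2 from rfl, pow_mul, pow_two, pow_two], h, one_zpow]

theorem cm_zp {a u g : M} (h : a * u = u * a) (hg : g ∈ Subgroup.zpowers a) : g * u = u * g := by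
  obtain ⟨n, rfl⟩ := Subgroup.mem_zpowers_iff.1 hg
  exact (show Commute a u from h).zpow_left n

def FO (x y : M) (q : ZMod 2 → C → M) (a : M) (h : G0) (c : C) : Prop :=
  ∃ r w, IsS w ∧ h • w = w + c ∧ T2 x y y (a * q r w)

theorem FO.back (H : Sit y q) {a b : M} {l : GT} {h : G0} {c : C} (hb : Rel q b l)
    (f : FO x y q (b * a * b⁻¹) (co l * h * (co l)⁻¹) (co l • c)) : FO x y q a h c := by
  obtain ⟨r, w, w1, w2, w3⟩ := f
  have e := hb.inv r w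
  rw [inv_inv] at e
  refine ⟨_, co l⁻¹ • w, w1.smul _, ?_, T2.of (H.rel_cm hb) (by
    rwa [← e, show b * (a * (b⁻¹ * q r w * b)) * b⁻¹ = b * a * b⁻¹ * q r w by group])⟩
  rw [mul_smul, mul_smul, smul_eq_iff_eq_inv_smul, smul_add, inv_smul_smul] at w2
  rw [map_inv, w2]

theorem sq_cj {a b : M} {l : GT} (hb : Rel q b l) {s : ZMod 2} {c : C} (e : a * a = q s c) :
    b * a * b⁻¹ * (b * a * b⁻¹) = q (s + ep l c) (co l • c) := by rw [conj_mul, e, hb]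

variable (H : Two x y q γ)
include H

theorem caseO {a : M} {k : GT} {s : ZMod 2} {c : C} (hk : Rel q a k) (hc : IsS c)
    (e : a * a = q s c) (ho : Cj (co k) eO) : FO x y q a (co k) c := by
  obtain ⟨h, kh, sh, e0, P⟩ := H.exists_h lfE.1
  have im : ∀ {a k s c}, Rel q a k → Ac (co k) eO → a * a = q s c →
      ∃ t e, a = h * q t e ∧ c = e + eO • e := fun {a k s c} hk ac e => by
    obtain ⟨t, e', rfl⟩ := H.s.same P.rel hk (P.ac.trans ac.symm)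
    rw [H.s.sq_mul P.rel, H.h_sq P, one_mul, inv_ac P.ac sqO] at e
    exact ⟨t, e', rfl, by rw [← (H.s.inj e).2, add_comm]⟩
  have core : ∀ {a k s c}, Rel q a k → Ac (co k) eO → Sh0 c → a * a = q s c → FO x y q a (co k) c :=
    fun {a k s c} hk ac hc e => by
      obtain ⟨t, e', rfl, rfl⟩ := im hk ac e
      obtain ⟨d, hd⟩ := TO hc
      have e1 : eO • (e' + (d + eO • d)) = e' + (d + eO • d) + (e' + eO • e') := by
        rw [smul_add, smul_add, sqO]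
        linear_combination (exp := 1) -cc2 e'
      rcases (H.s.pc (k' := kh) (g' := h * q t e' * q 0 (e' + (d + eO • d))) (d := d)
        (t := t + 0 + bb e' (e' + (d + eO • d))) P.rel (H.h_i2 P) (by
        rw [mul_assoc, H.s.mul, ← add_assoc e' e', cc2, zero_add, P.ac])).t2 H.s.yy (H.h_ab P) with f | f
      · exact ⟨0, _, hd, by rw [ac, e1], f⟩
      · refine ⟨0 + 1, _, hd, by rw [ac, e1], ?_⟩
        rw [← H.s.mul_y, ← mul_assoc]
        exact ⟨f.2, by rw [mul_assoc, H.s.yy, mul_one]; exact f.1⟩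
  obtain ⟨u, hu⟩ := ho
  obtain ⟨b, l, hb, rfl⟩ := H.s.lift u
  refine FO.back H.s hb ?_
  rw [← co_conj] at hu ⊢
  obtain ⟨t, e', -, e2⟩ := im (hb.conj hk) hu (sq_cj hb e)
  obtain ⟨v, v1, v2⟩ := lfE.1.oV e'
  obtain ⟨b', l', hb', rfl⟩ := H.s.lift v
  refine FO.back H.s hb' ?_
  rw [← co_conj]
  exact core (hb'.conj (hb.conj hk)) (by rw [co_conj]; exact (hu.conj _).trans v1)
    ⟨(hc.smul _).smul _, e2 ▸ v2⟩ (sq_cj hb' (sq_cj hb e))

theorem exD' : ∃ g k t f, Rel q g k ∧ Ac (co k) eD ∧ g = γ * q t f * γ⁻¹ := by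
  obtain ⟨h, kh, sh, e, P⟩ := H.exists_h lfE.1
  obtain ⟨u, hu, h1⟩ := lfE.1.dO
  obtain ⟨a, l, ha, rfl, h3⟩ := H.s.liftN hu
  obtain ⟨m, hm, h4⟩ := H.two (H.s.rel_cm ha) h3
  have e1 := hm sh e
  beta_reduce at e1
  rw [← P.eq] at e1
  exact ⟨_, _, sh + (sh + ep m e) + bb e (co m • e), e + co m • e, P.rel.mul (ha.conj P.rel), fun c => by
    rw [h1, map_mul, map_mul, map_mul, map_inv, mul_smul, P.ac, mul_smul eO, P.ac.conj],
    by rw [e1, ← H.s.mul, ← conj_mul, ← P.eq]⟩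

theorem nQ {t s : ZMod 2} {d c : C} (hc : IsS c) (e : q t d * q t d = q s c) : False := by
  rw [H.s.sq] at e
  exact isS_ne hc (H.s.inj e).2.symm

theorem caseD {a : M} {k : GT} {s : ZMod 2} {c : C} (hk : Rel q a k) (hc : IsS c)
    (e : a * a = q s c) (ac : Ac (co k) eD) : ∃ t, IsConj x t ∧ IsConj x (a * t) := by
  obtain ⟨g, kg, t0, f, g1, g2, g3⟩ := exD' H
  have c1 : c.1 = 0 := by
    obtain ⟨d, rfl⟩ := lfE.1.dF c (by rw [← ac]; exact (H.s.cm_q hk (by rw [← e, mul_assoc])).1)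
    exact (evD hc).2
  obtain ⟨t, e', rfl⟩ := H.s.same g1 hk (g2.trans ac.symm)
  have s1 : Sh0 (e' + eD • e') := by
    have := H.view.s.sq t0 f
    beta_reduce at this
    rw [← g3] at this
    rw [H.s.sq_mul g1, inv_ac g2 sqD, this, add_comm (eD • e')] at e
    rcases H.view.s.q0 (bb f f) with k | k <;> beta_reduce at k <;> rw [k] at e
    · rw [one_mul] at e
      exact (H.s.inj e).2 ▸ ⟨hc, c1⟩
    · rw [H.s.mul] at e
      have := sh0_Om ⟨hc, c1⟩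
      rwa [← (H.s.inj e).2, add_comm Om, add_assoc, cc2, add_zero] at this
  obtain ⟨w, w1, w2, -⟩ := TD s1
  obtain ⟨l0, hl⟩ := H.view.s.up (q 0 w) (H.s.cm_iff.2 (by rw [pl_Om, w2, (evD s1.1).1]))
  obtain ⟨r, f', -, e3⟩ := H.shared0 (t + bb w (w + e')) (c := w + e') (by
    rw [Prod.fst_add, w2]; exact congrArg Prod.fst (cc2 e'))
  have R : Rel (fun t c => γ * q t c * γ⁻¹) (g * q t e') (qe t0 f * (l0 * qe r f')) := by
    have := (H.view.s.rel_q t0 f).mul (hl.mul (H.view.s.rel_q r f'))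
    beta_reduce at this
    rwa [← g3, ← e3, H.s.mul, ← add_assoc w, cc2, zero_add, zero_add, add_assoc, zz2, add_zero] at this
  have co1 : co (qe t0 f * (l0 * qe r f')) = co l0 := by
    rw [map_mul, map_mul, co_qe, co_qe, one_mul, mul_one]
  have sq : q 0 w * q 0 w = 1 := H.s.sq0 0 (bb_isS w1)
  have i := H.view.s.i2_of hl (.inl sq)
  obtain ⟨s', c', c2, c3⟩ := H.shared s ⟨hc, c1⟩
  rcases lfE.1.cls _ (fun c => (i c).2) with b | b | b | b
  · obtain ⟨t, d, e4⟩ := H.view.s.inQ R (co1 ▸ b)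
    exact (nQ H.view c2.1 (by rw [← e4, e, c3])).elim
  · obtain ⟨r, w', k1, -, k2⟩ := caseO H.view R c2.1 (e.trans c3) (co1 ▸ b)
    exact ⟨_, H.view.qA r k1, k2.1⟩
  · obtain ⟨h, kh, sh, e0, P⟩ := H.view.exists_h lfE.1
    exact (H.view.nAB (H.qA 0 w1) (H.view.bbD lfE.1 P hl i b).1).elim
  · exact (H.O_ne.1 ((H.view.t4S lfE.1 hl i b).symm.trans sq)).elim

theorem types {a : M} {k : GT} {s : ZMod 2} {c : C} (hk : Rel q a k) (hc : IsS c)
    (e : a * a = q s c) : Cj (co k) eO ∨ Cj (co k) eD := by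
  rcases lfE.1.cls (co k) (fun d => by
    have := (H.s.rel_uniq (hk.mul hk) (e ▸ H.s.rel_q s c) d).2
    rwa [map_mul, mul_smul, co_qe, one_smul] at this) with b | b | b | b
  · obtain ⟨t, d, rfl⟩ := H.s.inQ hk b
    exact (nQ H hc e).elim
  · exact .inl b
  · exact .inr b
  · exact ((lfE.2.nfix b).2 c hc (H.s.cm_q hk (by rw [← e, mul_assoc])).1).elim

/-- A square root of `x` is a product of two conjugates of `x`. -/
theorem Fa [Finite M] {a : M} (e : a * a = x) : ∃ t, IsConj x t ∧ IsConj x (a * t) := by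
  have bk : ∀ {a : M} (b : M), (∃ t, IsConj x t ∧ IsConj x (b * a * b⁻¹ * t)) →
      ∃ t, IsConj x t ∧ IsConj x (a * t) := fun {a} b ⟨t, h1, h2⟩ =>
    ⟨b⁻¹ * t * b, h1.trans (cj_of (a := b⁻¹) (by rw [inv_inv])),
      h2.trans (cj_of (a := b⁻¹) (by group))⟩
  have ax : a * x = x * a := by rw [← e, mul_assoc]
  obtain ⟨n, n1, n2⟩ := H.one.syl (pg4 (by rw [e, H.xx])) fun p hp => cm_zp ax hp
  obtain ⟨k, hk⟩ := H.s.up _ (n2 a (Subgroup.mem_zpowers a))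
  have e1 : n * a * n⁻¹ * (n * a * n⁻¹) = q 0 c0.1 := by
    rw [conj_mul, e, mul_inv_eq_iff_eq_mul.2 n1, H.hx]
  refine bk n ?_
  rcases types H hk (isS_val c0) e1 with b | ⟨u, hu⟩
  · obtain ⟨r, w, k1, -, k2⟩ := caseO H hk (isS_val c0) e1 b
    exact ⟨_, H.qA r k1, k2.1⟩
  · obtain ⟨b, l, hb, rfl⟩ := H.s.lift u
    exact bk b (caseD H (hb.conj hk) ((isS_val c0).smul _) (sq_cj hb e1) (co_conj l k ▸ hu))

theorem Fb0 {a : M} {s : ZMod 2} {w : C} (hy : a * y = y * a) (e : a * a = x) (h1 : IsS w)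
    (h2 : IsS (w + c0.1)) (h3 : a * q s w = q s w * a) : False := by
  obtain ⟨k, hk⟩ := H.s.up a hy
  rw [← H.hx] at e
  obtain ⟨f1, f2⟩ := H.s.cm_q hk h3
  have f0 := (H.s.cm_q hk (t := 0) (c := c0.1) (by rw [← e, mul_assoc])).1
  have fin : ∀ {r w'}, IsS w' → co k • w' = w' + c0.1 → ep (k * qe r w') w ≠ 0 := fun {r w'} a b => by
    have := L2 (isS_val c0) h1 h2 a f0 f1 b
    rw [ep_mul, ep_qe, co_qe, one_smul, f2, add_zero]
    rw [pl_comm] at this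
    exact fun e => zero_ne_one (e.symm.trans this)
  rcases types H hk (isS_val c0) e with b | ⟨u, hu⟩
  · obtain ⟨r, w', k1, k2, k3⟩ := caseO H hk (isS_val c0) e b
    exact fin k1 k2 (H.la_of (hk.mul (H.s.rel_q r w')) (.inl k3) w (by rw [map_mul, co_qe, mul_one, f1]))
  · have tr : ∀ c : C, co k • u⁻¹ • c = u⁻¹ • eD • c := fun c => by
      rw [← hu, mul_smul, mul_smul, inv_smul_smul]
    have fx : ∀ {c : C}, co k • c = c → ∃ d, u • c = d + eD • d := fun {c} hc =>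
      lfE.1.dF _ (by rw [← hu, mul_smul, mul_smul, inv_smul_smul, hc])
    obtain ⟨d, hd⟩ := fx f0
    have s1 : IsS (d + eD • d) := hd ▸ (isS_val c0).smul u
    obtain ⟨w', k1, -, k2⟩ := TD ⟨s1, (evD s1).2⟩
    have k3 : co k • u⁻¹ • w' = u⁻¹ • w' + c0.1 := by
      rw [tr, ← inv_smul_smul u c0.1, ← smul_add, hd, ← k2, ← add_assoc, cc2, zero_add]
    have r := hk.mul (H.s.rel_q 0 (u⁻¹ • w'))
    have i := H.s.i2_of r (by
      rw [H.s.sq_mul hk, e, H.s.mul, show co k⁻¹ • u⁻¹ • w' = u⁻¹ • w' + c0.1 by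
        rw [map_inv, inv_smul_eq_iff, smul_add, k3, f0, add_assoc, cc2, add_zero],
        add_right_comm (u⁻¹ • w'), cc2, zero_add c0.1, cc2]
      exact H.s.q0 _)
    obtain ⟨d', hd'⟩ := fx f1
    have e5 : w = u⁻¹ • d' + co (k * qe 0 (u⁻¹ • w')) • u⁻¹ • d' := by
      rw [map_mul, co_qe, mul_one, tr, ← smul_add, ← hd', inv_smul_smul]
    refine fin (r := 0) (k1.smul _) k3 ?_
    have := bb_isS h1
    rw [e5, bb_add_self, bb_smul_self (co _), zz2, zero_add, ← i.ep_im, ← e5] at this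
    exact this

theorem flip {c : C} (n0 : c ≠ 0) (n1 : c ≠ c0.1) (s t : ZMod 2) :
    ∃ a, a * x = x * a ∧ a * y = y * a ∧ a * q s c * a⁻¹ = q t c := by
  rcases z2_or t s with rfl | rfl
  · exact ⟨1, cm_one, cm_one, by simp⟩
  · obtain ⟨d, d1, d2⟩ := exists_perp_one n0 n1
    exact ⟨q 0 d, H.one.cm_x.2 d1, H.s.cm _ _, by rw [H.s.cj, pl_comm, show pl c d = 1 from d2]⟩

omit H in
theorem aa_ne {w : C} (h2 : IsS (w + c0.1)) : w ≠ c0.1 := fun e => isS_ne h2 (by rw [e, cc2])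

omit H in
theorem aa_pl {w : C} (h1 : IsS w) (h2 : IsS (w + c0.1)) : pl w c0.1 = 0 := by
  have := bb_isS h2
  rwa [bb_add_self, bb_isS h1, bb_S c0, zero_add, zero_add] at this

theorem aa_t2 (s : ZMod 2) {w : C} (h1 : IsS w) (h2 : IsS (w + c0.1)) :
    q s w * x = x * q s w ∧ T2 x x x (q s w) :=
  ⟨H.one.cm_x.2 (aa_pl h1 h2), H.qA s h1, H.one.mul_x s w ▸ H.qA _ h2⟩

theorem aa_of {s : ZMod 2} {w : C} (h : T2 x x x (q s w)) : IsS w ∧ IsS (w + c0.1) :=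
  ⟨H.isS_of h.1, H.isS_of (H.one.mul_x s w ▸ h.2)⟩

theorem trQ (s t : ZMod 2) {c w : C} (h1 : IsS c) (h2 : IsS (c + c0.1)) (h3 : IsS w)
    (h4 : IsS (w + c0.1)) : ∃ n, n * x = x * n ∧ n * y = y * n ∧ n * q s c * n⁻¹ = q t w := by
  obtain ⟨h, e1, e2⟩ := trAA h1 h2 h3 h4
  obtain ⟨g, k, g1, rfl, g2⟩ := H.one.liftX e1
  obtain ⟨u, u1, u2, u3⟩ := flip H (isS_ne h3) (aa_ne h4) (s + ep k c) t
  exact ⟨u * g, cm_mul u1 g2, cm_mul u2 (H.s.rel_cm g1), by rw [← u3, ← e2, ← g1]; group⟩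

/-- The transpositions are conjugate in `C(x)`. -/
theorem trA [Finite M] {a : M} (ha : a * x = x * a) (h : T2 x x x a) (s : ZMod 2) {w : C} (h1 : IsS w)
    (h2 : IsS (w + c0.1)) : ∃ n, n * x = x * n ∧ n * a * n⁻¹ = q s w := by
  obtain ⟨n, t, c, n1, n2⟩ := H.pAA lfE.1 ha h
  have := aa_of H (s := t) (w := c) ⟨h.1.trans (cj_of n2), h.2.trans (cj_of (by rw [cj_mul n1, n2]))⟩
  obtain ⟨u, u1, -, u3⟩ := trQ H t s this.1 this.2 h1 h2
  exact ⟨u * n, cm_mul u1 n1, by rw [← u3, ← n2]; group⟩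

/-- `C(x, t, y)` has odd index in `C(x, t)`. -/
theorem sylE [Finite M] (s : ZMod 2) {w : C} (h1 : IsS w) (h2 : IsS (w + c0.1)) {P : Subgroup M}
    (hP : IsPGroup 2 P) (hx : ∀ p ∈ P, p * x = x * p) (ht : ∀ p ∈ P, p * q s w = q s w * p) :
    ∃ n, n * x = x * n ∧ n * q s w = q s w * n ∧ ∀ p ∈ P, n * p * n⁻¹ * y = y * (n * p * n⁻¹) := by
  have m : ∀ {a b : M}, a ∈ Subgroup.centralizer {b} ↔ a * b = b * a :=
    Subgroup.mem_centralizer_singleton_iff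
  obtain ⟨n, h0, h⟩ := odd_idx (Q := H.s.Q ⊓ (Subgroup.centralizer {x} ⊓ Subgroup.centralizer {q s w}))
    (H := Subgroup.centralizer {y} ⊓ (Subgroup.centralizer {x} ⊓ Subgroup.centralizer {q s w}))
    (L := Subgroup.centralizer {x} ⊓ Subgroup.centralizer {q s w})
    (H.s.pgQ.to_le inf_le_left) (inf_le_inf_right _ (by
      rintro _ ⟨s, c, rfl⟩; exact m.2 (H.s.cm _ _)))
    inf_le_right (fun n hn T k1 k2 k3 => by
      refine ⟨?_, hn⟩
      obtain ⟨r, c, e, hc⟩ := H.one.cenU lfE.1 (u := n⁻¹ * y * n) (aa_pl h1 h2) fun t c c1 c2 => by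
        have := m.1 (k2 (k3 _ (k1 ⟨⟨t, c, rfl⟩, m.2 (H.one.cm_x.2 c1), m.2 (H.s.cm_iff.2 c2)⟩))).1
        calc _ = n⁻¹ * (y * (n * q t c * n⁻¹)) * n := by group
          _ = _ := by rw [← this]; group
      have cy : IsConj y (q r c) := cj_of (a := n⁻¹) (by rw [inv_inv, e])
      rcases hc with rfl | rfl | rfl | rfl
      · rcases H.s.q0 r with f | f <;> rw [f] at e cy
        · exact (H.s.y_ne (isConj_one_left.1 cy)).elim
        · refine m.2 ?_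
          conv_lhs => rw [← e]
          group
      · exact (H.nAB (H.qA r (isS_val c0)) cy).elim
      · exact (H.nAB (H.qA r h1) cy).elim
      · exact (H.nAB (H.qA r (add_comm w _ ▸ h2)) cy).elim)
    hP fun p hp => ⟨m.2 (hx p hp), m.2 (ht p hp)⟩
  exact ⟨n, m.1 h0.1, m.1 h0.2, fun p hp => m.1 (h p hp).1⟩

omit H in
theorem ex_AA : ∃ u v : C, u.1 = 0 ∧ v.1 = 0 ∧ IsS u ∧ IsS (u + c0.1) ∧ u + v ≠ 0 ∧ u + v + c0.1 ≠ 0 ∧
    ¬ IsS (u + v) ∧ ¬ IsS (u + v + c0.1) := by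
  obtain ⟨a, b, u, v, -, -, h1, h2, -, -, h3, h4, -, h5⟩ := ex_trip
  exact ⟨u, v, h1, h2, h3, h4, h5 _ (by simp)⟩

/-- In the centraliser of a pure four-group no element of the four-group is a square. -/
theorem Fb [Finite M] {X T b : M} (hX : IsConj x X) (hT : IsConj x T) (h : IsConj x (T * X))
    (e : b * b = X) (hb : b * T = T * b) : False := by
  obtain ⟨m, rfl⟩ := isConj_iff.1 hX
  have e1 : m⁻¹ * b * m * (m⁻¹ * b * m) = x := by
    calc _ = m⁻¹ * (b * b) * m := by group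
      _ = _ := by rw [e]; group
  have hb1 : m⁻¹ * b * m * (m⁻¹ * T * m) = m⁻¹ * T * m * (m⁻¹ * b * m) := by
    calc _ = m⁻¹ * (b * T) * m := by group
      _ = _ := by rw [hb]; group
  have t1 : T2 x x x (m⁻¹ * T * m) := ⟨hT.trans (cj_of (a := m⁻¹) (by rw [inv_inv])),
    h.trans (cj_of (a := m⁻¹) (by group))⟩
  generalize m⁻¹ * b * m = b at e1 hb1
  generalize m⁻¹ * T * m = T at t1 hb1
  obtain ⟨u, -, -, -, u1, u2, -⟩ := ex_AA
  have bx : b * x = x * b := by rw [← e1, mul_assoc]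
  obtain ⟨n, n1, n2⟩ := trA H (by rw [← e1, ← mul_assoc, ← hb1, mul_assoc, ← hb1, mul_assoc]) t1 0 u1 u2
  have e2 : n * b * n⁻¹ * (n * b * n⁻¹) = x := by rw [conj_mul, e1, mul_inv_eq_iff_eq_mul.2 n1]
  have hb2 : n * b * n⁻¹ * q 0 u = q 0 u * (n * b * n⁻¹) := by rw [← n2, conj_mul, conj_mul, hb1]
  obtain ⟨k, k1, k2, k3⟩ := sylE H 0 u1 u2 (pg4 (by rw [e2, H.xx]))
    (fun p hp => cm_zp (cm_conj n1 bx) hp) fun p hp => cm_zp hb2 hp
  exact Fb0 H (k3 _ (Subgroup.mem_zpowers _)) (by rw [conj_mul, e2, mul_inv_eq_iff_eq_mul.2 k1]) u1 u2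
    (cm_conj k2 hb2)

theorem inQ {a : M} (hy : a * y = y * a) (h1 : IsConj x a) (h2 : IsConj x (a * y)) :
    ∃ s c, a = q s c := by
  obtain ⟨h0, kh, sh, e0, P⟩ := H.exists_h lfE.1
  rcases H.cls lfE.1 P hy (sq_of_cj h1 H.xx) with b | b | b
  · exact b
  · rcases b.t2 H.s.yy (H.h_ab P) with b | b
    exacts [(H.nAB h2 b.2).elim, (H.nAB h1 b.1).elim]
  · exact (H.nAB h1 b.1).elim

theorem sqY : ∃ r, r * x = x * r ∧ r * r = y := by
  obtain ⟨v, v1, v2⟩ := ex_ns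
  exact ⟨q 0 v, H.one.cm_x.2 v2, by rw [H.s.sq, v1, H.s.one]⟩

theorem sqB : ∃ r, r * x = x * r ∧ T2 y y x (r * r) := by
  obtain ⟨h, kh, sh, e0, P⟩ := H.exists_h lfE.1
  obtain ⟨c, e, c1, c2, c3, c4⟩ := ex_sq
  obtain ⟨a, a1, a2⟩ := H.s.trS 0 0 c1 (isS_val c0)
  rw [H.hx] at a2
  have f : co kh • c = c := by rw [P.ac, c2]
  have hc := P.rel 0 c
  rw [f, H.h_la P c f, add_zero] at hc
  have k : ∀ t u, u ∈ [eO • e + e, eO • e + e + c] → IsConj y (a * q t u * a⁻¹) := fun t u hu =>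
    (H.qB t (c4 u hu).2.1 (bb_fst (c4 u hu).1 _) (c4 u hu).2.2).trans (cj_of rfl)
  refine ⟨a * (h * q 0 e) * a⁻¹, ?_, ?_⟩
  · rw [← a2, conj_mul, conj_mul, cm_mul (mul_inv_eq_iff_eq_mul.1 hc) (H.s.cm_iff.2 c3)]
  · rw [conj_mul, H.s.sq_mul P.rel, H.h_sq P, one_mul, inv_ac P.ac sqO]
    exact ⟨k _ _ (by simp), by rw [← a2, conj_mul, H.s.mul]; exact k _ _ (by simp)⟩

theorem exT : ∃ f k, Rel q f k ∧ Ac (co k) eO ∧ f * x = x * f ∧ T2 x x x f := by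
  obtain ⟨h, kh, sh, e0, P⟩ := H.exists_h lfE.1
  have f : co kh • c0.1 = c0.1 := by rw [P.ac, eO_c0]
  have hc := P.rel 0 c0.1
  rw [f, H.h_la P _ f, add_zero, H.hx, mul_inv_eq_iff_eq_mul] at hc
  rcases (H.s.pc (k' := kh) (g' := h * x) (t := 0) (d := dec 2031618) P.rel (H.h_i2 P) (by
    rw [P.ac, ← c0_im, H.hx])).t2 H.s.yy (H.h_ab P) with b | b
  · exact ⟨h, kh, P.rel, P.ac, hc, (H.h_ab P).1, b.1⟩
  · obtain ⟨d, hd⟩ := exists_polar_one (isS_ne (isS_val c0))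
    have e : q 0 d * (x * y) * (q 0 d)⁻¹ = x := by
      rw [← H.hx, H.s.mul_y, H.s.cj, pl_comm, show pl c0.1 d = 1 from hd]; rfl
    refine ⟨_, _, (H.s.rel_q 0 d).conj P.rel, fun c => by
      rw [co_conj, co_qe, one_mul, inv_one, mul_one, P.ac], ?_, (H.h_ab P).1.trans (cj_of rfl),
      b.2.trans (cj_of (a := q 0 d) (by rw [mul_assoc h, ← conj_mul, e]))⟩
    conv_lhs => rw [← e]
    conv_rhs => rw [← e]
    rw [conj_mul, conj_mul, ← mul_assoc h, hc, mul_assoc x, H.s.rel_cm P.rel, mul_assoc x]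

/-- Every involution of `C(x) / ⟨x⟩` commutes with a transposition. -/
theorem cmA [Finite M] {a : M} (ha : a * x = x * a) (h : a * a = 1 ∨ a * a = x) :
    ∃ t, t * x = x * t ∧ T2 x x x t ∧ (a * t = t * a ∨ a * t = t * a * x) := by
  obtain ⟨u, v, u0, v0, u1, u2, k⟩ := ex_AA
  obtain ⟨t1, t2⟩ := aa_t2 H 0 u1 u2
  have bk : ∀ {n b : M}, n * x = x * n → n * a * n⁻¹ = b → b * q 0 u = q 0 u * b →
      ∃ t, t * x = x * t ∧ T2 x x x t ∧ (a * t = t * a ∨ a * t = t * a * x) := fun {n b} n1 n2 n3 =>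
    ⟨n⁻¹ * q 0 u * n, cm_mul (cm_mul (cm_inv n1) t1) n1, T2.of n1 (by
      rwa [show n * (n⁻¹ * q 0 u * n) * n⁻¹ = q 0 u by group]), .inl (by
      calc _ = n⁻¹ * (n * a * n⁻¹ * q 0 u) * n := by group
        _ = _ := by rw [n2, n3, ← n2]; group)⟩
  rcases h with h | h
  · rcases H.ty lfE.1 ha h with (rfl | rfl) | b | (b | b) | b
    · exact ⟨_, t1, t2, .inl cm_one⟩
    · exact ⟨_, t1, t2, .inl t1.symm⟩
    · exact ⟨a, ha, b, .inl rfl⟩
    · obtain ⟨n, n1, n2⟩ := H.pAB lfE.1 (s := a * x) (cm_mul ha rfl)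
        ⟨b.2, by rw [mul_assoc, H.xx, mul_one]; exact b.1⟩
      refine bk (b := y * x) n1 (by rw [← n2, cj_mul n1, mul_assoc _ x, H.xx, mul_one]) ?_
      exact cm_mul (H.s.cm _ _).symm t1.symm
    · obtain ⟨n, n1, n2⟩ := H.pAB lfE.1 ha b
      exact bk n1 n2 (H.s.cm _ _).symm
    · have uv : (u + v).1 = 0 := by rw [Prod.fst_add, u0, v0, add_zero]
      obtain ⟨b1, b2⟩ := H.bbQ 0 ⟨uv, k⟩
      obtain ⟨n, n1, n2⟩ := H.pBB lfE.1 ha b b1 b2
      exact bk n1 n2 (H.s.cm_iff.2 (pl_fst uv u0))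
  · obtain ⟨t, k1, k2⟩ := Fa H h
    have s1 := sq_of_cj k1 H.xx
    have s2 := sq_of_cj k2 H.xx
    have e1 : t * a * t = a⁻¹ := eq_inv_of_mul_eq_one_right (by rw [← s2]; group)
    have ti : t⁻¹ = t := inv_eq_of_mul_eq_one_right s1
    have ai : a⁻¹ = a * x := inv_eq_of_mul_eq_one_right (by rw [← mul_assoc, h, H.xx])
    have tx : t * x = x * t := by
      refine mul_inv_eq_iff_eq_mul.1 ?_
      rw [← h, ← conj_mul, ti, e1, ← mul_inv_rev, h]
      exact inv_eq_of_mul_eq_one_right H.xx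
    have e2 : a * t = t * a * x := by
      rw [mul_assoc t, ← ai, ← e1, ← mul_assoc, ← mul_assoc, s1, one_mul]
    exact ⟨t, tx, ⟨k1, k1.trans (cj_of (a := a) (by rw [e2, mul_assoc _ x, ← (cm_inv ha), ← mul_assoc,
      mul_inv_cancel_right]))⟩, .inr e2⟩

end H10.Mon.MG.BO
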