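import Mathlib
import Cfsg.Agent.H10.BO2
import Cfsg.Agent.H9.MB4

/-!
# A Baby Monster that contains the centraliser of a transposition
-/

set_option autoImplicit false
set_option linter.all false

namespace H10.Mon.MG.BO

open H10.Mon.LFt (eO eD s0 sqO)

theorem ncl2 (K : Subgroup G0) (h1 : neg1 ∈ K) (h2 : ∀ u : G0, u • c0.1 = c0.1 → u * eO * u⁻¹ ∈ K)
    {h : G0} (hh : h • c0.1 = c0.1) : h ∈ K := by
  haveI := simple_C2'
  have st : ∀ {h : G0}, h • c0.1 = c0.1 → ∃ u : MulAction.stabilizer G0 vU', u.1 = h ∨ u.1 = neg1 * h :=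
    fun {h} e => by
      rcases fix_c0.1 e with h1 | h1
      · exact ⟨⟨h, h1⟩, .inl rfl⟩
      · exact ⟨⟨neg1 * h, by rw [MulAction.mem_stabilizer_iff, mul_smul, h1, neg1_smul, neg_neg]⟩, .inr rfl⟩
  obtain ⟨e, he⟩ := st eO_c0
  have m : e ∈ (K.subgroupOf (MulAction.stabilizer G0 vU')).normalCore := fun u => by
    have := h2 u.1 (fix_c0.2 (.inl u.2))
    rw [Subgroup.mem_subgroupOf]
    change u.1 * e.1 * u.1⁻¹ ∈ K
    rcases he with he | he <;> rw [he]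
    · exact this
    · rw [← mul_assoc, neg1_comm, mul_assoc neg1, mul_assoc neg1]
      exact mul_mem h1 this
  rcases (K.subgroupOf (MulAction.stabilizer G0 vU')).normalCore_normal.eq_bot_or_eq_top with k | k
  · obtain ⟨d, -, -, -, hd, -⟩ := ex_tri
    rw [k, Subgroup.mem_bot] at m
    subst m
    refine (isS_ne hd ?_).elim
    rcases he with he | he
    · rw [← he]; exact (congrArg _ (one_smul _ _)).trans (cc2 d)
    · rw [← neg1_smul_C (eO • d), ← mul_smul, ← he]; exact (congrArg _ (one_smul _ _)).trans (cc2 d)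
  · obtain ⟨u, hu⟩ := st hh
    have : u ∈ K.subgroupOf (MulAction.stabilizer G0 vU') :=
      Subgroup.normalCore_le _ (k ▸ Subgroup.mem_top u)
    rw [Subgroup.mem_subgroupOf] at this
    rcases hu with hu | hu <;> rw [hu] at this
    · exact this
    · simpa using mul_mem (inv_mem h1) this

theorem irrV (W : AddSubgroup C) (h0 : ∀ c ∈ W, pl c c0.1 = 0) (hc0 : c0.1 ∈ W)
    (h1 : ∀ h : G0, h • c0.1 = c0.1 → ∀ c ∈ W, h • c ∈ W) (h2 : ∀ c ∈ W, IsS c → ¬ IsS (c + c0.1))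
    {c : C} (hc : c ∈ W) : c = 0 ∨ c = c0.1 := by
  have tr : ∀ {d}, cA d → ∃ h : G0, h • c0.1 = c0.1 ∧ h • d = c0.1 + Om := fun h =>
    tr_perp h.1 h.2.1 h.2.2.1 h.2.2.2
  have nA : ∀ c ∈ W, ¬ cA c := fun c hc a => by
    obtain ⟨h, e1, e2⟩ := tr a
    obtain ⟨u, -, -, -, u1, u2, -⟩ := ex_AA
    refine h2 u (span_cA W (fun d hd => ?_) (aa_pl u1 u2)) u1 u2
    obtain ⟨h', e3, e4⟩ := tr hd
    have := h1 h'⁻¹ (inv_smul_eq_iff.2 e3.symm) _ (h1 h e1 c hc)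
    rwa [e2, ← e4, inv_smul_smul] at this
  have k : ∀ c ∈ W, eO • c = c ∨ eO • c = c + c0.1 := fun c hc => by
    have m := W.add_mem hc (h1 eO eO_c0 c hc)
    have k0 : c + eO • c = 0 ∨ c + eO • c = c0.1 := by
      by_contra hn
      push Not at hn
      rcases t63 (h0 c hc) with e | e | e | e
      · exact hn.1 e
      · exact hn.2 e
      · exact nA _ m ⟨e, h0 _ m, hn.2, h2 _ m e⟩
      · exact nA _ (W.add_mem m hc0) ⟨e, h0 _ (W.add_mem m hc0), fun e => hn.1 (by simpa using e),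
          h2 _ (W.add_mem m hc0) e⟩
    exact k0.imp (fun e => (add_eq_zero_C.1 e).symm) fun e => by rw [← e, ← add_assoc, cc2, zero_add]
  have f : ∀ h : G0, h • c0.1 = c0.1 → h • c0.1 = c0.1 ∧ (h • c = c ∨ h • c = c + c0.1) := fun h hh =>
    ncl2 (K :=
      { carrier := {h | h • c0.1 = c0.1 ∧ (h • c = c ∨ h • c = c + c0.1)}
        one_mem' := ⟨one_smul _ _, .inl (one_smul _ _)⟩
        mul_mem' := by
          rintro a b ⟨a1, a2 | a2⟩ ⟨b1, b2 | b2⟩ <;> refine ⟨by rw [mul_smul, b1, a1], ?_⟩ <;>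
            simp only [mul_smul, a1, a2, b2, smul_add, add_assoc, cc2, add_zero, true_or, or_true]
        inv_mem' := by
          rintro a ⟨a1, a2 | a2⟩ <;> refine ⟨inv_smul_eq_iff.2 a1.symm, ?_⟩
          · exact .inl (inv_smul_eq_iff.2 a2.symm)
          · exact .inr (inv_smul_eq_iff.2 (by rw [smul_add, a1, a2, add_assoc, cc2, add_zero])) })
      ⟨neg1_smul_C _, .inl (neg1_smul_C _)⟩ (fun u hu => by
        have u1 : u⁻¹ • c0.1 = c0.1 := inv_smul_eq_iff.2 hu.symm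
        refine ⟨by rw [mul_smul, mul_smul, u1, eO_c0, hu], ?_⟩
        rw [mul_smul, mul_smul]
        exact (k _ (h1 u⁻¹ u1 c hc)).imp (fun e => by rw [e, smul_inv_smul])
          fun e => by rw [e, smul_add, smul_inv_smul, hu]) hh
  have g : ∀ d, cA d → pl c d = pl c (c0.1 + Om) := fun d hd => by
    obtain ⟨h, e1, e2⟩ := tr hd
    rw [← pl_smul h c d, e2]
    rcases (f h e1).2 with e | e <;> rw [e]
    rw [pl_add' c, pl_comm c0.1, cA_Om.2.1, add_zero]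
  have z : pl c (c0.1 + Om) = 0 := by
    have := pl_add c (dec 1) (dec 8)
    rwa [g _ cA_tri.1, g _ cA_tri.2.1, g _ cA_tri.2.2, zz2] at this
  exact perp_perp (e := c) fun d hd => span_cA
    { carrier := {d | pl c d = 0}
      zero_mem' := pl_zero c
      add_mem' := fun {a b} ha hb => by rw [Set.mem_setOf_eq, pl_add, ha, hb, add_zero]
      neg_mem' := fun {a} ha => by rwa [neg_eq_iff_add_eq_zero.2 (cc2 a)] }
    (fun d hd => (g d hd).trans z) hd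

variable {M : Type*} [Group M] {x y γ : M} {q : ZMod 2 → C → M}

theorem t2_cj {a f : M} (ha : a * x = x * a) (h : T2 x x x f) : T2 x x x (a * f * a⁻¹) :=
  ⟨h.1.trans (cj_of rfl), h.2.trans (cj_of (cj_mul ha))⟩

theorem noB (H : Two x y q γ) (B : Subgroup M) (b1 : ∀ b ∈ B, b * x = x * b) (bx : x ∈ B)
    (b2 : ∀ s c, IsS c → IsS (c + c0.1) → q s c ∉ B)
    (b3 : ∀ f, f * x = x * f → f * y = y * f → T2 x x x f →
      ∃ s c, IsS c ∧ IsS (c + c0.1) ∧ q s c * f ∈ B) : False := by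
  obtain ⟨h, k, hk, ac, hx, hA⟩ := exT H
  have i := H.s.i2_of hk (.inl (sq_of_cj hA.1 H.xx))
  have n : ∀ u : G0, u • c0.1 = c0.1 → ∃ b ∈ B, ∃ l, Rel q b l ∧ Ac (co l) u := fun u hu => ncl2
    (K := { carrier := {u | ∃ b ∈ B, ∃ l, Rel q b l ∧ Ac (co l) u}
            one_mem' := ⟨1, one_mem _, 1, Rel.one, fun c => by rw [map_one]⟩
            mul_mem' := by
              rintro _ _ ⟨g, g1, k, g2, g3⟩ ⟨g', g1', k', g2', g3'⟩
              exact ⟨_, mul_mem g1 g1', _, g2.mul g2', fun c => by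
                rw [map_mul, mul_smul, mul_smul, g3', g3]⟩
            inv_mem' := by
              rintro a ⟨g, g1, k, g2, g3⟩
              exact ⟨_, inv_mem g1, _, g2.inv, fun c => by
                rw [map_inv, inv_smul_eq_iff, g3, smul_inv_smul]⟩ })
    ⟨1, one_mem _, 1, Rel.one, fun c => by rw [map_one, one_smul, neg1_smul_C]⟩ (fun u hu => by
      obtain ⟨a, l, ha, rfl, ax⟩ := H.one.liftX hu
      obtain ⟨s, c, -, -, e⟩ := b3 _ (cm_conj ax hx) (H.s.rel_cm (ha.conj hk)) (t2_cj ax hA)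
      exact ⟨_, e, _, (H.s.rel_q s c).mul (ha.conj hk), by
        rw [map_mul, co_qe, one_mul, co_conj]; exact ac.conj _⟩) hu
  have w : ∀ s c, q s c ∈ B → c = 0 ∨ c = c0.1 := fun s c hc => irrV
    { carrier := {c | ∃ s, q s c ∈ B}
      zero_mem' := ⟨0, H.s.zero ▸ one_mem _⟩
      add_mem' := fun ⟨_, a⟩ ⟨_, b⟩ => ⟨_, H.s.mul _ _ _ _ ▸ mul_mem a b⟩
      neg_mem' := fun {a} ha => by rwa [neg_eq_iff_add_eq_zero.2 (cc2 a)] }
    (fun c ⟨s, hc⟩ => H.one.cm_x.1 (b1 _ hc)) ⟨0, H.hx ▸ bx⟩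
    (by
      rintro u hu c ⟨s, hc⟩
      obtain ⟨b, b1, l, l1, l2⟩ := n u hu
      exact ⟨_, l2 c ▸ l1 s c ▸ mul_mem (mul_mem b1 hc) (inv_mem b1)⟩)
    (fun c ⟨s, hc⟩ h1 h2 => b2 s c h1 h2 hc) ⟨s, hc⟩
  obtain ⟨s, c, c1, -, c2⟩ := b3 h hx (H.s.rel_cm hk) hA
  have z : ∀ d, pl d c0.1 = 0 → IsS (c + (d + eO • d)) := fun d hd => by
    obtain ⟨r, e⟩ := H.s.qconj hk i 0 0 d
    rw [H.s.zero, mul_one, zero_add] at e
    have dx := (H.one.cm_x (t := 0)).2 hd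
    obtain ⟨s', c', c3, c5, c4⟩ := b3 _ (cm_conj dx hx) (H.s.rel_cm ((H.s.rel_q _ _).conj hk)) (t2_cj dx hA)
    have := mul_mem c4 (inv_mem c2)
    rw [e, show ∀ u v w : M, u * (h * v) * (w * h)⁻¹ = u * (h * v * h⁻¹) * w⁻¹ from fun u v w => by group,
      hk, im_fix i, H.s.q_inv, H.s.mul, H.s.mul, ac] at this
    rcases w _ _ this with e | e
    · rwa [add_comm, ← add_eq_zero_C.1 ((add_assoc _ _ _).symm.trans e)]
    · rwa [← e, add_assoc c', ← add_assoc c', cc2, zero_add, add_comm] at c5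
  obtain ⟨d, e, d0, e0, d1, d2, d3⟩ := ex_tri
  obtain ⟨u, hu⟩ := trans_S (toS c c1) c0
  have hu : u • c = c0.1 := congrArg Subtype.val hu
  have z' : ∀ d, pl d c0.1 = 0 → IsS (u • (d + eO • d) + c0.1) := fun d hd => by
    rw [← hu, ← smul_add, add_comm]; exact (z d hd).smul u
  refine no_tri (d1.smul u) (z' d d0) (d2.smul u) (z' e e0) (by rw [← smul_add]; exact d3.smul u) ?_
  have := z' (d + e) (by rw [pl_add', d0, e0, add_zero])
  rwa [smul_add eO, add_add_add_comm, smul_add] at this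

theorem Fa2 [Finite M] (H : Two x y q γ) {a : M} (h : a * a = x) :
    ∃ t, t * x = x * t ∧ T2 x x x t ∧ T2 x x x (a * t) ∧ a * t = t * a * x := by
  have ha : a * x = x * a := by rw [← h, mul_assoc]
  obtain ⟨t, k1, k2⟩ := Fa H h
  have s1 := sq_of_cj k1 H.xx
  have s2 := sq_of_cj k2 H.xx
  have e1 : t * a * t = a⁻¹ := eq_inv_of_mul_eq_one_right (by rw [← s2]; group)
  have ti : t⁻¹ = t := inv_eq_of_mul_eq_one_right s1
  have ai : a⁻¹ = a * x := inv_eq_of_mul_eq_one_right (by rw [← mul_assoc, h, H.xx])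
  have tx : t * x = x * t := by
    refine mul_inv_eq_iff_eq_mul.1 ?_
    rw [← h, ← conj_mul, ti, e1, ← mul_inv_rev, h]
    exact inv_eq_of_mul_eq_one_right H.xx
  have e2 : a * t = t * a * x := by
    rw [mul_assoc t, ← ai, ← e1, ← mul_assoc, ← mul_assoc, s1, one_mul]
  refine ⟨t, tx, ⟨k1, k1.trans (cj_of (a := a) (by rw [e2, mul_assoc _ x, ← (cm_inv ha), ← mul_assoc,
    mul_inv_cancel_right]))⟩, ⟨k2, k2.trans (cj_of (a := t) ?_)⟩, e2⟩
  conv_rhs => rw [e2, mul_assoc _ x, H.xx, mul_one]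
  group

variable {G : Type*} [Group G] {Φ : M → G}

/-- A homomorphism on `C(x)` with kernel `⟨x⟩`. -/
structure Qm (x : M) (Φ : M → G) : Prop where
  mul : ∀ {a b}, a * x = x * a → b * x = x * b → Φ (a * b) = Φ a * Φ b
  ker : ∀ {a}, a * x = x * a → (Φ a = 1 ↔ a = 1 ∨ a = x)

namespace Qm
variable (Q : Qm x Φ)
include Q

theorem one : Φ 1 = 1 := (Q.ker cm_one).2 (.inl rfl)
theorem hx : Φ x = 1 := (Q.ker rfl).2 (.inr rfl)
theorem inv {a : M} (ha : a * x = x * a) : Φ a⁻¹ = (Φ a)⁻¹ :=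
  eq_inv_of_mul_eq_one_left (by rw [← Q.mul (cm_inv ha) ha, inv_mul_cancel, Q.one])
theorem conj {a b : M} (ha : a * x = x * a) (hb : b * x = x * b) :
    Φ (a * b * a⁻¹) = Φ a * Φ b * (Φ a)⁻¹ := by
  rw [Q.mul (cm_mul ha hb) (cm_inv ha), Q.mul ha hb, Q.inv ha]
theorem mulx {a : M} (ha : a * x = x * a) : Φ (a * x) = Φ a := by rw [Q.mul ha rfl, Q.hx, mul_one]
theorem eq {a b : M} (ha : a * x = x * a) (hb : b * x = x * b) (e : Φ a = Φ b) : a = b ∨ a = b * x := by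
  have := (Q.ker (cm_mul (cm_inv hb) ha)).1 (by rw [Q.mul (cm_inv hb) ha, Q.inv hb, e, inv_mul_cancel])
  rwa [inv_mul_eq_iff_eq_mul, inv_mul_eq_iff_eq_mul, mul_one] at this
theorem cj {a b n : M} (hn : n * x = x * n) (ha : a * x = x * a) (e : n * a * n⁻¹ = b) :
    IsConj (Φ a) (Φ b) := cj_of (a := Φ n) (by rw [← Q.conj hn ha, e])
theorem cm {a b : M} (ha : a * x = x * a) (hb : b * x = x * b) (e : a * b = b * a ∨ a * b = b * a * x) :
    Φ a * Φ b = Φ b * Φ a := by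
  rw [← Q.mul ha hb, ← Q.mul hb ha]
  rcases e with e | e <;> rw [e]
  exact Q.mulx (cm_mul hb ha)

/-- The image. -/
def R : Subgroup G where
  carrier := {g | ∃ a, a * x = x * a ∧ Φ a = g}
  one_mem' := ⟨1, cm_one, Q.one⟩
  mul_mem' := by
    rintro _ _ ⟨a, a1, rfl⟩ ⟨b, b1, rfl⟩
    exact ⟨_, cm_mul a1 b1, Q.mul a1 b1⟩
  inv_mem' := by
    rintro _ ⟨a, a1, rfl⟩
    exact ⟨_, cm_inv a1, Q.inv a1⟩

theorem mem {a : M} (ha : a * x = x * a) : Φ a ∈ Q.R := ⟨a, ha, rfl⟩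

variable [Finite M] (H : Two x y q γ) {s : ZMod 2} {w : C} (h1 : IsS w) (h2 : IsS (w + c0.1))
  (sur : ∀ g, g * Φ (q s w) = Φ (q s w) * g → g ∈ Q.R)
include H h1 h2 sur

theorem nsq {g : G} (h : IsConj (Φ (q s w)) (g * g)) : False := by
  obtain ⟨t1, t2⟩ := aa_t2 H s h1 h2
  obtain ⟨k, hk⟩ := isConj_iff.1 h.symm
  rw [← conj_mul] at hk
  obtain ⟨b, b1, b2⟩ := sur (k * g * k⁻¹) (by rw [← hk]; group)
  rw [← b2, ← Q.mul b1 b1] at hk
  rcases Q.eq (cm_mul b1 b1) t1 hk with e | e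
  · exact Fb H t2.1 (IsConj.refl x) (t1 ▸ t2.2) e b1
  · exact Fb H t2.2 (IsConj.refl x) (by rw [t1, ← mul_assoc, H.xx, one_mul]; exact t2.1) e b1

theorem ncy : ¬ IsConj (Φ (q s w)) (Φ y) := fun h => by
  obtain ⟨r, r1, r2⟩ := sqY H
  exact Q.nsq H h1 h2 sur (by rwa [← Q.mul r1 r1, r2])

theorem inv1 {a : M} (ha : a * x = x * a) (sq : a * a = 1) (h : IsConj (Φ (q s w)) (Φ a)) :
    T2 x x x a := by
  rcases H.ty lfE.1 ha sq with e | b | (b | b) | b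
  · exact (Q.nsq H h1 h2 sur (g := 1) (by rwa [one_mul, ← (Q.ker ha).2 e])).elim
  · exact b
  · obtain ⟨n, n1, n2⟩ := H.pAB lfE.1 (s := a * x) (cm_mul ha rfl)
      ⟨b.2, by rw [mul_assoc, H.xx, mul_one]; exact b.1⟩
    exact (Q.ncy H h1 h2 sur (h.trans (Q.mulx ha ▸ Q.cj n1 (cm_mul ha rfl) n2))).elim
  · obtain ⟨n, n1, n2⟩ := H.pAB lfE.1 ha b
    exact (Q.ncy H h1 h2 sur (h.trans (Q.cj n1 ha n2))).elim
  · obtain ⟨r, r1, r2⟩ := sqB H
    obtain ⟨n, n1, n2⟩ := H.pBB lfE.1 ha b (cm_mul r1 r1) r2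
    exact (Q.nsq H h1 h2 sur (h.trans (Q.mul r1 r1 ▸ Q.cj n1 ha n2))).elim

omit sur in
theorem cjA {a : M} (ha : a * x = x * a) (h : T2 x x x a) : IsConj (Φ (q s w)) (Φ a) := by
  obtain ⟨n, n1, n2⟩ := trA H ha h s h1 h2
  exact (Q.cj n1 ha n2).symm

theorem surA {a : M} (ha : a * x = x * a) (h : T2 x x x a) {g : G} (hg : g * Φ a = Φ a * g) :
    g ∈ Q.R := by
  obtain ⟨n, n1, n2⟩ := trA H ha h s h1 h2
  have := sur (Φ n * g * (Φ n)⁻¹) (by rw [← n2, Q.conj n1 ha, conj_mul, conj_mul, hg])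
  simpa [mul_assoc] using mul_mem (mul_mem (inv_mem (Q.mem n1)) this) (Q.mem n1)

omit sur in
theorem sq2 {a : M} (ha : a * x = x * a) (h : IsConj (Φ (q s w)) (Φ a)) : a * a = 1 ∨ a * a = x := by
  obtain ⟨t1, t2⟩ := aa_t2 H s h1 h2
  refine (Q.ker (cm_mul ha ha)).1 ?_
  rw [Q.mul ha ha]
  exact sq_of_cj h (by rw [← Q.mul t1 t1, sq_of_cj t2.1 H.xx, Q.one])

theorem clA {a : M} (ha : a * x = x * a) (h : IsConj (Φ (q s w)) (Φ a)) : T2 x x x a := by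
  obtain ⟨t1, t2⟩ := aa_t2 H s h1 h2
  refine Q.inv1 H h1 h2 sur ha ((Q.sq2 H h1 h2 ha h).resolve_right fun sq => ?_) h
  obtain ⟨g, hg⟩ := isConj_iff.1 h.symm
  have key : ∀ {t b}, t * x = x * t → T2 x x x t → b * x = x * b → g * Φ t * g⁻¹ = Φ b → b * b = 1 →
      False := fun {t b} k1 k2 k3 k4 k5 => by
    obtain ⟨n1, a1, a2⟩ := trA H k3 (Q.inv1 H h1 h2 sur k3 k5
      ((Q.cjA H h1 h2 k1 k2).trans (cj_of k4))) s h1 h2
    obtain ⟨n2, c1, c2⟩ := trA H k1 k2 s h1 h2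
    have n0 := cm_mul (cm_inv c1) a1
    have e : n2⁻¹ * n1 * b * (n2⁻¹ * n1)⁻¹ = t := by
      calc _ = n2⁻¹ * (n1 * b * n1⁻¹) * n2 := by group
        _ = _ := by rw [a2, ← c2]; group
    generalize n2⁻¹ * n1 = n at n0 e
    obtain ⟨m, m1, m2⟩ := Q.surA H h1 h2 sur k1 k2 (g := Φ n * g) (mul_inv_eq_iff_eq_mul.1 (by
      conv_rhs => rw [← e, Q.conj n0 k3, ← k4]
      group))
    have e1 : m * a * m⁻¹ * (m * a * m⁻¹) = x := by rw [conj_mul, sq, mul_inv_eq_iff_eq_mul.2 m1]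
    have e2 := sq_of_cj (t2_cj n0 t2).1 H.xx
    have e3 := sq_of_cj (t2_cj n0 t2).2 H.xx
    rcases Q.eq (cm_conj m1 ha) (cm_conj n0 t1) (by
      rw [Q.conj m1 ha, Q.conj n0 t1, m2, ← hg]; group) with e | e <;> rw [e] at e1
    exacts [H.x_ne (e1.symm.trans e2), H.x_ne (e1.symm.trans e3)]
  obtain ⟨t, k1, k2, k3, k4⟩ := Fa2 H sq
  have c := Q.cm ha k1 (.inr k4)
  obtain ⟨b, b1, b2⟩ := sur (g * Φ t * g⁻¹) (by rw [← hg, conj_mul, conj_mul, c])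
  rcases Q.sq2 (s := s) H h1 h2 b1 ((Q.cjA (s := s) H h1 h2 k1 k2).trans (cj_of b2.symm)) with e | e
  · exact key k1 k2 b1 b2.symm e
  · rcases Q.eq (cm_mul b1 t1) (cm_mul t1 b1) (by
      rw [Q.mul b1 t1, Q.mul t1 b1, b2, ← hg, conj_mul, conj_mul, c]) with f | f
    · exact Fb H (IsConj.refl x) t2.1 t2.2 e f
    · refine key (cm_mul ha k1) k3 (cm_mul t1 b1) (by
        rw [Q.mul ha k1, Q.mul t1 b1, b2, ← hg, conj_mul]) ?_
      rw [mul_assoc, ← mul_assoc b, f, mul_assoc _ x, ← b1, ← mul_assoc, ← mul_assoc, ← mul_assoc,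
        sq_of_cj t2.1 H.xx, one_mul, e, H.xx]

theorem back {a : M} (ha : a * x = x * a) (h : T2 x x x a) {g : G} (hg : g * Φ a * g⁻¹ ∈ Q.R) :
    g ∈ Q.R := by
  obtain ⟨b, b1, b2⟩ := hg
  obtain ⟨n, n1, n2⟩ := trA H ha h s h1 h2
  obtain ⟨m, m1, m2⟩ := trA H b1 (Q.clA H h1 h2 sur b1
    ((Q.cjA H h1 h2 ha h).trans (cj_of b2.symm))) s h1 h2
  have := sur (Φ m * g * (Φ n)⁻¹) (mul_inv_eq_iff_eq_mul.1 (by
    conv_lhs => rw [← n2, Q.conj n1 ha]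
    rw [← m2, Q.conj m1 b1, b2]; group))
  simpa [mul_assoc] using mul_mem (mul_mem (inv_mem (Q.mem m1)) this) (Q.mem n1)

theorem cy [Finite G] {g : G} (hg : g * Φ y = Φ y * g) : g ∈ Q.R := by
  obtain ⟨t1, t2⟩ := aa_t2 H s h1 h2
  have yx : y * x = x * y := H.one.yx
  have st : ∀ a g : G, a • (g : G ⧸ Q.R) = g ↔ g⁻¹ * a * g ∈ Q.R := fun a g => by
    rw [MulAction.Quotient.smul_coe, smul_eq_mul, eq_comm, QuotientGroup.eq, mul_assoc]
  have st1 : ∀ a : G, a • ((1 : G) : G ⧸ Q.R) = (1 : G) ↔ a ∈ Q.R := fun a => by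
    rw [st, inv_one, one_mul, mul_one]
  have U : ∀ {a}, IsConj (Φ (q s w)) a → ∀ {ω ω' : G ⧸ Q.R}, a • ω = ω → a • ω' = ω' → ω' = ω := by
    intro a ha
    obtain ⟨g, rfl⟩ := isConj_iff.1 ha
    suffices ∀ ω : G ⧸ Q.R, (g * Φ (q s w) * g⁻¹) • ω = ω → ω = g from
      fun {_ _} h h' => (this _ h').trans (this _ h).symm
    intro ω
    induction ω using QuotientGroup.induction_on with
    | H u => exact fun h => QuotientGroup.eq.2 (Q.back H h1 h2 sur t1 t2 (by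
        simpa only [mul_inv_rev, inv_inv, mul_assoc] using (st _ _).1 h))
  have tt : Φ (q s w) * Φ (q s w) = 1 := by rw [← Q.mul t1 t1, sq_of_cj t2.1 H.xx, Q.one]
  by_contra hn
  refine noB H
    { carrier := {b | b * x = x * b ∧ Φ b • (g : G ⧸ Q.R) = g}
      one_mem' := ⟨cm_one, by rw [Q.one, one_smul]⟩
      mul_mem' := fun a b => ⟨cm_mul a.1 b.1, by rw [Q.mul a.1 b.1, mul_smul, b.2, a.2]⟩
      inv_mem' := fun a => ⟨cm_inv a.1, by rw [Q.inv a.1, inv_smul_eq_iff, a.2]⟩ }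
    (fun b hb => hb.1) ⟨rfl, by rw [Q.hx, one_smul]⟩ (fun r c c1 c2 hb => hn ?_) fun f f0 f2 f1 => ?_
  · simpa using QuotientGroup.eq.1 (U (Q.cjA H h1 h2 hb.1 (aa_t2 H r c1 c2).2) hb.2
      ((st1 _).2 (Q.mem hb.1)))
  have A : IsConj (Φ (q s w)) (g * Φ (q s w) * g⁻¹) := cj_of rfl
  have a1 : (g * Φ (q s w) * g⁻¹) • (g : G ⧸ Q.R) = g := (st _ _).2 ⟨_, t1, by group⟩
  have a2 := (st1 (Φ f)).2 (Q.mem f0)
  have F := Q.cjA (s := s) H h1 h2 f0 f1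
  obtain ⟨m, m1, m2⟩ := MB.dihx (sq_of_cj A tt) a1 a2 (fun _ => U A a1) (fun _ => U F a2) (sq_of_cj F tt)
  have c1 := cm_conj hg (Q.cm t1 yx (.inl (H.s.cm s w)))
  have c2 := cm_pow (cm_mul c1 (Q.cm f0 yx (.inl f2))) m
  obtain ⟨a, ax, ha⟩ := (st1 _).1 m1
  have ay : a * y = y * a := by
    refine mul_inv_eq_iff_eq_mul.1 (H.one.eq_y (cj_of rfl) ?_)
    rcases Q.eq (cm_conj ax yx) yx (by
      rw [Q.conj ax yx, ha, mul_inv_eq_iff_eq_mul.2 (cm_conj c2 c1)]) with e | e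
    exacts [.inr (.inl e), .inr (.inr (.inr e))]
  have A1 := Q.clA H h1 h2 sur ax (A.trans (cj_of ha.symm))
  have ty : IsConj (Φ (q s w)) (Φ (q s w) * Φ y) := by
    rw [← Q.mul t1 yx, H.s.mul_y]
    exact Q.cjA H h1 h2 (aa_t2 H _ h1 h2).1 (aa_t2 H _ h1 h2).2
  have A2 := Q.clA H h1 h2 sur (cm_mul ax yx) (ty.trans ((cj_of (a := g) rfl).trans (cj_of (by
    rw [Q.mul ax yx, cj_mul hg, cj_mul c2, ha]))))
  obtain ⟨r, c, rfl⟩ := inQ H ay A1.1 A2.1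
  exact ⟨r, c, (aa_of H A1).1, (aa_of H A1).2, cm_mul ax f0, by rw [Q.mul ax f0, ha]; exact m2⟩

theorem hu [Finite G] {g : G} (hg : g⁻¹ * Φ y * g ∈ Q.R) : g ∈ Q.R := by
  have yx : y * x = x * y := H.one.yx
  obtain ⟨a, ax, ha⟩ := hg
  obtain ⟨t, k1, k2, k3⟩ := cmA H ax ((Q.ker (cm_mul ax ax)).1 (by
    rw [Q.mul ax ax, ha]
    exact sq_of_cj (cj_of (a := g⁻¹) (by rw [inv_inv])) (by rw [← Q.mul yx yx, H.s.yy, Q.one])))
  have c := Q.cm ax k1 k3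
  rw [ha] at c
  refine Q.back H h1 h2 sur k1 k2 (Q.cy H h1 h2 sur ?_)
  calc _ = g * (Φ t * (g⁻¹ * Φ y * g)) * g⁻¹ := by group
    _ = _ := by rw [← c]; group

end Qm

theorem core [Finite M] [Finite G] (H : Two x y q γ) (Φ : Subgroup.centralizer ({x} : Set M) →* G)
    (ker : ∀ a, Φ a = 1 ↔ a.1 = 1 ∨ a.1 = x) {s : ZMod 2} {w : C} (h1 : IsS w) (h2 : IsS (w + c0.1))
    (t y' : Subgroup.centralizer ({x} : Set M)) (ht : t.1 = q s w) (hy : y'.1 = y)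
    (sur : ∀ g, g * Φ t = Φ t * g → g ∈ Φ.range) :
    ¬ IsConj (Φ t) (Φ y') ∧ ∀ g, g⁻¹ * Φ y' * g ∈ Φ.range → g ∈ Φ.range := by
  classical
  have m : ∀ {a : M}, a ∈ Subgroup.centralizer {x} ↔ a * x = x * a :=
    Subgroup.mem_centralizer_singleton_iff
  let φ : M → G := fun a => if h : a * x = x * a then Φ ⟨a, m.2 h⟩ else 1
  have e : ∀ a : Subgroup.centralizer ({x} : Set M), φ a.1 = Φ a := fun a => dif_pos (m.1 a.2)
  have Q : Qm x φ := ⟨fun {a b} ha hb => by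
    rw [e ⟨a, m.2 ha⟩, e ⟨b, m.2 hb⟩, ← map_mul, ← e]; rfl, fun {a} ha => by
    rw [e ⟨a, m.2 ha⟩, ker]⟩
  have r : Q.R = Φ.range := Subgroup.ext fun g =>
    ⟨fun ⟨a, a1, a2⟩ => ⟨⟨a, m.2 a1⟩, (e _).symm.trans a2⟩, fun ⟨a, a2⟩ => ⟨a.1, m.1 a.2, (e a).trans a2⟩⟩
  rw [← e, ← r, ht] at sur
  rw [← e, ← e, ← r, ht, hy]
  exact ⟨Q.ncy H h1 h2 sur, fun g => Q.hu H h1 h2 sur⟩

end H10.Mon.MG.BO
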