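import Mathlib
import Cfsg.Prelude.Def_Chevalley

/-!
# Chevalley groups over isomorphic fields
-/

set_option autoImplicit false
set_option linter.all false

namespace H10

open Cfsg.Lie

theorem xMat_map (D : ChevalleyDatum) {F K : Type*} [Field F] [Field K] (f : F →+* K)
    (r : Fin D.nroots) (t : F) : (D.xMat F r t).map f = D.xMat K r (f t) := by
  ext i j
  rcases i with i | i <;> rcases j with j | j <;>
    simp only [ChevalleyDatum.xMat, Matrix.map_apply, Matrix.of_apply] <;> split_ifs <;>
    simp [map_list_sum, Function.comp_def]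

theorem chevCongr (D : ChevalleyDatum) {F K : Type*} [Field F] [Field K] (f : F ≃+* K) :
    Nonempty (D.group F ≃* D.group K) := by
  let φ : GL D.Idx F ≃* GL D.Idx K := Units.mapEquiv (f.mapMatrix (m := D.Idx)).toMulEquiv
  refine ⟨(φ.subgroupMap (D.group F)).trans (MulEquiv.subgroupCongr ?_)⟩
  rw [ChevalleyDatum.group, MonoidHom.map_closure, ChevalleyDatum.group]
  congr 1
  ext g
  constructor
  · rintro ⟨x, ⟨r, t, h⟩, rfl⟩
    exact ⟨r, f t, Eq.trans (by rw [← h]; rfl) (xMat_map D (f : F →+* K) r t)⟩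
  · rintro ⟨r, t, h⟩
    exact ⟨φ.symm g, ⟨r, f.symm t, Eq.trans (by rw [← h]; rfl)
      (xMat_map D (f.symm : K →+* F) r t)⟩, by simp⟩

theorem chevCongr_card (D : ChevalleyDatum) {F K : Type*} [Field F] [Field K] [Fintype F]
    [Fintype K] (h : Fintype.card F = Fintype.card K) : Nonempty (D.group F ≃* D.group K) :=
  chevCongr D (FiniteField.ringEquivOfCardEq h)

end H10
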