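import Mathlib
import Cfsg.Agent.H10.Orb
import Cfsg.Agent.H9.CG

/-! Coded elements of `Co0` as letters; small finite fields as interpretations. -/

set_option autoImplicit false

namespace H10

open Cfsg H29

/-- the letters given by a list of codes. -/
noncomputable def coE (l : List (List ℕ)) (c : ℕ) : G0 := coM (nth [] l c)

theorem coM_nil : coM [] = 1 := by rw [coM, dif_neg (by decide)]

theorem coE_mem {l : List (List ℕ)} {H : Subgroup G0} (h : CoIn l H) (c : ℕ) : coE l c ∈ H :=
  nth_forall (p := fun M => coM M ∈ H) (coM_nil ▸ H.one_mem) (fun M hM => (h M hM).2) c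

theorem coE_smul {l : List (List ℕ)} (h : ∀ M ∈ l, isCo M = true) (i : ℕ) {x : L} {n : ℕ}
    (hx : (x : V) = vc n) (hn : sqNorm (x : V) ≤ 255) :
    ((coE l i • x : L) : V) = vc (sel l n i) := by
  induction l generalizing i with
  | nil => rw [show coE [] i = 1 from coM_nil, one_smul]; exact hx
  | cons M l ih =>
    rcases i with _ | i
    · exact coM_smul (h M List.mem_cons_self) hx hn
    · exact ih (fun M' hM => h M' (List.mem_cons_of_mem _ hM)) i

/-- apply a word to a coded vector. -/
noncomputable def appW (l : List (List ℕ)) (n : ℕ) (w : List ℕ) : ℕ :=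
  List.rec (motive := fun _ => ℕ) n (fun y _ ih => fh ih fun m => sel l m y) w

theorem ev_coE_smul {l : List (List ℕ)} (h : ∀ M ∈ l, isCo M = true) {x : L} {n : ℕ}
    (hx : (x : V) = vc n) (hn : sqNorm (x : V) ≤ 255) (w : List ℕ) :
    ((ev (coE l) w • x : L) : V) = vc (appW l n w) := by
  induction w with
  | nil => rw [ev_nil, one_smul]; exact hx
  | cons y t ih =>
    rw [ev_cons, mul_smul, coE_smul h y ih (by rwa [co_norm]),
      show appW l n (y :: t) = fh (appW l n t) fun m => sel l m y from rfl, fh_eq]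

/-- the words are trivial. -/
noncomputable def chkRelC (l : List (List ℕ)) (R : List (List ℕ)) : Bool :=
  allN 24 fun k => fh (cE k) fun n => allL R fun w => Nat.beq (appW l n w) n

theorem rels_coE {l : List (List ℕ)} (h : ∀ M ∈ l, isCo M = true) {R : List (List ℕ)}
    (hc : chkRelC l R = true) : ∀ r ∈ R, ev (coE l) r = 1 := by
  intro r hr
  apply eq_one_of_fix_e8
  intro p
  have h1 := allN_true.1 hc _ (H9.ix_lt p)
  rw [fh_eq, allL_true] at h1
  apply Subtype.ext
  rw [ev_coE_smul h (e8_eq p) (by rw [e8_coe, sqNorm_single]; norm_num), beq_true.1 (h1 r hr),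
    e8_eq]

theorem ivOK_coE {l : List (List ℕ)} (h : ∀ M ∈ l, isCo M = true) {ivl : List ℕ}
    (hl : ivl.length ≤ l.length)
    (hc : chkRelC l ((List.range l.length).map fun c => [ivOf ivl c, c]) = true) :
    IvOK (coE l) (ivOf ivl) := by
  intro c
  by_cases h1 : c < l.length
  · have := rels_coE h hc _ (List.mem_map.2 ⟨c, List.mem_range.2 h1, rfl⟩)
    rw [ev_cons, ev_cons, ev_nil, mul_one] at this
    exact eq_inv_of_mul_eq_one_left this
  · rw [ivOf, nth_default _ (by omega), coE, nth_default _ (by omega), coM_nil, inv_one]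

theorem ev_coE_ne {l : List (List ℕ)} (h : ∀ M ∈ l, isCo M = true) {w : List ℕ} {k : ℕ}
    (hk : k < 24) (hc : vc (appW l (cE k) w) ≠ vc (cE k)) : ev (coE l) w ≠ 1 := by
  intro h1
  apply hc
  have e := e8_eq (H9.pt k)
  rw [H9.ix_pt hk] at e
  rw [← ev_coE_smul h e (by rw [e8_coe, sqNorm_single]; norm_num), h1, one_smul, e]

section fields

variable {F : Type} [Field F] [Fintype F]

theorem charP_of_card {p n : ℕ} (hp : p.Prime) (hF : Fintype.card F = p ^ n) : CharP F p := by
  obtain ⟨q, hq⟩ := CharP.exists F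
  obtain ⟨m, hq', h⟩ := FiniteField.card F q
  have : q = p := by
    have h1 : q ∣ p ^ n := by rw [← hF, h]; exact dvd_pow_self _ m.ne_zero
    exact (Nat.prime_dvd_prime_iff_eq hq' hp).1 (hq'.dvd_of_dvd_pow h1)
  exact this ▸ hq

theorem exists_w4 (hF : Fintype.card F = 4) : ∃ ω : F, ω * ω = 1 + ω := by
  classical
  have := charP_of_card (F := F) (p := 2) (n := 2) (by norm_num) hF
  obtain ⟨ω, h⟩ : ∃ ω : F, ω ∉ ({0, 1} : Finset F) := by
    apply Finset.exists_mem_notMem_of_card_lt_card (s := {0, 1}) (t := Finset.univ) ?_ |>.imp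
      fun _ h => h.2
    exact lt_of_le_of_lt Finset.card_le_two (by rw [Finset.card_univ, hF]; norm_num)
  simp only [Finset.mem_insert, Finset.mem_singleton, not_or] at h
  have h3 := FiniteField.pow_card_sub_one_eq_one ω h.1
  rw [hF] at h3
  have h2 : (2 : F) = 0 := CharP.cast_eq_zero F 2
  refine ⟨ω, mul_left_cancel₀ (sub_ne_zero.2 h.2) ?_⟩
  linear_combination h3 + (1 - ω ^ 2) * h2

theorem exists_w9 (hF : Fintype.card F = 9) : ∃ ω : F, ω * ω = 2 := by
  have := charP_of_card (F := F) (p := 3) (n := 2) (by norm_num) hF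
  obtain ⟨ω, h⟩ := FiniteField.isSquare_neg_one_iff.2 (show Fintype.card F % 4 ≠ 3 by rw [hF]; norm_num)
  have h3 : (3 : F) = 0 := CharP.cast_eq_zero F 3
  exact ⟨ω, by linear_combination -h - h3⟩

theorem exists_w25 (hF : Fintype.card F = 25) : ∃ ω : F, ω * ω = 3 := by
  have := charP_of_card (F := F) (p := 5) (n := 2) (by norm_num) hF
  have h5 : (5 : F) = 0 := CharP.cast_eq_zero F 5
  have h3 : (3 : F) ≠ 0 := fun h => one_ne_zero (by linear_combination 2 * h - h5 : (1 : F) = 0)
  obtain ⟨ω, h⟩ := (FiniteField.isSquare_iff (F := F) (by rw [ringChar.eq F 5]; norm_num) h3).2 (by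
    rw [hF]; linear_combination 106288 * h5)
  exact ⟨ω, h.symm⟩

end fields

end H10
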