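import Mathlib
import Cfsg.Agent.H10.MinData

/-! The orbits of `M22` on the minimal vectors of the Leech lattice. -/

set_option autoImplicit false

namespace H10

open Cfsg Finset H9 MulAction
open scoped Pointwise

/-- the stabiliser of `U`, `U'` and `V`. -/
def H22 : Subgroup G0 := stabilizer G0 vU ⊓ stabilizer G0 vU' ⊓ stabilizer G0 vV

theorem mem_H22 {g : G0} : g ∈ H22 ↔ g • vU = vU ∧ g • vU' = vU' ∧ g • vV = vV := by
  simp only [H22, Subgroup.mem_inf, mem_stabilizer_iff, and_assoc]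

theorem equiv_H22 : Nonempty (Stab [0, 23] [] ≃* H22) := equiv_M22 H22 fun _ => mem_H22

theorem card_H22 : Nat.card H22 = 443520 := by
  obtain ⟨e⟩ := equiv_H22
  rw [← Nat.card_congr e.toEquiv, card_s2]

theorem simple_H22 : IsSimpleGroup H22 := by
  obtain ⟨e⟩ := equiv_H22
  have := simple_s2
  exact e.symm.isSimpleGroup

/-- Boolean test for membership in `H22`. -/
def isH22 (M : List ℕ) : Bool :=
  isCo M && Nat.beq (app M cU) cU && Nat.beq (app M cU') cU' && Nat.beq (app M cV) cV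

theorem isH22_spec {M : List ℕ} (h : isH22 M = true) : isCo M = true ∧ coM M ∈ H22 := by
  simp only [isH22, Bool.and_eq_true, beq_iff] at h
  obtain ⟨⟨⟨h1, h2⟩, h3⟩, h4⟩ := h
  exact ⟨h1, mem_H22.2 ⟨coM_fixU h1 h2, coM_fixU' h1 h3, coM_fixV h1 h4⟩⟩

theorem gM_in : CoIn gM H22 := by
  have : gM.all isH22 = true := by decide +kernel
  exact fun M hM => isH22_spec (List.all_eq_true.1 this M hM)

/-- admissible digits and their excess norm, for each residue. -/
def optR (r : ℕ) : List (ℕ × ℕ) :=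
  cond (Nat.beq r 0) [(16, 0), (12, 16), (20, 16)] (cond (Nat.beq r 1) [(17, 0), (13, 8), (21, 24)]
    (cond (Nat.beq r 2) [(14, 0), (18, 0)] [(15, 0), (19, 8), (11, 24)]))

/-- index bookkeeping. -/
def upd (k d idx : ℕ) : ℕ :=
  cond (Nat.beq d 16 || Nat.beq d 15 || Nat.beq d 17) idx
    (cond (Nat.beq d 13 || Nat.beq d 19) (Nat.add idx k)
      (cond (Nat.beq d 14 || Nat.beq d 18) (Nat.add (Nat.mul 2 idx) (Nat.div d 18))
        (Nat.add (Nat.add (Nat.mul 48 idx) (Nat.mul 2 k)) (Nat.div d 20))))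

/-- search through all vectors with prescribed residues and norm. -/
def dfs (c m : ℕ) (f : ℕ → ℕ → Bool) (k : ℕ) : ℕ → ℕ → ℕ → Bool :=
  Nat.rec (fun b idx acc => cond (Nat.beq b 0) (f idx acc) true)
    (fun k r b idx acc => List.rec true (fun o _ rr =>
      cond (Nat.ble o.2 b) (force (Nat.sub b o.2) fun b' => force (upd k o.1 idx) fun idx' =>
        fh (Nat.add acc (Nat.shiftLeft o.1 (Nat.mul 16 k))) fun acc' => r b' idx' acc') true && rr)
      (optR (Nat.add m (Nat.mul 2 (bit c k))))) k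

theorem listRec_and {α : Type} (l : List α) (p : α → Bool)
    (h : (List.rec true (fun o _ rr => p o && rr) l : Bool) = true) : ∀ o ∈ l, p o = true := by
  induction l with
  | nil => simp
  | cons a l ih =>
    obtain ⟨h1, h2⟩ := Bool.and_eq_true_iff.1 h
    intro o ho
    rcases List.mem_cons.1 ho with rfl | ho
    · exact h1
    · exact ih h2 o ho

theorem dfs_succ (c m : ℕ) (f : ℕ → ℕ → Bool) (k b idx acc : ℕ) : dfs c m f (k + 1) b idx acc =
    List.rec true (fun o _ rr =>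
      cond (Nat.ble o.2 b) (force (b - o.2) fun b' => force (upd k o.1 idx) fun idx' =>
        fh (acc + o.1 <<< (16 * k)) fun acc' => dfs c m f k b' idx' acc') true && rr)
      (optR (m + 2 * bit c k)) := rfl

theorem dfs_sound (c m : ℕ) (f : ℕ → ℕ → Bool) (d e : ℕ → ℕ) (k b idx acc : ℕ)
    (h : dfs c m f k b idx acc = true) (hd : ∀ i < k, (d i, e i) ∈ optR (m + 2 * bit c i))
    (he : ∑ i ∈ range k, e i = b) :
    ∃ idx', f idx' (acc + ∑ i ∈ range k, d i * 65536 ^ i) = true := by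
  induction k generalizing b idx acc with
  | zero =>
    subst he
    exact ⟨idx, h⟩
  | succ k ih =>
    rw [dfs_succ] at h
    have h1 := listRec_and _ _ h _ (hd k (Nat.lt_succ_self k))
    rw [Finset.sum_range_succ] at he
    have h2 : Nat.ble (e k) b = true := (ble_iff _ _).2 (by omega)
    simp only [h2, cond_true, force_eq, fh_eq] at h1
    obtain ⟨idx', h3⟩ := ih _ _ _ h1 (fun i hi => hd i (Nat.lt_succ_of_lt hi))
      (by omega)
    refine ⟨idx', ?_⟩
    rw [← h3, Finset.sum_range_succ, Nat.shiftLeft_eq, pow_mul]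
    congr 1
    norm_num
    ring

/-- minimal square of a coordinate. -/
def mq (m c i : ℕ) : ℕ := cond (Nat.beq m 1) 1 (Nat.mul 4 (bit c i))

/-- the check made at a leaf. -/
def leaf (m idx acc : ℕ) : Bool :=
  !(Nat.beq (Nat.mod (Nat.add (sm acc) (Nat.mul 4 m)) 8) 0) ||
    fh (runW gM (Nat.land (Nat.shiftRight wT (Nat.mul 32 idx)) 4294967295) acc) fun y =>
      anyL repC (Nat.beq y)

def chk (m c idx : ℕ) : Bool :=
  force (sumLt 24 (mq m c)) fun s => Nat.blt 32 s || dfs c m (leaf m) 24 (Nat.sub 32 s) idx 0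

theorem opt_mem (m : ℕ) (hm : m = 0 ∨ m = 1) (b : Bool) (t : ℤ) (h2 : -5 ≤ t) (h3 : t ≤ 5)
    (h1 : (4 : ℤ) ∣ t - if b = true then (m : ℤ) + 2 else m) :
    ((t + 16).toNat, (t ^ 2 - (cond (Nat.beq m 1) 1 (Nat.mul 4 (if b = true then 1 else 0)) : ℕ)).toNat)
      ∈ optR (m + 2 * if b = true then 1 else 0) ∧
      ((cond (Nat.beq m 1) 1 (Nat.mul 4 (if b = true then 1 else 0)) : ℕ) : ℤ) ≤ t ^ 2 := by
  revert h1
  rcases hm with rfl | rfl <;> cases b <;> interval_cases t <;> decide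

theorem coord_bound {x : V} (hn : sqNorm x = 32) (p : GolayPt) : -5 ≤ x p ∧ x p ≤ 5 := by
  have := sq_le_sqNorm x p
  constructor <;> nlinarith

theorem chk_sound {m c idx : ℕ} (hm : m = 0 ∨ m = 1) (h : chk m c idx = true) {x : L}
    (hx : LD x m (ofMask c)) (hn : sqNorm (x : V) = 32) :
    ∃ g ∈ H22, ∃ r ∈ repC, ((g • x : L) : V) = vc r := by
  have hb := coord_bound hn
  have hopt : ∀ i < 24, (((x : V) (pt i) + 16).toNat, ((x : V) (pt i) ^ 2 - mq m c i).toNat) ∈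
      optR (m + 2 * bit c i) ∧ (mq m c i : ℤ) ≤ (x : V) (pt i) ^ 2 := by
    intro i hi
    have h1 := hx.2.1 (pt i)
    obtain ⟨h2, h3⟩ := hb (pt i)
    simp only [res, pt_mem_ofMask hi] at h1
    rw [mq, bit_eq]
    exact opt_mem m hm _ _ h2 h3 h1
  have hsum : ∑ i ∈ range 24, ((x : V) (pt i) ^ 2 - mq m c i).toNat + sumLt 24 (mq m c) = 32 := by
    rw [sumLt_eq, ← Finset.sum_add_distrib]
    rw [sqNorm, sum_pt] at hn
    apply Nat.cast_injective (R := ℤ)
    rw [Nat.cast_sum]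
    refine Eq.trans (Finset.sum_congr rfl fun i hi => ?_) hn
    have := (hopt i (mem_range.1 hi)).2
    omega
  rw [chk, force_eq, Bool.or_eq_true] at h
  rcases h with h | h
  · rw [Nat.blt_eq, ← hsum] at h
    exact absurd h (not_lt.2 (Nat.le_add_left _ _))
  obtain ⟨idx', h1⟩ := dfs_sound c m (leaf m) _ _ 24 _ idx 0 h (fun i hi => (hopt i hi).1)
    (Nat.eq_sub_of_add_eq hsum)
  clear h hsum hopt
  rw [zero_add, ← mkV_eq] at h1
  have hv : (x : V) = vc (mkV fun i => ((x : V) (pt i) + 16).toNat) := by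
    funext p
    rw [vc_mkV _ fun i _ => by have := hb (pt i); omega, pt_ix]
    have := hb p
    omega
  generalize (mkV fun i => ((x : V) (pt i) + 16).toNat) = n at h1 hv
  have h2 := hx.2.2
  rw [hv, sum_vc] at h2
  have h3 : Nat.beq (Nat.mod (Nat.add (sm n) (Nat.mul 4 m)) 8) 0 = true := by
    rw [beq_iff]
    change (sm n + 4 * m) % 8 = 0
    omega
  simp only [leaf, h3, Bool.not_true, Bool.false_or, fh_eq, anyL_iff, beq_iff] at h1
  obtain ⟨r, hr, e⟩ := h1
  obtain ⟨g, hg, e'⟩ := gM_in.runW (Nat.land (Nat.shiftRight wT (Nat.mul 32 idx')) 4294967295) hv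
    (by rw [hn]; norm_num)
  exact ⟨g, hg, r, hr, e ▸ e'⟩

theorem chk_A : chk 0 0 0 = true := by decide +kernel

theorem chk_B : allLt 14 (fun r => Nat.beq r 4 || chk 0 (cwR.getD r 0) (9 + r)) = true := by
  decide +kernel

theorem chk_C : allLt 14 (fun r => chk 1 (cwR.getD r 0) (3328 + 24 * r)) = true := by
  decide +kernel

theorem chk_all {m : ℕ} (hm : m = 0 ∨ m = 1) : ∀ c ∈ cwR, ∃ idx, chk m c idx = true := by
  intro c hc
  obtain ⟨r, hr, rfl⟩ := List.getElem_of_mem hc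
  rw [List.getElem_eq_getD 0]
  have hr' : r < 14 := hr
  rcases hm with rfl | rfl
  · by_cases h : r = 4
    · subst h; exact ⟨0, chk_A⟩
    · have := (allLt_iff _ _).1 chk_B r hr'
      rw [Bool.or_eq_true, beq_iff] at this
      exact ⟨_, this.resolve_left h⟩
  · exact ⟨_, (allLt_iff _ _).1 chk_C r hr'⟩

theorem cwR_cover : (cwR.map (orbCw g22)).foldr Nat.lor 0 = 2 ^ 4096 - 1 := by decide +kernel

theorem testBit_foldr_lor (l : List ℕ) (i : ℕ) (h : (l.foldr Nat.lor 0).testBit i = true) :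
    ∃ a ∈ l, a.testBit i = true := by
  induction l with
  | nil => simp at h
  | cons a l ih =>
    have : (a :: l).foldr Nat.lor 0 = a ||| l.foldr Nat.lor 0 := rfl
    rw [this, Nat.testBit_or, Bool.or_eq_true] at h
    rcases h with h | h
    · exact ⟨a, List.mem_cons_self, h⟩
    · obtain ⟨b, hb, h⟩ := ih h
      exact ⟨b, List.mem_cons_of_mem _ hb, h⟩

theorem cw_reps {s : Finset GolayPt} (hs : s ∈ GC) :
    ∃ σ ∈ Stab [0, 23] [], ∃ c ∈ cwR, σ • ofMask c = s := by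
  obtain ⟨m, hm, rfl⟩ := exists_cw_of_mem hs
  obtain ⟨a, ha, h⟩ := testBit_foldr_lor (cwR.map (orbCw g22)) m (by
    rw [cwR_cover, Nat.testBit_two_pow_sub_one]; simpa using hm)
  obtain ⟨c, hc, rfl⟩ := List.mem_map.1 ha
  have : ∀ c ∈ cwR, isCw c = true := by decide +kernel
  obtain ⟨σ, hσ, e⟩ := gi22.orbCw (Stab_le _ _) (this c hc) m h
  exact ⟨σ, hσ, c, hc, e⟩

theorem permHom_coe (σ : M24) (x : L) :
    ((permHom σ • x : L) : V) = fun i => (x : V) ((σ : Equiv.Perm GolayPt).symm i) := by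
  funext i
  simp [permHom_apply, mono_smul, signedPerm, gc0]

theorem LD.perm {x : L} {m : ℤ} {c : Finset GolayPt} (h : LD x m c) (σ : M24) :
    LD (permHom σ • x : L) m ((σ : Equiv.Perm GolayPt) • c) := by
  rw [permHom_coe]
  refine ⟨H9.smul_mem_GC σ.2 h.1, fun i => ?_, ?_⟩
  · have := h.2.1 ((σ : Equiv.Perm GolayPt).symm i)
    unfold res at *
    have e : i ∈ (σ : Equiv.Perm GolayPt) • c ↔ (σ : Equiv.Perm GolayPt).symm i ∈ c :=
      Finset.inv_smul_mem_iff.symm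
    simp only [e]
    exact this
  · rw [Equiv.sum_comp (σ : Equiv.Perm GolayPt).symm (x : V)]
    exact h.2.2

theorem classify0 (x : L) (hn : sqNorm (x : V) = 32) :
    ∃ g ∈ H22, ∃ r ∈ repC, ((g • x : L) : V) = vc r := by
  have : ∃ m : ℕ, (m = 0 ∨ m = 1) ∧ ∃ c, LD x m c := by
    obtain ⟨c, h | h⟩ := (mem_L_iff01 _).1 x.2
    · exact ⟨0, Or.inl rfl, c, h⟩
    · exact ⟨1, Or.inr rfl, c, h⟩
  obtain ⟨m, hm, s, hs⟩ := this
  obtain ⟨σ, hσ, c, hc, rfl⟩ := cw_reps hs.1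
  obtain ⟨idx, h⟩ := chk_all hm c hc
  have h1 := hs.perm (⟨σ, hσ.1⟩⁻¹)
  have : ((⟨σ, hσ.1⟩⁻¹ : M24) : Equiv.Perm GolayPt) • σ • ofMask c = ofMask c := inv_smul_smul σ _
  rw [this] at h1
  obtain ⟨g, hg, r, hr, e⟩ := chk_sound hm h h1 ((co_norm _ x).trans hn)
  refine ⟨g * permHom (⟨σ, hσ.1⟩⁻¹), H22.mul_mem hg ?_, r, hr, by rw [mul_smul, e]⟩
  exact mem_H22.2 ((mem_stab_UU'V _).2 ⟨_, (Stab _ _).inv_mem hσ, rfl⟩)

open Classical in
/-- the shape of a vector: `0` if all coordinates are divisible by four, `1` if all are odd. -/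
noncomputable def shp (x : V) : ℕ :=
  if ∀ i, x i % 4 = 0 then 0 else if ∀ i, x i % 2 = 1 then 1 else 2

def shpC (n : ℕ) : ℕ := cond (allLt 24 fun i => Nat.beq (Nat.mod (dg n i) 4) 0) 0
  (cond (allLt 24 fun i => Nat.beq (Nat.mod (dg n i) 2) 1) 1 2)

theorem shp_vc (n : ℕ) : shp (vc n) = shpC n := by
  have e1 : (∀ i, vc n i % 4 = 0) ↔ (allLt 24 fun i => Nat.beq (Nat.mod (dg n i) 4) 0) = true := by
    rw [forall_pt, allLt_iff]
    refine forall₂_congr fun i hi => ?_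
    rw [vc_pt n hi, beq_iff]
    change _ ↔ dg n i % 4 = 0
    omega
  have e2 : (∀ i, vc n i % 2 = 1) ↔ (allLt 24 fun i => Nat.beq (Nat.mod (dg n i) 2) 1) = true := by
    rw [forall_pt, allLt_iff]
    refine forall₂_congr fun i hi => ?_
    rw [vc_pt n hi, beq_iff]
    change _ ↔ dg n i % 2 = 1
    omega
  rw [shp, shpC]
  simp only [e1, e2, Bool.cond_eq_ite]

theorem shp_mono (σ : M24) (c : GC) (x : L) : shp ((mono σ c • x : L) : V) = shp (x : V) := by
  have e : ∀ k r : ℤ, (∀ t : ℤ, -t % k = r ↔ t % k = r) →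
      ((∀ i, ((mono σ c • x : L) : V) i % k = r) ↔ ∀ i, (x : V) i % k = r) := by
    intro k r hk
    rw [← (σ : Equiv.Perm GolayPt).forall_congr_right]
    refine forall_congr' fun i => ?_
    rw [mono_apply]
    split_ifs
    · exact hk _
    · rfl
  simp only [shp, e 4 0 fun t => by omega, e 2 1 fun t => by omega]

theorem shp_N0 {g : G0} (hg : g ∈ N0) (x : L) : shp ((g • x : L) : V) = shp (x : V) := by
  obtain ⟨σ, c, rfl⟩ := mem_N0_iff.1 hg
  exact shp_mono σ c x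

theorem H22_le_N0 : H22 ≤ N0 := by
  intro g hg
  obtain ⟨σ, -, rfl⟩ := (mem_stab_UU'V g).1 (mem_H22.1 hg)
  exact mono_mem_N0 _ _

/-- inner product with `U`. -/
abbrev dU (x : L) : ℤ := dotInt (vU : V) (x : V)
/-- inner product with `U'`. -/
abbrev dU' (x : L) : ℤ := dotInt (vU' : V) (x : V)
/-- inner product with `V`. -/
abbrev dV (x : L) : ℤ := dotInt (vV : V) (x : V)

theorem dot_of_fix {g : G0} {u : L} (h : g • u = u) (x : L) :
    dotInt (u : V) ((g • x : L) : V) = dotInt (u : V) (x : V) := by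
  conv_lhs => rw [← h]
  exact co_dot g u x

theorem reps_eq : reps = repC.map fun n => (n, dotC cU n, dotC cU' n, dotC cV n, shpC n) := by
  decide +kernel

/-- Every minimal vector is conjugate under `M22` to one of the representatives. -/
theorem classify (x : L) (hn : sqNorm (x : V) = 32) :
    ∃ g ∈ H22, ∃ r ∈ reps, ((g • x : L) : V) = vc r.1 ∧
      r.2 = (dU x, dU' x, dV x, shp (x : V)) := by
  obtain ⟨g, hg, r, hr, e⟩ := classify0 x hn
  refine ⟨g, hg, _, reps_eq ▸ List.mem_map_of_mem hr, e, ?_⟩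
  obtain ⟨h1, h2, h3⟩ := mem_H22.1 hg
  simp only [← dot_vc, ← shp_vc, ← e, ← vU_eq, ← vU'_eq, ← vV_eq, dot_of_fix h1, dot_of_fix h2,
    dot_of_fix h3, shp_N0 (H22_le_N0 hg)]

theorem forall_min (P : ℤ → ℤ → ℤ → ℕ → Prop) (h : ∀ r ∈ reps, P r.2.1 r.2.2.1 r.2.2.2.1 r.2.2.2.2)
    (x : L) (hn : sqNorm (x : V) = 32) : P (dU x) (dU' x) (dV x) (shp (x : V)) := by
  obtain ⟨g, -, r, hr, -, e⟩ := classify x hn
  have := h r hr
  rwa [e] at this

/-- the representatives with property `P` are moved to `root` by the words of the list. -/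
def fuseChk (gens : List (List ℕ)) (P : ℤ → ℤ → ℤ → ℕ → Bool) (root : ℕ)
    (rs : List (ℕ × ℤ × ℤ × ℤ × ℕ)) : List ℕ → Bool :=
  List.rec (fun _ => true) (fun r _ ih ws => cond (P r.2.1 r.2.2.1 r.2.2.2.1 r.2.2.2.2)
    (List.rec false (fun w ws' _ => Nat.beq (runW gens w r.1) root && ih ws') ws) (ih ws)) rs

theorem fuseChk_spec {gens : List (List ℕ)} {P : ℤ → ℤ → ℤ → ℕ → Bool} {root : ℕ}
    {rs : List (ℕ × ℤ × ℤ × ℤ × ℕ)} {ws : List ℕ} (h : fuseChk gens P root rs ws = true) :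
    ∀ r ∈ rs, P r.2.1 r.2.2.1 r.2.2.2.1 r.2.2.2.2 = true → ∃ w, runW gens w r.1 = root := by
  induction rs generalizing ws with
  | nil => simp
  | cons r rs ih =>
    have e : fuseChk gens P root (r :: rs) ws = cond (P r.2.1 r.2.2.1 r.2.2.2.1 r.2.2.2.2)
      (List.rec false (fun w ws' _ => Nat.beq (runW gens w r.1) root &&
        fuseChk gens P root rs ws') ws) (fuseChk gens P root rs ws) := rfl
    rw [e] at h
    intro r' hr' hP
    rcases List.mem_cons.1 hr' with rfl | hr'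
    · rw [hP] at h
      rcases ws with _ | ⟨w, ws⟩
      · exact absurd h (by simp)
      · exact ⟨w, (beq_iff _ _).1 (Bool.and_eq_true_iff.1 h).1⟩
    · cases hp : P r.2.1 r.2.2.1 r.2.2.2.1 r.2.2.2.2 <;> rw [hp] at h
      · exact ih h r' hr' hP
      · rcases ws with _ | ⟨w, ws⟩
        · exact absurd h (by simp)
        · exact ih (Bool.and_eq_true_iff.1 h).2 r' hr' hP

theorem fuse {gens : List (List ℕ)} {H : Subgroup G0} (hg : CoIn gens H) (h22 : H22 ≤ H)
    (P : ℤ → ℤ → ℤ → ℕ → Bool) (root : ℕ) (ws : List ℕ)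
    (h : fuseChk gens P root reps ws = true) (x : L) (hn : sqNorm (x : V) = 32)
    (hP : P (dU x) (dU' x) (dV x) (shp (x : V)) = true) :
    ∃ g ∈ H, ((g • x : L) : V) = vc root := by
  obtain ⟨g, hg', r, hr, e1, e2⟩ := classify x hn
  obtain ⟨w, hw⟩ := fuseChk_spec h r hr (by rwa [e2])
  obtain ⟨g', hg'', e⟩ := hg.runW w e1 (by rw [co_norm, hn]; norm_num)
  exact ⟨g' * g, H.mul_mem hg'' (h22 hg'), by rw [mul_smul, e, hw]⟩

theorem fuse₂ {gens : List (List ℕ)} {H : Subgroup G0} (hg : CoIn gens H) (h22 : H22 ≤ H)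
    (P : ℤ → ℤ → ℤ → ℕ → Bool) (root : ℕ) (ws : List ℕ)
    (h : fuseChk gens P root reps ws = true) (x y : L) (hx : sqNorm (x : V) = 32)
    (hy : sqNorm (y : V) = 32) (hPx : P (dU x) (dU' x) (dV x) (shp (x : V)) = true)
    (hPy : P (dU y) (dU' y) (dV y) (shp (y : V)) = true) : ∃ g ∈ H, g • x = y := by
  obtain ⟨g, hg', e⟩ := fuse hg h22 P root ws h x hx hPx
  obtain ⟨g', hg'', e'⟩ := fuse hg h22 P root ws h y hy hPy
  refine ⟨g'⁻¹ * g, H.mul_mem (H.inv_mem hg'') hg', ?_⟩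
  rw [mul_smul, inv_smul_eq_iff]
  exact Subtype.ext (e.trans e'.symm)

end H10
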