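import Mathlib
import Cfsg.Agent.H10.Min

/-! Counting minimal vectors by their inner products with `U`, `U'` and `V`. -/

set_option autoImplicit false

namespace H10

open Cfsg Finset H9 MulAction

/-- the type of a code word. -/
def tau (c : Finset GolayPt) : ℕ :=
  4 * c.card + 2 * (if none ∈ c then 1 else 0) + if some 0 ∈ c then 1 else 0

def tauG : ℕ := 0x800000000000000000000000000000000000000000000000000000000000000000000000000000000000000000000000000000a502c016004d0000000000000000000000000000000000000001340a8054026800000000000000000000000000000000000000002682c016014a00000000000000000000000000000000000000000000000000000000000000000000000000000000000000000000000000000001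

theorem tauG_eq : treeSum (fun m => force (cw m) fun c =>
    8192 ^ (4 * pc c + 2 * bit c 23 + bit c 0)) 12 0 = tauG := by decide +kernel

theorem tau_ofMask (n : ℕ) : tau (ofMask n) = 4 * pc n + 2 * bit n 23 + bit n 0 := by
  rw [tau, card_ofMask, bit_eq, bit_eq]
  simp only [mem_ofMask]
  rfl

theorem sum_GCf_tau (g : ℕ → ℕ) : ∑ c ∈ GCf, g (tau c) =
    sumLt 100 fun t => force (tauG / 8192 ^ t % 8192) fun d => cond (Nat.beq d 0) 0 (d * g t) := by
  have e : GCf = (range 4096).image fun m => ofMask (cw m) := by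
    ext c
    simp only [mem_GCf, mem_GC_iff, mem_image, mem_range, eq_comm]
  rw [e, Finset.sum_image fun a ha b hb h => ofMask_cw_inj (mem_range.1 ha) (mem_range.1 hb) h,
    sumLt_eq, ← Finset.sum_fiberwise_of_maps_to (t := range 100) (g := fun m => tau (ofMask (cw m)))]
  · apply Finset.sum_congr rfl
    intro t _
    rw [Finset.sum_congr rfl (g := fun _ => g t) fun m hm => by rw [(mem_filter.1 hm).2],
      Finset.sum_const, smul_eq_mul, ← digit_sum_pow _ _ 8192 t (by simp), force_eq, ← tauG_eq,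
      treeSum_eq]
    simp only [force_eq, ← tau_ofMask]
    generalize (∑ j ∈ range (2 ^ 12), 8192 ^ tau (ofMask (cw j))) / 8192 ^ t % 8192 = d
    rcases d with _ | d
    · simp
    · rfl
  · intro m _
    have h1 := Finset.card_le_univ (ofMask (cw m))
    rw [card_golayPt] at h1
    rw [mem_range, tau]
    split_ifs <;> omega

def t2E (t : ℤ) : ℕ := t.natAbs ^ 2 + 1024 * (t + 5).toNat

def t2P (r : ℤ) : ℕ :=
  (([-5, -4, -3, -2, -1, 0, 1, 2, 3, 4, 5] : List ℤ).map
    fun t => if t % 4 = r then (2 ^ 40) ^ t2E t else 0).sum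

theorem t2P_eq (r : ℤ) :
    t2P r = ∑ t ∈ (Finset.Icc (-5 : ℤ) 5).filter fun t => t % 4 = r, (2 ^ 40) ^ t2E t := by
  rw [Finset.sum_filter]
  have : Finset.Icc (-5 : ℤ) 5 =
      ([-5, -4, -3, -2, -1, 0, 1, 2, 3, 4, 5] : List ℤ).toFinset := by decide
  rw [this, List.sum_toFinset _ (by decide)]
  rfl

/-- allowed values of the coordinate `i`. -/
noncomputable def t2S (a b : ℤ) (m : ℤ) (c : Finset GolayPt) (i : GolayPt) : Finset ℤ :=
  ((Finset.Icc (-5 : ℤ) 5).filter fun t => t % 4 = res m c i).filter fun t =>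
    (i = none → t = a) ∧ (i = some 0 → t = b)

def t2Q (m k : ℕ) : ℕ := t2P (m + 2) ^ k * t2P m ^ (22 - k)

def t2G (a b s : ℤ) (m : ℕ) (t : ℕ) : ℕ :=
  if a % 4 = m + 2 * (t / 2 % 2 : ℕ) ∧ b % 4 = m + 2 * (t % 2 : ℕ) then
    force (t / 4 - t / 2 % 2 - t % 2) fun k =>
      ((t2Q m k <<< (40 * (t2E a + t2E b))) >>> (40 * (32 + 1024 * (s + 120).toNat))) % 2 ^ 40
  else 0

theorem card_t2S (a b m : ℤ) (c : Finset GolayPt) (i : GolayPt) : (t2S a b m c i).card ≤ 3 := by
  refine (Finset.card_filter_le _ _).trans ?_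
  generalize res m c i = r
  by_cases h : 0 ≤ r ∧ r < 4
  · obtain ⟨h1, h2⟩ := h
    interval_cases r <;> decide
  · rw [Finset.filter_eq_empty_iff.2 fun t _ => by omega]
    simp

theorem card_t2 (a b s : ℤ) (ha : -5 ≤ a ∧ a ≤ 5) (hb : -5 ≤ b ∧ b ≤ 5) (hs : -120 ≤ s) (m : ℕ)
    (c : Finset GolayPt) :
    ((Fintype.piFinset (t2S a b m c)).filter fun x => sqNorm x = 32 ∧ ∑ i, x i = s).card =
      t2G a b s m (tau c) := by
  classical
  set F := Fintype.piFinset (t2S a b m c) with hF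
  have hcard : F.card < 2 ^ 40 := by
    rw [hF, Fintype.card_piFinset]
    calc ∏ i, (t2S a b m c i).card ≤ 3 ^ (univ : Finset GolayPt).card :=
          Finset.prod_le_pow_card _ _ _ fun i _ => card_t2S _ _ _ _ _
      _ < 2 ^ 40 := by rw [card_univ, card_golayPt]; norm_num
  have h1 : ∀ (i : GolayPt) (a : ℤ), -5 ≤ a ∧ a ≤ 5 →
      ∑ t ∈ ((Finset.Icc (-5 : ℤ) 5).filter fun t => t % 4 = res m c i).filter (· = a),
        (2 ^ 40) ^ t2E t = if a % 4 = res m c i then (2 ^ 40) ^ t2E a else 0 := by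
    intro i a ha
    rw [Finset.filter_eq']
    simp only [mem_filter, mem_Icc, ha, true_and]
    split_ifs <;> simp
  have hk : ((univ.erase none).erase (some 0)).filter (· ∈ c) = (c.erase none).erase (some 0) := by
    ext i; simp only [mem_filter, mem_erase, mem_univ]; tauto
  have hk2 : ((c.erase none).erase (some 0)).card =
      tau c / 4 - tau c / 2 % 2 - tau c % 2 := by
    rw [Finset.card_erase_eq_ite, Finset.card_erase_eq_ite, tau]
    have : some 0 ∈ c.erase none ↔ some 0 ∈ c := by simp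
    simp only [this]
    split_ifs <;> omega
  have hprod : ∑ x ∈ F, (2 ^ 40) ^ (∑ i, t2E (x i)) =
      (if a % 4 = res m c none then (2 ^ 40) ^ t2E a else 0) *
      ((if b % 4 = res m c (some 0) then (2 ^ 40) ^ t2E b else 0) *
        t2Q m (tau c / 4 - tau c / 2 % 2 - tau c % 2)) := by
    simp only [← Finset.prod_pow_eq_pow_sum]
    rw [hF, ← Finset.prod_univ_sum (f := fun _ t => (2 ^ 40) ^ t2E t),
      ← Finset.mul_prod_erase _ _ (mem_univ none),
      ← Finset.mul_prod_erase _ _ (show (some 0 : GolayPt) ∈ univ.erase none by simp), ← h1 none a ha,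
      ← h1 (some 0) b hb]
    refine congrArg₂ (· * ·) (by simp [t2S]) (congrArg₂ (· * ·) (by simp [t2S]) ?_)
    rw [Finset.prod_congr rfl (g := fun i => if i ∈ c then t2P (m + 2) else t2P m), Finset.prod_ite,
      Finset.prod_const, Finset.prod_const, t2Q, ← hk2, ← hk]
    · congr 2
      have := Finset.card_filter_add_card_filter_not
        (s := (univ.erase none).erase (some (0 : ZMod 23))) (· ∈ c)
      rw [show ((univ.erase none).erase (some (0 : ZMod 23))).card = 22 by decide] at this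
      exact Nat.eq_sub_of_add_eq' this
    · intro i hi
      simp only [mem_erase] at hi
      rw [← apply_ite t2P, t2P_eq]
      simp only [t2S, hi.1, hi.2.1, false_imp_iff, and_self, filter_true]
      rfl
  have hpar : ∀ x ∈ F, (sqNorm x = 32 ∧ ∑ i, x i = s) ↔
      ∑ i, t2E (x i) = 32 + 1024 * (s + 120).toNat := by
    intro x hx
    have hx' : ∀ i, -5 ≤ x i ∧ x i ≤ 5 := by
      intro i
      have := Fintype.mem_piFinset.1 hx i
      simp only [t2S, mem_filter, mem_Icc] at this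
      exact this.1.1
    have hsq : sqNorm x = ((∑ i, (x i).natAbs ^ 2 : ℕ) : ℤ) := by
      rw [Nat.cast_sum]
      exact Finset.sum_congr rfl fun i _ => by rw [Nat.cast_pow, Int.natAbs_sq]
    have hsm : ∑ i, x i + 120 = ((∑ i, (x i + 5).toNat : ℕ) : ℤ) := by
      rw [Nat.cast_sum, show (120 : ℤ) = 24 * 5 by norm_num, ← sum_const24, ← Finset.sum_add_distrib]
      exact Finset.sum_congr rfl fun i _ => by have := hx' i; omega
    have hlt : ∑ i, (x i).natAbs ^ 2 < 1024 :=
      calc ∑ i, (x i).natAbs ^ 2 ≤ (univ : Finset GolayPt).card • 25 := by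
            apply Finset.sum_le_card_nsmul
            intro i _
            have : (x i).natAbs ≤ 5 := by have := hx' i; omega
            exact Nat.pow_le_pow_left this 2
        _ < 1024 := by rw [card_univ, card_golayPt]; norm_num
    have : ∑ i, t2E (x i) = ∑ i, (x i).natAbs ^ 2 + 1024 * ∑ i, (x i + 5).toNat := by
      rw [Finset.mul_sum, ← Finset.sum_add_distrib]; rfl
    rw [this, hsq]
    generalize ∑ i, (x i).natAbs ^ 2 = A at *
    generalize ∑ i, (x i + 5).toNat = B at *
    generalize ∑ i, x i = C at *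
    omega
  rw [Finset.filter_congr hpar, ← digit_sum_pow F _ _ _ hcard, hprod, t2G, force_eq]
  have e1 : res m c none = m + 2 * (tau c / 2 % 2 : ℕ) := by
    rw [res, tau]; split_ifs <;> omega
  have e2 : res m c (some 0) = m + 2 * (tau c % 2 : ℕ) := by
    rw [res, tau]; split_ifs <;> omega
  rw [e1, e2]
  split_ifs with h1 h2 h3
  · rw [Nat.shiftLeft_eq, Nat.shiftRight_eq_div_pow, pow_mul, pow_mul, pow_add]
    congr 2
    ring
  · tauto
  · tauto
  · simp
  · tauto
  · simp
  · tauto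
  · simp

/-- the number of minimal vectors with prescribed `x ∞`, `x 0` and coordinate sum. -/
def t2C (a b s : ℤ) (m : ℕ) : ℕ :=
  sumLt 100 fun t => force (tauG / 8192 ^ t % 8192) fun d => cond (Nat.beq d 0) 0 (d * t2G a b s m t)

theorem ncard_abs (a b s : ℤ) (ha : -5 ≤ a ∧ a ≤ 5) (hb : -5 ≤ b ∧ b ≤ 5) (hs : -120 ≤ s) (m : ℕ)
    (hm : m < 2) (hsm : (s - 4 * m) % 8 = 0) :
    {x : V | x ∈ leechLattice ∧ sqNorm x = 32 ∧ x none = a ∧ x (some 0) = b ∧ ∑ i, x i = s}.ncard =
      t2C a b s m := by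
  classical
  have hmem : ∀ c ∈ GC, ∀ x : V, x ∈ ((Fintype.piFinset (t2S a b m c)).filter fun x =>
      sqNorm x = 32 ∧ ∑ i, x i = s) ↔
      LD x m c ∧ sqNorm x = 32 ∧ x none = a ∧ x (some 0) = b ∧ ∑ i, x i = s := by
    intro c hc x
    simp only [mem_filter, Fintype.mem_piFinset, t2S, mem_Icc, LD, hc, true_and]
    constructor
    · rintro ⟨h1, h2, h3⟩
      refine ⟨⟨fun i => ?_, by rw [h3]; omega⟩, h2, (h1 none).2.1 rfl, (h1 (some 0)).2.2 rfl, h3⟩
      have := (h1 i).1.2
      omega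
    · rintro ⟨⟨h1, -⟩, h2, h3, h4, h5⟩
      refine ⟨fun i => ⟨⟨coord_bound h2 i, ?_⟩, fun h => h ▸ h3, fun h => h ▸ h4⟩, h2, h5⟩
      have := h1 i
      unfold res at *
      split_ifs at this ⊢ <;> omega
  have e : {x : V | x ∈ leechLattice ∧ sqNorm x = 32 ∧ x none = a ∧ x (some 0) = b ∧ ∑ i, x i = s} =
      ((GCf.biUnion fun c => (Fintype.piFinset (t2S a b m c)).filter fun x =>
        sqNorm x = 32 ∧ ∑ i, x i = s : Finset V) : Set V) := by
    ext x
    simp only [Set.mem_ofPred_eq, mem_coe, mem_biUnion, mem_GCf, mem_L_iff01]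
    constructor
    · rintro ⟨⟨c, h⟩, h2⟩
      have : LD x m c := by
        have h3 := h2.2.2.2
        rcases h with h | h <;> have h4 := h.2.2 <;> rw [h3] at h4
        · rwa [show (m : ℤ) = 0 by omega]
        · rwa [show (m : ℤ) = 1 by omega]
      exact ⟨c, this.1, (hmem c this.1 x).2 ⟨this, h2⟩⟩
    · rintro ⟨c, hc, h⟩
      have := (hmem c hc x).1 h
      exact ⟨(mem_L_iff01 x).1 this.1.mem, this.2⟩
  rw [e, Set.ncard_coe_finset, Finset.card_biUnion, t2C, ← sum_GCf_tau]
  · exact Finset.sum_congr rfl fun c _ => card_t2 a b s ha hb hs m c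
  · intro c hc d hd hcd
    rw [Function.onFun, Finset.disjoint_left]
    intro x h1 h2
    exact hcd (((hmem c (mem_GCf.1 hc) x).1 h1).1.unique ((hmem d (mem_GCf.1 hd) x).1 h2).1)

theorem dU_eq (x : L) : dU x = 4 * (x : V) none + 4 * (x : V) (some 0) := by
  have : (vU : V) = Pi.single none 4 + Pi.single (some 0) 4 := by
    funext p; simp only [Pi.add_apply, Pi.single_apply]; revert p; decide
  rw [dU, this, dot_add_left, dot_single_left, dot_single_left]

theorem dU'_eq (x : L) : dU' x = 4 * (x : V) none - 4 * (x : V) (some 0) := by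
  have : (vU' : V) = Pi.single none 4 - Pi.single (some 0) 4 := by
    funext p; simp only [Pi.sub_apply, Pi.single_apply]; revert p; decide
  rw [dU', this, dot_sub_left, dot_single_left, dot_single_left]

theorem dV_eq (x : L) : dV x = -4 * (x : V) none - ∑ i, (x : V) i := by
  have : (vV : V) = Pi.single none (-4) - fun _ => 1 := by
    funext p; simp only [Pi.sub_apply, Pi.single_apply]; revert p; decide
  rw [dV, this, dot_sub_left, dot_single_left]
  simp only [dotInt, one_mul]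

/-- check of one line of the table. -/
def tyOK (e : ℤ × ℤ × ℤ × ℕ) : Bool :=
  decide ((e.1 + e.2.1) % 8 = 0 ∧ (e.1 - e.2.1) % 8 = 0 ∧ -40 ≤ e.1 + e.2.1 ∧ e.1 + e.2.1 ≤ 40 ∧
    -40 ≤ e.1 - e.2.1 ∧ e.1 - e.2.1 ≤ 40 ∧ -120 ≤ -e.2.2.1 - (e.1 + e.2.1) / 2 ∧
    (e.2.2.1 + (e.1 + e.2.1) / 2) % 4 = 0) &&
  Nat.beq (t2C ((e.1 + e.2.1) / 8) ((e.1 - e.2.1) / 8) (-e.2.2.1 - (e.1 + e.2.1) / 2)
    ((e.2.2.1 + (e.1 + e.2.1) / 2) / 4 % 2).toNat) e.2.2.2

theorem tyOK_all : tyL.all tyOK = true := by decide +kernel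

theorem ncard_ty : ∀ e ∈ tyL, {x : L | sqNorm (x : V) = 32 ∧ dU x = e.1 ∧ dU' x = e.2.1 ∧
    dV x = e.2.2.1}.ncard = e.2.2.2 := by
  rintro ⟨p, q, r, n⟩ he
  have h := List.all_eq_true.1 tyOK_all _ he
  simp only [tyOK, Bool.and_eq_true, decide_eq_true_eq, beq_iff] at h
  obtain ⟨h1, h2⟩ := h
  rw [← ncard_abs _ _ _ (by omega) (by omega) (by omega) _ (by omega) (by omega)] at h2
  simp only
  rw [← h2, ← Set.ncard_image_of_injective _ Subtype.val_injective]
  apply congrArg Set.ncard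
  ext x
  simp only [Set.mem_image, Set.mem_ofPred_eq, dU_eq, dU'_eq, dV_eq]
  constructor
  · rintro ⟨y, ⟨a, b, c, d⟩, rfl⟩
    refine ⟨y.2, a, ?_⟩
    generalize ∑ i, (y : V) i = S at *
    omega
  · rintro ⟨h, a, b, c, d⟩
    refine ⟨⟨x, h⟩, ⟨a, ?_⟩, rfl⟩
    simp only
    generalize ∑ i, x i = S at *
    omega

theorem ty_cover (x : L) (hn : sqNorm (x : V) = 32) :
    (dU x, dU' x, dV x) ∈ tyL.map fun e => (e.1, e.2.1, e.2.2.1) :=
  forall_min (fun a b c _ => (a, b, c) ∈ tyL.map fun e => (e.1, e.2.1, e.2.2.1))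
    (by decide +kernel) x hn

/-- number of minimal vectors whose inner products with `U`, `U'`, `V` satisfy `P`. -/
def cntP (P : ℤ → ℤ → ℤ → Bool) : ℕ :=
  (tyL.map fun e => cond (P e.1 e.2.1 e.2.2.1) e.2.2.2 0).sum

theorem ncard_key {X K : Type*} [DecidableEq K] (S : Set X) (hS : S.Finite) (κ : X → K)
    (l : List (K × ℕ)) (hl : (l.map Prod.fst).Nodup)
    (hn : ∀ e ∈ l, {x | x ∈ S ∧ κ x = e.1}.ncard = e.2) (P : K → Bool) :
    {x | x ∈ S ∧ κ x ∈ l.map Prod.fst ∧ P (κ x) = true}.ncard =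
      (l.map fun e => cond (P e.1) e.2 0).sum := by
  induction l with
  | nil => simp
  | cons e l ih =>
    rw [List.map_cons, List.nodup_cons] at hl
    rw [List.map_cons, List.map_cons, List.sum_cons,
      ← ih hl.2 fun e he => hn e (List.mem_cons_of_mem _ he)]
    cases hP : P e.1
    · simp only [cond_false, zero_add]
      congr 1
      ext x
      simp only [List.mem_cons, Set.mem_ofPred_eq]
      constructor
      · rintro ⟨h1, h2 | h2, h3⟩
        · rw [h2, hP] at h3; exact absurd h3 (by simp)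
        · exact ⟨h1, h2, h3⟩
      · rintro ⟨h1, h2, h3⟩
        exact ⟨h1, Or.inr h2, h3⟩
    · simp only [cond_true]
      rw [← hn e List.mem_cons_self, ← Set.ncard_union_eq _ (hS.subset fun x hx => hx.1)
        (hS.subset fun x hx => hx.1)]
      · congr 1
        ext x
        simp only [List.mem_cons, Set.mem_ofPred_eq, Set.mem_union]
        constructor
        · rintro ⟨h1, h2 | h2, h3⟩
          · exact Or.inl ⟨h1, h2⟩
          · exact Or.inr ⟨h1, h2, h3⟩
        · rintro (⟨h1, h2⟩ | ⟨h1, h2, h3⟩)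
          · exact ⟨h1, Or.inl h2, h2 ▸ hP⟩
          · exact ⟨h1, Or.inr h2, h3⟩
      · rw [Set.disjoint_left]
        rintro x ⟨-, h⟩ ⟨-, h', -⟩
        exact hl.1 (h ▸ h')

theorem ncard_P (P : ℤ → ℤ → ℤ → Bool) :
    {x : L | sqNorm (x : V) = 32 ∧ P (dU x) (dU' x) (dV x) = true}.ncard = cntP P := by
  have := ncard_key {x : L | sqNorm (x : V) = 32} (finite_normL 32) (fun x => (dU x, dU' x, dV x))
    (tyL.map fun e => ((e.1, e.2.1, e.2.2.1), e.2.2.2)) (by decide +kernel) (by
      intro e he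
      obtain ⟨e, he', rfl⟩ := List.mem_map.1 he
      rw [← ncard_ty e he']
      apply congrArg Set.ncard
      ext x
      simp only [Set.mem_ofPred_eq, Prod.mk.injEq]) (fun k => P k.1 k.2.1 k.2.2)
  rw [List.map_map, List.map_map] at this
  refine Eq.trans ?_ this
  apply congrArg Set.ncard
  ext x
  exact ⟨fun h => ⟨h.1, ty_cover x h.1, h.2⟩, fun h => ⟨h.1, h.2.2⟩⟩

theorem ncard_of_P (S : Set L) (P : ℤ → ℤ → ℤ → Bool) {n : ℕ} (hn : cntP P = n)
    (h : ∀ x : L, x ∈ S ↔ sqNorm (x : V) = 32 ∧ P (dU x) (dU' x) (dV x) = true) : S.ncard = n := by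
  rw [← hn, ← ncard_P]
  exact congrArg Set.ncard (Set.ext h)

end H10
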