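import Mathlib
import Cfsg.Agent.H19.K3A

/-!
# An automizer of order `168` of an elementary group of order eight is transitive on bases
-/

set_option autoImplicit false
set_option linter.unusedSectionVars false
set_option linter.unusedVariables false

open Cfsg H24 H26 Subgroup H19.K3

namespace H10.K3L

universe u

variable {G : Type u} [Group G] [Finite G] {V : Subgroup G} {a b c a' b' c' m : G}

theorem card_four [DecidableEq G] (aa : a * a = 1) (a1 : a ≠ 1) (b1 : b ≠ 1) (ba : b ≠ a) :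
    ({1, a, b, a * b} : Finset G).card = 4 := by
  have h1 : a * b ≠ 1 := fun e => ba (by rw [← one_mul b, ← aa, mul_assoc, e, mul_one])
  rw [Finset.card_eq_four]
  exact ⟨1, a, b, a * b, a1.symm, b1.symm, h1.symm, ba.symm, by simpa using b1, by simpa using a1, rfl⟩

theorem Ind.conj (h : Ind a b c) (m : G) : Ind (m * a * m⁻¹) (m * b * m⁻¹) (m * c * m⁻¹) := by
  have e : ∀ x y : G, m * x * m⁻¹ * (m * y * m⁻¹) = m * (x * y) * m⁻¹ := fun x y => by group
  have i : ∀ {x y : G}, x ≠ y → m * x * m⁻¹ ≠ m * y * m⁻¹ := fun h e => h (by simpa using e)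
  have o : ∀ {x : G}, x ≠ 1 → m * x * m⁻¹ ≠ 1 := fun h => by simpa using i h
  refine ⟨?_, ?_, ?_, ?_, ?_, ?_, o h.z1, o h.u1, i h.uz, o h.v1, i h.vz, i h.vu, ?_⟩ <;> rw [e]
  · simp [h.zz]
  · simp [h.uu]
  · simp [h.vv]
  · rw [e, h.zu]
  · rw [e, h.zv]
  · rw [e, h.uv]
  · exact i h.vzu

theorem gen (cV : ♯V = 8) (ha : a ∈ V) (hb : b ∈ V) (hc : c ∈ V) (h : Ind a b c) :
    closure {a, b, c} = V := by
  classical
  have hle : closure {a, b, c} ≤ V := by
    rw [closure_le]
    rintro x (rfl | rfl | rfl) <;> assumption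
  have m1 : a ∈ closure ({a, b, c} : Set G) := subset_closure (by simp)
  have m2 : b ∈ closure ({a, b, c} : Set G) := subset_closure (by simp)
  have m3 : c ∈ closure ({a, b, c} : Set G) := subset_closure (by simp)
  have h5 : 5 ≤ ♯(closure ({a, b, c} : Set G)) := by
    have e : (insert c ({1, a, b, a * b} : Finset G)).card = 5 := by
      rw [Finset.card_insert_of_notMem (by simp [h.v1, h.vz, h.vu, h.vzu]),
        card_four h.zz h.z1 h.u1 h.uz]
    rw [← e, ← Set.ncard_coe_finset]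
    refine Set.ncard_le_ncard (t := (closure ({a, b, c} : Set G) : Set G)) ?_
    intro x hx
    simp only [Finset.coe_insert, Finset.coe_singleton, Set.mem_insert_iff, Set.mem_singleton_iff] at hx
    rcases hx with rfl | rfl | rfl | rfl | rfl
    exacts [m3, one_mem _, m1, m2, mul_mem m1 m2]
  have hd := card_dvd hle
  rw [cV] at hd
  refine eq_of_le_of_card_ge hle ?_
  have := Nat.le_of_dvd (by norm_num) hd
  rw [cV]
  interval_cases h : ♯(closure ({a, b, c} : Set G)) <;> simp_all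

theorem cent (cV : ♯V = 8) (ha : a ∈ V) (hb : b ∈ V) (hc : c ∈ V) (h : Ind a b c)
    (e1 : m * a * m⁻¹ = a) (e2 : m * b * m⁻¹ = b) (e3 : m * c * m⁻¹ = c) : m ∈ C[V] := by
  rw [← gen cV ha hb hc h, mem_C_iff_le_C1, closure_le]
  rintro x (rfl | rfl | rfl)
  all_goals exact mem_C1_comm.1 (mem_C1_iff_conj.2 ‹_›)

theorem aut (hV : IsElementaryAbelian 2 V) (cV : ♯V = 8) (cN : ♯N[V] = ♯C[V] * 168)
    (ha : a ∈ V) (hb : b ∈ V) (hc : c ∈ V) (ha' : a' ∈ V) (hb' : b' ∈ V) (hc' : c' ∈ V)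
    (h : Ind a b c) (h' : Ind a' b' c') :
    ∃ m ∈ N[V], m * a * m⁻¹ = a' ∧ m * b * m⁻¹ = b' ∧ m * c * m⁻¹ = c' := by
  classical
  let s : Finset G := (Set.toFinite (V : Set G)).toFinset
  have ms : ∀ x, x ∈ s ↔ x ∈ V := fun x => Set.Finite.mem_toFinset _
  have cs : s.card = 8 := by
    rw [← cV, ← Set.ncard_eq_toFinset_card]; rfl
  let X : Finset (Σ _ : G, Σ _ : G, G) :=
    (s \ {1}).sigma fun x => (s \ {1, x}).sigma fun y => s \ {1, x, y, x * y}
  have cX : X.card = 168 := by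
    have e1 : (s \ {1}).card = 7 := by
      rw [Finset.card_sdiff_of_subset (by simp [ms]), cs]; simp
    rw [Finset.card_sigma, Finset.sum_const_nat (m := 24), e1]
    intro x hx
    simp only [Finset.mem_sdiff, Finset.mem_singleton, ms] at hx
    have e2 : (s \ {1, x}).card = 6 := by
      rw [Finset.card_sdiff_of_subset (by simp [Finset.insert_subset_iff, ms, hx.1]), cs,
        Finset.card_pair (Ne.symm hx.2)]
    rw [Finset.card_sigma, Finset.sum_const_nat (m := 4), e2]
    intro y hy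
    simp only [Finset.mem_sdiff, Finset.mem_insert, Finset.mem_singleton, ms, not_or] at hy
    rw [Finset.card_sdiff_of_subset (by
      simp [Finset.insert_subset_iff, ms, hx.1, hy.1, mul_mem hx.1 hy.1]), cs,
      card_four (by rw [← pow_two]; exact hV.2 x hx.1) hx.2 hy.2.1 hy.2.2]
  have mX : ∀ {x y z : G}, x ∈ V → y ∈ V → z ∈ V → Ind x y z → (⟨x, y, z⟩ : Σ _ : G, Σ _ : G, G) ∈ X :=
    fun hx hy hz i => by simp [X, ms, hx, hy, hz, i.z1, i.u1, i.uz, i.v1, i.vz, i.vu, i.vzu]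
  have cj : ∀ (n : N[V]) {x : G}, x ∈ V → (n : G) * x * (n : G)⁻¹ ∈ V := fun n x hx => (mem_N.1 n.2 x).1 hx
  let f : N[V] → X := fun n => ⟨⟨n * a * (n : G)⁻¹, n * b * (n : G)⁻¹, n * c * (n : G)⁻¹⟩,
    mX (cj n ha) (cj n hb) (cj n hc) (Ind.conj h n)⟩
  let σ : N[V] ⧸ C[V].subgroupOf N[V] → X := fun q => f q.out
  have hσ : Function.Injective σ := by
    intro q r e
    have e' := congrArg Subtype.val e
    simp only [σ, f, Sigma.mk.injEq, heq_eq_eq] at e'
    rw [← q.out_eq, ← r.out_eq]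
    refine QuotientGroup.eq.2 (mem_subgroupOf.2 (cent cV ha hb hc h ?_ ?_ ?_))
    all_goals
      simp only [coe_mul, coe_inv, mul_inv_rev, inv_inv]
    · calc _ = (q.out : G)⁻¹ * (r.out * a * (r.out : G)⁻¹) * q.out := by group
        _ = a := by rw [← e'.1]; group
    · calc _ = (q.out : G)⁻¹ * (r.out * b * (r.out : G)⁻¹) * q.out := by group
        _ = b := by rw [← e'.2.1]; group
    · calc _ = (q.out : G)⁻¹ * (r.out * c * (r.out : G)⁻¹) * q.out := by group
        _ = c := by rw [← e'.2.2]; group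
  have cq : Nat.card (N[V] ⧸ C[V].subgroupOf N[V]) = 168 := by
    have := card_mul_relIndex (C_le_N V)
    rw [cN] at this
    exact Nat.eq_of_mul_eq_mul_left Nat.card_pos this
  obtain ⟨q, hq⟩ := (hσ.bijective_of_nat_card_le (by rw [cq, Nat.card_eq_fintype_card, Fintype.card_coe, cX])).2
    ⟨_, mX ha' hb' hc' h'⟩
  have e' := congrArg Subtype.val hq
  simp only [σ, f, Sigma.mk.injEq, heq_eq_eq] at e'
  exact ⟨q.out, q.out.2, e'⟩

end H10.K3L
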