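import Mathlib
import Cfsg.Agent.H13.K3L0

/-!
# A vector fixed by the point stabiliser of `GL(3,2)`
-/

set_option autoImplicit false
set_option linter.unusedSectionVars false
set_option linter.unusedVariables false

open Cfsg H24 Subgroup H13.K3

namespace H10.K3L

universe u

namespace PX1x

/-- transvections with centre `e0` -/
def tv (a : ZMod 2 × ZMod 2) : En := !![1, a.1, a.2; 0, 1, 0; 0, 0, 1]

def sw : En := !![1, 0, 0; 0, 0, 1; 0, 1, 0]

def sg (a : ZMod 2 × ZMod 2) : ZMod 2 × ZMod 2 := (a.1 + a.2, a.1)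

theorem tv_mul : ∀ a b, tv a * tv b = tv (a + b) := by decide +kernel

theorem tv_sq : ∀ a, tv a * tv a = 1 := by decide +kernel

theorem tv_zero : tv 0 = 1 := by decide +kernel

theorem tv_e0 : ∀ a, (tv a).mulVec e0 = e0 := by decide +kernel

theorem Y_tv : ∀ a, Y3 * tv a = tv (sg a) * Y3 := by decide +kernel

theorem tv_sw : ∀ a, tv a * sw = sw * tv (a.2, a.1) := by decide +kernel

theorem Y_sw : Y3 * sw = sw * (Y3 * Y3) := by decide +kernel

theorem sw_sq : sw * sw = 1 := by decide +kernel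

theorem orb : ∀ a b : ZMod 2 × ZMod 2, a ≠ 0 → b = 0 ∨ b = a ∨ b = sg a ∨ b = sg (sg a) := by
  decide +kernel

theorem sg_ne : ∀ a b : ZMod 2 × ZMod 2, a ≠ b → a + b + sg (a + b) ≠ 0 := by decide +kernel

theorem add3 : ∀ a b : ZMod 2 × ZMod 2, b + a = a + b := fun a b => add_comm b a

theorem fixY : ∀ v : W, Y3.mulVec v = v → v ≠ 0 → v = e0 := by decide +kernel

theorem stab : ∀ A : En, A.mulVec e0 = e0 → (∀ v, A.mulVec v = 0 → v = 0) →
    ∃ a, A = tv a ∨ A = tv a * Y3 ∨ A = tv a * (Y3 * Y3) ∨ A = tv a * sw ∨ A = tv a * (Y3 * sw) ∨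
      A = tv a * (Y3 * (Y3 * sw)) := by decide +kernel

theorem mv : ∀ v : W, v ≠ 0 → ∃ A : En, A * A * (A * A) = 1 ∧ A.mulVec e0 = v := by decide +kernel

theorem card_W : Nat.card {v : W // v ≠ 0} = 7 := by
  rw [Nat.card_eq_fintype_card]; decide +kernel

theorem num (c : ℕ) (h4 : c ≤ 4) (h0 : 0 < c) (h1 : c ^ 3 ≠ 1) (h : 7 * (2 * 2 * (c - 1)) ≤ c ^ 3) :
    False := by
  interval_cases c <;> simp_all

end PX1x

open PX1x in
theorem px1 {H K : Type u} [Group H] [Group K] [Finite K] (θ : H →* K) (ψ : H →* En)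
    (X : Subgroup K) (sur : ∀ A B : En, A * B = 1 → ∃ m, ψ m = A)
    (nX : ∀ m, ∀ x ∈ X, θ m * x * (θ m)⁻¹ ∈ X)
    (ker : ∀ m, ψ m = 1 → ∀ x ∈ X, θ m * x * (θ m)⁻¹ = x) (two : ∀ x ∈ X, x * x = 1)
    (π : K → W) (hπ : ∀ m, ∀ x ∈ X, π (θ m * x * (θ m)⁻¹) = (ψ m).mulVec (π x)) {y : H}
    (hy : ψ y = Y3) (nz : ∀ x ∈ X, x ∈ C{θ y} → x ≠ 1 → π x ≠ 0)
    (c4 : ♯(X ⊓ C{θ y} : Subgroup K) ≤ 4) (hX : ♯X = ♯(X ⊓ C{θ y} : Subgroup K) ^ 3)
    (X1 : X ≠ ⊥) :
    ∃ b ∈ X, b ≠ 1 ∧ ∀ m, (ψ m).mulVec e0 = e0 → θ m * b * (θ m)⁻¹ = b := by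
  classical
  let A : H → K → K := fun m x => θ m * x * (θ m)⁻¹
  have Am : ∀ m m' x, A (m * m') x = A m (A m' x) := fun m m' x => by
    simp only [A, map_mul]; group
  have Ainj : ∀ m x x', A m x = A m x' → x = x' := fun m x x' e => by simpa [A] using e
  have wd : ∀ m m', ψ m = ψ m' → ∀ x ∈ X, A m x = A m' x := fun m m' e x hx => by
    have h1 : A (m'⁻¹ * m) x = x :=
      ker _ (by rw [map_mul, e, ← map_mul, inv_mul_cancel, map_one]) x hx
    calc A m x = A (m' * (m'⁻¹ * m)) x := by rw [mul_inv_cancel_left]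
      _ = _ := by rw [Am, h1]
  choose μ hμ using fun a => sur _ _ (tv_sq a)
  have μμ : ∀ a b, ∀ x ∈ X, A (μ a) (A (μ b) x) = A (μ (a + b)) x := fun a b x hx => by
    rw [← Am]; exact wd _ _ (by rw [map_mul, hμ, hμ, hμ, tv_mul]) x hx
  have μ0 : ∀ x ∈ X, A (μ 0) x = x := ker _ (by rw [hμ, tv_zero])
  have yμ : ∀ a, ∀ x ∈ X, A y (A (μ a) x) = A (μ (sg a)) (A y x) := fun a x hx => by
    rw [← Am, ← Am]; exact wd _ _ (by rw [map_mul, map_mul, hμ, hμ, hy, Y_tv]) x hx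
  have yD : ∀ d, d ∈ C{θ y} → A y d = d := fun d hd => mem_C1_iff_conj.1 (mem_C1_comm.1 hd)
  have all : ∀ d ∈ X, A y d = d → ∀ a, a ≠ 0 → A (μ a) d = d → ∀ b, A (μ b) d = d := by
    intro d hd h1 a ha h2 b
    have st : ∀ a, A (μ a) d = d → A (μ (sg a)) d = d := fun a h => by
      have := yμ a d hd
      rw [h, h1] at this
      exact this.symm
    rcases orb a b ha with e | e | e | e <;> rw [e]
    · exact μ0 d hd
    · exact h2
    · exact st _ h2
    · exact st _ (st _ h2)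
  obtain ⟨d, hd, d1, hyd, hR⟩ : ∃ d ∈ X, d ≠ 1 ∧ A y d = d ∧ ∀ b, A (μ b) d = d := by
    by_contra hn
    choose M hM1 hM2 using mv
    choose g hg using fun (v : {v : W // v ≠ 0}) =>
      sur (M v.1 v.2) _ ((mul_assoc _ _ _).symm.trans (hM1 v.1 v.2))
    let f : {v : W // v ≠ 0} × (ZMod 2 × ZMod 2) × {d : ↥(X ⊓ C{θ y} : Subgroup K) // d ≠ 1} → X :=
      fun t => ⟨A (g t.1) (A (μ t.2.1) t.2.2.1), nX _ _ (nX _ _ t.2.2.1.2.1)⟩
    have pf : ∀ t, π (f t) = t.1.1 := fun t => by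
      have h0 := t.2.2.1.2
      have h1 : π t.2.2.1 = e0 := by
        refine fixY _ ?_ (nz _ h0.1 h0.2 fun e => t.2.2.2 (Subtype.ext e))
        rw [← hy, ← hπ y _ h0.1]
        exact congrArg π (yD _ h0.2)
      have h2 := hπ (g t.1) _ (nX (μ t.2.1) _ h0.1)
      rw [hπ _ _ h0.1, h1, hμ, tv_e0, hg, hM2] at h2
      exact h2
    have inj : Function.Injective f := by
      rintro ⟨v, a, d⟩ ⟨v', a', d'⟩ e
      have e1 : v = v' := Subtype.ext (by
        have h1 := pf (v, a, d)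
        have h2 := pf (v', a', d')
        rw [e] at h1
        exact h1.symm.trans h2)
      subst e1
      have e2 : A (μ a) d.1 = A (μ a') d'.1 := Ainj _ _ _ (congrArg Subtype.val e)
      by_cases ha : a = a'
      · subst ha
        have := Ainj _ _ _ e2
        rw [Subtype.ext (Subtype.ext this : d.1 = d'.1)]
      exfalso
      have h0 := d.1.2
      have h0' := d'.1.2
      have e3 : A (μ (a + a')) d.1 = d'.1 := by
        rw [add3, ← μμ _ _ _ h0.1, e2, μμ _ _ _ h0'.1]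
        exact ker _ (by rw [hμ, ← tv_mul, tv_sq]) _ h0'.1
      have e4 := yμ (a + a') _ h0.1
      rw [e3, yD _ h0'.2, yD _ h0.2] at e4
      have e5 : A (μ (a + a' + sg (a + a'))) d.1 = d.1 := by
        rw [← μμ _ _ _ h0.1, ← e4, ← e3, μμ _ _ _ h0.1]
        exact ker _ (by rw [hμ, ← tv_mul, tv_sq]) _ h0.1
      exact hn ⟨d.1, h0.1, fun e => d.2 (Subtype.ext e), yD _ h0.2,
        all _ h0.1 (yD _ h0.2) _ (sg_ne a a' ha) e5⟩
    have hc := Nat.card_le_card_of_injective f inj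
    have h3 : Nat.card {d : ↥(X ⊓ C{θ y} : Subgroup K) // d ≠ 1} =
        ♯(X ⊓ C{θ y} : Subgroup K) - 1 := by
      have := Fintype.ofFinite ↥(X ⊓ C{θ y} : Subgroup K)
      rw [Nat.card_eq_fintype_card, Nat.card_eq_fintype_card, Fintype.card_subtype_compl,
        Fintype.card_subtype_eq]
    have h4 : ♯X ≠ 1 := fun e => X1 (Subgroup.card_eq_one.1 e)
    rw [Nat.card_prod, Nat.card_prod, Nat.card_prod, card_W, Nat.card_zmod, h3, hX] at hc
    rw [hX] at h4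
    have h5 : 0 < ♯(X ⊓ C{θ y} : Subgroup K) := Nat.card_pos
    exact num _ c4 h5 h4 hc
  obtain ⟨τ, hτ⟩ := sur _ _ sw_sq
  have hd' : A τ d ∈ X := nX _ _ hd
  have t1 : A y (A τ d) = A τ d := by
    rw [← Am, wd (y * τ) (τ * (y * y)) (by simp only [map_mul, hy, hτ, Y_sw]) d hd, Am, Am, hyd,
      hyd]
  have t2 : ∀ b, A (μ b) (A τ d) = A τ d := fun b => by
    rw [← Am, wd (μ b * τ) (τ * μ (b.2, b.1)) (by simp only [map_mul, hμ, hτ, tv_sw]) d hd, Am, hR]
  have t3 : A τ (A τ d) = d := by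
    rw [← Am]; exact ker _ (by rw [map_mul, hτ, sw_sq]) d hd
  have fin : ∀ b ∈ X, A y b = b → (∀ a, A (μ a) b = b) → A τ b = b →
      ∀ m, (ψ m).mulVec e0 = e0 → A m b = b := by
    intro b hb h1 h2 h3 m hm
    obtain ⟨a, h⟩ := stab (ψ m) hm fun v hv => by
      have : (ψ m⁻¹).mulVec ((ψ m).mulVec v) = v := by
        rw [Matrix.mulVec_mulVec, ← map_mul, inv_mul_cancel, map_one, Matrix.one_mulVec]
      rw [← this, hv, Matrix.mulVec_zero]
    rw [← hμ, ← hy, ← hτ] at h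
    simp only [← map_mul] at h
    rcases h with h | h | h | h | h | h <;> rw [wd _ _ h b hb] <;> simp only [Am, h1, h2, h3]
  by_cases e : A τ d = d
  · exact ⟨d, hd, d1, fin d hd hyd hR e⟩
  have Amul : ∀ m x x', A m (x * x') = A m x * A m x' := fun m x x' => by simp only [A]; group
  have comm : A τ d * d = d * A τ d := by
    rw [← inv_eq_of_mul_eq_one_right (two _ (mul_mem hd' hd)), mul_inv_rev,
      inv_eq_of_mul_eq_one_right (two _ hd), inv_eq_of_mul_eq_one_right (two _ hd')]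
  refine ⟨d * A τ d, mul_mem hd hd', fun e1 => e ?_, fin _ (mul_mem hd hd') ?_ (fun a => ?_) ?_⟩
  · rw [← inv_eq_of_mul_eq_one_right e1, inv_eq_of_mul_eq_one_right (two _ hd)]
  · rw [Amul, hyd, t1]
  · rw [Amul, hR, t2]
  · rw [Amul, t3, comm]

end H10.K3L
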