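import Mathlib
import Cfsg.Agent.H10.MSimple
import Cfsg.Agent.H10.MGen

/-! # Counting axes. -/

set_option autoImplicit false
set_option linter.all false

namespace H10.Mon

open Cfsg H9 Matrix MulAction

/-- The orbit of `GG`. -/
def OG (a : U) : Set U := {x | ∃ g : GT, rho g a = x}

theorem OG_self (a : U) : a ∈ OG a := ⟨1, by rw [map_one]; rfl⟩

theorem rho_mem_OG {a x : U} (g : GT) (h : x ∈ OG a) : rho g x ∈ OG a := by
  obtain ⟨k, rfl⟩ := h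
  exact ⟨g * k, by rw [map_mul]; rfl⟩

theorem rho_inv_apply (g : GT) (x : U) : rho g⁻¹ (rho g x) = x := by
  rw [← LinearEquiv.mul_apply, ← map_mul, inv_mul_cancel, map_one]; rfl

theorem rho_mem_OG_iff {a x : U} (g : GT) : rho g x ∈ OG a ↔ x ∈ OG a :=
  ⟨fun h => rho_inv_apply g x ▸ rho_mem_OG g⁻¹ h, rho_mem_OG g⟩

theorem OG_symm {a x : U} (h : x ∈ OG a) : a ∈ OG x := by
  obtain ⟨k, rfl⟩ := h
  exact ⟨k⁻¹, rho_inv_apply k a⟩

theorem OG_trans {a b x : U} (h : x ∈ OG a) (h' : a ∈ OG b) : x ∈ OG b := by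
  obtain ⟨k, rfl⟩ := h
  exact rho_mem_OG k h'

/-- Closure: the union of the `GG`-orbits of the `a i` is invariant under `MM τ`. -/
theorem closed_union {τ : U ≃ₗ[ℝ] U} (h : Pre τ) {ι J : Type} (a : ι → U) (y : J → U)
    (o : J → ℕ → ι) (k : J → ℕ → GT) (hk : ∀ j, ∀ e < 3, rho (k j e) ((τ ^ e) (y j)) = a (o j e))
    (cover : ∀ i (g : G0), ∃ j, ∃ e < 3, o j e = i ∧ g • Om ∈ Orb (a i) (co (k j e) • Om))
    {m : U ≃ₗ[ℝ] U} (hm : m ∈ MM τ) {x : U} (hx : ∃ i, x ∈ OG (a i)) : ∃ i, m x ∈ OG (a i) := by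
  have h1 : ∀ j e, ∃ i, (τ ^ e) (y j) ∈ OG (a i) := fun j e => by
    rw [pow_eq_pow_mod e h.cube]
    exact ⟨_, OG_symm ⟨_, hk j _ (Nat.mod_lt _ (by norm_num))⟩⟩
  have h2 : ∀ x, (∃ i, x ∈ OG (a i)) → ∃ i, τ x ∈ OG (a i) := by
    rintro _ ⟨i, g, rfl⟩
    obtain ⟨j, e, he, rfl, t, ht, e1⟩ := cover i (co g)⁻¹
    obtain ⟨c, c1, c2⟩ := h.inv
    have e2 : rho g (a (o j e)) = rho (g * t * k j e) ((τ ^ e) (y j)) := by
      rw [map_mul, map_mul, LinearEquiv.mul_apply, LinearEquiv.mul_apply, hk j e he, mem_Stb.1 ht]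
    rw [e2, ← LinearEquiv.mul_apply]
    rcases NE_or (g := g * t * k j e) (by
      rw [map_mul, map_mul, mul_smul, mul_smul, e1, smul_inv_smul]) c1 with b | b
    · obtain ⟨l, -, hl⟩ := h.conj b
      rw [mul_inv_eq_iff_eq_mul.1 hl, LinearEquiv.mul_apply, ← LinearEquiv.mul_apply τ, ← pow_succ']
      exact (h1 j _).imp fun _ => rho_mem_OG l
    · obtain ⟨l, -, hl⟩ := h.conj b
      have : τ * rho (g * t * k j e) = rho (l * (qe 0 c)⁻¹) * (τ * τ) := by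
        rw [map_mul rho l, ← hl, map_mul rho (g * t * k j e), map_inv, ← h.inv_eq]
        conv_rhs => rw [mul_assoc, mul_assoc, mul_assoc, ← mul_assoc τ⁻¹, ← _root_.mul_inv_rev,
          ← c2]
        group
      rw [this, LinearEquiv.mul_apply, ← LinearEquiv.mul_apply (τ * τ), ← sq, ← pow_add]
      exact (h1 j _).imp fun _ => rho_mem_OG _
  let T : Subgroup (U ≃ₗ[ℝ] U) :=
    { carrier := {m | (∀ x, (∃ i, x ∈ OG (a i)) → ∃ i, m x ∈ OG (a i)) ∧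
        ∀ x, (∃ i, x ∈ OG (a i)) → ∃ i, m⁻¹ x ∈ OG (a i)}
      one_mem' := ⟨fun _ h => h, fun _ h => h⟩
      mul_mem' := fun {a b} ha hb => ⟨fun x hx => ha.1 _ (hb.1 x hx), fun x hx => by
        rw [_root_.mul_inv_rev]; exact hb.2 _ (ha.2 x hx)⟩
      inv_mem' := fun {a} ha => ⟨ha.2, by rw [inv_inv]; exact ha.1⟩ }
  have : MM τ ≤ T := sup_le (by
      rintro _ ⟨g, rfl⟩
      exact ⟨fun x hx => hx.imp fun _ => rho_mem_OG g, fun x hx => by
        rw [← map_inv]; exact hx.imp fun _ => rho_mem_OG _⟩)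
    (Subgroup.zpowers_le.2 ⟨h2, fun x hx => by rw [h.inv_eq]; exact h2 _ (h2 x hx)⟩)
  exact (this hm).1 x hx

instance finite_GT : Finite GT := by
  haveI : Finite co.ker := Finite.of_surjective
    (fun p : ZMod 2 × C => (⟨qe p.1 p.2, co_qe _ _⟩ : co.ker)) fun x => by
      obtain ⟨t, c, e⟩ := co_eq_one.1 x.2
      exact ⟨(t, c), Subtype.ext e.symm⟩
  haveI : Finite (GT ⧸ co.ker) := Finite.of_equiv _ (QuotientGroup.quotientKerEquivRange co).symm.toEquiv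
  exact Finite.of_subgroup_quotient co.ker

theorem OG_finite (a : U) : (OG a).Finite := Set.finite_range fun g : GT => rho g a

theorem mem_OG_ax {t : ZMod 2} {c : S} {x : U} : x ∈ OG (ax t c) ↔ ∃ s d, x = ax s d := by
  constructor
  · rintro ⟨g, rfl⟩
    exact ⟨_, _, rho_ax g t c⟩
  · rintro ⟨s, d, rfl⟩
    obtain ⟨h, rfl⟩ := trans_S c d
    obtain ⟨g, rfl⟩ := co_surj h
    by_cases e : t + ep g c.1 = s
    · exact ⟨g, by rw [rho_ax, e]⟩
    · obtain ⟨b, hb⟩ := exists_polar_one (S_ne_zero c)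
      refine ⟨g * qe 0 b, ?_⟩
      rw [rho_ax, map_mul, co_qe, mul_one, ep_mul, ep_qe, add_comm (bb b _), hb, co_qe, one_smul]
      congr 1
      revert e
      generalize ep g c.1 = u
      revert t s u
      decide

theorem ncard_OG_ax (t : ZMod 2) (c : S) : (OG (ax t c)).ncard = 196560 := by
  have : OG (ax t c) = Set.range fun p : ZMod 2 × S => ax p.1 p.2 := by
    ext x
    rw [mem_OG_ax]
    exact ⟨fun ⟨s, d, h⟩ => ⟨(s, d), h.symm⟩, fun ⟨p, h⟩ => ⟨p.1, p.2, h.symm⟩⟩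
  rw [this, Set.ncard_range_of_injective fun p q h => Prod.ext_iff.2 (ax_inj h), Nat.card_prod,
    Nat.card_zmod, Nat.card_eq_fintype_card, card_S]

theorem trace_OG {a x : U} (h : x ∈ OG a) : trace (mA x * mA x) = trace (mA a * mA a) := by
  obtain ⟨g, rfl⟩ := h
  rw [mA_rho, conj_mul_conj (hm_orth' _), trace_conj (hm_orth' _)]

theorem orb_card {Γ G X : Type*} [Group Γ] [Group G] [MulAction G X] (f : Γ →* G) (H : Subgroup Γ)
    (x : X) : {y | ∃ h ∈ H, f h • x = y}.ncard * Nat.card ↥(H ⊓ (stabilizer G x).comap f) =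
      Nat.card H := by
  letI := MulAction.compHom X f
  have h1 : {y | ∃ h ∈ H, f h • x = y} = orbit H x :=
    Set.ext fun y => ⟨fun ⟨h, hh, e⟩ => ⟨⟨h, hh⟩, e⟩, fun ⟨h, e⟩ => ⟨h, h.2, e⟩⟩
  have h2 : stabilizer H x = (H ⊓ (stabilizer G x).comap f).subgroupOf H := by
    rw [Subgroup.inf_subgroupOf_left]; rfl
  rw [h1, ← index_stabilizer, ← Nat.card_congr (Subgroup.subgroupOfEquivOfLe inf_le_left).toEquiv,
    ← h2, Subgroup.index_mul_card]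

/-- The stabiliser of `Om`. -/
noncomputable def NH : Subgroup GT := (stabilizer G0 Om).comap co

theorem link1 {a y : U} {k : GT} (hk : rho k y = a) :
    (OG a).ncard * ((Orb a (co k • Om)).ncard * Nat.card ↥(Stb y ⊓ NH)) = Nat.card GT := by
  have h1 := orb_card rho ⊤ a
  have h2 := orb_card co (Stb a) (co k • Om)
  have h3 : Nat.card ↥(Stb y ⊓ NH) =
      Nat.card ↥(Stb a ⊓ (stabilizer G0 (co k • Om)).comap co) :=
    Nat.card_congr ((MulAut.conj k).toEquiv.subtypeEquiv fun g => and_congr (by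
      change rho g y = y ↔ rho (k * g * k⁻¹) a = a
      rw [← hk, map_mul, map_mul, LinearEquiv.mul_apply, LinearEquiv.mul_apply, rho_inv_apply,
        (rho k).injective.eq_iff]) (by
      change co g • Om = Om ↔ co (k * g * k⁻¹) • co k • Om = co k • Om
      rw [map_mul, map_mul, map_inv, mul_smul, mul_smul, inv_smul_smul, smul_left_cancel_iff]))
  rw [top_inf_eq, Subgroup.card_top] at h1
  rw [h3, ← h1]
  exact congrArg₂ (· * ·) (congrArg Set.ncard (Set.ext fun x => by simp [OG])) h2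

theorem NE_le_NH : NE ≤ NH := fun _ h => h.1

theorem link2 {y : U} {g : GT} (g1 : co g • Om = Om) (g2 : ep g Om = 1) (g3 : rho g y = y) :
    Nat.card ↥(Stb y ⊓ NH) = 2 * Nat.card ↥(NE ⊓ Stb y) := by
  have h1 : NE ⊓ Stb y ≤ Stb y ⊓ NH := le_inf inf_le_right (inf_le_left.trans NE_le_NH)
  rw [← Nat.card_congr (Subgroup.subgroupOfEquivOfLe h1).toEquiv,
    ← ((NE ⊓ Stb y).subgroupOf _).index_mul_card]
  congr 1
  refine Subgroup.index_eq_two_iff.2 ⟨⟨g, g3, g1⟩, fun b => ?_⟩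
  have m : ∀ b : ↥(Stb y ⊓ NH), b ∈ (NE ⊓ Stb y).subgroupOf (Stb y ⊓ NH) ↔ ep b.1 Om = 0 :=
    fun b => ⟨fun h => h.1.2, fun h => ⟨⟨b.2.2, h⟩, b.2.1⟩⟩
  rw [m, m, Subgroup.coe_mul, ep_mul, g2, g1]
  generalize ep b.1 Om = u
  revert u
  decide

theorem link3 {τ : U ≃ₗ[ℝ] U} (h : Pre τ) (y : U) :
    Nat.card ↥(NE ⊓ Stb (τ y)) = Nat.card ↥(NE ⊓ Stb y) := by
  have h1 := orb_card rho NE y
  have h2 := orb_card rho NE (τ y)
  have h3 : {x | ∃ n ∈ NE, rho n • τ y = x} = τ '' {x | ∃ n ∈ NE, rho n • y = x} := by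
    ext x
    constructor
    · rintro ⟨n, hn, rfl⟩
      obtain ⟨l, hl, e⟩ := h.conj' hn
      exact ⟨_, ⟨l, hl, rfl⟩, by rw [← e]; simp⟩
    · rintro ⟨_, ⟨n, hn, rfl⟩, rfl⟩
      obtain ⟨l, hl, e⟩ := h.conj hn
      exact ⟨l, hl, by rw [← e]; simp⟩
  rw [h3, Set.ncard_image_of_injective _ τ.injective, ← h1] at h2
  refine Nat.eq_of_mul_eq_mul_left (Nat.pos_of_ne_zero fun e => ?_) h2
  rw [e, zero_mul] at h1
  exact Nat.card_pos.ne h1

theorem link4 {τ : U ≃ₗ[ℝ] U} (h : Pre τ) {y : U} {g : GT} (hy : τ y ∉ OG y)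
    (g1 : co g • Om = Om) (g2 : ep g Om = 1) (g3 : rho g y = y) :
    Stb (τ y) ⊓ NH = NE ⊓ Stb (τ y) := by
  refine le_antisymm (fun k hk => ⟨?_, hk.1⟩) (le_inf inf_le_right (inf_le_left.trans NE_le_NH))
  obtain ⟨c, c1, c2⟩ := h.inv
  refine (NE_or hk.2 c1).resolve_right fun b => hy ?_
  obtain ⟨n2, hn2, e2⟩ := h.conj' (NE.inv_mem ((NE_or g1 c1).resolve_left fun b => by
    rw [b.2] at g2; exact zero_ne_one g2))
  obtain ⟨n4, -, e4⟩ := h.conj (NE.mul_mem b hn2)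
  have e5 : rho k * τ * (rho g)⁻¹ = rho (k * qe 0 c * n2) * τ⁻¹ := by
    have this : rho (qe 0 c) * τ⁻¹ * (rho (qe 0 c))⁻¹ = τ := by
      rw [← conj_inv, c2, inv_inv]
    rw [map_mul, ← e2, map_inv, map_mul, map_mul]
    conv_lhs => rw [← this]
    group
  have e6 : (rho g)⁻¹ y = y := by rw [← map_inv, ← g3, rho_inv_apply, g3]
  have e7 : τ y = rho (k * qe 0 c * n2) (τ⁻¹ y) := by
    rw [← LinearEquiv.mul_apply, ← e5, LinearEquiv.mul_apply, e6, LinearEquiv.mul_apply,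
      mem_Stb.1 hk.1]
  have e8 : τ⁻¹ y = rho n4 y := by
    rw [← e4, LinearEquiv.mul_apply, LinearEquiv.mul_apply, ← e7, h.inv_eq, LinearEquiv.mul_apply]
  rw [e7, e8]
  exact rho_mem_OG _ (rho_mem_OG _ (OG_self y))

/-- A link between two orbits. -/
theorem link {τ : U ≃ₗ[ℝ] U} (h : Pre τ) {a b y : U} {k l g : GT} (hk : rho k y = a)
    (hl : rho l (τ y) = b) (hab : b ∉ OG a) (g1 : co g • Om = Om) (g2 : ep g Om = 1)
    (g3 : rho g y = y) : (OG a).ncard * (2 * (Orb a (co k • Om)).ncard) =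
      (OG b).ncard * (Orb b (co l • Om)).ncard := by
  have h1 := link1 hk
  have h2 := link1 hl
  rw [link4 h (fun e => hab (hl ▸ rho_mem_OG l (OG_trans e (OG_symm ⟨k, hk⟩)))) g1 g2 g3,
    link3 h, ← h1, link2 g1 g2 g3] at h2
  refine Nat.eq_of_mul_eq_mul_right (Nat.card_pos (α := ↥(NE ⊓ Stb y))) ?_
  rw [mul_assoc (OG b).ncard, h2]
  ring

theorem ncard_perp {m : U ≃ₗ[ℝ] U} (hm : m ∈ Aut) {Z : Set U} (hZ : ∀ z, m z ∈ Z ↔ z ∈ Z)
    (x : U) : {z | z ∈ Z ∧ B z (m x) = 0}.ncard = {z | z ∈ Z ∧ B z x = 0}.ncard := by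
  rw [← Set.ncard_image_of_injective {z | z ∈ Z ∧ B z x = 0} m.injective]
  congr 1
  ext z
  obtain ⟨z, rfl⟩ := m.surjective z
  rw [m.injective.mem_set_image, Set.mem_setOf_eq, Set.mem_setOf_eq, hZ, hm.1]

theorem double_count {α : Type*} (A X : Finset α) (r : α → α → Prop) :
    ∑ x ∈ A, {y | y ∈ (X : Set α) ∧ r x y}.ncard = ∑ y ∈ X, {x | x ∈ (A : Set α) ∧ r x y}.ncard := by
  classical
  have k : ∀ (X : Finset α) (p : α → Prop), {y | y ∈ (X : Set α) ∧ p y}.ncard =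
      ∑ y ∈ X, if p y then 1 else 0 := fun X p => by
    rw [← Finset.card_filter, ← Set.ncard_coe_finset, Finset.coe_filter]; rfl
  simp only [k]
  exact Finset.sum_comm

/-- The order of the group. -/
theorem card_MM {τ : U ≃ₗ[ℝ] U} (h : Tri τ) {n : ℕ} (a : ℕ → U) (s β : ℕ → ℕ)
    (hX : ∀ x, x ∈ MulAction.orbit (MM τ) (ax 1 c0) ↔ ∃ i < n, x ∈ OG (a i))
    (hd : ∀ i < n, ∀ j < n, a i ∈ OG (a j) → i = j)
    (hs : ∀ i < n, (OG (a i)).ncard = s i)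
    (hβ : ∀ i < n, {x | x ∈ OG (ax 1 c0) ∧ B x (a i) = 0}.ncard = β i)
    (ht : ∀ i < n, ∀ x ∈ OG (ax 1 c0), B x (a i) = 0 →
      ∃ m ∈ MM τ, m x = ax 1 c0 ∧ m (a i) = ax 0 c0) :
    (MulAction.orbit (MM τ) (ax 1 c0)).ncard = ∑ i ∈ Finset.range n, s i ∧
    Nat.card (MM τ) * 196560 ^ 2 = (∑ i ∈ Finset.range n, s i) *
      (∑ i ∈ Finset.range n, s i * β i) * (2 ^ 25 * 4157776806543360000) := by
  classical
  set X := MulAction.orbit (MM τ) (ax 1 c0) with hXdef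
  let T : U → Finset U := fun a => (OG_finite a).toFinset
  have cT : ∀ a, (T a : Set U) = OG a := fun a => (OG_finite a).coe_toFinset
  have mT : ∀ {a x}, x ∈ T a ↔ x ∈ OG a := (OG_finite _).mem_toFinset
  have nT : ∀ a, (T a).card = (OG a).ncard := fun a => by rw [← cT, Set.ncard_coe_finset]
  let TX := (Finset.range n).biUnion fun i => T (a i)
  have cX : (TX : Set U) = X := Set.ext fun x => by
    rw [hX, Finset.mem_coe, Finset.mem_biUnion]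
    simp only [Finset.mem_range, mT]
  have dj : (Finset.range n : Set ℕ).PairwiseDisjoint fun i => T (a i) := fun i hi j hj e =>
    Finset.disjoint_left.2 fun x h1 h2 => e (hd i (Finset.mem_range.1 hi) j (Finset.mem_range.1 hj)
      (OG_trans (OG_symm (mT.1 h1)) (mT.1 h2)))
  have h1 : X.ncard = ∑ i ∈ Finset.range n, s i := by
    rw [← cX, Set.ncard_coe_finset, Finset.card_biUnion dj]
    exact Finset.sum_congr rfl fun i hi => (nT _).trans (hs i (Finset.mem_range.1 hi))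
  refine ⟨h1, ?_⟩
  have mX : ∀ m ∈ MM τ, ∀ z, m z ∈ X ↔ z ∈ X := fun m hm z =>
    ⟨fun e => m.symm_apply_apply z ▸ mem_orbit_of_mem_orbit (⟨m, hm⟩ : MM τ)⁻¹ e,
      mem_orbit_of_mem_orbit (⟨m, hm⟩ : MM τ)⟩
  have h2 : 196560 * {z | z ∈ X ∧ B z (ax 1 c0) = 0}.ncard = ∑ i ∈ Finset.range n, s i * β i := by
    have := double_count (T (ax 1 c0)) TX fun x y => B x y = 0
    rw [Finset.sum_biUnion dj, cX, cT, Finset.sum_congr rfl
      (g := fun _ => {z | z ∈ X ∧ B z (ax 1 c0) = 0}.ncard) fun x hx => ?_, Finset.sum_const, nT,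
      ncard_OG_ax, smul_eq_mul] at this
    · rw [this]
      refine Finset.sum_congr rfl fun i hi => ?_
      rw [Finset.sum_congr rfl (g := fun _ => β i) fun y hy => ?_, Finset.sum_const, nT,
        hs i (Finset.mem_range.1 hi), smul_eq_mul]
      obtain ⟨g, rfl⟩ := mT.1 hy
      rw [ncard_perp (rho_mem_Aut g) fun _ => rho_mem_OG_iff g, hβ i (Finset.mem_range.1 hi)]
    · obtain ⟨g, rfl⟩ := mT.1 hx
      simp only [B_comm (rho g (ax 1 c0))]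
      exact ncard_perp (rho_mem_Aut g) (mX _ (rho_mem_MM τ g)) _
  have h3 := orb_card (MonoidHom.id _) (MM τ) (ax 1 c0)
  have h4 := orb_card (MonoidHom.id _) (MM τ ⊓ stabilizer (U ≃ₗ[ℝ] U) (ax 1 c0)) (ax 0 c0)
  have h5 := orb_card (MonoidHom.id _) GG (ax 1 c0)
  rw [Subgroup.comap_id] at h3 h4 h5
  have e3 : {y | ∃ m ∈ MM τ, MonoidHom.id _ m • ax 1 c0 = y} = X :=
    Set.ext fun y => ⟨fun ⟨h, hh, e⟩ => ⟨⟨h, hh⟩, e⟩, fun ⟨h, e⟩ => ⟨h, h.2, e⟩⟩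
  have e5 : {y | ∃ m ∈ GG, MonoidHom.id _ m • ax 1 c0 = y} = OG (ax 1 c0) :=
    Set.ext fun y => ⟨fun ⟨_, ⟨g, rfl⟩, e⟩ => ⟨g, e⟩, fun ⟨g, e⟩ => ⟨_, ⟨g, rfl⟩, e⟩⟩
  have e4 : {y | ∃ m ∈ MM τ ⊓ stabilizer (U ≃ₗ[ℝ] U) (ax 1 c0), MonoidHom.id _ m • ax 0 c0 = y} =
      {z | z ∈ X ∧ B z (ax 1 c0) = 0} := by
    ext y
    constructor
    · rintro ⟨m, ⟨m1, m2⟩, rfl⟩
      obtain ⟨g, hg⟩ := (mem_OG_ax (t := 1) (c := c0)).2 ⟨0, c0, rfl⟩
      refine ⟨(mX m m1 _).2 (hg ▸ (mX _ (rho_mem_MM τ g) _).2 (mem_orbit_self _)), ?_⟩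
      change B (m _) _ = 0
      rw [← (show m (ax 1 c0) = ax 1 c0 from m2), (MM_le_Aut h m1).1, B_ax, mA_ax, fS_ax,
        pm_mul_self, trace_smul, trace_pm, Pi.single_eq_same, sg_zero, sg_one]
      norm_num
    · rintro ⟨y1, y2⟩
      obtain ⟨i, hi, g, rfl⟩ := (hX y).1 y1
      obtain ⟨m, m1, m2, m3⟩ := ht i hi _ (rho_mem_OG g⁻¹ (OG_self _)) (by
        rw [← y2, ← B_rho g⁻¹ (rho g (a i)), rho_inv_apply, B_comm])
      have k : ∀ x, m⁻¹ (m x) = x := m.symm_apply_apply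
      refine ⟨rho g * m⁻¹, ⟨(MM τ).mul_mem (rho_mem_MM τ g) ((MM τ).inv_mem m1), ?_⟩, ?_⟩
      · change rho g (m⁻¹ _) = _
        have := rho_inv_apply g⁻¹ (ax 1 c0)
        rw [inv_inv] at this
        conv_lhs => rw [← m2, k, this]
      · change rho g (m⁻¹ _) = _
        rw [← m3, k]
  have e6 : MM τ ⊓ stabilizer (U ≃ₗ[ℝ] U) (ax 1 c0) ⊓ stabilizer (U ≃ₗ[ℝ] U) (ax 0 c0) =
      GG ⊓ stabilizer (U ≃ₗ[ℝ] U) (ax 1 c0) := by
    ext m
    refine ⟨fun ⟨⟨m1, m2⟩, m3⟩ => ⟨mem_GG_of_fix (MM_le_Aut h m1) m3 m2, m2⟩, ?_⟩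
    rintro ⟨⟨g, rfl⟩, m2⟩
    refine ⟨⟨rho_mem_MM τ g, m2⟩, ?_⟩
    obtain ⟨b1, b2⟩ := ax_inj ((rho_ax g 1 c0).symm.trans m2)
    change rho g _ = _
    rw [rho_ax, b2, add_eq_left.1 b1, add_zero]
  rw [e3, h1] at h3
  rw [e4, e6] at h4
  rw [e5, ncard_OG_ax, card_GG] at h5
  rw [← h3, ← h4, ← h2, ← h5]
  ring

end H10.Mon
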