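import Mathlib
import Cfsg.Agent.H10.MPh0
import Cfsg.Agent.H1.MCTest

/-! The cover engine: `Cov`, `cov_of_chk` are in `H1/MC1`; generator: `tools/h1/mcgen.cpp`. -/

set_option autoImplicit false

namespace H10.Mon

open Cfsg H9 H29 Matrix

/-- Test case: `T = Co0`. -/
theorem cov_test : Cov [hC0, hC1, hC2, hC16, hC17] [(0, 2048), (1, 0xbe0)] [8292375, 98280] :=
  cov_test0

end H10.Mon
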