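import Mathlib
import Cfsg.Agent.H10.MCount
import Cfsg.Agent.H10.MCover
import Cfsg.Agent.H10.MInv

/-! # What the cover of one root gives. -/

set_option autoImplicit false
set_option linter.all false

namespace H10.Mon

open Cfsg H9 H29 Matrix
open scoped Kronecker

/-- Short classes with no, one, two axes orthogonal to `a`. -/
def ZN (a : U) (c : S) : ℕ → Prop
  | 0 => ∀ s, B (ax s c) a ≠ 0
  | 1 => ∃ s, B (ax s c) a = 0 ∧ B (ax (s + 1) c) a ≠ 0
  | _ => ∀ s, B (ax s c) a = 0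

theorem ax_smul (g : GT) (s : ZMod 2) (c : S) : ax s (co g • c) = rho g (ax (s + ep g c.1) c) := by
  rw [rho_ax, add_assoc, two_zmod, add_zero]

theorem ZN.smul {a : U} {t : GT} (ht : t ∈ Stb a) {c : S} : ∀ {l : ℕ}, ZN a c l → ZN a (co t • c) l := by
  have k : ∀ s, B (ax s (co t • c)) a = B (ax (s + ep t c.1) c) a := fun s => by
    rw [ax_smul, ← B_rho t (ax (s + ep t c.1) c), mem_Stb.1 ht]
  rintro (_ | _ | l) h
  · exact fun s => k s ▸ h _
  · obtain ⟨s, h1, h2⟩ := h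
    refine ⟨s + ep t c.1, ?_, ?_⟩
    · rwa [k, add_assoc, two_zmod, add_zero]
    · rwa [k, add_right_comm s, add_assoc (s + 1), two_zmod, add_zero]
  · exact fun s => k s ▸ h _

theorem Orb.self (a : U) (c : C) : c ∈ Orb a c := ⟨1, (Stb a).one_mem, by rw [map_one, one_smul]⟩

theorem Orb.smul {a : U} {c d : C} {t : GT} (ht : t ∈ Stb a) (h : d ∈ Orb a c) :
    co t • d ∈ Orb a c := by
  obtain ⟨k, hk, rfl⟩ := h
  exact ⟨t * k, (Stb a).mul_mem ht hk, by rw [map_mul, mul_smul]⟩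

theorem Orb.of_common {a : U} {c d e : C} (h : e ∈ Orb a c) (h' : e ∈ Orb a d) : d ∈ Orb a c := by
  obtain ⟨k, hk, rfl⟩ := h'
  have := Orb.smul ((Stb a).inv_mem hk) h
  rwa [map_inv, inv_smul_smul] at this

theorem sum_eq_nth : ∀ l : List ℕ, l.sum = ∑ i ∈ Finset.range l.length, nth 0 l i
  | [] => rfl
  | a :: l => by
    rw [List.sum_cons, List.length_cons, Finset.sum_range_succ', sum_eq_nth l, add_comm]; rfl

theorem exhaust {α : Type} [DecidableEq α] {X : Set α} (hX : X.Finite) {I : Finset ℕ} {D : ℕ → Finset α}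
    (h1 : ∀ i ∈ I, ↑(D i) ⊆ X) (h2 : ∀ i j, i ≠ j → Disjoint (D i) (D j))
    (h3 : ∑ i ∈ I, (D i).card = X.ncard) {x : α} (hx : x ∈ X) : ∃ i ∈ I, x ∈ D i := by
  have : (↑(I.biUnion D) : Set α) = X := Set.eq_of_subset_of_ncard_le
    (fun y hy => by
      obtain ⟨i, hi, h⟩ := Finset.mem_biUnion.1 hy
      exact h1 i hi h)
    (by rw [Set.ncard_coe_finset, Finset.card_biUnion fun i _ j _ => h2 i j, h3]) hX
  exact Finset.mem_biUnion.1 (show x ∈ (↑(I.biUnion D) : Set α) from this ▸ hx)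

theorem ncard_isS : {c : C | IsS c}.ncard = 98280 := by
  rw [← Nat.card_coe_set_eq, ← card_S, ← Nat.card_eq_fintype_card]; rfl

theorem card_filter_S {D : Finset C} (h : ∀ c ∈ D, IsS c) :
    (Finset.univ.filter fun c : S => c.1 ∈ D).card = D.card :=
  Finset.card_bij (fun c _ => c.1) (fun _ hc => (Finset.mem_filter.1 hc).2)
    (fun _ _ _ _ e => Subtype.ext e) fun c hc =>
      ⟨toS c (h c hc), Finset.mem_filter.2 ⟨Finset.mem_univ _, hc⟩, rfl⟩

/-- Labels 0,1,2: short classes; labels from 3 on: classes of type 4. -/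
theorem root_cover {Q : U → U → Prop} (hQ : ∀ (g : GT) x y, Q x y → Q (rho g x) (rho g y))
    {a : U} {gens : List (List ℕ)}
    {seeds : List (ℕ × ℕ)} {n : List ℕ} (hc : Cov gens seeds n)
    (hg : ∀ A ∈ gens, ∃ t ∈ Stb a, Cols (co t) A)
    (h1 : ∀ s ∈ seeds, s.1 < 3 → ∃ c : S, c.1 = dec s.2 ∧ ZN a c s.1 ∧ ∀ t, Q (ax t c) a)
    (h2 : ∀ s ∈ seeds, 3 ≤ s.1 → dec s.2 ∈ MulAction.orbit G0 Om)
    (n1 : nth 0 n 0 + nth 0 n 1 + nth 0 n 2 = 98280) (n2 : (n.drop 3).sum = 8292375) :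
    (∀ g : G0, ∃ s ∈ seeds, 3 ≤ s.1 ∧ g • Om ∈ Orb a (dec s.2)) ∧
    (∀ s ∈ seeds, 3 ≤ s.1 → (∀ s' ∈ seeds, s'.1 = s.1 → s'.2 = s.2) →
      (∀ s' ∈ seeds, 3 ≤ s'.1 → s'.1 ≠ s.1 → dec s'.2 ∉ Orb a (dec s.2)) →
      (Orb a (dec s.2)).ncard = nth 0 n s.1) ∧
    {x | x ∈ OG (ax 1 c0) ∧ B x a = 0}.ncard = nth 0 n 1 + 2 * nth 0 n 2 ∧
    ∀ x ∈ OG (ax 1 c0), Q x a := by
  classical
  let Z : ℕ → Set C := fun l => if l < 3 then {c | ∃ d : S, d.1 = c ∧ ZN a d l ∧ ∀ t, Q (ax t d) a}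
    else {c | ∃ s ∈ seeds, s.1 = l ∧ c ∈ Orb a (dec s.2)}
  obtain ⟨D, D1, D2, D3⟩ := hc ((Stb a).map co) Z
    (fun A hA => let ⟨t, t1, t2⟩ := hg A hA; ⟨_, ⟨t, t1, rfl⟩, t2⟩)
    (by
      rintro l _ ⟨t, ht, rfl⟩ c hc
      simp only [Z] at hc ⊢
      split_ifs at hc ⊢
      · obtain ⟨d, rfl, d1, d2⟩ := hc
        exact ⟨co t • d, rfl, d1.smul ht, fun s => by
          rw [ax_smul, ← mem_Stb.1 ht]; exact hQ t _ _ (d2 _)⟩
      · obtain ⟨s, s1, s2, s3⟩ := hc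
        exact ⟨s, s1, s2, Orb.smul ht s3⟩)
    (fun s hs => by
      simp only [Z]
      split_ifs with h
      · exact h1 s hs h
      · exact ⟨s, hs, rfl, Orb.self _ _⟩)
  have a1 : ∀ l < 3, ∀ c ∈ D l, ∃ d : S, d.1 = c ∧ ZN a d l ∧ ∀ t, Q (ax t d) a := fun l hl c hc => by
    have := D1 l hc
    simp only [Z, if_pos hl] at this
    exact this
  have a2 : ∀ l, 3 ≤ l → ∀ c ∈ D l, ∃ s ∈ seeds, s.1 = l ∧ c ∈ Orb a (dec s.2) := fun l hl c hc => by
    have := D1 l hc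
    simp only [Z, if_neg (not_lt.2 hl)] at this
    exact this
  have a3 : ∀ s ∈ seeds, 3 ≤ s.1 → ∀ c ∈ Orb a (dec s.2), c ∈ MulAction.orbit G0 Om := by
    rintro s hs h _ ⟨t, -, rfl⟩
    exact MulAction.mem_orbit_of_mem_orbit _ (h2 s hs h)
  have e1 : ∀ c : S, ∃ l < 3, c.1 ∈ D l ∧ ZN a c l ∧ ∀ t, Q (ax t c) a := fun c => by
    obtain ⟨l, hl, h⟩ := exhaust (X := {c : C | IsS c}) (Set.toFinite _) (I := Finset.range 3)
      (fun l hl c hc => let ⟨d, d1, _⟩ := a1 l (Finset.mem_range.1 hl) c hc; d1 ▸ isS_val d) D3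
      (by simp only [Finset.sum_range_succ, Finset.sum_range_zero, zero_add, D2, n1, ncard_isS])
      (isS_val c)
    obtain ⟨d, d1, d2⟩ := a1 l (Finset.mem_range.1 hl) _ h
    obtain rfl : d = c := Subtype.ext d1
    exact ⟨l, Finset.mem_range.1 hl, h, d2⟩
  have e2 : ∀ c ∈ MulAction.orbit G0 Om, ∃ l, 3 ≤ l ∧ c ∈ D l := fun c hc => by
    obtain ⟨l, hl, h⟩ := exhaust (X := MulAction.orbit G0 Om) (Set.toFinite _)
      (I := Finset.Ico 3 (3 + (n.drop 3).length))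
      (fun l hl c hc => let ⟨s, s1, s2, s3⟩ := a2 l (Finset.mem_Ico.1 hl).1 c hc
        a3 s s1 (s2 ▸ (Finset.mem_Ico.1 hl).1) c s3) D3
      (by
        rw [ncard_orbit_Om, ← n2, sum_eq_nth, Finset.sum_Ico_eq_sum_range, Nat.add_sub_cancel_left]
        refine Finset.sum_congr rfl fun i _ => ?_
        rw [D2, nth_eq, nth_eq, List.getD_eq_getElem?_getD, List.getD_eq_getElem?_getD,
          List.getElem?_drop]) hc
    exact ⟨l, (Finset.mem_Ico.1 hl).1, h⟩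
  refine ⟨fun g => ?_, fun s hs h3 h4 h5 => ?_, ?_, fun x hx => ?_⟩
  · obtain ⟨l, hl, h⟩ := e2 _ (MulAction.mem_orbit Om g)
    obtain ⟨s, s1, s2, s3⟩ := a2 l hl _ h
    exact ⟨s, s1, s2 ▸ hl, s3⟩
  · rw [← D2, ← Set.ncard_coe_finset]
    congr 1
    refine Set.Subset.antisymm (fun c hc => ?_) fun c hc => ?_
    · obtain ⟨l, hl, h⟩ := e2 c (a3 s hs h3 c hc)
      obtain ⟨s', s1, rfl, s3⟩ := a2 l hl _ h
      by_cases e : s'.1 = s.1
      · exact e ▸ h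
      · exact absurd (Orb.of_common hc s3) (h5 s' s1 hl e)
    · obtain ⟨s', s1, s2, s3⟩ := a2 _ h3 _ hc
      exact h4 s' s1 s2 ▸ s3
  · have : {x | x ∈ OG (ax 1 c0) ∧ B x a = 0} = (fun p : ZMod 2 × S => ax p.1 p.2) ''
        ↑(Finset.univ.filter fun p : ZMod 2 × S => B (ax p.1 p.2) a = 0) := by
      ext x
      rw [Set.mem_setOf_eq, mem_OG_ax]
      exact ⟨fun ⟨⟨s, d, e⟩, h⟩ => ⟨(s, d), Finset.mem_filter.2 ⟨Finset.mem_univ _, e ▸ h⟩, e.symm⟩,
        fun ⟨p, h, e⟩ => ⟨⟨p.1, p.2, e.symm⟩, e ▸ (Finset.mem_filter.1 h).2⟩⟩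
    rw [this, Set.ncard_image_of_injective _ fun p q h => Prod.ext_iff.2 (ax_inj h),
      Set.ncard_coe_finset, Finset.card_filter, Fintype.sum_prod_type_right, ← D2, ← D2,
      ← card_filter_S fun c hc => let ⟨d, d1, _⟩ := a1 1 (by omega) c hc; d1 ▸ isS_val d,
      ← card_filter_S (D := D 2) fun c hc => let ⟨d, d1, _⟩ := a1 2 (by omega) c hc; d1 ▸ isS_val d,
      Finset.card_filter, Finset.card_filter, Finset.mul_sum, ← Finset.sum_add_distrib]
    refine Finset.sum_congr rfl fun c _ => ?_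
    obtain ⟨l, hl, h, z, -⟩ := e1 c
    have n : ∀ l', l ≠ l' → c.1 ∉ D l' := fun l' e => Finset.disjoint_left.1 (D3 l l' e) h
    have u : (Finset.univ : Finset (ZMod 2)) = {0, 1} := rfl
    rw [u, Finset.sum_pair zero_ne_one]
    obtain rfl | rfl | rfl : l = 0 ∨ l = 1 ∨ l = 2 := by omega
    · rw [if_neg (z 0), if_neg (z 1), if_neg (n 1 (by omega)), if_neg (n 2 (by omega))]; rfl
    · obtain ⟨s, z1, z2'⟩ := z
      rw [if_pos h, if_neg (n 2 (by omega))]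
      rcases z2 s with rfl | rfl
      · rw [if_pos z1, if_neg (zero_add (1 : ZMod 2) ▸ z2')]; rfl
      · rw [if_pos z1, if_neg (show B (ax 0 c) a ≠ 0 from z2')]; rfl
    · rw [if_pos (z 0), if_pos (z 1), if_neg (n 1 (by omega)), if_pos h]; rfl
  · obtain ⟨s, c, rfl⟩ := mem_OG_ax.1 hx
    obtain ⟨l, -, -, -, z⟩ := e1 c
    exact z s

/-- An invariant of the stabiliser of `Om`. -/
noncomputable def Jv (y : U) : ℝ := ∑ c : S, if c.1.1 = 0 then fS y c ^ 2 else 0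

theorem Jv_rho {g : GT} (h : co g • Om = Om) (y : U) : Jv (rho g y) = Jv y := by
  rw [Jv, sum_smul_S (co g)]
  refine Finset.sum_congr rfl fun c _ => if_congr ⟨fun e => ?_, fst_smul_zero (fix_Om.1 h)⟩ ?_ rfl
  · have := fst_smul_zero (N0.inv_mem (fix_Om.1 h)) e
    rwa [smul_val, inv_smul_smul] at this
  · rw [fS_rho, mul_pow, sq, sg_mul_self, one_mul]

/-- `y` is carried to `a` by an element that carries `Om` to `c`. -/
def Nod (a : U) (c : C) (y : U) : Prop := ∃ k : GT, rho k y = a ∧ co k • Om = c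

theorem Nod.sep {a y y' : U} {c c' : C} (h : Nod a c y) (h' : Nod a c' y') (hJ : Jv y ≠ Jv y') :
    c' ∉ Orb a c := by
  obtain ⟨k, k1, rfl⟩ := h
  obtain ⟨l, l1, rfl⟩ := h'
  rintro ⟨t, ht, e⟩
  refine hJ ?_
  rw [← Jv_rho (g := l⁻¹ * t * k) (by rw [map_mul, map_mul, map_inv, mul_smul, mul_smul, e,
    inv_smul_smul]) y, map_mul, map_mul, LinearEquiv.mul_apply, LinearEquiv.mul_apply, k1,
    mem_Stb.1 ht, ← l1, rho_inv_apply]

theorem sep_ax {t : ZMod 2} {b : S} {c c' : C}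
    (h : bb c b.1 + bb b.1 c ≠ bb c' b.1 + bb b.1 c') : c' ∉ Orb (ax t b) c := by
  rintro ⟨g, hg, rfl⟩
  have := (ax_inj ((rho_ax g t b).symm.trans (mem_Stb.1 hg))).2
  refine h ?_
  rw [← bb_smul (co g), ← smul_val, this]

/-- Closure, in terms of `Nod`. -/
theorem closed_nod {τ : U ≃ₗ[ℝ] U} (h : Pre τ) {n : ℕ} (a : ℕ → U)
    (cover : ∀ i < n, ∀ g : G0, ∃ c, g • Om ∈ Orb (a i) c ∧ ∃ y : U, ∃ e < 3,
      Nod (a i) c ((τ ^ e) y) ∧ ∀ e < 3, ∃ i' < n, (τ ^ e) y ∈ OG (a i'))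
    {m : U ≃ₗ[ℝ] U} (hm : m ∈ MM τ) {x : U} (hx : ∃ i < n, x ∈ OG (a i)) :
    ∃ i < n, m x ∈ OG (a i) := by
  have : ∀ j : Fin n × G0, ∃ (y : U) (o : ℕ → Fin n) (k : ℕ → GT),
      (∀ e < 3, rho (k e) ((τ ^ e) y) = a (o e)) ∧
      ∃ e < 3, o e = j.1 ∧ j.2 • Om ∈ Orb (a j.1) (co (k e) • Om) := fun j => by
    obtain ⟨c, c1, y, e, he, ⟨k, k1, rfl⟩, c2⟩ := cover j.1 j.1.2 j.2
    have : ∀ e', ∃ (o : Fin n) (l : GT), (e' < 3 → rho l ((τ ^ e') y) = a o) ∧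
        (e' = e → o = j.1 ∧ l = k) := fun e' => by
      by_cases h1 : e' = e
      · exact ⟨j.1, k, fun _ => h1 ▸ k1, fun _ => ⟨rfl, rfl⟩⟩
      by_cases h2 : e' < 3
      · obtain ⟨i, hi, b⟩ := c2 e' h2
        obtain ⟨l, hl⟩ := OG_symm b
        exact ⟨⟨i, hi⟩, l, fun _ => hl, fun h => absurd h h1⟩
      · exact ⟨j.1, k, fun h => absurd h h2, fun h => absurd h h1⟩
    choose o l h1 h2 using this
    exact ⟨y, o, l, h1, e, he, (h2 e rfl).1, (h2 e rfl).2 ▸ c1⟩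
  choose y o k h1 h2 using this
  obtain ⟨i, hi, hx⟩ := hx
  obtain ⟨i, e⟩ := closed_union h (fun i : Fin n => a i) y o k h1
    (fun i g => ⟨(i, g), h2 (i, g)⟩) hm ⟨⟨i, hi⟩, hx⟩
  exact ⟨i, i.2, e⟩

theorem Nm_mul (c : S) : Nm c * ((8 : ℝ) • (1 - (2 / 7 : ℝ) • pm c)) = 1 := by
  simp only [Nm, Matrix.smul_mul, Matrix.mul_smul, sub_mul, mul_sub, one_mul, mul_one, pm_mul_self]
  module

theorem Nm_inj {c d : S} (h : Nm c = Nm d) : c = d :=
  pm_inj (by rw [Nm, Nm] at h; linear_combination (norm := module) (-4 : ℝ) • h)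

theorem exists_S_polar (c : S) : ∃ e : S, bb c.1 e.1 + bb e.1 c.1 = 1 := by
  by_contra! k
  refine S_ne_zero c (polar_nondeg fun d => ?_)
  exact C_induction (p := fun d => bb c.1 d + bb d c.1 = 0)
    (by rw [bb_zero_left, bb_zero_right, add_zero]) (fun e => (z2 _).resolve_right (k e))
    (fun x y hx hy => by rw [bb_add_left, bb_add_right, add_add_add_comm, hx, hy, add_zero]) d

theorem R_xS (e : S) : R (xS e) = Nm e ⊗ₖ xm e.1 := by
  rw [R_eq, mA_xS, fS_xS, trace_zero, zero_div, zero_smul, add_zero, zero_kronecker,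
    zero_add, Finset.sum_eq_single e (fun _ _ he => by rw [Pi.single_eq_of_ne he, zero_smul])
      (fun h => absurd (Finset.mem_univ e) h), Pi.single_eq_same, one_smul]

theorem eq_zero_of_ann {s : ZMod 2} {c : S} {d : U} (h1 : B d one = 0)
    (h : ∀ u, tv s c u = -u → ∀ w, F d u w = 0) : d = 0 := by
  have w0 : wW d = 0 := by
    obtain ⟨e, he⟩ := exists_S_polar c
    have k := h (xS e) (by rw [tv, qe_xS, he, sg_one, neg_smul, one_smul])
      (Wv ((((8 : ℝ) • (1 - (2 / 7 : ℝ) • pm e)) ⊗ₖ xm e.1) *ᵥ wW d))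
    rw [F, mA_xS, mul_zero, zero_mul, add_zero, zero_mul, trace_zero, Dt_swap d, Dt_zero2 (fS_Wv _),
      Dt_zero1 (mA_xS _), Dt_zero1 (mA_Wv _), Et_swap23, Et_swap12, Et_zero1 (fS_Wv _),
      Wt_zero2 (wW_xS _), Wt_swap (Wv _), Wt_zero2 (wW_xS _), Wt, wW_Wv, R_xS, mulVec_mulVec,
      ← mul_kronecker_mul, Nm_mul, xm_mul, bb_S, sg_zero, one_smul, two_zmod e.1, xm_zero,
      one_kronecker_one, one_mulVec] at k
    exact dotProduct_self_eq_zero.1 (by linarith)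
  have r : R d * (1 + Xs s c) = 0 := mat_ext_dot fun v w => by
    rw [zero_mulVec, dotProduct_zero, ← mulVec_mulVec, ← F_Wv w0, F_swap23]
    refine h _ ((tv_neg s c _).2 ⟨mA_Wv _, fun e _ => by rw [fS_Wv]; rfl, ?_⟩) _
    rw [wW_Wv, mulVec_mulVec, mul_add, mul_one, Xs_sq, add_comm]
  rw [B_one] at h1
  rw [R_eq, h1, zero_div, zero_smul, add_zero, mul_add, mul_one, Xs, Matrix.mul_smul, add_mul,
    Finset.sum_mul] at r
  simp only [Matrix.smul_mul, ← mul_kronecker_mul, mul_one, one_mul] at r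
  have k := fun X => congrArg (con X) r
  simp only [map_add, map_smul, map_sum, con_kron, map_zero, one_mul] at k
  have k1 := k 1
  simp only [mul_one, trace_one, card_K, trace_xm_S, trace_xm_SS, zero_smul, smul_zero,
    Finset.sum_const_zero, add_zero, zero_add, ite_smul, smul_ite, Finset.sum_ite_eq',
    Finset.mem_univ, if_true] at k1
  have fc : fS d c = 0 := by
    have := congrArg trace k1
    simp only [trace_add, trace_smul, h1, trace_Nm, trace_zero, smul_eq_mul] at this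
    have := sg_ne s
    simp_all
  have a0 : mA d = 0 := by
    rw [fc, zero_smul, smul_zero, add_zero] at k1
    exact (smul_eq_zero.1 k1).resolve_left (by norm_num)
  refine U_ext a0 (funext fun e => ?_) w0
  have k2 := k (xm e.1)
  simp only [a0, smul_zero, zero_add, trace_xm_SS, mul_assoc, xm_mul c.1, Matrix.mul_smul,
    trace_smul, trace_xm_mul, bb_S, sg_zero, one_mul, ite_smul, smul_ite, zero_smul, smul_eq_mul,
    mul_ite, mul_zero, Finset.sum_ite_eq', Finset.mem_univ, if_true] at k2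
  change fS d e = 0
  rw [Finset.sum_eq_single e (fun x _ hx => if_neg fun z => hx (Subtype.ext z))
      (fun z => absurd (Finset.mem_univ _) z), if_pos rfl] at k2
  by_cases q : ∃ e' : S, e'.1 = c.1 + e.1
  · obtain ⟨e', q⟩ := q
    rw [← q, Finset.sum_eq_single e' (fun x _ hx => if_neg fun z => hx (Subtype.ext z))
      (fun z => absurd (Finset.mem_univ _) z), if_pos rfl] at k2
    have t := congrArg trace k2
    simp only [trace_add, trace_smul, trace_Nm, trace_zero, smul_eq_mul] at t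
    by_contra f0
    have : Nm e = Nm e' := by
      refine smul_right_injective _ f0 ?_
      linear_combination (norm := module) (1 / 4096 : ℝ) • k2 - (t : _ = (0 : ℝ)) • (1 / 8192 : ℝ) • Nm e'
    rw [← Nm_inj this, eq_comm, add_eq_right] at q
    exact S_ne_zero c q
  · rw [Finset.sum_eq_zero fun x _ => if_neg fun z => q ⟨x, z⟩, smul_zero, add_zero, smul_smul] at k2
    simpa [Nm_ne] using k2

/-- The involution determines the axis. -/
theorem fix_of_comm {g : U ≃ₗ[ℝ] U} (hg : g ∈ Aut) {s : ZMod 2} {c : S}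
    (h : g * tv s c * g⁻¹ = tv s c) : g (ax s c) = ax s c := by
  refine sub_eq_zero.1 (eq_zero_of_ann (s := s) (c := c) ?_ fun u hu w => ?_)
  · rw [B_sub_left, ← hg.1 (ax s c), hg.2.2, sub_self]
  · obtain ⟨u, rfl⟩ := g.surjective u
    obtain ⟨w, rfl⟩ := g.surjective w
    have : tv s c u = -u := g.injective (by
      rw [← LinearEquiv.mul_apply, mul_inv_eq_iff_eq_mul.1 h, LinearEquiv.mul_apply, hu, map_neg])
    rw [sub_eq_add_neg, ← neg_one_smul ℝ, F_add_left, F_smul_left, hg.2.1, (eig_one s c u).2 this,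
      (eig_one s c _).2 hu, hg.1]
    ring

/-- The property of pairs of axes that is proved by following links. -/
def Pr (τ : U ≃ₗ[ℝ] U) (x a : U) : Prop :=
  (B x a = 0 → ∃ m ∈ MM τ, m x = ax 1 c0 ∧ m a = ax 0 c0) ∧
  ∀ g ∈ MM τ, ∀ h ∈ MM τ, g (ax 1 c0) = x → h (ax 1 c0) = a →
    orderOf (g * tv 1 c0 * g⁻¹ * (h * tv 1 c0 * h⁻¹)) ≤ 6

theorem Pr.map' {τ : U ≃ₗ[ℝ] U} (h : Tri τ) {m : U ≃ₗ[ℝ] U} (hm : m ∈ MM τ) {x a : U}
    (p : Pr τ (m x) (m a)) : Pr τ x a := by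
  refine ⟨fun e => ?_, fun g hg k hk e1 e2 => ?_⟩
  · obtain ⟨l, l1, l2⟩ := p.1 (by rw [(MM_le_Aut h hm).1, e])
    exact ⟨l * m, (MM τ).mul_mem l1 hm, l2⟩
  · have := p.2 _ ((MM τ).mul_mem hm hg) _ ((MM τ).mul_mem hm hk) (congrArg m e1) (congrArg m e2)
    rw [← (MulAut.conj m).orderOf_eq, MulAut.conj_apply]
    convert this using 2
    group

theorem Pr.map {τ : U ≃ₗ[ℝ] U} (h : Tri τ) {m : U ≃ₗ[ℝ] U} (hm : m ∈ MM τ) {x a : U} :
    Pr τ (m x) (m a) ↔ Pr τ x a :=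
  ⟨Pr.map' h hm, fun p => Pr.map' h ((MM τ).inv_mem hm) (by
    have k : ∀ x, m⁻¹ (m x) = x := m.symm_apply_apply
    rwa [k, k])⟩

theorem conj_tv_eq {g k : U ≃ₗ[ℝ] U} (hg : g ∈ Aut) (hk : k ∈ Aut) {s : ZMod 2} {c : S}
    (e : g (ax s c) = k (ax s c)) : g * tv s c * g⁻¹ = k * tv s c * k⁻¹ := by
  have := conj_tv (Aut.mul_mem (Aut.inv_mem hk) hg) (s := s) (c := c) (t := s) (d := c)
    ((congrArg k.symm e).trans (k.symm_apply_apply _))
  conv_rhs => rw [← this]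
  group

/-- Base cases in the first orbit. -/
theorem pr_ax {τ : U ≃ₗ[ℝ] U} (h : Tri τ) (s : ZMod 2) (c : S)
    (h0 : B (ax s c) (ax 1 c0) = 0 → ∃ e : ℕ, (τ ^ e) (ax s c) = ax 0 c0) :
    Pr τ (ax s c) (ax 1 c0) := by
  refine ⟨fun e => ?_, fun g hg k hk e1 e2 => ?_⟩
  · obtain ⟨n, hn⟩ := h0 e
    obtain ⟨d, hd⟩ := exists_polar_one (S_ne_zero c0)
    have k : ∀ t, rho (qe 0 d) (ax t c0) = ax (t + 1) c0 := fun t => by
      rw [rho_ax, co_qe, one_smul, ep_qe, add_comm (bb d _), hd]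
    have f : (τ ^ n) (ax 1 c0) = ax 1 c0 :=
      (MulAction.stabilizer (U ≃ₗ[ℝ] U) (ax 1 c0)).pow_mem h.fix n
    exact ⟨rho (qe 0 d) * τ ^ n, (MM τ).mul_mem (rho_mem_MM τ _) ((MM τ).pow_mem (tau_mem_MM τ) n),
      by rw [LinearEquiv.mul_apply, hn, k, zero_add], by rw [LinearEquiv.mul_apply, f, k]; rfl⟩
  · rw [conj_tv (MM_le_Aut h hg) e1, conj_tv (MM_le_Aut h hk) e2, tv, tv, ← map_mul, qe_mul]
    refine (orderOf_le_of_pow_eq_one (n := 4) (by norm_num) ?_).trans (by norm_num)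
    rw [show 4 = 2 * 2 from rfl, pow_mul, sq, sq, ← map_mul, qe_mul, two_zmod (c.1 + c0.1),
      ← map_mul, qe_mul, add_zero, two_zmod (_ : ZMod 2), bb_zero_left, add_zero, rho_qe_zero]

/-- Base cases: products of order 3, 4, 5, 6.  `T` is the involution of the axis `m (ax 1 c0)`. -/
theorem pr_of_ord {τ : U ≃ₗ[ℝ] U} (h : Tri τ) {m T : U ≃ₗ[ℝ] U} (hm : m ∈ MM τ)
    (hT : T = m * tv 1 c0 * m⁻¹) {s : ZMod 2} {c : S} {y : U} (hy : y = m (ax 1 c0))
    (h0 : B (ax s c) y ≠ 0)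
    (h1 : T (ax s c) = tv s c y ∨ T (tv s c y) = tv s c y ∨
      T (tv s c (T (ax s c))) = tv s c y ∨ T (tv s c (T (tv s c y))) = tv s c y) :
    Pr τ (ax s c) y := by
  refine ⟨fun e => absurd e h0, fun g hg k hk e1 e2 => ?_⟩
  have ga := MM_le_Aut h hg
  have ma := MM_le_Aut h hm
  have xa := tv_mem_Aut s c
  have Ta : T ∈ Aut := hT ▸ Aut.mul_mem (Aut.mul_mem ma (tv_mem_Aut _ _)) (Aut.inv_mem ma)
  have T2 : T * T = 1 := by rw [hT, conj_mul, tv_mul_self, mul_one, mul_inv_cancel]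
  have x2 := tv_mul_self s c
  have gx := conj_tv ga e1
  rw [gx, conj_tv_eq (MM_le_Aut h hk) ma (e2.trans hy), ← hT]
  rw [← e1, hy] at h1
  generalize tv s c = x at *
  have c1 : ∀ u : U ≃ₗ[ℝ] U, u * g * tv 1 c0 * (u * g)⁻¹ = u * x * u⁻¹ := fun u => by rw [← gx]; group
  have c2 : ∀ u : U ≃ₗ[ℝ] U, u * m * tv 1 c0 * (u * m)⁻¹ = u * T * u⁻¹ := fun u => by rw [hT]; group
  have xi : x⁻¹ = x := inv_eq_of_mul_eq_one_right x2
  have Ti : T⁻¹ = T := inv_eq_of_mul_eq_one_right T2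
  have fin : ∀ {n : ℕ} {w : U ≃ₗ[ℝ] U}, 0 < n → n ≤ 6 → w = x * T * x⁻¹ → (x * T) ^ n = x * T * x * w →
      orderOf (x * T) ≤ 6 := fun h1 h2 h3 h4 => (orderOf_le_of_pow_eq_one h1 (by
        rw [h4, h3, xi, mul_assoc (x * T), ← mul_assoc x, ← mul_assoc x, x2, one_mul, ← mul_assoc,
          mul_assoc x, T2, mul_one, x2])).trans h2
  have mm := @Aut.mul_mem
  rcases h1 with e | e | e | e
  · have := conj_tv_eq (mm Ta ga) (mm xa ma) e
    rw [c1, c2] at this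
    exact fin (n := 3) (by norm_num) (by norm_num) this (by
      simp only [pow_succ, pow_zero, one_mul, Ti, mul_assoc])
  · have := conj_tv_eq (mm (mm Ta xa) ma) (mm xa ma) e
    rw [c2, c2] at this
    exact fin (n := 4) (by norm_num) (by norm_num) this (by
      simp only [pow_succ, pow_zero, one_mul, Ti, xi, mul_assoc, _root_.mul_inv_rev])
  · have := conj_tv_eq (mm (mm (mm Ta xa) Ta) ga) (mm xa ma) e
    rw [c1, c2] at this
    exact fin (n := 5) (by norm_num) (by norm_num) this (by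
      simp only [pow_succ, pow_zero, one_mul, Ti, xi, mul_assoc, _root_.mul_inv_rev])
  · have := conj_tv_eq (mm (mm (mm (mm Ta xa) Ta) xa) ma) (mm xa ma) e
    rw [c2, c2] at this
    exact fin (n := 6) (by norm_num) (by norm_num) this (by
      simp only [pow_succ, pow_zero, one_mul, Ti, xi, mul_assoc, _root_.mul_inv_rev])

end H10.Mon
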