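import Mathlib
import Cfsg.Agent.H10.MTau
import Cfsg.Agent.H10.MRoot
import Cfsg.Agent.H10.MD5

/-!
# Words in `GT`, the roots, the checks of triples and stabilisers
-/

set_option autoImplicit false
set_option linter.all false

namespace H10.Mon

open Cfsg H9 H29 Matrix

/-- The element of a word without the letter 53. -/
noncomputable def gw : List ℕ → GT
  | [] => 1
  | c :: w => gw w * gl c

noncomputable def noT (w : List ℕ) : Bool := H29.allL w fun c => Nat.ble c 52

theorem wd_gw : ∀ {w : List ℕ}, noT w = true → wd w = rho (gw w)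
  | [], _ => (map_one rho).symm
  | c :: w, h => by
    have h1 := H29.ble_true.1 (allL_cons.1 h).1
    rw [wd, gw, map_mul, wd_gw (allL_cons.1 h).2, el, if_neg (by omega)]

noncomputable def apL (w : List ℕ) : ℕ → ℕ :=
  List.rec (motive := fun _ => ℕ → ℕ) (fun n => n) (fun c _ ih n => lit (apC (lt c).C n) ih) w

theorem dec_apL : ∀ (w : List ℕ) (n : ℕ), dec (apL w n) = co (gw w) • dec n
  | [], n => by rw [gw, map_one, one_smul]; rfl
  | c :: w, n => by
    rw [gw, map_mul, mul_smul, ← (gl_cols c).ap]; exact dec_apL w _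

noncomputable def colW (w : List ℕ) : List ℕ := mapL (apL w) hCI []

theorem cols_colW (w : List ℕ) : Cols (co (gw w)) (colW w) := by
  rw [colW, mapL_eq, List.append_nil]
  refine ⟨by rw [List.length_map]; rfl, fun j hj => ?_⟩
  rw [nth_map (show j < hCI.length from hj), dec_apL, ← cols_one.2 j hj, one_smul]

theorem gl_ep (c : ℕ) {j : ℕ} (hj : j < 24) : ep (gl c) (dec (2 ^ j)) = bt (lt c).lam j := by
  obtain ⟨h1, g, h2, h3, h4⟩ := chkK_sound (lt_all (p := fun L => L.cK = true) cK_all c) (gl_cols c)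
  rw [← h4 j hj, show g = gl c from GT_ext (Matrix.ext fun u v => by
    obtain ⟨u, hu, rfl⟩ := dK_surj u
    obtain ⟨v, hv, rfl⟩ := dK_surj v
    rw [h3, gl_nm c hu hv, mP_apply _ hu hv]) h2]

noncomputable def bits (n : ℕ) : List ℕ :=
  mapL (Nat.shiftRight n) [0, 1, 2, 3, 4, 5, 6, 7, 8, 9, 10, 11, 12, 13, 14, 15, 16, 17, 18, 19, 20,
    21, 22, 23] []

/-- The sign of a letter on a class. -/
noncomputable def epL (c n : ℕ) : ℕ := epP 1 (bits n) (lt c).C (lt c).lam 24

theorem ep_gl (c n : ℕ) : ep (gl c) (dec n) = bt (epL c n) 0 := by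
  rw [epL, bt_epP (gl_cols c) (fun j => gl_ep c) rfl rfl 24 le_rfl, dec_sum n]
  refine congrArg _ (Finset.sum_congr rfl fun j hj => congrArg (· • _) (bt_congr ?_))
  have := Finset.mem_range.1 hj
  rw [show nth 0 (bits n) j = n >>> j by interval_cases j <;> rfl, Nat.testBit_shiftRight, add_zero]

/-- The sign of a word on a class. -/
noncomputable def epW (w : List ℕ) : ℕ → ℕ :=
  List.rec (motive := fun _ => ℕ → ℕ) (fun _ => 0)
    (fun c _ ih n => Nat.xor (epL c n) (lit (apC (lt c).C n) ih)) w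

theorem ep_gw : ∀ (w : List ℕ) (n : ℕ), ep (gw w) (dec n) = bt (epW w n) 0
  | [], n => (ep_one _).trans (bt_zero _).symm
  | c :: w, n => by
    rw [gw, ep_mul, ← (gl_cols c).ap, ep_gl, ep_gw w, ← bt_xor]; rfl

noncomputable def goodSt (x : St) : Bool :=
  and2 (allN 24 fun i => allN i fun j =>
    decide (x.a.P.val (Nat.add (Nat.mul i 24) j) = x.a.P.val (Nat.add (Nat.mul j 24) i)))
  (and2 (Nat.beq (Nat.shiftRight x.a.P.nz 576) 0) (and2 (Nat.beq (Nat.shiftRight x.s.P.nz 98280) 0)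
    (Nat.beq (Nat.shiftRight x.w.P.nz 98304) 0)))

theorem good_of {x : St} (h : goodSt x = true) : Good x.val := by
  simp only [goodSt, and2_true, allN_true, decide_eq_true_eq, H29.beq_true] at h
  obtain ⟨h1, h2, h3, h4⟩ := h
  refine ⟨fun i hi j hj => ?_, fun p hp => Vec.val_nz (tb_zero h2 hp),
    fun p hp => Vec.val_nz (tb_zero h3 hp), fun p hp => Vec.val_nz (tb_zero h4 hp)⟩
  rcases lt_trichotomy j i with e | rfl | e
  · exact congrArg (fun z : ℤ => (z : ℝ) / 2 ^ x.a.e) (h1 i hi j e)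
  · rfl
  · exact congrArg (fun z : ℤ => (z : ℝ) / 2 ^ x.a.e) (h1 j hj i e).symm

open Classical in
/-- The vector with the given registers. -/
noncomputable def uOf (x : St) : U := if h : Good x.val then (exists_Φ h).choose else 0

theorem Φ_uOf {x : St} (h : goodSt x = true) : Φ (uOf x) = x.val := by
  rw [uOf, dif_pos (good_of h)]; exact (exists_Φ (good_of h)).choose_spec

/-- The registers of the roots. -/
noncomputable def rt (i : ℕ) : St :=
  nth rt0 [rt0, rt1, rt2, rt3, rt4, rt5, rt6, rt7, rt8, rt9, rt10, rt11] i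

theorem good_rt (i : ℕ) : goodSt (rt i) = true :=
  nth_forall (p := fun x => goodSt x = true) (by decide +kernel)
    (allL_true.1 (by decide +kernel)) i

/-- The roots. -/
noncomputable def av (i : ℕ) : U := uOf (rt i)

theorem Φ_av (i : ℕ) : Φ (av i) = (rt i).val := Φ_uOf (good_rt i)

/-- Sum of squares of the first `n` entries, times `4 ^ 12`. -/
noncomputable def sqV (v : Vec) (n J : ℕ) : Bool :=
  Nat.beq (Nat.mul (sqS v.P n) 16777216) (Nat.mul J (Nat.pow 4 v.e))

theorem sqV_true {v : Vec} {n J : ℕ} (h : sqV v n J = true) :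
    ∑ p ∈ Finset.range n, v.val p ^ 2 = J / 16777216 := by
  have := congrArg (Nat.cast : ℕ → ℝ) (H29.beq_true.1 h)
  simp only [Nat.mul_eq, Nat.pow_eq, Nat.cast_mul, Nat.cast_pow, Nat.cast_ofNat, sqS_eq] at this
  simp only [Vec.val, div_pow, ← Finset.sum_div]
  rw [div_eq_div_iff (by positivity) (by norm_num), this, ← pow_mul, mul_comm v.e, pow_mul]
  norm_num

theorem sum_range_sq (f : ℕ → ℝ) (n : ℕ) : ∀ m, ∑ p ∈ Finset.range (m * n), f p =
    ∑ i ∈ Finset.range m, ∑ j ∈ Finset.range n, f (i * n + j)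
  | 0 => by simp
  | m + 1 => by rw [add_mul, one_mul, Finset.sum_range_add, sum_range_sq f n m, Finset.sum_range_succ]

theorem trace_sq {u : U} {x : St} (h : Φ u = x.val) {J : ℕ} (hJ : sqV x.a 576 J = true) :
    trace (mA u * mA u) = J / 16777216 := by
  rw [← sqV_true hJ, show 576 = 24 * 24 from rfl, sum_range_sq, trace, sum_ro]
  refine Finset.sum_congr rfl fun i hi => ?_
  rw [diag_apply, mul_apply, sum_ro]
  refine Finset.sum_congr rfl fun j hj => ?_
  rw [show x.a.val = (Φ u).1 by rw [h]; rfl, Φ_a' u (Finset.mem_range.1 hi) (Finset.mem_range.1 hj),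
    sq, ← congrFun (congrFun (mA_symm u) (ro i)) (ro j), transpose_apply]

theorem cls_fst {p : ℕ} (hp : p < 98280) : (cls p).1 = 0 ↔ 97728 ≤ p := by
  have e : (nth 0 CP 12 ||| (nth 0 CP 13 ||| (nth 0 CP 14 ||| (nth 0 CP 15 ||| (nth 0 CP 16 |||
    (nth 0 CP 17 ||| (nth 0 CP 18 ||| (nth 0 CP 19 ||| (nth 0 CP 20 ||| (nth 0 CP 21 |||
    (nth 0 CP 22 ||| nth 0 CP 23))))))))))) = ones 97728 := H29.beq_true.1 (by decide +kernel)
  have := congrArg (fun a => Nat.testBit a p = false) e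
  simp only [Nat.testBit_or, Bool.or_eq_false_iff, testBit_ones, decide_eq_false_iff_not, not_lt,
    eq_iff_iff] at this
  rw [← this, funext_iff]
  simp only [Fin.forall_fin_succ, IsEmpty.forall_iff, and_true, cls, cv, bt, Pi.zero_apply,
    ite_eq_right_iff, one_ne_zero, imp_false, Bool.not_eq_true]
  rfl

theorem sum_S {M : Type*} [AddCommMonoid M] (f : C → M) :
    ∑ c : S, f c.1 = ∑ p ∈ Finset.range 98280, f (cls p) := by
  rw [Finset.sum_range]
  refine (Function.Bijective.sum_comp (e := fun p : Fin 98280 => toS (cls p) (cls_S p.2))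
    ⟨fun a b h => Fin.ext (cls_inj a.2 b.2 (congrArg Subtype.val h)), fun c => ?_⟩ _).symm
  obtain ⟨p, hp, e⟩ := cls_surj c
  exact ⟨⟨p, hp⟩, Subtype.ext e⟩

noncomputable def jChk (x : St) (J : ℕ) : Bool :=
  (x.s.map fun a => Nat.shiftRight a 97728).force fun v => sqV v 552 J

theorem jChk_true {u : U} {x : St} (h : Φ u = x.val) {J : ℕ} (hJ : jChk x J = true) :
    Jv u = J / 16777216 := by
  rw [jChk, Vec.force_eq] at hJ
  rw [← sqV_true hJ, Jv, Finset.sum_congr rfl fun c _ => by rw [← fX_S],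
    sum_S fun c => if c.1 = 0 then fX u c ^ 2 else 0, show 98280 = 97728 + 552 from rfl,
    Finset.sum_range_add, Finset.sum_eq_zero fun p hp => if_neg (by
      have := Finset.mem_range.1 hp; rw [cls_fst (by omega)]; omega), zero_add]
  refine Finset.sum_congr rfl fun p hp => ?_
  have := Finset.mem_range.1 hp
  rw [if_pos ((cls_fst (by omega)).2 (by omega)),
    Vec.val_map (f := fun a => Nat.shiftRight a 97728) (q := 97728 + p)
      fun a => Nat.testBit_shiftRight a,
    show x.s.val = (Φ u).2.1 by rw [h]; rfl, Φ_s, if_pos (by omega)]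

/-- A triple `y, τ y, τ² y`: roots, words, invariants, and an odd element fixing `y`. -/
structure TD : Type where
  i : List ℕ
  w : List (List ℕ)
  J : List ℕ
  o : List ℕ

noncomputable def TD.chk (d : TD) : Bool :=
  and2 (H29.allL d.w noT) (and2 (noT d.o)
    ((runW mv (nth [] d.w 0) (rt (nth 0 d.i 0))).rec fun a s w =>
      and2 (jChk ⟨a, s, w⟩ (nth 0 d.J 0)) (and2 ((runW mv d.o ⟨a, s, w⟩).beq ⟨a, s, w⟩)
      (tauM.step ⟨a, s, w⟩ fun y1 =>
        and2 (jChk y1 (nth 0 d.J 1)) (and2 ((runW mv (nth [] d.w 1) y1).beq (rt (nth 0 d.i 1)))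
        (tauM.step y1 fun y2 =>
          and2 (jChk y2 (nth 0 d.J 2)) ((runW mv (nth [] d.w 2) y2).beq (rt (nth 0 d.i 2)))))))))

/-- The vector of the triple. -/
noncomputable def TD.y (d : TD) : U := rho (gw (nth [] d.w 0)) (av (nth 0 d.i 0))

/-- The element that carries `τ ^ e y` to its root. -/
noncomputable def TD.k (d : TD) (e : ℕ) : GT :=
  if e = 0 then (gw (nth [] d.w 0))⁻¹ else gw (nth [] d.w e)

/-- `d.k e` carries the class `c'` to the class `c`. -/
noncomputable def TD.rel (d : TD) (e c' c : ℕ) : Bool :=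
  Nat.rec (motive := fun _ => Bool) (Nat.beq (apL (nth [] d.w 0) c) c')
    (fun _ _ => Nat.beq (apL (nth [] d.w e) c') c) e

theorem TD.rel_true {d : TD} : ∀ {e c' c : ℕ}, d.rel e c' c = true → co (d.k e) • dec c' = dec c
  | 0, c', c, h => by
    rw [TD.k, if_pos rfl, map_inv, inv_smul_eq_iff, ← dec_apL, H29.beq_true.1 h]
  | e + 1, c', c, h => by
    rw [TD.k, if_neg (by omega), ← dec_apL, H29.beq_true.1 h]

structure TD.Ok (d : TD) : Prop where
  root : ∀ e < 3, rho (d.k e) ((tau ^ e) d.y) = av (nth 0 d.i e)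
  inv : ∀ e < 3, Jv ((tau ^ e) d.y) = (nth 0 d.J e : ℕ) / 16777216
  odd : rho (gw d.o) d.y = d.y

theorem Φ_tau {u : U} {x : St} (h : Φ u = x.val) {p : St → Bool} (hp : tauM.step x p = true) :
    ∃ y, Φ (tau u) = y.val ∧ p y = true := by
  refine ⟨runW mv [53] x, Φ_run (w := [53]) h, ?_⟩
  rw [Mv.step_eq] at hp
  exact (congrArg p (Mv.step_eq tauM x _)).trans hp

theorem TD.ok_of {d : TD} (h : d.chk = true) : d.Ok := by
  obtain ⟨h1, h2⟩ := and2_true.1 h
  obtain ⟨h2, h3⟩ := and2_true.1 h2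
  have n : ∀ e, noT (nth [] d.w e) = true := nth_forall (p := fun w => noT w = true) rfl (allL_true.1 h1)
  have y0 : Φ d.y = (runW mv (nth [] d.w 0) (rt (nth 0 d.i 0))).val := by
    rw [TD.y, ← wd_gw (n 0)]; exact Φ_run (Φ_av _)
  generalize runW mv (nth [] d.w 0) (rt (nth 0 d.i 0)) = x at h3 y0
  obtain ⟨a, s, w⟩ := x
  obtain ⟨j0, h3⟩ := and2_true.1 h3
  obtain ⟨o0, h3⟩ := and2_true.1 h3
  obtain ⟨y1, e1, h3⟩ := Φ_tau y0 h3
  obtain ⟨j1, h3⟩ := and2_true.1 h3
  obtain ⟨r1, h3⟩ := and2_true.1 h3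
  obtain ⟨y2, e2, h3⟩ := Φ_tau e1 h3
  obtain ⟨j2, r2⟩ := and2_true.1 h3
  refine ⟨fun e he => ?_, fun e he => ?_, by rw [← wd_gw h2]; exact wd_run y0 y0 o0⟩
  · interval_cases e
    · rw [TD.k, if_pos rfl, pow_zero, LinearEquiv.coe_one, id, TD.y, ← LinearEquiv.mul_apply,
        ← map_mul, inv_mul_cancel, map_one]; rfl
    · rw [TD.k, if_neg (by norm_num), pow_one, ← wd_gw (n 1)]; exact wd_run e1 (Φ_av _) r1
    · rw [TD.k, if_neg (by norm_num), sq, ← wd_gw (n 2)]; exact wd_run e2 (Φ_av _) r2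
  · interval_cases e
    · exact jChk_true y0 j0
    · exact jChk_true e1 j1
    · exact jChk_true e2 j2

noncomputable def eqL (a : List ℕ) : List ℕ → Bool :=
  List.rec (motive := fun _ => List ℕ → Bool)
    (fun b => List.rec true (fun _ _ _ => false) b)
    (fun x _ ih b => List.rec false (fun y t _ => and2 (Nat.beq x y) (ih t)) b) a

theorem eqL_true : ∀ {a b : List ℕ}, eqL a b = true → a = b
  | [], [], _ => rfl
  | [], _ :: _, h => absurd h Bool.false_ne_true
  | _ :: _, [], h => absurd h Bool.false_ne_true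
  | x :: a, y :: b, h => by
    obtain ⟨h1, h2⟩ := and2_true.1 (show and2 (Nat.beq x y) (eqL a b) = true from h)
    rw [H29.beq_true.1 h1, eqL_true h2]

/-- The word fixes the root and has the matrix `A`. -/
noncomputable def chkT (i : ℕ) (w A : List ℕ) : Bool :=
  and2 (noT w) (and2 (eqL (colW w) A) ((runW mv w (rt i)).beq (rt i)))

theorem chkT_true {i : ℕ} {w A : List ℕ} (h : chkT i w A = true) :
    ∃ t ∈ Stb (av i), Cols (co t) A := by
  simp only [chkT, and2_true] at h
  exact ⟨gw w, mem_Stb.2 (by rw [← wd_gw h.1]; exact wd_run (Φ_av i) (Φ_av i) h.2.2),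
    eqL_true h.2.1 ▸ cols_colW w⟩

end H10.Mon
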