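import Mathlib
import Cfsg.Agent.H10.McR0

set_option autoImplicit false
set_option maxRecDepth 100000
set_option Elab.async false
set_option linter.all false

namespace H10.McR

open H29

noncomputable def x4 : Net := ben 9 [(nat_lit 0x3cc077ca3b26c9557825e4a568e5ffe80bcbfdd97d992cd8f93c067132a27a0bb5b3c),
 (nat_lit 0x45253c5bc2152572c636efc6b21c4078be64a00d1f2672351cdf355e70bdb843cb210),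
 (nat_lit 0xdb3608a79318442d46a084e50c62038fdc12236f952b7a7d71c00d90970b1566280a),
 (nat_lit 0x8294e33a0bf55572abceb96896e05898661326e76d2a72ed8e2f6d930050dce80062),
 (nat_lit 0x50006227192da4bce39c285527c39c050d7c17f3a5f3ad286735cfa42703398004bbc),
 (nat_lit 0xc4ce42f53e20841f000280d4b4c7d886804d303af97d107b00050f0057360d92),
 (nat_lit 0x47000045daf1db7699db2c6cabdc000000000001102ae147a0a77eabdfea),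
 (nat_lit 0x7ffdd00804f0080440010000000000006eff7),
 (nat_lit 0x7ffff)]
noncomputable def x6 : Net := ben 9 [(nat_lit 0x19882a9d915f7df332f8564e54940ca647b530470aa1cf497c196b0f86f60e3dc68f8),
 (nat_lit 0x401e96178d8dda33dce4c89e11624921f2734add866f41b722e562ed46cc5ca987000),
 (nat_lit 0x2f82c027524be1f5e0fbce15cf3fc3e8294a6d0e59c909f6be39600bcf854f410b0e),
 (nat_lit 0x1291ce9cf4471ecb97e1d28288cfc0c0525e028a7086b207a19ced428149d01b00d0),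
 (nat_lit 0x20005c0da3ccb537447e4e887c7d1223ada01136c136c903273240010cd9b8040764e),
 (nat_lit 0x200115e50241844088949af6c792559884453764966cf7e50000004491a073fc),
 (nat_lit 0x48900000800475f8d733ee1e2138281900000000000000008508fe56005f0080),
 (nat_lit 0x4edff4892000080001364000000000004edff),
 (nat_lit 0x4edff)]
noncomputable def x8 : Net := ben 9 [(nat_lit 0x3aa4cf1008723b16b616b9da46cff42a2b76ca14c5ce3c55bf2c6095a209306c2db00),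
 (nat_lit 0x4be25d250995f05e09e7c81e865ab17f56a5294eab1f54806088b712d9507e930e270),
 (nat_lit 0xdb1f92a6a4846e403e094fcb8869e336e80e3e3b422adbffb9a63076a3ec79832806),
 (nat_lit 0x3a3e8c4ffb01469060e4523d0503517125ff00ac50644cffa41c85fa00fe018600d4),
 (nat_lit 0x4000154b1b595e53de30420c26b17c18d689f76a876b84913dc021ac13c2d80005472),
 (nat_lit 0xd2c43876d0f117be0803ece2fb81e06e4287196114af9934000250006299a57a),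
 (nat_lit 0x880020000003f0225c4ff33b2ad7fdee000000000000002034261915ca80e070),
 (nat_lit 0x3ffce8840620800071000000000000003ffee),
 (nat_lit 0x3ffee)]
noncomputable def x10 : Net := ben 9 [(nat_lit 0x3f7d1a5ff72920d3cbafd20b7072cdf2647ed5ebf3b32c7f3aa48c2ce34b6a65f4213),
 (nat_lit 0x144d73202529838283efa863f875f776590617670035974f383bc0eb68e7604739011),
 (nat_lit 0xe161808af7017e9941cd7938815423eade6d18323e9718d8e4826a4d813a9f088d0d),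
 (nat_lit 0xc2c85f1f83bb27a1bc88c12a9edda47c5af7039da20ea61306da7cfec16b3cb70094),
 (nat_lit 0x20001f0e55fca4763100948096cfec32e9eb8338c338c904bd80d085c472b0400ea15),
 (nat_lit 0x341a391ded1ef69cc00518aa5ea76eea2a82d444182e1c160000010025adef38),
 (nat_lit 0x40002100000171425f6b6199ed17fa6c00000000000000041baa10446041c7a5),
 (nat_lit 0x5ff6ac410238800021000000000000005ff6e),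
 (nat_lit 0x5ff6e)]
noncomputable def x12 : Net := ben 9 [(nat_lit 0x2c34ce5c2382971e0317f1fe41aae743d0132b668fe2fbb4ebc18ea6f228a8ca375c7),
 (nat_lit 0x48f5ed1e66c9665e82bad249cba01b57c20d63fd26ab58604a45be0919820ca82081),
 (nat_lit 0x1e74199b3b7f215ce03e6cc0feeadd52916300557beee0ed2da4299d1aae2c1f2509),
 (nat_lit 0xcdfd09cd69105f5a9683917cff5949e23ae644d94634001e10d70e9ce181b6ff00c5),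
 (nat_lit 0x600053f28e7613f69e61e8ef240f6c7f02ee5e882e882e34a3168f1c856e7022876c0),
 (nat_lit 0x226800106bb1a4c50542400889cf2d7b800d832fa00dd212000000004403abf1),
 (nat_lit 0x170000800002528f415ccaa3341849f60000000000000002a88f107552a2035a),
 (nat_lit 0x6dbff1770008000098000000000000006dbfd),
 (nat_lit 0x6dbff)]
noncomputable def x14 : Net := ben 9 [(nat_lit 0x2473250906ecee23904b48e551d8923aa53c5a3f7a100c958b23539383a7a86a74ac),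
 (nat_lit 0xae5dff5372212ca4afbb3226fcb80833a252d631e75f20612bec2a46fa55458582e2),
 (nat_lit 0x2e2ee271025bbc517a042d2bd12aaa400a15183f8d0e26da06108d89077ee1fb780c),
 (nat_lit 0x10c631bd4ca62d92ae2923b6322400260080005e88c2c661232b44c4919174da00d2),
 (nat_lit 0x35ef0a23fa1312c513cc43de40210d890410c410c2240e643190c5d8c0000ccb2),
 (nat_lit 0x8000225079903e37001000003cd4021122400104636c812500000000190c8060),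
 (nat_lit 0x1000000000021082193d600010021000000000000000002240010400000000),
 (nat_lit 0x21000100000000000000000000000000210),
 (nat_lit 0x210)]
noncomputable def x16 : Net := ben 9 [(nat_lit 0xaf124854cd5e07095eeaae0fb6be5b40036cb4762cc9d65cc7bfdd5ce2db4c190b0),
 (nat_lit 0x46b6bd42d267ab4a433ede492dc0426f6a0f2a31a470ad1533ce582303671b3004af2),
 (nat_lit 0xf4f22ebdb9f5adc42d49eef19b9dae0967718d008f0063a85c17a5270bd8e53b4e0a),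
 (nat_lit 0x625fbf44b3d376f29ddd85dc693c50f302700ddfb187ab4a1985558d1128181f0094),
 (nat_lit 0x10000b06146917289b89d53300b71908af2f49cb994b95b74ae06616920881100af34),
 (nat_lit 0x7b047007171580c100434c2587577c89ba102dc3a221058300048000789d15c4),
 (nat_lit 0x404600100006458462d2e074581e41cf0000000000000480b6a808024d15b7e8),
 (nat_lit 0x7d9af4146901020000001000000000007dd2f),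
 (nat_lit 0x7ddaf)]
noncomputable def x18 : Net := ben 9 [(nat_lit 0xf5d2c20f6aaa55741f75ef11eed81ec2dff0d81cca24fc998e3ab1578bf941172fc0),
 (nat_lit 0x1636faed8dcd411c12b00ad5c341057744e448ba79fd4d4b9ca9dc1831e564341da00),
 (nat_lit 0x2ce41404c4084713b2f7548b33a25378a3ea710ae06a718bfd895227b50c00da0408),
 (nat_lit 0x726d8088b9acbb8b53e452f0d0ac4147c185001359d42777b29d273e104802d10078),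
 (nat_lit 0x400067bd93d79970b66b30fa1d43549985c2980b980b9540a16f6020537160108c86a),
 (nat_lit 0x9d1531c7ca37e44000199ad0c630a4540a7c9acc02aa4ee000000201bbf0814),
 (nat_lit 0x110005400c63b176b56c47c1b50000000000008020409a25e4a235d860),
 (nat_lit 0x7dddd35000011400200880000000000075dfd),
 (nat_lit 0x7ddfd)]
noncomputable def x20 : Net := ben 9 [(nat_lit 0xf3f330fc0c03c03fcf0fff3cf0333f0ff0000c330333fc0cc300ccfc3fc30f00c00),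
 (nat_lit 0x5afa07752af255a2077ff0575880570ff28802a0a4601e54ea14a51b541b11eaa1110),
 (nat_lit 0xb35df30615335d0c958862590e199508e4828855664411afff66ccbb8d0533000500),
 (nat_lit 0x848ccfc539b14ece2008c10f03038090404201a366a79342d25b47df8408b2220080),
 (nat_lit 0x50003014445e2ebf0e3fe4941c95d97c8bf6c49cd49cd493adfaeb554e4174100c198),
 (nat_lit 0xa004009fcd654cb72404082ce5ec04af895c41e2891971ea0000414057306354),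
 (nat_lit 0x622080000049b11a6c2dde05668931f0000000000004000c8ddd1e02182c012),
 (nat_lit 0x59bfd36220801001001400000000000059bfd),
 (nat_lit 0x5dbfd)]
noncomputable def x22 : Net := ben 9 [(nat_lit 0x1e91525153d2dc4eb1bc51d3378f0c70eda1c934b6ed2d849b3a63421bcc062d80410),
 (nat_lit 0x5f5428f27ad5fa6190092300dc9429a3113a28f2bd3b52f8f9cffe1dee52dde12d7b0),
 (nat_lit 0x22ec51cd8d4c18a550b05b9b1dbe3300665359ca2b05bf486cee6017726504f8708),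
 (nat_lit 0x6b250999a9a7820e4991449a2dcbc6c628bb0442145a5984922d8ca010ac026300d0),
 (nat_lit 0x6000022acd92f16d0dda37da8201364e28fbb74177497f8fb8f931821bf723800b748),
 (nat_lit 0x66b598cfc65dd920a445a906b39a057022c983476ab13fc000000000159793c),
 (nat_lit 0x804024020020e9047931eb21d7b2dca9000000000000100422bb115c4004deec),
 (nat_lit 0x5ff9a8840240302280010000000000005ef9e),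
 (nat_lit 0x5ff9e)]
noncomputable def x24 : Net := ben 9 [(nat_lit 0xc37361d800d15aee0f0817cd63b8d53672c56d63123b1ef53ee09d0b0404330f1370),
 (nat_lit 0xcb0f914b49e6d157c665f81e45204c2738eb1a9baaf5a7339f40a5a1c27d8204090a),
 (nat_lit 0x415588f748f4a932d319360c42998a53055440ab1989092ab9c7c61a136aa0722400),
 (nat_lit 0x47570f2f67a40830bcb48409041d318c214880ab0a3a74ef5593936c8c6e3c140026),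
 (nat_lit 0x300078868dd0d5995d89627f0acc327e158d25e08de08f0f22c744d0aacc508003540),
 (nat_lit 0x4a31d807b4190b0b200275b0a3ab9fc49ee4228046eca2b1000206083c4147e8),
 (nat_lit 0x21001c080000cff3aa795f3ef0277b3b0000000000000000c0e4a3001f020598),
 (nat_lit 0x2fffb21031c0800240200000000000002fffb),
 (nat_lit 0x2fffb)]
noncomputable def x26 : Net := ben 9 [(nat_lit 0x5c86154b994208aa4d6b64311dba80ac2a715617878c2dbf767331e889e08f5cd9e4),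
 (nat_lit 0x142885b0b3e0b60fe80a0f366b8b766c1567c6c2070946251e308739be0b816219aea),
 (nat_lit 0xee950c5f4a1b5ea307fa540e7c7ba40d47a3bc26ba6e120e08a8cc8ca8598ae48100),
 (nat_lit 0x11e9e68a1c5b88808da457c336ec606b5093207c0324510e329c3f4d6dbfb2ed00fc),
 (nat_lit 0x7257f0a668049f4ad5c7e53ac40ac6bce5509550908bc94ca194a3c720080cb2a),
 (nat_lit 0xc29959fedeca6a728012f9c924365c30092a4d097c2265bb0000010097cc493a),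
 (nat_lit 0x294000000225c7e6dfe6847b0f3abc200000000000001001d236d59641c0190),
 (nat_lit 0x4f9ff8294100008224408000000000004f8ff),
 (nat_lit 0x4f9ff)]
noncomputable def x28 : Net := ben 9 [(nat_lit 0x3e992750057e56b46ad42644d8bf3354da8099778bb0ace8908b6e78071a43a5230f0),
 (nat_lit 0xeaa992566145271a724c67a23f5a812a01617c1ae503b097a7f9b33b326ccd7a6782),
 (nat_lit 0x894695c14b6e25373c276f3fed6da802680a8042312a770941017cf746535080280c),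
 (nat_lit 0x39f5bf81dca83201fc2ac01dd800178b86020640b194454656a87332934c05e10016),
 (nat_lit 0x40007f01fd746ab0887a620979121020c774cb41ab41a418a69c04422090320406b2e),
 (nat_lit 0x4300c12ce6a6c11548a0ba1203cbdba20c82348428893e200000200052e1291a),
 (nat_lit 0x6000020080524e526a60c738c7c13e0000000000001400988336e16728940c),
 (nat_lit 0x3fbde4164801208802000000000000003efde),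
 (nat_lit 0x3ffde)]
noncomputable def x30 : Net := ben 9 [(nat_lit 0x3150997ac00b0411c97be8ea217d349727d9b84b378fd8ea6109bbbbc5a6bec30140),
 (nat_lit 0x1f16ef564d67991269c3d3baed37cdc855117340b245c7f40f422782aac0f250555b0),
 (nat_lit 0xe5759886b21f8c484ec9a6546763548349d0148cc6c777f281714c9517bd0c048800),
 (nat_lit 0xff152fe8b6b4b6c46a9ffb44e04846cdfdd849b941dea497b572e05b8e82234001c),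
 (nat_lit 0x50006673f4d73b993affc84316d05a06c0b9b666366634c08983fc000a43800009648),
 (nat_lit 0x11311498200fc85908896b86c67f34fdb8a04c575ea15cdf00002000c3429868),
 (nat_lit 0x8022008859c93177c88f921deecb5000000000000400038c28c5782397020),
 (nat_lit 0x5bfdd011c222008800403000000000005ffdd),
 (nat_lit 0x5ffdd)]
noncomputable def x32 : Net := ben 9 [(nat_lit 0x28f05ef25258f9755d785408af20bb5c35cba92b7fb2a079538b7f9e436353327acb4),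
 (nat_lit 0x15571a9130ebdf903e1bc4816fe9b26649098b9bb0de01fcc0ec82fe8436590ebd800),
 (nat_lit 0x5530370e147d79a357533721075a85ed0982851757d60c0b9aae2f02ae3bc338020c),
 (nat_lit 0xf5b150d2619f55f6b3940428c17458ad8c0204d450009d6f23efa1e7208d3245006c),
 (nat_lit 0x40007e93e7a3e76dde48522e0885b5a4a47913e7e3e760a15b288025977784220d144),
 (nat_lit 0x729909a971804eeb400501c135a09f0798543e5c862e7ed400010026cb12c98e),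
 (nat_lit 0x4101002000011bbe40b4df8af66b69b90000000000003650a64a2c1c79bff7f2),
 (nat_lit 0x7cfbf4181002280000804000000000007d9ef),
 (nat_lit 0x7ffff)]
noncomputable def x34 : Net := ben 9 [(nat_lit 0x2766ceee663f00584f8f10d6e93bad95309314a00302ec3d350e00a0f884457088f00),
 (nat_lit 0x4cd1868e91a04ccc88810fcbaa6b2d4c5771ebc17274e0e87bfdb1c996afb95673900),
 (nat_lit 0xd998506368f0a325b1dbb65782608223929cc62357affbdb09bc73bf82af3f40c34c),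
 (nat_lit 0xb327a23b46900a7e3a9d494a72fbac6f0b3000199e4ea4c53cbd9037e711855200d0),
 (nat_lit 0x400014598702d7000cc2ebbebfa88ba09fa82c01ac01a4cc0f94e3450082432c02180),
 (nat_lit 0x1d06c215502700c7008312ca99a9fbbeb8498200784fb6010000000224ae4316),
 (nat_lit 0x28040181803e925592bd61bdce7cdbd0000000000000000784780c08488124a),
 (nat_lit 0x2fbf70280401a38410000000000000002fbf7),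
 (nat_lit 0x2fbf7)]
noncomputable def x36 : Net := ben 9 [(nat_lit 0xc888ea4ed566081fc76ad4102f6a746d24b99e8c8c0711eeb0f94e0fef9485d716a0),
 (nat_lit 0x1c43ac6268678ed60dbd21edf1f0a2a7423d43882627900f0306da28ab1b1dbb50550),
 (nat_lit 0x4102a13b91f10ee4f86846a384a640079bd6381fd9e5124020dd640bf7b8b37ecd0c),
 (nat_lit 0x5585bab1a4013ae483fc0da8c9a43106861604e5b4f484ad9a5c3f3d4b9905dd0014),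
 (nat_lit 0x20002ec30117b0b5136e2a078123bd08c1d38464e464efb9165c0dcc497670040c9d0),
 (nat_lit 0x2e64338a3e4940ea108014b63055ea6dce0944048a437504000004004b06dfb0),
 (nat_lit 0x20280058342e2cb06931d3cb9260000000000004400cc4714a512ca4f10),
 (nat_lit 0x5f3fa3080024a88010004000000000005b7fa),
 (nat_lit 0x5f7fa)]
noncomputable def x38 : Net := ben 9 [(nat_lit 0x2514b51c103f952c9f8412591f34b54dc555f8d84ce7205351e1395cc14d9d1c077f4),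
 (nat_lit 0x5bca6d9baac3f72e5ff2ee92f5fa2399eab324e1217b00fd9b5afe921f597809d0320),
 (nat_lit 0xcd2c6f10e6e8cabfb8ab8d1b0a2db1ca015bde02eaee0251ff36e758229093112f00),
 (nat_lit 0x210d1a722afb06015ccc58ea35bceef6d9c004ead6e7ddd54ce51deae17833c3002c),
 (nat_lit 0x1b5c89dfb5d910f76265de64933a4127b771577158f43a4562318da6d0000d320),
 (nat_lit 0x899c680259d525a4006318e8881f0e7914486ba36258eb0300000000153290ec),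
 (nat_lit 0x822100400047226e73a75a4a6cdbffe0000000000000200604d4b03b41106a0),
 (nat_lit 0x57dfe88221404004821000000000000057ffe),
 (nat_lit 0x57ffe)]
noncomputable def x40 : Net := ben 9 [(nat_lit 0x36ff30f0c6292f7fdbe155777f57cf159cb1754cc069a0138714e1ba199e80a2f9430),
 (nat_lit 0x4d443ddb3760f235e48d45c328e094524e7a102850fafec328416263bae725fd30580),
 (nat_lit 0xfb5d12586de2b56aab319b331ac3796855272a6ec5dbad1a29b0385d9698a518c604),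
 (nat_lit 0x1b111e25521b88082cb694a3b5d773851a8e42c67971ada710ec88ddd1ab840d00c0),
 (nat_lit 0x20004ccc49e015260b8f07150ae762a02263796409640246683f66f64d338000097a8),
 (nat_lit 0x883ae6c641f3d07018cc1c8c005757804028efd5402c77900000000518f8680),
 (nat_lit 0x218c10000002affc499d148198eebcb000000000000000408442a9fd21a81040),
 (nat_lit 0x6fffc298c100000028600000000000006ffbc),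
 (nat_lit 0x6fffc)]
noncomputable def x42 : Net := ben 9 [(nat_lit 0x3103c0f43cc3f0000cffc00c30300cf3c3c3f0000f373c30ff3c0000cf0fc03000cc4),
 (nat_lit 0x5af5f505725eb8f0f054ef0a550d73fa050015000fe0f07fafb00ffef00501a2a5500),
 (nat_lit 0xdd6e1155ee50ee3b6e8d370888824433cccc2600ff00bbdd88aeee88cc5500440100),
 (nat_lit 0x88e889d9170783e3212134249989306885950010848616159a9af8fb424320270000),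
 (nat_lit 0x200038601be3e71f373f2943284234b447b5558a858a8f0e8b8e86468a46800004000),
 (nat_lit 0x29300000e920003000610011c07951826100288669002890000108013435ca2),
 (nat_lit 0x14410200000bcb105444aa045d3bcb000000000000000007e38229cc02a5050),
 (nat_lit 0x1fef78146102022100088000000000001fef7),
 (nat_lit 0x1fef7)]
noncomputable def x44 : Net := ben 9 [(nat_lit 0x16832f21e8a04969733af82ebc54d0a3c41a1d24f69dcf4562290ce8d0d44aeba6f17),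
 (nat_lit 0x59a305851b0f74c8e84aec0a7da3619aae1e0010c89af4510bbb1a6cb45274451f41),
 (nat_lit 0x4724c87ac1d4c8c0898a92d82197b2274bc48914197036c7fad3a4c341e45eb75605),
 (nat_lit 0x8f348dcb8174426120ba3dfa5d6a8cb68570158edfef9331801b05790d2c0a40008),
 (nat_lit 0x5ffa611cdc188fa121c2b5c58c01805c36a006a000f4c091f41f0392f009083e5),
 (nat_lit 0x9058a62b4d3d3ae01331cc16bae31fb000648106206cd9900040000f16d9455),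
 (nat_lit 0x14302000000585483ce73f4e8775afe100000000000400002204c9e0619e02d1),
 (nat_lit 0x3ddf915f0220000004800000000000007ddf9),
 (nat_lit 0x7ddf9)]
noncomputable def x46 : Net := ben 9 [(nat_lit 0x3ccfcf7731c0ff3c3ff3433fcef3c00f4400c330303f0f70fccfffc333f3f30000cc0),
 (nat_lit 0xfff0ff05a05a075a1aa501550f5a5550f5aa050a51000faa025f55faf000fff50000),
 (nat_lit 0xdd4e80dd5d77775dbb084457ff3b8811330066889322119b33679bd71566194e2200),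
 (nat_lit 0x7afa6decb838cb4b2535323294b54ccc41c9868631b1ebebf0f22d8f8c8c0c940002),
 (nat_lit 0x40004b5bd35b5a977a9f72e8e2e8ed380d3001a419a4160c0e4c02080248000008400),
 (nat_lit 0x2e961481bf5614090580322d9790326e0adec0140adfe014000000408d273c60),
 (nat_lit 0x12010000088987299a55d34f6aa19f300000000000200009299219a6843e3ce),
 (nat_lit 0x5fefe65201241009c0000000000000005fefe),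
 (nat_lit 0x7fefe)]
noncomputable def x48 : Net := ben 9 [(nat_lit 0x3003f0fc0f3f033c0c3fcff03cfc3cc033cc0c0003b7f07c030330f0000c330370f00),
 (nat_lit 0xaffa0f55aad7b055fa5a8da0ff0ffa055f7180020f5f0fa5000ff055a0f0005f0000),
 (nat_lit 0x1922008822f5aa00cc004e3b0022665511dddd2214044194babf949d48c9400c230c),
 (nat_lit 0xfffb4165fcfd5ddd31377b7b2622828000060707a8ab376ac4c6e7ee85c300120022),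
 (nat_lit 0x500050ed18ed1221423141306930618ec9bee328732873ce0e8e059b09db0000000cc),
 (nat_lit 0x900619149e4279403ed191d41375f5a40a9163b68d98230000300046282b92),
 (nat_lit 0x407002800009b215c7749eb366d9b2bf00000000000000028609992b6a072ac2),
 (nat_lit 0x7ff154870228400081001000000000007ff15),
 (nat_lit 0x7ff17)]
noncomputable def x50 : Net := ben 9 [(nat_lit 0x3b05a473819bbfbf65e78a635770d767925adb7d7806af226d445ca7cc60e8d897410),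
 (nat_lit 0x57f42288e89d5655dee81792e3f0a4843e8b710a1b11bd86b93fecb6ced90a1b66b12),
 (nat_lit 0xa4c6a4bf2ef48f7754aabd939a538027672433223fb0ca0cee456c410e409dc93000),
 (nat_lit 0x52483c336ca4662357c236bfd18d67a4122203c9005a0d82a76364634cdc15d3008e),
 (nat_lit 0x2000505b20e9efd1a341265f6194e0c74c26b7c797c59e42e445b8a0251fd0400da4c),
 (nat_lit 0x92400df662a7146d03020d1cedafdd8d88b0fc5ba8c07c7b000040509dd403d4),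
 (nat_lit 0x304000080023ee6d2c8608cc6a121350000000000007819e49159df7d6ff8b9),
 (nat_lit 0x7bfef0306000080800440000000000007c7f6),
 (nat_lit 0x7ffff)]
noncomputable def x52 : Net := ben 9 [(nat_lit 0x337b62b93d157a3d5557a4dd3788e0eccd9d6cd0488c40b06d27b10652a419ac25c4),
 (nat_lit 0x5ac6c68dfd0418fbfbf1841c848069e85074a1ab0ddefb1a459a27716380568ebccb0),
 (nat_lit 0x2f9cdcec1a8e5bbd6559516055c05093592514046d5d22b3e5ddb1680155e50b0417),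
 (nat_lit 0xaaaffd2203605e98f6548384709f0493678303a9e58600141a91120b56c531840006),
 (nat_lit 0x4000433a4dd24462467be87848cd78668d43651cb51cb6c01bc7bbd079aae04008564),
 (nat_lit 0x1540910495bb199620166b8905e1e31a1218dd98525afe9c000050006f9ad065),
 (nat_lit 0xa80000000212d16c6fb7b5fe5c523b49000000000000100852d359b0a40e944b),
 (nat_lit 0x3ef7cac04004102104080000000000003ff74),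
 (nat_lit 0x3ff7c)]
noncomputable def x54 : Net := ben 9 [(nat_lit 0x2879db7127954044582037c9608054fd59c5e9217a7c231f3b431e3083031294143e8),
 (nat_lit 0x29df01a33b6ad35c2cfd19106909213a9a8e919034e5f360a71a85821f8a75d6192a),
 (nat_lit 0x58dad4614309667e2b82d79f277aa2216260501bda219c0042b3adc5032be2bfb0a),
 (nat_lit 0x7439eebb1419dc17c14b73aec6b441f80af105b818965e511227405592495c9800e8),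
 (nat_lit 0x30005128cce7102b055c327cd503dc0396820470747070505d18d1923f2b70000a178),
 (nat_lit 0x772b51647f78a8282154cb882dc6c2804c0889c34b808b000000005a85e4f2),
 (nat_lit 0x20a0010000096c60edf95f66d427edfb0000000000000000874b109813846c60),
 (nat_lit 0x5fdeb28b0470400080001000000000005fdeb),
 (nat_lit 0x5fdeb)]
noncomputable def ly : List Net := [x4, x6, x8, x10, x12, x14, x16, x18, x20, x22, x24, x26, x28, x30, x32, x34, x36, x38, x40, x42, x44, x46, x48, x50, x52, x54]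
noncomputable def nx : ℕ → Net := nth Net.nil (McR0.nl ++ dbl ly)
def ivx : List ℕ := [0, 1, 2, 3, 5, 4, 7, 6, 9, 8, 11, 10, 13, 12, 15, 14, 17, 16, 19, 18, 21, 20, 23, 22, 25, 24, 27, 26, 29, 28, 31, 30, 33, 32, 35, 34, 37, 36, 39, 38, 41, 40, 43, 42, 45, 44, 47, 46, 49, 48, 51, 50, 53, 52, 55, 54]
def defs : List (List ℕ) := [[3, 2, 1, 0, 1, 3, 1, 3, 0, 3, 2, 3, 0, 2, 3, 2, 0, 1],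
 [3, 1, 3, 1, 4, 0, 2, 4, 4, 1, 2, 3, 4, 1],
 [6, 5, 7, 7, 2, 6, 1, 4, 1, 7, 4, 7, 7, 0, 6, 5, 2],
 [4, 7, 8, 4, 9, 7, 8, 4, 4, 9, 6, 8, 5],
 [8, 10, 10, 10, 10, 9, 9, 11, 8, 10, 9, 9],
 [11, 9, 13, 10, 13, 13, 11, 8, 13, 11, 11, 9, 12, 8, 10],
 [12, 12, 9, 9, 11, 5, 6, 8, 13, 10, 15, 15, 8, 15, 6, 11, 13, 14, 12, 7],
 [13, 15, 13, 15, 13, 17, 13, 15, 13, 17, 12, 16, 15],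
 [16, 19, 9, 17, 9, 12, 10, 9, 10, 8, 11, 14, 8, 8],
 [12, 8, 4, 9, 12, 9, 18, 12, 12, 18, 16],
 [12, 12, 4, 12, 8, 10, 16, 12, 12, 16],
 [9, 4, 15, 11, 8, 13, 13, 18, 16, 20],
 [4, 4, 4, 9, 15, 8, 15, 13, 18],
 [4, 8, 4, 10, 8, 15, 13, 18, 16, 20],
 [7, 4, 4, 14, 9, 10, 13, 14, 19, 16],
 [4, 8, 4, 13, 11, 8, 13, 13, 19, 16],
 [5, 11, 8, 16, 13, 17],
 [10, 13, 4, 10, 9, 15, 13, 16],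
 [12, 8, 4, 19, 8, 14, 12, 12, 18, 16, 20],
 [14, 6, 4, 19, 9, 18, 13, 18, 16, 20],
 [12, 15, 4, 13, 11, 14, 12, 12],
 [12, 6, 19, 10, 18, 12, 12, 19, 16],
 [14, 6, 4, 9, 11, 8, 19, 12, 18, 20],
 [20, 5, 9, 9, 10, 8, 18, 12, 12, 19, 17, 20],
 [4, 8, 4, 12, 8, 8, 18, 12, 12, 18, 16, 20],
 [10, 14, 4, 9, 13, 8, 8, 13, 13, 16, 20]]
theorem hext : chkExt 4 defs McR0.ivl ivx = true := by decide +kernel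
theorem hn : NetsOK 275 nx := netsOK_ext McR0.hn (by decide +kernel)
theorem hiv : IvOK (sg nx) (ivOf ivx) := ivOK_ext McR0.hiv hext rfl rfl
theorem hdef : ∀ r ∈ defRels defs 4, ev (sg nx) r = 1 :=
  rels_of_chk (k := 9) hn (by decide) hiv (allN_true.1 (by decide +kernel))
theorem map {G : Type} [Group G] {e : ℕ → G} {ρ : G →* Equiv.Perm ℕ}
    (h : ∀ c, ρ (e c) = sg (nth Net.nil McR0.nl) c) : ∀ c, ρ (extE e 4 defs c) = sg nx c :=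
  map_ext hext hiv hdef rfl rfl h
open H10.R3
noncomputable def D : ℕ := (nat_lit 0x1fffffffffffffffffffffffffffe)
theorem tr : sub (ones 275) (orb nx [0, 1, 2, 3, 4, 6, 8, 10, 12, 14, 16, 18, 20] 2 (bit 0)) = true := by decide +kernel
def LH : List ℕ := [4, 6, 8, 10, 12, 14, 16, 18, 20]
theorem chH : and2 (fixL nx LH 0) (chkChain 275 9 nx [(102, 2, 112, [8, 10, 12, 14, 16, 18, 20]), (132, 2, 81, [12, 14, 16, 18, 20]), (160, 2, 20, [16, 18, 20]), (184, 2, 9, [20]), (46, 1, 2, [])] LH) = true := by decide +kernel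
theorem invD : chkInv nx LH D = true := by decide +kernel
theorem model : chkModel 275 9 nx D 112 162 1 113 LH 2 [1, 22, 3] = true := by decide +kernel
theorem u1 : chkU1 275 9 nx D 112 162 1 30 [22, 24] 7 [1, 22, 3] [2, 5] 1073741824 = true := by decide +kernel
theorem u2 : chkU2 275 9 nx D 112 113 56 [26, 28] 6 [3, 47] [114, 142] = true := by decide +kernel
theorem u3 : and2 (toZ nx [3, 47] 113) (capR nx D (Nat.land (pullW nx [3, 47] D) D) (bit 113) [[1, 3, 44], [2, 47, 1], [1, 3, 9, 3], [2, 4, 2]] (far 275 D)) = true := by decide +kernel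
def autP : List Ins := [.fx 0 275,
 .nb [[]],
 .fx 1 112,
 .nb [[1, 22, 3]],
 .fx 5 30,
 .nb [[1, 0, 24, 3]],
 .fx 109 2,
 .nb [[1, 3, 17]],
 .fx 16 27,
 .nb [[1, 3, 31]],
 .fx 95 2,
 .nb [[1, 3, 5, 8]],
 .fx 56 9,
 .nb [[2, 4, 3]],
 .nb [[1, 2, 33, 3]],
 .nb [[1, 3, 45]],
 .nb [[1, 0, 26]],
 .nb [[2, 39]],
 .fx 82 2,
 .nb [[1, 3, 33]],
 .nb [[1, 3]],
 .nb [[3, 1, 23]],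
 .nb [[2, 11, 2]],
 .nb [[1, 3, 24]],
 .nb [[1, 12, 2]],
 .nb [[1, 43, 2]],
 .nb [[1, 3, 16]]]
theorem aut : and2 (run 275 9 nx D [] autP []) (Nat.ble (bound autP) 1796256000) = true := by decide +kernel
def D3 : List (ℕ × List ℕ × List (List ℕ)) := [(40, [], [[38, 32], [38, 36, 34, 32, 32], [34], [32], [32, 32, 30]]),
 (38, [], [[36], [34], [32], [32, 30]]),
 (36, [], [[34], [32], [34, 34, 30]]),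
 (34, [], [[32], [32, 32, 30]]),
 (32, [], [[30]]),
 (30, [], [])]
def D2 : List (ℕ × List ℕ × List (List ℕ)) := [(54, [48, 46], [[52, 50, 48, 42], [50, 48], [48], [46], [50, 48, 46, 44, 42], [48, 46, 42]]),
 (52, [50, 42], [[50, 48, 46], [48, 46], [46], [50, 46, 44], [48, 46, 42]]),
 (50, [46], [[48], [46], [48, 44], [46, 42]]),
 (48, [], [[46], [46, 44], [42]]),
 (46, [], [[44], [42]]),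
 (44, [42], [[42]]),
 (42, [], [])]
theorem r3 : ∀ r ∈ pcR (ivOf ivx) 3 D3, ev (sg nx) r = 1 :=
  rels_of_chk (k := 9) hn (by decide) hiv (allN_true.1 (by decide +kernel))
theorem r2 : ∀ r ∈ pcR (ivOf ivx) 2 D2, ev (sg nx) r = 1 :=
  rels_of_chk (k := 9) hn (by decide) hiv (allN_true.1 (by decide +kernel))
noncomputable def ex1 : List (ℕ × List Ins) := [((nat_lit 0x6000000000000000000000000022), [.nb [[]],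
 .fx 1 4,
 .nb [[1, 22, 3]],
 .fx 5 3,
 .nb [[1, 0, 24, 3]],
 .fx 109 2,
 .nb [[1, 3, 17]],
 .fx 16 27,
 .nb [[1, 3, 31]],
 .fx 95 2,
 .nb [[1, 3, 5, 8]],
 .fx 56 9,
 .nb [[2, 4, 3]],
 .nb [[1, 2, 33, 3]],
 .nb [[1, 3, 45]],
 .nb [[1, 0, 26]],
 .nb [[2, 39]],
 .fx 82 2,
 .nb [[1, 3, 33]],
 .nb [[1, 3]],
 .nb [[3, 1, 23]],
 .nb [[2, 11, 2]],
 .nb [[1, 3, 24]],
 .nb [[1, 12, 2]],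
 .nb [[1, 43, 2]],
 .nb [[1, 3, 16]]])]
theorem a1 : chkA1 275 9 9 nx D 112 29160 (pcL D3) 2 [1, 22, 3] [[1, 3, 47], [1, 3, 31], [1, 0, 24, 3]] 324519794021041188847815859935102 (fun _ => true) ex1 = true := by decide +kernel
noncomputable def p0 : Net := ben 9 [(nat_lit 0xead6e5b4d7291f15b0d1ff609750),
 (nat_lit 0xa5f42681b9058b0b2cd11b1afdb2),
 (nat_lit 0x11f33c114b6bc224cdd84d1a157308),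
 (nat_lit 0x1010a364387e48536922cea742680062),
 (nat_lit 0xc081c08187ebae1905c62cce00004e70),
 (nat_lit 0x2240100272c1312c00000000497e6408),
 (nat_lit 0xb2c1060a01289684),
 (nat_lit 0x0),
 (nat_lit 0x0)]
theorem pi0 : chkPi 275 9 nx D LH p0 [[8, 16, 4, 8, 15, 8, 18, 16], [16, 6, 4, 17, 8, 12, 12, 16, 20], [18, 4, 19, 9, 18, 12, 12, 19, 17], [6, 4, 20, 11, 11, 13, 14, 18, 17], [5, 6, 6, 8, 18, 13, 18, 20], [18, 7, 4, 9, 11, 15, 13, 19, 16, 20], [9, 4, 13, 11, 16, 13, 18, 17], [8, 18, 6, 12, 8, 8, 16, 12, 18, 17], [12, 12, 6, 9, 12, 9, 14, 18, 20]] = true := by decide +kernel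
noncomputable def p1 : Net := ben 9 [(nat_lit 0x6c9103bd0f99a840ddd164b09f5c),
 (nat_lit 0xd851f112399c6c4b043b8e305832),
 (nat_lit 0x119520f16b94d34e47814b77290c06),
 (nat_lit 0x2792dc790679c179e27d8343004e),
 (nat_lit 0x355235520608ea6210031e4d000034f6),
 (nat_lit 0xa01776069555fe3b00000000f1139984),
 (nat_lit 0xa045f60e18f20880),
 (nat_lit 0x0),
 (nat_lit 0x0)]
theorem pi1 : chkPi 275 9 nx D LH p1 [[11, 17, 4, 11, 9, 9, 19, 16, 20], [19, 15, 4, 19, 9, 14, 12, 18, 20], [8, 18, 6, 15, 8, 14, 17, 20], [19, 11, 4, 15, 11, 11, 18, 16, 20], [8, 7, 4, 12, 8, 8, 13, 19, 16], [18, 6, 4, 19, 16, 8, 18, 13, 18, 17, 20], [6, 5, 9, 12, 9, 18, 14, 12, 18], [18, 6, 19, 10, 17, 14, 12, 17, 20], [9, 9, 4, 8, 8, 13, 13, 17, 20]] = true := by decide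 +kernel
noncomputable def p2 : Net := ben 9 [(nat_lit 0xdfb5ad631e0398cbb1240103eae4),
 (nat_lit 0x537a74b2663453205c3b2addd5562),
 (nat_lit 0x44a20a95169e9291d74c0163415c00),
 (nat_lit 0x4040e955aa9d084ea1f728b551bf00be),
 (nat_lit 0x108a508ac4906c289048ac9f0000d280),
 (nat_lit 0x6844319a78ce18de00000000b20d0540),
 (nat_lit 0x6844319a86000000),
 (nat_lit 0x0),
 (nat_lit 0x0)]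
theorem pi2 : chkPi 275 9 nx D LH p2 [[5, 9, 4, 13, 11, 13, 14, 18, 17], [4, 4, 12, 12, 9, 18, 13, 19], [8, 5, 19, 10, 14, 18, 17, 20], [11, 17, 4, 11, 9, 9, 16, 13, 16], [19, 5, 20, 11, 8, 17, 12, 19, 16, 20], [15, 8, 7, 4, 9, 9, 18, 12, 12, 17], [17, 14, 4, 9, 15, 8, 19, 12, 20], [10, 4, 19, 9, 15, 13, 18, 20], [17, 14, 4, 9, 10, 19, 12, 18, 17, 20]] = true := by decide +kernel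
noncomputable def ps : List Net := [Net.nil, p0, p1, p2]
def gs : List (ℕ × List ℕ) := [(1, [3, 47]), (2, [3, 47]), (0, [1, 4, 7]), (3, [3, 47]), (1, [1, 2, 13]), (2, [1, 54]), (0, [3, 6]), (3, [2, 12])]
noncomputable def ex2_0 : List (ℕ × List Ins) := [((nat_lit 0x100750fba0ef222eeb86aee05ede), [.nb [[]],
 .fx 1 56,
 .nb [[1, 22, 3]],
 .fx 33 10,
 .nb [[2, 33, 2]],
 .nb [[1, 3, 9, 3]],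
 .nb [[1, 3, 28], [2, 11, 2], [1, 3, 25], [1, 3, 11], [1, 3, 24], [2, 28, 1], [1, 3, 40], [1, 3]],
 .nb [[1, 15, 2]],
 .nb [[1, 3, 25]],
 .nb [[1, 3, 19]],
 .nb [[1, 2, 33, 3]],
 .nb [[1, 3, 51]],
 .nb [[1, 3, 11]],
 .nb [[2, 37]],
 .nb [[2, 11, 2]],
 .nb [[1, 3, 24]],
 .nb [[3, 37, 1]],
 .nb [[1, 3, 6, 53]]]),
 ((nat_lit 0xa1d712f8a923261dc3b63ee1169e), [.nb [[]],
 .fx 1 56,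
 .nb [[1, 22, 3]],
 .fx 5 14,
 .nb [[1, 0, 24, 3]],
 .nb [[1, 3, 17]],
 .fx 26 10,
 .nb [[1, 3, 26]],
 .nb [[1, 3, 4, 28]],
 .nb [[1, 3, 28], [1, 3, 25]],
 .nb [[1, 3, 8, 3]],
 .nb [[1, 3, 28]],
 .nb [[1, 3, 7]],
 .nb [[1, 3, 9, 30]],
 .nb [[1, 2, 47, 1]],
 .nb [[1, 3, 41]],
 .nb [[1, 3, 32]],
 .nb [[2, 11, 2]],
 .nb [[1, 12, 2]]]),
 ((nat_lit 0xb1d7428329cf063b6a34b6e15e4e), [.nb [[]],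
 .fx 1 56,
 .nb [[1, 22, 3]],
 .fx 5 14,
 .nb [[1, 0, 24, 3]],
 .fx 26 10,
 .nb [[1, 3, 26]],
 .nb [[1, 3, 4, 28]],
 .nb [[1, 3, 23], [2, 28, 1], [1, 3, 5, 8]],
 .nb [[1, 47, 2]],
 .nb [[1, 3, 31]],
 .nb [[1, 3, 9]],
 .nb [[1, 12, 2]],
 .nb [[1, 3]],
 .nb [[1, 3, 40]],
 .nb [[1, 3, 30]],
 .nb [[1, 3, 24]],
 .nb [[3, 1, 22]],
 .nb [[1, 33, 1]]]),
 ((nat_lit 0xb1d4527b89ed243fa9b29aa148dc), [.nb [[]],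
 .fx 2 56,
 .nb [[1, 3, 47]],
 .fx 7 12,
 .nb [[3, 1, 37]],
 .fx 106 2,
 .nb [[1, 9, 3]],
 .fx 27 11,
 .nb [[3, 1, 10]],
 .nb [[2, 41, 1], [1, 3, 23], [1, 54, 2], [1, 2, 47, 1]],
 .nb [[2, 5, 3]],
 .nb [[1, 3, 24]],
 .nb [[2, 12, 3]],
 .nb [[1, 33, 1]],
 .nb [[1, 3, 40]],
 .nb [[1, 3, 9, 30]],
 .nb [[1, 3, 30]],
 .nb [[1, 3, 16]],
 .nb [[1, 3, 9, 3]],
 .nb [[1, 3, 28]]]),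
 ((nat_lit 0x102350fbb0ee3a26eb87ac425ff2), [.nb [[]],
 .fx 1 56,
 .nb [[1, 22, 3]],
 .fx 5 10,
 .nb [[1, 0, 24, 3]],
 .fx 109 2,
 .nb [[1, 3, 17]],
 .fx 33 9,
 .nb [[2, 33, 2]],
 .nb [[1, 3, 9, 3]],
 .nb [[1, 2, 47, 1], [1, 33, 1]],
 .nb [[1, 3, 19]],
 .nb [[1, 33, 1]],
 .nb [[1, 3, 24]],
 .nb [[2, 11, 2]],
 .nb [[1, 5, 1]],
 .nb [[2, 38]],
 .nb [[1, 3, 6]],
 .nb [[1, 3, 40]],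
 .nb [[2, 28, 1]],
 .nb [[1, 3, 9, 30]]]),
 ((nat_lit 0xa1f312f8b9223e15c3b73c4317b2), [.nb [[]],
 .fx 1 56,
 .nb [[1, 22, 3]],
 .fx 24 14,
 .nb [[1, 3, 5, 10]],
 .nb [[1, 3, 41]],
 .fx 4 10,
 .nb [[1, 23, 2]],
 .nb [[2, 43, 1], [1, 3, 6, 39], [1, 9, 3]],
 .nb [[1, 3, 17]],
 .nb [[1, 0, 24, 3]],
 .nb [[1, 3, 31]],
 .nb [[1, 41, 3]],
 .nb [[1, 3, 27]],
 .nb [[2, 11, 2]],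
 .nb [[1, 0, 13, 3]],
 .nb [[3, 1, 12]],
 .nb [[1, 3, 6]],
 .nb [[2, 33, 2]]]),
 ((nat_lit 0xb1f3428339ce1e336a35b4435f62), [.nb [[]],
 .fx 1 56,
 .nb [[1, 22, 3]],
 .fx 24 14,
 .nb [[1, 3, 5, 10]],
 .nb [[1, 3, 41]],
 .fx 6 10,
 .nb [[3, 1, 15]],
 .nb [[1, 15, 2]],
 .nb [[2, 33, 2], [1, 3, 25], [1, 3, 11, 4]],
 .nb [[1, 3, 23]],
 .nb [[1, 3, 7]],
 .nb [[3, 1, 12]],
 .nb [[1, 3, 8, 3]],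
 .nb [[1, 0, 24, 3]],
 .nb [[1, 3, 17]],
 .nb [[1, 3, 4, 28]],
 .nb [[1, 3, 11]],
 .nb [[1, 3, 31]],
 .nb [[1, 3, 9, 3]]]),
 ((nat_lit 0xb1f0527b99ec3c37a9b3980349f0), [.nb [[]],
 .fx 4 56,
 .nb [[1, 23, 2]],
 .fx 9 14,
 .nb [[1, 3, 5]],
 .fx 104 2,
 .nb [[1, 3, 16]],
 .nb [[3, 1, 37], [2, 31, 3], [3, 1, 10], [1, 35, 2], [2, 5, 3], [1, 5, 1], [1, 3, 27], [3, 37, 1]],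
 .nb [[1, 3, 24]],
 .nb [[2, 43, 1]],
 .nb [[1, 3, 44]],
 .nb [[2, 33, 2]],
 .nb [[2, 8]],
 .nb [[1, 3, 6]],
 .nb [[3, 1, 38]],
 .nb [[3, 1, 12]],
 .nb [[1, 3, 4, 28]],
 .nb [[3, 1, 28]]]),
 ((nat_lit 0x1100370fba6fea226eb86ac40fed2), [.nb [[]],
 .fx 1 56,
 .nb [[1, 22, 3]],
 .fx 33 10,
 .nb [[2, 33, 2]],
 .nb [[1, 3, 9, 3]],
 .nb [[1, 3, 28], [2, 11, 2], [1, 3, 11], [1, 3, 24], [2, 28, 1], [1, 7, 1], [1, 3, 40], [1, 47, 2]],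
 .nb [[1, 15, 2]],
 .nb [[1, 7, 1]],
 .nb [[1, 3, 19]],
 .nb [[1, 2, 33, 3]],
 .nb [[3, 1, 32]],
 .nb [[1, 3, 40]],
 .nb [[1, 5, 28]],
 .nb [[2, 28, 1]],
 .nb [[1, 3, 11]],
 .nb [[1, 51, 3]],
 .nb [[3, 37, 1]]]),
 ((nat_lit 0x1a1d332f8af32a615c3b63c41b692), [.nb [[]],
 .fx 1 56,
 .nb [[1, 22, 3]],
 .fx 5 14,
 .nb [[1, 0, 24, 3]],
 .nb [[1, 3, 17]],
 .fx 26 10,
 .nb [[1, 3, 26]],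
 .nb [[1, 3, 4, 28]],
 .nb [[1, 3, 28], [1, 47, 2]],
 .nb [[1, 3, 8, 3]],
 .nb [[1, 3, 28]],
 .nb [[1, 3, 31]],
 .nb [[1, 3, 6]],
 .nb [[1, 2, 47, 1]],
 .nb [[1, 3, 32]],
 .nb [[1, 3, 41]],
 .nb [[2, 33, 2]],
 .nb [[1, 12, 2]]]),
 ((nat_lit 0x1b1d362832fde86336a34b441fe42), [.nb [[]],
 .fx 1 56,
 .nb [[1, 22, 3]],
 .fx 5 14,
 .nb [[1, 0, 24, 3]],
 .fx 26 10,
 .nb [[1, 3, 26]],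
 .nb [[1, 3, 4, 28]],
 .nb [[1, 3, 23], [2, 28, 1], [1, 3, 5, 8]],
 .nb [[1, 3, 25]],
 .nb [[1, 3, 7]],
 .nb [[1, 3, 19]],
 .nb [[1, 12, 2]],
 .nb [[1, 7, 1]],
 .nb [[1, 3, 40]],
 .nb [[1, 0, 13, 3]],
 .nb [[1, 3, 9, 3]],
 .nb [[3, 1, 22]],
 .nb [[1, 5, 1]]]),
 ((nat_lit 0x1b1d0727b8ffca437a9b29801e8d0), [.nb [[]],
 .fx 4 56,
 .nb [[1, 23, 2]],
 .fx 9 14,
 .nb [[1, 3, 5]],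
 .fx 104 2,
 .nb [[1, 3, 16]],
 .nb [[3, 1, 37], [2, 31, 3], [1, 2, 14, 1], [3, 1, 10], [2, 5, 3], [1, 5, 1], [3, 37, 1], [1, 3, 12]],
 .nb [[1, 3, 9]],
 .nb [[2, 43, 1]],
 .nb [[1, 47, 2]],
 .nb [[3, 1, 24]],
 .nb [[1, 12, 28]],
 .nb [[1, 3, 28]],
 .nb [[2, 28, 1]],
 .nb [[3, 1, 32]],
 .nb [[1, 11, 3]],
 .nb [[1, 15, 2]]]),
 ((nat_lit 0x1002730f8b633ba0cc3872ee2b7be), [.fx 1 56,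
 .nb [[1, 22, 3]],
 .fx 5 10,
 .nb [[1, 0, 24, 3]],
 .nb [[1, 3, 26], [1, 3, 9, 30], [3, 1, 24], [1, 3, 6], [1, 3, 6, 53], [1, 3, 29], [1, 2, 47, 1]],
 .nb [[1, 3, 27]],
 .nb [[2, 41, 1]],
 .nb [[2, 5, 2]],
 .nb [[1, 3, 45]],
 .nb [[1, 35, 2]],
 .nb [[1, 2, 33, 3]],
 .nb [[2, 35]],
 .fx 40 2,
 .nb [[1, 3, 28]],
 .nb [[1, 3, 6, 53]],
 .nb [[1, 3]],
 .nb [[2, 33, 2]],
 .nb [[3, 1, 24]],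
 .nb [[1, 7, 1]],
 .nb [[1, 3, 29]],
 .nb [[1, 0, 31, 1]]]),
 ((nat_lit 0x11027608336df9a2a6a05a6e2ff6e), [.fx 1 56,
 .nb [[1, 22, 3]],
 .fx 5 10,
 .nb [[1, 0, 24, 3]],
 .nb [[1, 3, 26], [1, 5, 1], [1, 3, 9], [1, 3, 19], [1, 3, 29], [1, 2, 47, 1], [1, 33, 1]],
 .nb [[1, 3, 27]],
 .nb [[2, 41, 1]],
 .nb [[1, 3, 11, 4]],
 .nb [[1, 2, 47, 1]],
 .nb [[1, 2, 33, 3]],
 .nb [[1, 4, 27]],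
 .nb [[2, 35]],
 .fx 51 2,
 .nb [[1, 3, 25]],
 .nb [[1, 3, 19]],
 .nb [[1, 7, 1]],
 .nb [[1, 33, 1]],
 .nb [[1, 3, 9, 3]],
 .nb [[1, 3, 18]],
 .nb [[2, 12, 3]]]),
 ((nat_lit 0x11024707b96fdb82ea9838aa2e9fc), [.fx 2 56,
 .nb [[1, 3, 47]],
 .fx 7 12,
 .nb [[3, 1, 37]],
 .nb [[1, 47, 2]],
 .nb [[1, 3, 5, 53], [1, 22, 2], [1, 3, 5, 17], [3, 1, 22], [1, 3, 32], [1, 3, 8, 3], [1, 3, 29], [1, 3, 41]],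
 .nb [[2, 5, 2]],
 .nb [[1, 3]],
 .nb [[1, 49, 2]],
 .nb [[3, 1, 38]],
 .nb [[3, 12]],
 .nb [[1, 7]],
 .fx 27 2,
 .nb [[3, 1, 10]],
 .nb [[1, 7, 1]],
 .nb [[1, 15, 2]],
 .nb [[1, 3, 24]],
 .nb [[1, 3, 40]],
 .nb [[1, 3, 19]],
 .nb [[1, 3, 9, 30]]]),
 ((nat_lit 0x1a1f722803f139e19423536e3b72e), [.nb [[]],
 .fx 1 56,
 .nb [[1, 22, 3]],
 .fx 24 14,
 .nb [[1, 3, 5, 10]],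
 .fx 93 2,
 .nb [[1, 7, 1]],
 .fx 2 10,
 .nb [[1, 3, 47]],
 .nb [[1, 3, 26], [2, 4, 2], [1, 2, 33, 3]],
 .nb [[1, 3, 16]],
 .nb [[1, 3, 27]],
 .nb [[1, 3]],
 .nb [[1, 3, 32]],
 .nb [[1, 3, 7, 45]],
 .nb [[1, 0, 24, 3]],
 .nb [[1, 3, 25]],
 .nb [[1, 3, 12]],
 .nb [[1, 0, 13, 3]],
 .nb [[1, 41, 3]],
 .nb [[1, 47, 2]]])]
theorem ex_0 : exAll 275 9 nx D 20160 ex2_0 = true := by decide +kernel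
noncomputable def ex2_1 : List (ℕ × List Ins) := [((nat_lit 0x1a1f432789f31bc1d81b31aa3a1bc), [.fx 2 56,
 .nb [[1, 3, 47]],
 .fx 7 12,
 .nb [[3, 1, 37]],
 .nb [[1, 47, 2]],
 .nb [[3, 1, 15], [1, 3, 5, 53], [1, 22, 2], [1, 3, 5, 17], [2, 5, 3], [3, 1, 28], [1, 3, 11], [1, 3, 29]],
 .nb [[1, 2, 47, 3]],
 .nb [[1, 3, 12]],
 .nb [[1, 3]],
 .nb [[1, 7]],
 .fx 27 2,
 .nb [[3, 1, 10]],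
 .nb [[1, 7, 1]],
 .nb [[3, 1, 24]],
 .nb [[1, 3, 7]],
 .nb [[1, 3, 30]],
 .nb [[1, 3, 16]],
 .nb [[1, 3, 17]]]),
 ((nat_lit 0x1b1f462031fdd9c3b283192a3e96c), [.nb [[]],
 .fx 2 56,
 .nb [[1, 3, 47]],
 .fx 45 12,
 .nb [[2, 12, 3]],
 .nb [[1, 3, 24]],
 .fx 52 10,
 .nb [[1, 12, 2]],
 .nb [[1, 35, 2], [1, 3, 14]],
 .nb [[2, 8]],
 .nb [[1, 3, 11]],
 .nb [[1, 33, 1]],
 .nb [[1, 3, 7]],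
 .nb [[1, 3, 12]],
 .nb [[1, 3, 40]],
 .nb [[1, 3, 19]],
 .nb [[1, 7, 1]],
 .nb [[3, 1, 32]],
 .nb [[3, 1, 39]]]),
 ((nat_lit 0x560b50fba0ee2266ef86ec445ed2), [.nb [[]],
 .fx 1 56,
 .nb [[1, 22, 3]],
 .fx 33 10,
 .nb [[2, 33, 2]],
 .nb [[1, 3, 9, 3]],
 .nb [[1, 3, 28], [2, 11, 2], [1, 3, 11, 4], [1, 3, 11], [1, 3, 24], [2, 28, 1], [1, 3, 40], [2, 5, 2]],
 .nb [[1, 15, 2]],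
 .nb [[1, 3, 11, 4]],
 .nb [[1, 3, 19]],
 .nb [[1, 2, 33, 3]],
 .nb [[2, 47, 3]],
 .nb [[1, 3, 24]],
 .nb [[2, 32]],
 .nb [[1, 3, 28]],
 .nb [[1, 3, 40]],
 .nb [[1, 3, 6, 53]],
 .nb [[1, 51, 3]]]),
 ((nat_lit 0xe7db12f8a9222655c7b67c451692), [.nb [[]],
 .fx 1 56,
 .nb [[1, 22, 3]],
 .fx 5 14,
 .nb [[1, 0, 24, 3]],
 .fx 109 2,
 .nb [[1, 3, 17]],
 .fx 9 10,
 .nb [[1, 3, 5]],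
 .nb [[1, 23, 2]],
 .nb [[1, 3, 16]],
 .nb [[1, 3, 11, 4]],
 .nb [[1, 41, 3]],
 .nb [[2, 11, 2]],
 .nb [[1, 0, 13, 3]],
 .nb [[1, 3, 7, 45]],
 .nb [[1, 4, 27]],
 .nb [[1, 3]],
 .nb [[1, 3, 32]],
 .nb [[3, 1, 24]],
 .nb [[1, 3, 28]]]),
 ((nat_lit 0xf7db428329ce06736e34f4455e42), [.nb [[]],
 .fx 1 56,
 .nb [[1, 22, 3]],
 .fx 5 14,
 .nb [[1, 0, 24, 3]],
 .fx 109 2,
 .nb [[1, 3, 17]],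
 .fx 6 10,
 .nb [[3, 1, 15]],
 .nb [[2, 31, 3]],
 .nb [[1, 12, 2], [1, 0, 13, 3], [1, 3, 30]],
 .nb [[1, 3, 11]],
 .nb [[1, 12, 2]],
 .nb [[1, 2, 47, 1]],
 .nb [[1, 3, 29]],
 .nb [[1, 3, 16]],
 .nb [[2, 0]],
 .nb [[1, 0, 13, 3]],
 .nb [[1, 3, 24]],
 .nb [[1, 5, 1]],
 .nb [[1, 3, 41]]]),
 ((nat_lit 0xf7d8527b89ec2477adb2d80548d0), [.nb [[]],
 .fx 4 56,
 .nb [[1, 23, 2]],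
 .fx 9 14,
 .nb [[1, 3, 5]],
 .fx 104 2,
 .nb [[1, 3, 16]],
 .nb [[3, 1, 37], [2, 31, 3], [1, 3, 5, 14], [3, 1, 10], [2, 5, 3], [1, 5, 1], [1, 3, 11, 4], [3, 37, 1]],
 .nb [[1, 3, 9]],
 .nb [[2, 43, 1]],
 .nb [[1, 3, 4, 37]],
 .nb [[2, 33, 2]],
 .nb [[1, 47]],
 .nb [[1, 3, 6, 53]],
 .nb [[1, 2, 47, 3]],
 .nb [[1, 9, 3]],
 .nb [[1, 12, 2]],
 .nb [[2, 12, 3]]]),
 ((nat_lit 0x462f10f8b0233a4cc7876ee617be), [.fx 1 56,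
 .nb [[1, 22, 3]],
 .fx 5 10,
 .nb [[1, 0, 24, 3]],
 .nb [[2, 33, 2], [1, 3, 28], [2, 11, 2], [1, 3, 25], [1, 3, 11, 4], [1, 3, 27], [2, 28, 1], [1, 3]],
 .nb [[1, 3, 5, 14]],
 .nb [[1, 2, 47, 1]],
 .nb [[1, 3, 11, 4]],
 .nb [[1, 4, 27]],
 .fx 51 2,
 .nb [[1, 3, 25]],
 .nb [[1, 3, 9, 30]],
 .nb [[2, 11, 2]],
 .nb [[2, 28, 1]],
 .nb [[3, 1, 24]],
 .nb [[1, 3, 26]],
 .nb [[1, 3, 4, 37]],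
 .nb [[1, 47, 3]]]),
 ((nat_lit 0x562f408330cf1a6a6e05e6e65f6e), [.fx 1 56,
 .nb [[1, 22, 3]],
 .fx 5 10,
 .nb [[1, 0, 24, 3]],
 .nb [[2, 5, 2]],
 .nb [[1, 3, 25], [1, 3, 11, 4], [1, 3, 27], [1, 3, 11], [1, 3, 24], [1, 3, 9, 3], [1, 3, 40], [1, 3]],
 .nb [[1, 3, 5, 14]],
 .nb [[1, 2, 47, 1]],
 .nb [[1, 3, 27]],
 .nb [[2, 41, 1]],
 .nb [[1, 4, 27]],
 .fx 66 2,
 .nb [[1, 3, 11]],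
 .nb [[1, 9, 3]],
 .nb [[1, 3, 25]],
 .nb [[1, 3, 4, 37]],
 .nb [[1, 3, 9, 3]],
 .nb [[1, 5, 1]],
 .nb [[1, 3, 29]]]),
 ((nat_lit 0x562c507b90ed386ead83caa649fc), [.fx 2 56,
 .nb [[1, 3, 47]],
 .fx 7 12,
 .nb [[3, 1, 37]],
 .nb [[1, 9, 3]],
 .fx 27 10,
 .nb [[3, 1, 10]],
 .nb [[1, 3, 4, 37]],
 .nb [[1, 3, 9, 30], [1, 3, 13], [1, 3]],
 .nb [[1, 3, 25]],
 .nb [[1, 3]],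
 .nb [[3, 1, 23]],
 .nb [[1, 23, 2]],
 .nb [[1, 40]],
 .nb [[2, 12, 3]],
 .nb [[1, 33, 1]],
 .nb [[1, 3, 24]],
 .nb [[1, 3, 9, 30]],
 .nb [[3, 1, 12]],
 .nb [[1, 15, 2]]]),
 ((nat_lit 0xe7ff028039031e59463576e7172e), [.nb [[]],
 .fx 1 56,
 .nb [[1, 22, 3]],
 .fx 24 14,
 .nb [[1, 3, 5, 10]],
 .nb [[1, 3, 41]],
 .fx 17 10,
 .nb [[1, 3, 45]],
 .nb [[1, 3, 11, 4], [1, 0, 13, 3], [1, 3, 17], [1, 3, 30]],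
 .nb [[1, 9, 3]],
 .nb [[1, 35, 2]],
 .nb [[1, 3, 8, 3]],
 .nb [[1, 12, 2]],
 .nb [[3, 1, 12]],
 .nb [[1, 3, 11, 4]],
 .nb [[1, 3, 27]],
 .nb [[1, 0, 24, 3]],
 .nb [[1, 3, 17]],
 .nb [[1, 3]],
 .nb [[1, 3, 44]],
 .nb [[1, 3, 30]]]),
 ((nat_lit 0xe7fc127899213c5d85b35aa701bc), [.nb [[]],
 .fx 2 56,
 .nb [[1, 3, 47]],
 .fx 7 12,
 .nb [[3, 1, 37]],
 .nb [[1, 9, 3]],
 .fx 27 10,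
 .nb [[3, 1, 10]],
 .nb [[1, 3, 4, 37]],
 .nb [[1, 3, 5, 53], [1, 2, 14, 1], [1, 3, 14]],
 .nb [[1, 3]],
 .nb [[1, 11, 3]],
 .nb [[1, 3, 6, 53]],
 .nb [[1, 2, 47, 3]],
 .nb [[2, 5, 2]],
 .nb [[1, 3, 7, 45]],
 .nb [[1, 3, 13]],
 .nb [[1, 12, 2]],
 .nb [[1, 3, 9, 30]],
 .nb [[1, 3, 30]]]),
 ((nat_lit 0xf7fc420319cd1c7b2c31d2a7496c), [.fx 2 56,
 .nb [[1, 3, 47]],
 .fx 45 12,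
 .nb [[2, 12, 3]],
 .nb [[1, 3, 24]],
 .fx 52 10,
 .nb [[1, 12, 2]],
 .nb [[2, 47, 3], [1, 35, 2]],
 .nb [[3, 1, 23]],
 .nb [[1, 3, 27]],
 .nb [[1, 3, 11, 4]],
 .nb [[1, 3, 30]],
 .nb [[1, 3, 9]],
 .nb [[1, 3, 4, 37]],
 .nb [[1, 3, 19]],
 .nb [[1, 33, 1]],
 .nb [[2, 5, 2]],
 .nb [[1, 3, 7]],
 .nb [[1, 3, 11]]]),
 ((nat_lit 0x1460f30f8a633a24cc7866ee4b69e), [.nb [[]],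
 .fx 1 56,
 .nb [[1, 22, 3]],
 .fx 33 10,
 .nb [[2, 33, 2]],
 .fx 80 2,
 .nb [[1, 3, 9, 3]],
 .fx 40 9,
 .nb [[1, 3, 28]],
 .nb [[3, 1, 15], [1, 3, 44], [1, 3, 4]],
 .nb [[1, 47, 2]],
 .nb [[1, 2, 33, 3]],
 .nb [[1, 3, 10]],
 .nb [[1, 7, 1]],
 .nb [[1, 22, 2]],
 .nb [[2, 32]],
 .nb [[1, 3, 11, 4]],
 .nb [[1, 3, 6, 53]],
 .nb [[1, 3]],
 .nb [[2, 4, 2]]]),
 ((nat_lit 0x1560f608326df826a6e04e6e4fe4e), [.nb [[]],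
 .fx 1 56,
 .nb [[1, 22, 3]],
 .fx 51 10,
 .nb [[1, 3, 25]],
 .fx 72 2,
 .nb [[1, 3, 7]],
 .fx 54 9,
 .nb [[1, 3, 11, 4]],
 .nb [[3, 1, 39], [1, 3, 9, 30], [1, 3, 4, 28]],
 .nb [[1, 47, 2]],
 .nb [[1, 4, 1]],
 .nb [[2, 47, 3]],
 .nb [[1, 3, 12]],
 .nb [[1, 3, 4, 37]],
 .nb [[1, 0, 19]],
 .nb [[1, 3, 24]],
 .nb [[2, 5, 2]],
 .nb [[1, 15, 2]],
 .nb [[1, 7, 1]]]),
 ((nat_lit 0x1560c707b86fda06ead82caa4e8dc), [.nb [[]],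
 .fx 2 56,
 .nb [[1, 3, 47]],
 .fx 19 14,
 .nb [[1, 3, 4, 50]],
 .fx 94 2,
 .nb [[1, 3, 40]],
 .fx 3 11,
 .nb [[3, 1]],
 .nb [[1, 22, 2], [3, 1, 22], [1, 54, 2]],
 .nb [[2, 12, 3]],
 .nb [[1, 3, 24]],
 .nb [[2, 5, 3]],
 .nb [[2, 43, 1]],
 .nb [[1, 3, 13]],
 .nb [[1, 50]],
 .nb [[2, 5, 2]],
 .nb [[1, 3, 12]],
 .nb [[2, 28, 1]],
 .nb [[1, 15, 2]]]),
 ((nat_lit 0x1e7df22802f138659463476e5b60e), [.nb [[]],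
 .fx 1 56,
 .nb [[1, 22, 3]],
 .nb [[1, 0, 24, 3], [1, 3, 5, 10], [2, 33, 2], [1, 3, 28], [2, 11, 2], [1, 3, 27], [1, 3, 11], [1, 3, 24], [1, 3, 9, 3], [1, 3, 33], [1, 3, 23], [2, 28, 1], [1, 3, 40], [1, 3, 5, 8]],
 .nb [[3, 1, 22], [1, 11, 3], [2, 38, 3], [1, 3, 4, 28]],
 .fx 153 3,
 .nb [[1, 14]],
 .nb [[1, 3, 16], [1, 3, 17]],
 .nb [[1, 3, 11, 4], [2, 5, 2]],
 .fx 51 2,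
 .nb [[1, 3, 25]],
 .nb [[1, 3, 7]],
 .nb [[2, 4, 2]],
 .nb [[1, 2, 50]],
 .fx 54 2,
 .nb [[1, 3, 11, 4]],
 .nb [[1, 3, 16]],
 .nb [[1, 3, 4, 28]],
 .nb [[1, 47, 2]],
 .nb [[1, 3, 31]],
 .nb [[3, 1, 22]],
 .nb [[1, 2, 47, 1]]])]
theorem ex_1 : exAll 275 9 nx D 20160 ex2_1 = true := by decide +kernel
noncomputable def ex2_2 : List (ℕ × List Ins) := [((nat_lit 0x1e7dc32788f31a45d85b25aa5a09c), [.nb [[]],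
 .fx 2 56,
 .nb [[1, 3, 47]],
 .fx 19 14,
 .nb [[1, 3, 4, 50]],
 .fx 94 2,
 .fx 26 11,
 .nb [[1, 3, 26]],
 .nb [[1, 3, 30]],
 .nb [[3, 1], [2, 33, 2], [3, 1, 24]],
 .nb [[1, 12, 2]],
 .nb [[1, 3, 41]],
 .nb [[3, 1]],
 .nb [[3, 37, 1]],
 .nb [[1, 3]],
 .nb [[2, 38, 3]],
 .nb [[1, 3, 43]],
 .nb [[3, 24]],
 .nb [[1, 2, 47, 3]],
 .nb [[1, 47, 2]],
 .nb [[2, 28, 1]],
 .nb [[1, 3, 7, 45]]]),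
 ((nat_lit 0x1f7dc62030fdd847b2c30d2a5e84c), [.nb [[]],
 .fx 2 56,
 .nb [[1, 3, 47]],
 .nb [[3, 1, 37], [1, 3, 4, 50], [1, 3, 26], [3, 1, 10], [2, 4, 2], [1, 2, 47, 3], [2, 47, 1], [1, 3, 8], [1, 2, 33, 3], [1, 3, 33], [1, 3, 6, 53], [1, 3, 4], [1, 41, 3], [1, 43, 2]],
 .nb [[1, 3]],
 .fx 21 2,
 .nb [[1, 24, 3]],
 .fx 211 3,
 .nb [[1, 4, 8]],
 .nb [[1, 9, 3], [2, 5, 2]],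
 .nb [[1, 3, 12], [1, 47, 2]],
 .fx 71 2,
 .nb [[1, 3, 24]],
 .nb [[2, 12, 3]],
 .nb [[2, 5, 3]],
 .nb [[1, 50]],
 .fx 74 2,
 .nb [[1, 3, 12]],
 .nb [[2, 5, 2]],
 .nb [[1, 3, 17]],
 .nb [[1, 3, 10]],
 .nb [[1, 3, 11, 4]],
 .nb [[1, 11, 3]],
 .nb [[3, 1, 23]]]),
 ((nat_lit 0x1462b30f8b632ba44c7876c46b7b2), [.nb [[]],
 .fx 1 56,
 .nb [[1, 22, 3]],
 .fx 5 10,
 .nb [[1, 0, 24, 3]],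
 .nb [[2, 5, 2]],
 .nb [[2, 33, 2], [1, 3, 28], [2, 11, 2], [1, 3, 11, 4], [1, 3, 27], [2, 28, 1], [1, 7, 1], [1, 47, 2]],
 .nb [[1, 3, 5, 14]],
 .nb [[1, 2, 47, 1]],
 .nb [[1, 3, 11, 4]],
 .nb [[1, 4, 27]],
 .fx 93 2,
 .nb [[1, 7, 1]],
 .nb [[3, 1, 24]],
 .nb [[2, 11, 2]],
 .nb [[1, 3, 28]],
 .nb [[1, 3, 9, 30]],
 .nb [[1, 3, 29]],
 .nb [[1, 3, 4, 37]],
 .nb [[1, 47, 3]]]),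
 ((nat_lit 0x1562b608336de9a626e05e446ff62), [.fx 1 56,
 .nb [[1, 22, 3]],
 .fx 5 10,
 .nb [[1, 0, 24, 3]],
 .nb [[2, 5, 2]],
 .nb [[1, 3, 11, 4], [1, 3, 27], [1, 3, 11], [1, 3, 24], [1, 3, 9, 3], [1, 7, 1], [1, 3, 40], [1, 47, 2]],
 .nb [[1, 3, 5, 14]],
 .nb [[1, 2, 47, 1]],
 .nb [[1, 3, 27]],
 .nb [[1, 4, 27]],
 .fx 66 2,
 .nb [[1, 3, 11]],
 .nb [[1, 9, 3]],
 .nb [[1, 47, 2]],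
 .nb [[1, 3, 6, 9]],
 .nb [[1, 3, 24]],
 .nb [[1, 33, 1]],
 .nb [[1, 3, 29]]]),
 ((nat_lit 0x15628707b96fcb866ad83c806e9f0), [.nb [[]],
 .fx 4 56,
 .nb [[1, 23, 2]],
 .fx 9 14,
 .nb [[1, 3, 5]],
 .nb [[1, 33, 1]],
 .fx 17 12,
 .nb [[1, 3, 45]],
 .nb [[1, 3, 4, 37]],
 .nb [[2, 38, 3], [1, 3, 25]],
 .nb [[1, 9, 3]],
 .nb [[1, 3, 24]],
 .nb [[1, 15, 2]],
 .nb [[3, 1, 23]],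
 .nb [[1, 7, 1]],
 .nb [[2, 33, 2]],
 .nb [[1, 47, 2]],
 .nb [[3, 1, 28]]]),
 ((nat_lit 0x1e7fb22803f129e5146357447b722), [.nb [[]],
 .fx 1 56,
 .nb [[1, 22, 3]],
 .nb [[1, 3, 5, 10], [2, 33, 2], [1, 3, 28], [2, 11, 2], [1, 3, 25], [1, 3, 11], [1, 3, 24], [1, 3, 9, 3], [1, 3, 33], [1, 3, 23], [2, 28, 1], [1, 3, 40], [1, 3, 5, 8], [1, 3]],
 .nb [[1, 3, 7, 45]],
 .nb [[3, 5]],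
 .nb [[1, 7, 1], [1, 47, 2]],
 .nb [[3, 1, 39]],
 .fx 16 2,
 .nb [[1, 3, 31]],
 .nb [[1, 47, 2]],
 .nb [[2, 35, 3]],
 .fx 75 2,
 .nb [[1, 3, 8, 3]],
 .nb [[1, 41, 3]],
 .nb [[1, 3, 32]],
 .nb [[1, 3, 27]],
 .nb [[1, 3, 11, 4]],
 .nb [[1, 11, 3]],
 .nb [[1, 3, 26]],
 .nb [[1, 3, 23]]]),
 ((nat_lit 0x1e7f832789f30bc5585b35807a1b0), [.nb [[]],
 .fx 4 56,
 .nb [[1, 23, 2]],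
 .fx 9 14,
 .nb [[1, 3, 5]],
 .nb [[1, 3, 16]],
 .fx 7 9,
 .nb [[3, 1, 37]],
 .nb [[2, 41, 1], [1, 2, 47, 1]],
 .nb [[1, 4, 27]],
 .nb [[1, 49, 2]],
 .nb [[3, 1, 23]],
 .nb [[1, 3, 30]],
 .nb [[2, 38, 3]],
 .nb [[3, 1, 38]],
 .nb [[1, 2, 47, 3]],
 .nb [[3, 1, 32]],
 .nb [[1, 3, 8, 3]],
 .nb [[1, 3, 45]]]),
 ((nat_lit 0x1f7f862031fdc9c732c31d007e960), [.fx 5 56,
 .nb [[1, 0, 24, 3]],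
 .fx 18 14,
 .nb [[1, 3, 5, 14]],
 .nb [[1, 3, 7, 45]],
 .nb [[2, 31, 3], [2, 43, 1], [1, 49, 2], [2, 47, 3], [2, 5, 3], [1, 3, 27], [3, 1, 32], [1, 15, 2]],
 .nb [[2, 5, 2]],
 .nb [[1, 3, 17]],
 .nb [[2, 47, 3]],
 .nb [[1, 35, 2]],
 .nb [[3, 19]],
 .fx 42 2,
 .nb [[1, 3, 6, 9]],
 .nb [[1, 3, 19]],
 .nb [[1, 47, 2]],
 .nb [[1, 9, 3]],
 .nb [[1, 3, 4, 28]],
 .nb [[1, 3, 10]],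
 .nb [[1, 3, 44]]]),
 ((nat_lit 0x18035dffa0ee62a6eb86ac485ed2), [.nb [[]],
 .fx 1 56,
 .nb [[1, 22, 3]],
 .fx 33 10,
 .nb [[2, 33, 2]],
 .nb [[1, 3, 9, 3]],
 .nb [[1, 3, 28], [2, 11, 2], [1, 3, 11], [1, 3, 24], [1, 3, 33], [1, 3, 23], [2, 28, 1], [1, 3, 40]],
 .nb [[1, 5, 1]],
 .nb [[1, 3, 33]],
 .nb [[1, 3, 19]],
 .nb [[1, 2, 33, 3]],
 .nb [[2, 47, 1]],
 .nb [[1, 3, 11]],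
 .nb [[1, 4]],
 .nb [[1, 3, 28]],
 .nb [[1, 3, 40]],
 .nb [[1, 3, 13]],
 .nb [[3, 1, 10]]]),
 ((nat_lit 0xa9d31ffca9226695c3b63c491692), [.nb [[]],
 .fx 1 56,
 .nb [[1, 22, 3]],
 .fx 5 14,
 .nb [[1, 0, 24, 3]],
 .nb [[1, 3, 17]],
 .fx 9 10,
 .nb [[1, 3, 5]],
 .nb [[1, 11, 3]],
 .nb [[2, 11, 2], [1, 3, 33]],
 .nb [[1, 0, 13, 3]],
 .nb [[1, 3, 32]],
 .nb [[3, 1, 24]],
 .nb [[1, 3, 7]],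
 .nb [[1, 3, 23]],
 .nb [[1, 3, 4, 28]],
 .nb [[1, 3, 28]],
 .nb [[1, 3, 7, 45]],
 .nb [[2, 28, 1]],
 .nb [[1, 3, 9, 30]]]),
 ((nat_lit 0xb9d34f8729ce46b36a34b4495e42), [.nb [[]],
 .fx 1 56,
 .nb [[1, 22, 3]],
 .fx 5 14,
 .nb [[1, 0, 24, 3]],
 .nb [[1, 3, 17]],
 .fx 6 10,
 .nb [[3, 1, 15]],
 .nb [[2, 31, 3]],
 .nb [[1, 3, 25], [2, 28, 1], [1, 47, 2]],
 .nb [[1, 3, 5, 8]],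
 .nb [[1, 3, 31]],
 .nb [[1, 43, 2]],
 .nb [[1, 3, 8, 3]],
 .nb [[1, 3, 33]],
 .nb [[1, 3, 32]],
 .nb [[1, 3, 4, 28]],
 .nb [[1, 3, 24]],
 .nb [[1, 3, 16]],
 .nb [[1, 3, 11]]]),
 ((nat_lit 0xb9d05f7f89ec64b7a9b2980948d0), [.nb [[]],
 .fx 4 56,
 .nb [[1, 23, 2]],
 .fx 9 14,
 .nb [[1, 3, 5]],
 .fx 104 2,
 .nb [[1, 3, 16]],
 .nb [[3, 1, 37], [2, 31, 3], [3, 1, 10], [2, 5, 3], [1, 5, 1], [3, 37, 1], [1, 3, 8], [1, 43, 2]],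
 .nb [[1, 3, 24]],
 .nb [[2, 43, 1]],
 .nb [[1, 54, 2]],
 .nb [[1, 3, 9, 30]],
 .nb [[1, 12, 28]],
 .nb [[2, 28, 1]],
 .nb [[1, 3, 28]],
 .nb [[1, 3, 33]],
 .nb [[1, 0, 13, 3]],
 .nb [[1, 15, 2]]]),
 ((nat_lit 0x8271dfcb0237a8cc3872eea17be), [.nb [[]],
 .fx 1 56,
 .nb [[1, 22, 3]],
 .fx 5 10,
 .nb [[1, 0, 24, 3]],
 .fx 109 2,
 .nb [[1, 3, 17]],
 .fx 33 9,
 .nb [[2, 33, 2]],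
 .nb [[1, 3, 6], [1, 3, 6, 53], [1, 43, 2]],
 .nb [[1, 0, 31, 1]],
 .nb [[3, 1, 37]],
 .nb [[1, 3, 25]],
 .nb [[1, 3, 23]],
 .nb [[1, 43, 2]],
 .nb [[1, 3, 6, 53]],
 .nb [[1, 3]],
 .nb [[2, 28, 1]],
 .nb [[1, 54, 2]],
 .nb [[2, 11, 2]]]),
 ((nat_lit 0x18274d8730cf5aaa6a05a6ea5f6e), [.nb [[]],
 .fx 1 56,
 .nb [[1, 22, 3]],
 .fx 5 10,
 .nb [[1, 0, 24, 3]],
 .fx 109 2,
 .nb [[1, 3, 17]],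
 .fx 51 9,
 .nb [[1, 3, 25]],
 .nb [[1, 3, 23]],
 .nb [[1, 45, 3], [1, 3, 14]],
 .nb [[1, 3, 19]],
 .nb [[1, 3, 33]],
 .nb [[1, 3]],
 .nb [[1, 54, 2]],
 .nb [[1, 3, 11]],
 .nb [[1, 3, 9, 3]],
 .nb [[1, 43, 2]],
 .nb [[1, 3, 24]],
 .nb [[1, 3, 27]]]),
 ((nat_lit 0x18245d7f90ed78aea9838aaa49fc), [.nb [[]],
 .fx 2 56,
 .nb [[1, 3, 47]],
 .fx 7 14,
 .nb [[3, 1, 37]],
 .fx 106 2,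
 .nb [[1, 9, 3]],
 .fx 3 10,
 .nb [[3, 1]],
 .nb [[1, 3, 6]],
 .nb [[1, 3, 13], [2, 28, 1]],
 .nb [[1, 3, 6, 53]],
 .nb [[1, 3]],
 .nb [[1, 3, 10]],
 .nb [[1, 5, 45]],
 .nb [[1, 3, 40]],
 .nb [[2, 12, 3]],
 .nb [[1, 43, 2]],
 .nb [[1, 3, 28]],
 .nb [[1, 54, 2]],
 .nb [[1, 3, 19]]]),
 ((nat_lit 0xa9f70f8439035e99423536eb172e), [.nb [[]],
 .fx 1 56,
 .nb [[1, 22, 3]],
 .fx 24 14,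
 .nb [[1, 3, 5, 10]],
 .nb [[1, 3, 41]],
 .fx 2 10,
 .nb [[1, 3, 47]],
 .nb [[1, 12, 2], [1, 3, 7], [1, 3, 33], [1, 3, 30]],
 .nb [[1, 43, 2]],
 .nb [[1, 3, 45]],
 .nb [[1, 3, 23]],
 .nb [[1, 12, 2]],
 .nb [[1, 3]],
 .nb [[1, 3, 27]],
 .nb [[1, 3, 16]],
 .nb [[1, 41, 3]],
 .nb [[1, 0, 24, 3]],
 .nb [[1, 0, 13, 3]],
 .nb [[2, 47, 1]]])]
theorem ex_2 : exAll 275 9 nx D 20160 ex2_2 = true := by decide +kernel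
noncomputable def ex2_3 : List (ℕ × List Ins) := [((nat_lit 0xa9f41f7c99217c9d81b31aab01bc), [.nb [[]],
 .fx 2 56,
 .nb [[1, 3, 47]],
 .fx 7 14,
 .nb [[3, 1, 37]],
 .fx 106 2,
 .nb [[1, 9, 3]],
 .fx 3 10,
 .nb [[3, 1]],
 .nb [[1, 3, 6]],
 .nb [[1, 2, 14, 1], [1, 3, 29]],
 .nb [[1, 3, 30]],
 .nb [[1, 3, 7]],
 .nb [[2, 47, 1]],
 .nb [[1, 43, 2]],
 .nb [[1, 3, 8]],
 .nb [[1, 12, 2]],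
 .nb [[1, 3, 6, 53]],
 .nb [[1, 3, 7, 45]],
 .nb [[1, 51, 3]],
 .nb [[1, 3, 16]]]),
 ((nat_lit 0xb9f44f0719cd5cbb283192ab496c), [.fx 2 56,
 .nb [[1, 3, 47]],
 .nb [[1, 3, 4, 50], [2, 12, 3], [1, 12, 2], [2, 47, 1], [1, 3, 8], [1, 3, 24], [1, 3, 7], [1, 3, 33], [1, 3, 4], [1, 3, 40], [1, 3, 7, 45], [1, 43, 2], [1, 33, 1], [1, 3, 30]],
 .nb [[1, 23, 2], [1, 36, 3], [1, 3, 5, 10], [1, 3, 6, 39], [1, 32, 2], [1, 3, 28], [1, 45, 3], [2, 11, 2], [1, 51, 3], [2, 4, 3], [3, 37, 1], [1, 3, 9, 30], [3, 1, 36], [1, 3, 6], [1, 3, 13], [1, 3, 5, 8]],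
 .fx 19 2,
 .nb [[1, 3, 4, 50]],
 .fx 94 2,
 .nb [[1, 3, 40]],
 .nb [[1, 3, 49]],
 .nb [[2, 12, 3]],
 .nb [[1, 3, 9]],
 .nb [[1, 52]],
 .fx 55 2,
 .nb [[2, 47, 1]],
 .nb [[1, 3, 7]],
 .nb [[1, 0, 13, 3]],
 .nb [[1, 3, 8, 3]],
 .nb [[1, 3, 27]],
 .nb [[1, 3, 4]],
 .nb [[1, 3, 30]]]),
 ((nat_lit 0x108073dfca633e28cc3862ee8b69e), [.nb [[]],
 .fx 1 56,
 .nb [[1, 22, 3]],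
 .fx 33 10,
 .nb [[2, 33, 2]],
 .fx 80 2,
 .nb [[1, 3, 9, 3]],
 .fx 40 9,
 .nb [[1, 3, 28]],
 .nb [[3, 1, 15], [1, 3, 6, 9], [1, 3, 44]],
 .nb [[3, 37, 1]],
 .nb [[1, 47, 2]],
 .nb [[1, 7, 1]],
 .nb [[1, 3, 6, 53]],
 .nb [[2, 28, 1]],
 .nb [[1, 2, 33, 3]],
 .nb [[2, 11, 2]],
 .nb [[1, 3, 12]],
 .nb [[1, 3, 25]],
 .nb [[1, 3, 14]],
 .nb [[1, 2, 47, 1]]]),
 ((nat_lit 0x118076d8726dfc2aa6a04a6e8fe4e), [.fx 1 56,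
 .nb [[1, 22, 3]],
 .fx 51 10,
 .nb [[1, 3, 25]],
 .nb [[1, 3, 23]],
 .nb [[1, 3, 11], [1, 3, 24], [1, 3, 9, 3], [1, 3, 33], [1, 7, 1], [1, 3, 40], [1, 3], [1, 47, 2]],
 .nb [[1, 3, 51]],
 .nb [[1, 3, 5, 53]],
 .nb [[1, 3]],
 .nb [[1, 3, 33]],
 .nb [[1, 9, 39]],
 .fx 66 2,
 .nb [[1, 3, 11]],
 .nb [[1, 49, 2]],
 .nb [[1, 3, 24]],
 .nb [[1, 3, 12]],
 .nb [[1, 3, 4]],
 .nb [[1, 43, 2]],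
 .nb [[1, 4, 1]]]),
 ((nat_lit 0x118047d7f86fde0aea9828aa8e8dc), [.nb [[]],
 .fx 2 56,
 .nb [[1, 3, 47]],
 .fx 26 12,
 .nb [[1, 3, 26]],
 .nb [[1, 3, 4]],
 .fx 34 10,
 .nb [[2, 4, 2]],
 .nb [[1, 3, 33]],
 .nb [[1, 3, 14], [3, 1, 38]],
 .nb [[1, 15, 2]],
 .nb [[3, 1, 38]],
 .nb [[1, 33, 1]],
 .nb [[1, 3, 13]],
 .nb [[1, 3, 24]],
 .nb [[3, 1, 10]],
 .nb [[1, 3, 8]],
 .nb [[1, 3, 10]],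
 .nb [[1, 47, 2]]]),
 ((nat_lit 0x1a9d72f842f13c699423436e9b60e), [.nb [[]],
 .fx 1 56,
 .nb [[1, 22, 3]],
 .fx 5 14,
 .nb [[1, 0, 24, 3]],
 .nb [[1, 3, 17]],
 .fx 26 10,
 .nb [[1, 3, 26]],
 .nb [[1, 3, 4, 28]],
 .nb [[2, 28, 1], [1, 3, 5, 8]],
 .nb [[1, 47, 2]],
 .nb [[1, 3, 31]],
 .nb [[1, 43, 2]],
 .nb [[1, 3, 25]],
 .nb [[1, 3, 33]],
 .nb [[1, 3, 32]],
 .nb [[1, 7, 1]],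
 .nb [[1, 54, 2]],
 .nb [[1, 3, 30]],
 .nb [[1, 3, 8]],
 .nb [[1, 3, 16]]]),
 ((nat_lit 0x1a9d43f7c8f31e49d81b21aa9a09c), [.nb [[]],
 .fx 2 56,
 .nb [[1, 3, 47]],
 .fx 26 12,
 .nb [[1, 3, 26]],
 .fx 88 2,
 .nb [[1, 3, 4]],
 .nb [[3, 1], [1, 23, 2], [1, 2, 14, 1], [1, 49, 2], [2, 33, 2], [1, 3, 9, 30], [3, 1, 24], [1, 54, 2]],
 .nb [[2, 38, 3]],
 .nb [[1, 3, 43]],
 .nb [[3, 1, 22]],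
 .nb [[1, 4, 4]],
 .fx 19 2,
 .nb [[1, 3, 4, 50]],
 .nb [[1, 3, 41]],
 .nb [[1, 7, 1]],
 .nb [[1, 3, 6, 53]],
 .nb [[1, 3, 10]],
 .nb [[2, 28, 1]],
 .nb [[1, 3, 7, 45]]]),
 ((nat_lit 0x1b9d46f070fddc4bb283092a9e84c), [.nb [[]],
 .fx 2 56,
 .nb [[1, 3, 47]],
 .fx 7 12,
 .nb [[3, 1, 37]],
 .nb [[1, 47, 2]],
 .fx 26 10,
 .nb [[1, 3, 26]],
 .nb [[1, 0, 24, 3]],
 .nb [[1, 3, 4, 28]],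
 .nb [[1, 3, 9, 3]],
 .nb [[1, 3, 30]],
 .nb [[1, 11, 3]],
 .nb [[1, 43, 2]],
 .nb [[1, 3, 7, 45]],
 .nb [[1, 3, 4, 50]],
 .nb [[1, 3, 10]],
 .nb [[1, 3, 16]],
 .nb [[1, 3, 8]]]),
 ((nat_lit 0x108233dfcb632fa84c3872c4ab7b2), [.nb [[]],
 .fx 1 56,
 .nb [[1, 22, 3]],
 .fx 5 10,
 .nb [[1, 0, 24, 3]],
 .fx 109 2,
 .nb [[1, 3, 17]],
 .fx 33 9,
 .nb [[2, 33, 2]],
 .nb [[1, 3, 6], [1, 3, 6, 53], [1, 43, 2]],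
 .nb [[2, 28, 1]],
 .nb [[1, 3, 6, 53]],
 .nb [[1, 47, 2]],
 .nb [[1, 3, 6]],
 .nb [[1, 54, 2]],
 .nb [[1, 3, 27]],
 .nb [[1, 3, 8]],
 .nb [[1, 3, 28]],
 .nb [[1, 3, 23]],
 .nb [[3, 1, 24]],
 .nb [[1, 7, 1]]]),
 ((nat_lit 0x118236d8736dedaa26a05a44aff62), [.nb [[]],
 .fx 1 56,
 .nb [[1, 22, 3]],
 .nb [[1, 0, 24, 3], [1, 3, 27], [1, 3, 11], [1, 3, 24], [1, 3, 9, 3], [1, 3, 33], [1, 3, 23], [1, 7, 1], [1, 3, 40], [1, 47, 2]],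
 .nb [[1, 2, 33, 3]],
 .nb [[3, 1, 39]],
 .nb [[3, 5]],
 .fx 93 2,
 .nb [[1, 7, 1]],
 .nb [[1, 22, 2]],
 .nb [[1, 49, 2]],
 .fx 82 2,
 .nb [[1, 3, 33]],
 .nb [[1, 3, 19]],
 .nb [[1, 0, 24, 3]],
 .nb [[1, 3, 18]],
 .nb [[2, 41, 1]],
 .nb [[1, 3, 40]],
 .nb [[3, 1, 28]],
 .nb [[1, 5, 1]]]),
 ((nat_lit 0x118207d7f96fcf8a6a983880ae9f0), [.nb [[]],
 .fx 4 56,
 .nb [[1, 23, 2]],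
 .fx 9 14,
 .nb [[1, 3, 5]],
 .nb [[1, 33, 1]],
 .fx 17 12,
 .nb [[1, 3, 45]],
 .nb [[1, 2, 47, 3], [1, 3, 33], [3, 1, 38]],
 .nb [[1, 3, 19]],
 .nb [[3, 1, 28]],
 .nb [[1, 3, 33]],
 .nb [[3, 1, 12]],
 .nb [[3, 1, 24]],
 .nb [[1, 2, 47, 3]],
 .nb [[1, 3, 6, 53]],
 .nb [[1, 7, 1]],
 .nb [[2, 43, 1]],
 .nb [[2, 47, 1]],
 .nb [[1, 54, 2]]]),
 ((nat_lit 0x1a9f32f843f12de914235344bb722), [.nb [[]],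
 .fx 1 56,
 .nb [[1, 22, 3]],
 .fx 24 14,
 .nb [[1, 3, 5, 10]],
 .nb [[3, 1, 37], [1, 3, 18], [3, 1, 28], [3, 37, 1], [1, 3, 9], [1, 3, 6], [3, 1, 38], [1, 33, 1]],
 .nb [[1, 47, 2]],
 .nb [[1, 3, 31]],
 .nb [[1, 49, 2]],
 .nb [[1, 3, 41]],
 .nb [[3, 1, 32]],
 .nb [[2, 35, 3]],
 .nb [[2, 41]],
 .fx 52 2,
 .nb [[1, 12, 2]],
 .nb [[1, 35, 2]],
 .nb [[1, 3, 16]],
 .nb [[1, 3, 8, 3]],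
 .nb [[3, 1, 12]],
 .nb [[1, 3, 7]],
 .nb [[1, 3, 33]]]),
 ((nat_lit 0x1a9f03f7c9f30fc9581b3180ba1b0), [.nb [[]],
 .fx 4 56,
 .nb [[1, 23, 2]],
 .fx 9 14,
 .nb [[1, 3, 5]],
 .nb [[1, 3, 16]],
 .fx 7 9,
 .nb [[3, 1, 37]],
 .nb [[2, 4, 3], [1, 15, 2], [1, 3]],
 .nb [[1, 0, 24, 3]],
 .nb [[1, 3, 17]],
 .nb [[2, 47, 1]],
 .nb [[1, 3, 9, 30]],
 .nb [[2, 28, 1]],
 .nb [[1, 3, 6, 53]],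
 .nb [[1, 3, 28]],
 .nb [[1, 54, 2]],
 .nb [[2, 38, 3]],
 .nb [[1, 0, 13, 3]]]),
 ((nat_lit 0x1b9f06f071fdcdcb32831900be960), [.nb [[]],
 .fx 5 56,
 .nb [[1, 0, 24, 3]],
 .fx 28 12,
 .nb [[3, 1, 22]],
 .fx 87 2,
 .nb [[1, 3, 29]],
 .fx 31 9,
 .nb [[1, 3, 18]],
 .nb [[1, 3, 5, 10], [3, 1, 10]],
 .nb [[1, 33, 1]],
 .nb [[1, 3, 19]],
 .nb [[1, 3, 23]],
 .nb [[1, 3, 4]],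
 .nb [[1, 5, 1]],
 .nb [[1, 3, 8]],
 .nb [[1, 3, 7, 45]],
 .nb [[3, 1, 12]],
 .nb [[1, 3, 4, 28]],
 .nb [[1, 3, 9, 3]]]),
 ((nat_lit 0x4e0f1dfca02362ccc7866eec169e), [.nb [[]],
 .fx 1 56,
 .nb [[1, 22, 3]],
 .fx 33 10,
 .nb [[2, 33, 2]],
 .fx 80 2,
 .nb [[1, 3, 9, 3]],
 .fx 40 9,
 .nb [[1, 3, 28]],
 .nb [[3, 1, 15], [1, 3, 44]],
 .nb [[1, 2, 33, 3]],
 .nb [[2, 28, 1]],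
 .nb [[2, 11, 2]],
 .nb [[1, 3, 5]],
 .nb [[1, 3, 11, 4]],
 .nb [[1, 3, 23]],
 .nb [[1, 3, 6]],
 .nb [[3, 1, 23]],
 .nb [[1, 2, 47, 1]]]),
 ((nat_lit 0x5e0f4d8720cf42ea6e04e6ec5e4e), [.fx 1 56,
 .nb [[1, 22, 3]],
 .fx 51 10,
 .nb [[1, 3, 25]],
 .nb [[1, 3, 23]],
 .nb [[1, 3, 11, 4], [1, 3, 11], [1, 3, 24], [1, 3, 9, 3], [1, 3, 33], [1, 3, 40], [1, 3], [2, 5, 2]],
 .nb [[1, 3, 51]],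
 .nb [[1, 3, 5, 53]],
 .nb [[1, 3]],
 .nb [[2, 4, 2]],
 .nb [[1, 54, 2]],
 .nb [[1, 9, 39]],
 .fx 66 2,
 .nb [[1, 3, 11]],
 .nb [[1, 3, 5, 14]],
 .nb [[1, 3, 40]],
 .nb [[1, 9, 3]],
 .nb [[1, 3, 4]],
 .nb [[1, 3, 4, 50]],
 .nb [[1, 47, 3]]])]
theorem ex_3 : exAll 275 9 nx D 20160 ex2_3 = true := by decide +kernel
noncomputable def ex2_4 : List (ℕ × List Ins) := [((nat_lit 0x5e0c5d7f80ed60eead82caac48dc), [.nb [[]],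
 .fx 2 56,
 .nb [[1, 3, 47]],
 .fx 26 12,
 .nb [[1, 3, 26]],
 .nb [[1, 3, 4]],
 .fx 34 10,
 .nb [[2, 4, 2]],
 .nb [[1, 3, 33]],
 .nb [[3, 1, 38], [3, 1, 23]],
 .nb [[1, 15, 2]],
 .nb [[3, 1, 38]],
 .nb [[2, 12, 3]],
 .nb [[3, 37, 1]],
 .nb [[1, 3, 40]],
 .nb [[1, 3, 6, 53]],
 .nb [[1, 3, 8]],
 .nb [[1, 3, 4, 37]],
 .nb [[2, 5, 2]]]),
 ((nat_lit 0xefdf0f84290346d9463476ed160e), [.nb [[]],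
 .fx 1 56,
 .nb [[1, 22, 3]],
 .fx 5 14,
 .nb [[1, 0, 24, 3]],
 .fx 109 2,
 .nb [[1, 3, 17]],
 .fx 2 10,
 .nb [[1, 3, 47]],
 .nb [[1, 3, 6, 53], [1, 33, 1]],
 .nb [[1, 3, 11, 4]],
 .nb [[1, 3, 16]],
 .nb [[3, 1, 23]],
 .nb [[1, 3]],
 .nb [[1, 3, 33]],
 .nb [[1, 3, 30]],
 .nb [[1, 3, 31]],
 .nb [[1, 3, 8]],
 .nb [[1, 3, 40]]]),
 ((nat_lit 0xefdc1f7c892164dd85b25aad009c), [.nb [[]],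
 .fx 2 56,
 .nb [[1, 3, 47]],
 .fx 26 12,
 .nb [[1, 3, 26]],
 .fx 88 2,
 .nb [[1, 3, 4]],
 .nb [[3, 1], [1, 23, 2], [1, 3, 5, 14], [2, 33, 2], [1, 3, 6, 9], [1, 3, 9, 30], [3, 1, 24], [1, 54, 2]],
 .nb [[1, 3, 8]],
 .nb [[2, 38, 3]],
 .nb [[1, 3, 43]],
 .nb [[3, 1, 22]],
 .nb [[1, 4, 4]],
 .fx 19 2,
 .nb [[1, 3, 4, 50]],
 .nb [[1, 3, 41]],
 .nb [[1, 9, 3]],
 .nb [[1, 2, 47, 3]],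
 .nb [[2, 5, 2]],
 .nb [[3, 1, 38]],
 .nb [[1, 3, 7]]]),
 ((nat_lit 0xffdc4f0709cd44fb2c30d2ad484c), [.nb [[]],
 .fx 2 56,
 .nb [[1, 3, 47]],
 .fx 7 12,
 .nb [[3, 1, 37]],
 .fx 26 10,
 .nb [[1, 3, 26]],
 .nb [[1, 3, 13], [2, 28, 1], [3, 1, 12]],
 .nb [[1, 3, 40]],
 .nb [[1, 33, 1]],
 .nb [[1, 0, 13, 3]],
 .nb [[1, 3, 4, 37]],
 .nb [[1, 54, 2]],
 .nb [[1, 3, 24]],
 .nb [[2, 47, 1]],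
 .nb [[1, 3, 7]],
 .nb [[1, 12, 2]],
 .nb [[1, 3, 23]],
 .nb [[1, 3, 7, 45]]]),
 ((nat_lit 0x4e2b1dfcb0227ac4c7876c4e17b2), [.fx 1 56,
 .nb [[1, 22, 3]],
 .fx 5 10,
 .nb [[1, 0, 24, 3]],
 .nb [[2, 5, 2]],
 .nb [[2, 33, 2], [1, 3, 28], [2, 11, 2], [1, 3, 11, 4], [1, 3, 27], [1, 3, 33], [1, 3, 23], [2, 28, 1]],
 .nb [[1, 3, 5, 14]],
 .nb [[1, 2, 47, 1]],
 .nb [[1, 3, 27]],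
 .nb [[1, 35, 2]],
 .fx 82 2,
 .nb [[1, 3, 33]],
 .nb [[1, 3, 29]],
 .nb [[1, 3, 28]],
 .nb [[3, 1, 24]],
 .nb [[2, 11, 2]],
 .nb [[1, 9, 3]],
 .nb [[1, 3, 5]]]),
 ((nat_lit 0x5e2b4d8730ce5ae26e05e44e5f62), [.fx 1 56,
 .nb [[1, 22, 3]],
 .fx 5 10,
 .nb [[1, 0, 24, 3]],
 .nb [[2, 5, 2]],
 .nb [[1, 3, 11, 4], [1, 3, 27], [1, 3, 11], [1, 3, 24], [1, 3, 9, 3], [1, 3, 33], [1, 3, 23], [1, 3, 40]],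
 .nb [[1, 35, 2]],
 .nb [[2, 41, 1]],
 .nb [[1, 3, 27]],
 .nb [[1, 2, 47, 1]],
 .nb [[1, 3, 5, 14]],
 .nb [[1, 4, 27]],
 .fx 71 2,
 .nb [[1, 3, 24]],
 .nb [[1, 54, 2]],
 .nb [[1, 3, 40]],
 .nb [[1, 43, 2]],
 .nb [[1, 3, 6, 9]],
 .nb [[3, 1, 23]],
 .nb [[1, 3, 26]]]),
 ((nat_lit 0x5e285d7f90ec78e6ad83c80e49f0), [.nb [[]],
 .fx 4 56,
 .nb [[1, 23, 2]],
 .fx 9 14,
 .nb [[1, 3, 5]],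
 .nb [[1, 33, 1]],
 .fx 17 12,
 .nb [[1, 3, 45]],
 .nb [[1, 3, 4, 37]],
 .nb [[1, 0, 24, 3], [1, 3, 9, 3]],
 .nb [[1, 3, 33]],
 .nb [[2, 47, 1]],
 .nb [[2, 34, 1]],
 .nb [[1, 3, 24]],
 .nb [[1, 3, 9, 30]],
 .nb [[2, 28, 1]],
 .nb [[1, 2, 47, 3]],
 .nb [[3, 1, 28]]]),
 ((nat_lit 0xeffb0f8439025ed14635744f1722), [.nb [[]],
 .fx 1 56,
 .nb [[1, 22, 3]],
 .fx 24 14,
 .nb [[1, 3, 5, 10]],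
 .nb [[1, 3, 41]],
 .fx 12 10,
 .nb [[1, 22, 2]],
 .nb [[3, 1, 39]],
 .nb [[1, 3, 11, 4], [2, 5, 2]],
 .nb [[3, 1, 32]],
 .nb [[1, 3, 31]],
 .nb [[2, 41]],
 .fx 104 2,
 .nb [[1, 3, 16]],
 .nb [[1, 3, 11, 4]],
 .nb [[1, 3, 4, 28]],
 .nb [[1, 3, 33]],
 .nb [[1, 3, 32]],
 .nb [[3, 1, 12]],
 .nb [[1, 35, 2]]]),
 ((nat_lit 0xeff81f7c99207cd585b3580f01b0), [.nb [[]],
 .fx 4 56,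
 .nb [[1, 23, 2]],
 .fx 9 14,
 .nb [[1, 3, 5]],
 .nb [[1, 3, 16]],
 .fx 7 9,
 .nb [[3, 1, 37]],
 .nb [[2, 41, 1], [1, 2, 47, 1]],
 .nb [[1, 4, 27]],
 .nb [[1, 3, 23]],
 .nb [[2, 34, 1]],
 .nb [[2, 38, 3]],
 .nb [[1, 3, 30]],
 .nb [[1, 2, 47, 3]],
 .nb [[3, 1, 38]],
 .nb [[1, 3, 33]],
 .nb [[3, 1, 22]],
 .nb [[2, 5, 2]]]),
 ((nat_lit 0xfff84f0719cc5cf32c31d00f4960), [.nb [[]],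
 .fx 5 56,
 .nb [[1, 0, 24, 3]],
 .fx 1 12,
 .nb [[1, 22, 3]],
 .fx 109 2,
 .nb [[1, 3, 17]],
 .nb [[2, 43, 1], [1, 3, 45], [1, 3, 4, 50], [2, 47, 3], [2, 12, 3], [3, 1, 28], [1, 15, 2], [1, 3, 4]],
 .nb [[1, 3, 16]],
 .nb [[1, 3, 7, 45]],
 .nb [[1, 3, 11, 4]],
 .nb [[1, 4, 27]],
 .fx 62 2,
 .nb [[1, 3, 8]],
 .nb [[1, 3, 41]],
 .nb [[1, 5, 1]],
 .nb [[1, 9, 3]],
 .nb [[3, 1, 22]],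
 .nb [[1, 3, 11]],
 .nb [[2, 47, 1]]]),
 ((nat_lit 0x14e0b3dfca632e2c4c7866c4cb692), [.nb [[]],
 .fx 1 56,
 .nb [[1, 22, 3]],
 .fx 33 10,
 .nb [[2, 33, 2]],
 .fx 80 2,
 .nb [[1, 3, 9, 3]],
 .fx 40 9,
 .nb [[1, 3, 28]],
 .nb [[3, 1], [3, 1, 15], [1, 3, 44]],
 .nb [[3, 1, 32]],
 .nb [[2, 5, 2]],
 .nb [[1, 3, 11, 4]],
 .nb [[1, 2, 33, 3]],
 .nb [[1, 3, 14]],
 .nb [[1, 51, 3]],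
 .nb [[2, 28, 1]],
 .nb [[2, 11, 2]],
 .nb [[3, 1, 10]],
 .nb [[1, 3, 13]],
 .nb [[1, 2, 47, 1]]]),
 ((nat_lit 0x15e0b6d8726dec2e26e04e44cfe42), [.nb [[]],
 .fx 1 56,
 .nb [[1, 22, 3]],
 .fx 54 10,
 .nb [[1, 3, 11, 4]],
 .fx 60 2,
 .nb [[1, 3, 27]],
 .fx 66 9,
 .nb [[1, 3, 11]],
 .nb [[3, 1], [3, 1, 10]],
 .nb [[1, 3, 23]],
 .nb [[1, 15, 2]],
 .nb [[1, 7, 1]],
 .nb [[1, 3, 9, 3]],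
 .nb [[2, 43, 1]],
 .nb [[1, 47, 2]],
 .nb [[1, 3, 40]],
 .nb [[1, 3, 24]],
 .nb [[1, 3, 19]]]),
 ((nat_lit 0x15e087d7f86fce0e6ad82c80ce8d0), [.nb [[]],
 .fx 4 56,
 .nb [[1, 23, 2]],
 .fx 9 14,
 .nb [[1, 3, 5]],
 .nb [[1, 33, 1]],
 .fx 33 12,
 .nb [[2, 33, 2]],
 .nb [[1, 15, 2]],
 .nb [[2, 31, 3], [1, 3, 5, 14], [2, 5, 3]],
 .nb [[1, 3, 4, 37]],
 .nb [[1, 3, 24]],
 .nb [[2, 43, 1]],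
 .nb [[1, 54, 2]],
 .nb [[1, 3, 6, 53]],
 .nb [[1, 2, 47, 3]],
 .nb [[1, 3, 6]],
 .nb [[3, 1, 28]]]),
 ((nat_lit 0x1efdb2f842f12c6d14634744db602), [.nb [[]],
 .fx 1 56,
 .nb [[1, 22, 3]],
 .fx 5 14,
 .nb [[1, 0, 24, 3]],
 .fx 109 2,
 .nb [[1, 3, 17]],
 .fx 9 10,
 .nb [[1, 3, 5]],
 .nb [[1, 11, 3]],
 .nb [[1, 3, 33], [1, 7, 1]],
 .nb [[1, 3, 41]],
 .nb [[1, 7, 1]],
 .nb [[1, 3, 32]],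
 .nb [[1, 3, 4, 37]],
 .nb [[1, 3, 31]],
 .nb [[1, 47, 2]],
 .nb [[3, 1, 22]],
 .nb [[1, 3, 4, 28]],
 .nb [[1, 3, 11, 4]],
 .nb [[1, 3, 23]],
 .nb [[1, 54, 2]]]),
 ((nat_lit 0x1efd83f7c8f30e4d585b2580da090), [.nb [[]],
 .fx 4 56,
 .nb [[1, 23, 2]],
 .fx 9 14,
 .nb [[1, 3, 5]],
 .nb [[1, 3, 16]],
 .fx 7 9,
 .nb [[3, 1, 37]],
 .nb [[2, 4, 3], [1, 15, 2], [1, 3]],
 .nb [[2, 47, 3]],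
 .nb [[1, 3, 17]],
 .nb [[1, 7, 1]],
 .nb [[3, 1, 24]],
 .nb [[1, 3, 28]],
 .nb [[1, 3, 6]],
 .nb [[2, 28, 1]],
 .nb [[1, 47, 2]],
 .nb [[1, 3, 30]],
 .nb [[1, 11, 3]]]),
 ((nat_lit 0x1ffd86f070fdcc4f32c30d00de840), [.nb [[]],
 .fx 6 56,
 .nb [[3, 1, 15]],
 .fx 21 14,
 .nb [[1, 24, 3]],
 .nb [[1, 22, 2], [2, 33, 2], [2, 41, 1], [1, 47, 3], [3, 1, 24], [3, 1, 38], [1, 3, 29], [2, 28, 1]],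
 .nb [[1, 43, 2]],
 .nb [[2, 43, 1]],
 .nb [[1, 54, 2]],
 .nb [[1, 3, 4, 50]],
 .nb [[1, 4, 27]],
 .nb [[1, 50]],
 .fx 89 2,
 .nb [[1, 3, 4, 28]],
 .nb [[1, 3, 11, 4]],
 .nb [[1, 15, 2]],
 .nb [[1, 3, 10]],
 .nb [[1, 3, 8, 3]],
 .nb [[1, 9, 3]],
 .nb [[3, 1, 23]]])]
theorem ex_4 : exAll 275 9 nx D 20160 ex2_4 = true := by decide +kernel
noncomputable def ex2_5 : List (ℕ × List Ins) := [((nat_lit 0x14e2f2d843613dac8460566eeb72e), [.nb [[]],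
 .fx 1 56,
 .nb [[1, 22, 3]],
 .fx 5 10,
 .nb [[1, 0, 24, 3]],
 .nb [[1, 3, 25], [1, 3, 11, 4], [1, 3, 27], [1, 3, 33], [1, 3, 23], [1, 7, 1], [1, 3], [1, 47, 2]],
 .nb [[1, 3, 5, 14]],
 .nb [[1, 2, 47, 1]],
 .nb [[1, 3, 11, 4]],
 .nb [[1, 3, 27]],
 .nb [[1, 4, 27]],
 .fx 51 2,
 .nb [[1, 3, 25]],
 .nb [[1, 3, 23]],
 .nb [[1, 3, 4, 37]],
 .nb [[1, 7, 1]],
 .nb [[1, 9, 3]],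
 .nb [[3, 1]],
 .nb [[1, 43, 2]]]),
 ((nat_lit 0x14e2c3d7c9631f8cc85834aaea1bc), [.nb [[]],
 .fx 2 56,
 .nb [[1, 3, 47]],
 .fx 26 12,
 .nb [[1, 3, 26]],
 .nb [[1, 3, 4]],
 .fx 34 10,
 .nb [[2, 4, 2]],
 .nb [[1, 3, 33]],
 .nb [[1, 3, 14], [3, 1, 38], [3, 1, 23]],
 .nb [[1, 0, 24, 3]],
 .nb [[3, 1, 23]],
 .nb [[1, 3, 6]],
 .nb [[1, 3, 4, 50]],
 .nb [[1, 3, 8]],
 .nb [[3, 1, 38]],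
 .nb [[1, 3, 43]],
 .nb [[1, 9, 3]],
 .nb [[1, 3, 4, 37]],
 .nb [[1, 7, 1]],
 .nb [[1, 3, 12]]]),
 ((nat_lit 0x15e2c6d0716ddd8ea2c01c2aee96c), [.nb [[]],
 .fx 2 56,
 .nb [[1, 3, 47]],
 .fx 7 12,
 .nb [[3, 1, 37]],
 .fx 106 2,
 .nb [[1, 9, 3]],
 .fx 3 10,
 .nb [[3, 1]],
 .nb [[2, 47, 3]],
 .nb [[1, 49, 2]],
 .nb [[1, 3, 11, 4]],
 .nb [[1, 3, 10]],
 .nb [[3, 1, 23]],
 .nb [[2, 34]],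
 .nb [[2, 12, 3]],
 .nb [[1, 33, 1]],
 .nb [[1, 3, 4, 50]],
 .nb [[1, 3, 19]],
 .nb [[1, 7, 1]],
 .nb [[1, 3, 4]]]),
 ((nat_lit 0x1effc2f041f11dcd9043152afa12c), [.nb [[]],
 .fx 2 56,
 .nb [[1, 3, 47]],
 .fx 7 12,
 .nb [[3, 1, 37]],
 .fx 106 2,
 .nb [[1, 9, 3]],
 .fx 3 10,
 .nb [[3, 1]],
 .nb [[2, 47, 3]],
 .nb [[1, 41, 3]],
 .nb [[1, 12, 2]],
 .nb [[1, 3, 23]],
 .nb [[1, 3, 7, 45]],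
 .nb [[1, 3, 33]],
 .nb [[1, 3, 7]],
 .nb [[3, 1, 23]],
 .nb [[1, 3, 10]],
 .nb [[1, 3, 4]],
 .nb [[1, 3, 16]],
 .nb [[1, 3, 12]],
 .nb [[1, 7, 1]]]),
 ((nat_lit 0x1003d0fbe0ee2326fbcead505ed2), [.nb [[]],
 .fx 1 56,
 .nb [[1, 22, 3]],
 .fx 24 10,
 .nb [[1, 3, 5, 10]],
 .fx 93 2,
 .nb [[1, 7, 1]],
 .fx 33 9,
 .nb [[2, 33, 2]],
 .nb [[1, 3, 9, 3]],
 .nb [[1, 3, 47], [1, 3, 5, 14]],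
 .nb [[1, 3, 40]],
 .nb [[1, 3, 28]],
 .nb [[1, 41, 3]],
 .nb [[1, 15, 2]],
 .nb [[1, 3, 19]],
 .nb [[1, 4, 27]],
 .nb [[1, 3, 11]],
 .nb [[2, 11, 2]],
 .nb [[3, 37, 1]],
 .nb [[3, 1, 28]]]),
 ((nat_lit 0xa1d392f8e9222715d3fe3d511692), [.nb [[]],
 .fx 1 56,
 .nb [[1, 22, 3]],
 .fx 5 14,
 .nb [[1, 0, 24, 3]],
 .nb [[1, 3, 17]],
 .fx 9 10,
 .nb [[1, 3, 5]],
 .nb [[1, 11, 3]],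
 .nb [[2, 11, 2], [1, 3, 5, 8]],
 .nb [[1, 0, 13, 3]],
 .nb [[1, 3, 31]],
 .nb [[1, 3, 9, 30]],
 .nb [[1, 3, 41]],
 .nb [[1, 3, 5, 10]],
 .nb [[3, 1, 22]],
 .nb [[2, 28, 1]],
 .nb [[1, 3, 7, 45]],
 .nb [[1, 3, 28]],
 .nb [[3, 1, 24]]]),
 ((nat_lit 0xb1d3c28369ce07337a7cb5515e42), [.nb [[]],
 .fx 1 56,
 .nb [[1, 22, 3]],
 .fx 5 14,
 .nb [[1, 0, 24, 3]],
 .nb [[1, 3, 17]],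
 .fx 6 10,
 .nb [[3, 1, 15]],
 .nb [[2, 31, 3]],
 .nb [[1, 3, 25], [2, 28, 1], [1, 47, 2]],
 .nb [[1, 3, 23]],
 .nb [[1, 3, 7]],
 .nb [[1, 32, 2]],
 .nb [[1, 3, 8, 3]],
 .nb [[1, 3, 5, 10]],
 .nb [[1, 3, 41]],
 .nb [[1, 3, 4, 28]],
 .nb [[1, 3, 9, 3]],
 .nb [[1, 3, 16]],
 .nb [[1, 3, 11]]]),
 ((nat_lit 0xb1d0d27bc9ec2537b9fa991148d0), [.nb [[]],
 .fx 4 56,
 .nb [[1, 23, 2]],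
 .fx 9 14,
 .nb [[1, 3, 5]],
 .fx 104 2,
 .nb [[1, 3, 16]],
 .nb [[3, 1, 37], [2, 31, 3], [3, 1, 10], [1, 32, 2], [2, 5, 3], [1, 5, 1], [3, 37, 1], [3, 1, 36]],
 .nb [[1, 3, 24]],
 .nb [[2, 43, 1]],
 .nb [[2, 4, 3]],
 .nb [[3, 1, 24]],
 .nb [[1, 47]],
 .nb [[1, 2, 47, 3]],
 .nb [[1, 3, 6, 53]],
 .nb [[1, 3, 6, 39]],
 .nb [[3, 1, 22]],
 .nb [[2, 12, 3]]]),
 ((nat_lit 0x2790f8f0233b0cd3cf2ff217be), [.nb [[]],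
 .fx 1 56,
 .nb [[1, 22, 3]],
 .fx 5 10,
 .nb [[1, 0, 24, 3]],
 .fx 109 2,
 .nb [[1, 3, 17]],
 .fx 24 9,
 .nb [[1, 3, 5, 10]],
 .nb [[1, 3, 6], [1, 3, 29]],
 .nb [[2, 4, 3]],
 .nb [[1, 3, 27]],
 .nb [[1, 3, 6]],
 .nb [[1, 3, 28]],
 .nb [[1, 3, 6, 39]],
 .nb [[3, 1, 24]],
 .nb [[3, 1, 37]],
 .nb [[1, 3]],
 .nb [[1, 3, 25]],
 .nb [[1, 3, 6, 53]],
 .nb [[3, 1, 36]],
 .nb [[1, 3, 9, 30]]]),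
 ((nat_lit 0x1027c08370cf1b2a7a4da7f25f6e), [.nb [[]],
 .fx 1 56,
 .nb [[1, 22, 3]],
 .fx 5 10,
 .nb [[1, 0, 24, 3]],
 .fx 109 2,
 .nb [[1, 3, 17]],
 .fx 24 9,
 .nb [[1, 3, 5, 10]],
 .nb [[1, 3, 9], [1, 3, 29], [1, 33, 1]],
 .nb [[3, 1, 28]],
 .nb [[1, 3, 9]],
 .nb [[1, 3]],
 .nb [[1, 3, 11]],
 .nb [[1, 33, 1]],
 .nb [[1, 3, 19]],
 .nb [[1, 5, 1]],
 .nb [[1, 3, 40]],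
 .nb [[1, 3, 9, 3]],
 .nb [[1, 3, 24]]]),
 ((nat_lit 0x1024d07bd0ed392eb9cb8bb249fc), [.nb [[]],
 .fx 2 56,
 .nb [[1, 3, 47]],
 .nb [[3, 1, 37], [3, 1, 10], [1, 2, 47, 3], [2, 12, 3], [1, 3, 24], [1, 3, 6, 53], [1, 3, 40], [1, 33, 1]],
 .nb [[1, 4, 4]],
 .nb [[1, 9, 39]],
 .fx 21 2,
 .nb [[1, 24, 3]],
 .nb [[1, 3, 24], [1, 33, 1]],
 .nb [[1, 4, 8]],
 .fx 71 2,
 .nb [[1, 3, 24]],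
 .nb [[2, 12, 3]],
 .nb [[1, 50]],
 .fx 27 2,
 .nb [[3, 1, 10]],
 .nb [[1, 3, 44]],
 .nb [[1, 3, 21]],
 .nb [[1, 5, 1]],
 .nb [[1, 3, 13]],
 .nb [[3, 1, 37]],
 .nb [[1, 3, 27]]]),
 ((nat_lit 0xa1f7828079031f19527d37f3172e), [.nb [[]],
 .fx 1 56,
 .nb [[1, 22, 3]],
 .fx 33 14,
 .nb [[2, 33, 2]],
 .nb [[1, 3, 30]],
 .fx 9 12,
 .nb [[1, 3, 5]],
 .nb [[1, 3, 7, 45]],
 .nb [[2, 5, 2], [1, 47, 2]],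
 .nb [[1, 3, 47]],
 .nb [[3, 1]],
 .nb [[1, 41, 3]],
 .nb [[1, 12, 2]],
 .nb [[3, 1, 39]],
 .nb [[1, 9, 39]],
 .nb [[1, 3, 27]],
 .nb [[1, 3, 16]],
 .nb [[2, 34, 1]],
 .nb [[3, 1, 12]]]),
 ((nat_lit 0xa1f49278d9213d1d91fb1bb301bc), [.nb [[]],
 .fx 2 56,
 .nb [[1, 3, 47]],
 .nb [[3, 1, 37], [3, 1, 10], [1, 2, 47, 3], [1, 12, 2], [1, 3, 7], [1, 3, 6, 53], [1, 3, 7, 45], [1, 3, 30]],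
 .nb [[1, 4, 4]],
 .nb [[1, 24, 3], [1, 3, 49]],
 .fx 21 2,
 .nb [[1, 24, 3]],
 .nb [[1, 3, 12], [1, 47, 2]],
 .fx 7 2,
 .nb [[3, 1, 37]],
 .nb [[1, 47, 2]],
 .nb [[3, 1, 38]],
 .nb [[3, 12]],
 .fx 27 2,
 .nb [[3, 1, 10]],
 .nb [[1, 3, 9, 30]],
 .nb [[1, 3, 30]],
 .nb [[1, 3, 6]],
 .nb [[1, 3, 7]],
 .nb [[3, 1, 12]],
 .nb [[1, 3, 44]]]),
 ((nat_lit 0xb1f4c20359cd1d3b387993b3496c), [.nb [[]],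
 .fx 2 56,
 .nb [[1, 3, 47]],
 .nb [[2, 12, 3], [1, 12, 2], [1, 3, 24], [1, 3, 7], [1, 3, 40], [1, 3, 7, 45], [1, 33, 1], [1, 3, 30]],
 .nb [[1, 3]],
 .nb [[1, 3, 4, 50], [1, 43, 2]],
 .fx 21 2,
 .nb [[1, 24, 3]],
 .nb [[1, 3, 24], [1, 33, 1]],
 .nb [[1, 4, 8]],
 .fx 71 2,
 .nb [[1, 3, 24]],
 .nb [[2, 5, 3]],
 .fx 72 2,
 .nb [[1, 3, 7]],
 .nb [[1, 5, 1]],
 .nb [[3, 1, 28]],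
 .nb [[1, 3, 41]],
 .nb [[1, 3, 43]],
 .nb [[1, 12, 2]],
 .nb [[1, 3, 9, 3]]]),
 ((nat_lit 0x10007b0f8e633a30cd3ce2ff0b69e), [.nb [[]],
 .fx 1 56,
 .nb [[1, 22, 3]],
 .fx 24 10,
 .nb [[1, 3, 5, 10]],
 .nb [[1, 7, 1]],
 .nb [[2, 33, 2], [1, 3, 28], [2, 11, 2], [1, 3, 25], [2, 28, 1], [1, 3, 5, 8], [1, 3], [1, 47, 2]],
 .nb [[3, 1, 32]],
 .nb [[2, 35, 3]],
 .nb [[1, 47, 2]],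
 .nb [[3, 6]],
 .fx 51 2,
 .nb [[1, 3, 25]],
 .nb [[3, 37, 1]],
 .nb [[2, 11, 2]],
 .nb [[2, 33, 2]],
 .nb [[3, 1, 38]],
 .nb [[1, 41, 3]],
 .nb [[1, 3, 12]],
 .nb [[1, 47, 3]]]),
 ((nat_lit 0x11007e08366df832a7a4ca7f0fe4e), [.fx 1 56,
 .nb [[1, 22, 3]],
 .fx 24 10,
 .nb [[1, 3, 5, 10]],
 .nb [[1, 7, 1]],
 .nb [[1, 3, 25], [1, 3, 11], [1, 3, 24], [1, 3, 9, 3], [1, 3, 40], [1, 3, 5, 8], [1, 3], [1, 47, 2]],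
 .nb [[3, 1, 32]],
 .nb [[2, 35, 3]],
 .nb [[1, 3, 5, 8]],
 .nb [[3, 6]],
 .fx 80 2,
 .nb [[1, 3, 9, 3]],
 .nb [[1, 3, 10]],
 .nb [[1, 3, 25]],
 .nb [[1, 3, 12]],
 .nb [[1, 3, 11]],
 .nb [[3, 1, 28]],
 .nb [[1, 3, 29]]])]
theorem ex_5 : exAll 275 9 nx D 20160 ex2_5 = true := by decide +kernel
noncomputable def ex2_6 : List (ℕ × List Ins) := [((nat_lit 0x11004f07bc6fda12eb9ca8bb0e8dc), [.fx 2 56,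
 .nb [[1, 3, 47]],
 .fx 7 12,
 .nb [[3, 1, 37]],
 .nb [[1, 47, 2]],
 .fx 27 10,
 .nb [[3, 1, 10]],
 .nb [[1, 7, 1]],
 .nb [[1, 3, 9, 30], [1, 3, 13], [1, 3]],
 .nb [[1, 3, 51]],
 .nb [[1, 3]],
 .nb [[1, 49, 2]],
 .nb [[1, 40]],
 .nb [[1, 33, 1]],
 .nb [[2, 12, 3]],
 .nb [[1, 3, 40]],
 .nb [[1, 3, 13]],
 .nb [[1, 3, 5, 10]],
 .nb [[1, 5, 1]]]),
 ((nat_lit 0x1a1d7a2806f138719527c37f1b60e), [.nb [[]],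
 .fx 1 56,
 .nb [[1, 22, 3]],
 .fx 5 14,
 .nb [[1, 0, 24, 3]],
 .nb [[1, 3, 17]],
 .fx 26 10,
 .nb [[1, 3, 26]],
 .nb [[1, 3, 4, 28]],
 .nb [[1, 3, 23], [2, 28, 1]],
 .nb [[1, 3, 25]],
 .nb [[1, 3, 7]],
 .nb [[1, 32, 2]],
 .nb [[1, 47, 2]],
 .nb [[1, 3, 5, 10]],
 .nb [[1, 3, 41]],
 .nb [[1, 3]],
 .nb [[1, 3, 6, 39]],
 .nb [[1, 0, 13, 3]],
 .nb [[3, 1, 36]],
 .nb [[1, 3, 16]]]),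
 ((nat_lit 0x1a1d4b278cf31a51d91fa1bb1a09c), [.nb [[]],
 .fx 2 56,
 .nb [[1, 3, 47]],
 .fx 7 12,
 .nb [[3, 1, 37]],
 .nb [[1, 47, 2]],
 .fx 27 10,
 .nb [[3, 1, 10]],
 .nb [[1, 7, 1]],
 .nb [[1, 22, 3], [1, 3, 5, 14], [2, 47, 3]],
 .nb [[1, 3]],
 .nb [[1, 0, 13, 3]],
 .nb [[1, 3, 6, 53]],
 .nb [[1, 2, 47, 3]],
 .nb [[1, 3, 12]],
 .nb [[1, 3, 7]],
 .nb [[1, 3, 9, 30]],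
 .nb [[1, 3, 30]],
 .nb [[1, 3, 13]],
 .nb [[1, 12, 2]]]),
 ((nat_lit 0x1b1d4e2034fdd853b387893b1e84c), [.nb [[]],
 .fx 2 56,
 .nb [[1, 3, 47]],
 .fx 45 12,
 .nb [[2, 12, 3]],
 .nb [[1, 3, 24]],
 .fx 52 10,
 .nb [[1, 12, 2]],
 .nb [[1, 3, 14], [3, 1, 36]],
 .nb [[3, 1, 32]],
 .nb [[1, 32, 2]],
 .nb [[1, 3, 12]],
 .nb [[1, 3, 30]],
 .nb [[1, 3, 9]],
 .nb [[1, 47, 2]],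
 .nb [[1, 3, 11]],
 .nb [[1, 33, 1]],
 .nb [[1, 3, 10]],
 .nb [[1, 3, 7, 45]],
 .nb [[1, 3, 19]]]),
 ((nat_lit 0x10023b0f8f632bb04d3cf2d52b7b2), [.nb [[]],
 .fx 1 56,
 .nb [[1, 22, 3]],
 .fx 5 10,
 .nb [[1, 0, 24, 3]],
 .fx 109 2,
 .nb [[1, 3, 17]],
 .fx 24 9,
 .nb [[1, 3, 5, 10]],
 .nb [[1, 7, 1]],
 .nb [[1, 3, 6], [1, 3, 29]],
 .nb [[2, 4, 3]],
 .nb [[1, 3, 6]],
 .nb [[1, 3, 28]],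
 .nb [[1, 32, 2]],
 .nb [[2, 33, 2]],
 .nb [[1, 3, 5, 8]],
 .nb [[1, 47, 2]],
 .nb [[2, 28, 1]],
 .nb [[1, 3, 6, 53]]]),
 ((nat_lit 0x11023e08376de9b227a4da552ff62), [.nb [[]],
 .fx 1 56,
 .nb [[1, 22, 3]],
 .fx 5 10,
 .nb [[1, 0, 24, 3]],
 .fx 109 2,
 .nb [[1, 3, 17]],
 .fx 24 9,
 .nb [[1, 3, 5, 10]],
 .nb [[1, 7, 1]],
 .nb [[1, 3, 4, 50], [1, 24, 3]],
 .nb [[1, 3, 9]],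
 .nb [[1, 47, 2]],
 .nb [[2, 4, 3]],
 .nb [[1, 3, 40]],
 .nb [[1, 3, 9, 3]],
 .nb [[1, 3, 29]],
 .nb [[3, 1, 36]],
 .nb [[1, 3, 27]]]),
 ((nat_lit 0x11020f07bd6fcb926b9cb8912e9f0), [.nb [[]],
 .fx 4 56,
 .nb [[1, 23, 2]],
 .fx 9 14,
 .nb [[1, 3, 5]],
 .nb [[1, 33, 1]],
 .fx 17 12,
 .nb [[1, 3, 45]],
 .nb [[1, 2, 47, 3], [3, 1, 38], [1, 3, 5, 8]],
 .nb [[1, 3, 19]],
 .nb [[2, 12, 3]],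
 .nb [[1, 3, 5, 8]],
 .nb [[2, 34, 1]],
 .nb [[1, 3, 6, 39]],
 .nb [[1, 3, 9, 30]],
 .nb [[3, 1, 38]],
 .nb [[1, 47, 2]],
 .nb [[2, 43, 1]],
 .nb [[3, 1, 24]]]),
 ((nat_lit 0x1a1f3a2807f129f11527d3553b722), [.nb [[]],
 .fx 1 56,
 .nb [[1, 22, 3]],
 .fx 33 14,
 .nb [[2, 33, 2]],
 .fx 9 12,
 .nb [[1, 3, 5]],
 .nb [[1, 3, 7, 45]],
 .nb [[1, 3], [2, 5, 2]],
 .nb [[1, 0, 24, 3]],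
 .nb [[1, 3, 17]],
 .nb [[1, 3, 32]],
 .nb [[1, 3, 14]],
 .nb [[1, 3, 27]],
 .nb [[1, 3, 16]],
 .nb [[1, 3, 12]],
 .nb [[1, 0, 13, 3]],
 .nb [[2, 34, 1]],
 .nb [[1, 12, 2]],
 .nb [[1, 3, 5, 8]]]),
 ((nat_lit 0x1a1f0b278df30bd1591fb1913a1b0), [.nb [[]],
 .fx 4 56,
 .nb [[1, 23, 2]],
 .fx 9 14,
 .nb [[1, 3, 5]],
 .nb [[1, 3, 16]],
 .fx 7 9,
 .nb [[3, 1, 37]],
 .nb [[1, 15, 2], [1, 54, 2], [1, 3]],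
 .nb [[1, 2, 47, 3]],
 .nb [[1, 3, 6, 53]],
 .nb [[1, 3, 28]],
 .nb [[2, 34, 1]],
 .nb [[1, 3, 5, 8]],
 .nb [[1, 3, 9, 30]],
 .nb [[1, 11, 3]],
 .nb [[1, 0, 13, 3]],
 .nb [[2, 4, 3]],
 .nb [[1, 3, 6, 39]]]),
 ((nat_lit 0x1b1f0e2035fdc9d3338799113e960), [.nb [[]],
 .fx 5 56,
 .nb [[1, 0, 24, 3]],
 .fx 28 12,
 .nb [[3, 1, 22]],
 .fx 87 2,
 .nb [[1, 3, 29]],
 .fx 31 9,
 .nb [[1, 3, 18]],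
 .nb [[3, 1, 10], [1, 3, 33]],
 .nb [[1, 5, 1]],
 .nb [[1, 3, 9]],
 .nb [[1, 3, 5, 8]],
 .nb [[1, 45, 3]],
 .nb [[1, 33, 1]],
 .nb [[3, 1, 36]],
 .nb [[1, 3, 19]],
 .nb [[1, 3, 17]],
 .nb [[1, 7, 1]],
 .nb [[1, 3, 24]]]),
 ((nat_lit 0x460f90f8e023234cd7ce6ff4169e), [.fx 1 56,
 .nb [[1, 22, 3]],
 .fx 24 10,
 .nb [[1, 3, 5, 10]],
 .nb [[3, 1, 37], [2, 35, 3], [3, 37, 1], [1, 3, 6], [3, 1, 38], [1, 3, 29], [1, 41, 3]],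
 .nb [[1, 3, 5, 8]],
 .nb [[1, 22, 2]],
 .nb [[1, 7, 1]],
 .nb [[1, 3, 6, 39]],
 .nb [[2, 4, 3]],
 .nb [[1, 2, 33, 3]],
 .nb [[1, 14]],
 .fx 33 2,
 .nb [[2, 33, 2]],
 .nb [[1, 3, 6]],
 .nb [[1, 3, 11, 4]],
 .nb [[2, 28, 1]],
 .nb [[3, 37, 1]],
 .nb [[1, 3, 25]],
 .nb [[1, 41, 3]],
 .nb [[1, 0, 31, 1]]]),
 ((nat_lit 0x560fc08360cf036a7e4ce7f45e4e), [.fx 1 56,
 .nb [[1, 22, 3]],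
 .fx 24 10,
 .nb [[1, 3, 5, 10]],
 .nb [[1, 3, 18], [2, 35, 3], [3, 1, 28], [1, 3, 9], [1, 3, 29], [1, 41, 3], [1, 33, 1]],
 .nb [[1, 3, 5, 8]],
 .nb [[1, 22, 2]],
 .nb [[1, 47, 2]],
 .nb [[2, 35, 3]],
 .nb [[1, 2, 33, 3]],
 .nb [[3, 6]],
 .nb [[1, 14]],
 .fx 54 2,
 .nb [[1, 3, 11, 4]],
 .nb [[1, 3, 9]],
 .nb [[1, 3]],
 .nb [[3, 1, 28]],
 .nb [[1, 3, 24]],
 .nb [[1, 3, 19]],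
 .nb [[2, 12, 3]]]),
 ((nat_lit 0x560cd07bc0ed216ebdcacbb448dc), [.fx 2 56,
 .nb [[1, 3, 47]],
 .fx 7 12,
 .nb [[3, 1, 37]],
 .nb [[1, 9, 3]],
 .nb [[1, 22, 3], [1, 3, 5], [1, 3, 31], [2, 35, 3], [2, 38, 3], [1, 4, 1], [3, 1, 39], [1, 3, 4, 28]],
 .nb [[1, 3, 12]],
 .nb [[1, 3]],
 .nb [[3, 1, 23]],
 .nb [[2, 33, 2]],
 .nb [[1, 7]],
 .nb [[3, 12]],
 .fx 27 2,
 .nb [[3, 1, 10]],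
 .nb [[1, 3, 4, 37]],
 .nb [[1, 5, 1]],
 .nb [[1, 3, 40]],
 .nb [[1, 3, 24]],
 .nb [[1, 3, 9, 3]],
 .nb [[1, 3, 13]]]),
 ((nat_lit 0xe7df828069030759567c77f5160e), [.nb [[]],
 .fx 1 56,
 .nb [[1, 22, 3]],
 .fx 5 14,
 .nb [[1, 0, 24, 3]],
 .fx 109 2,
 .nb [[1, 3, 17]],
 .fx 2 10,
 .nb [[1, 3, 47]],
 .nb [[2, 4, 2], [1, 2, 33, 3], [1, 41, 3]],
 .nb [[1, 3, 31]],
 .nb [[1, 3, 5, 8]],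
 .nb [[1, 3]],
 .nb [[1, 3, 32]],
 .nb [[1, 3, 7, 45]],
 .nb [[1, 3, 5, 10]],
 .nb [[1, 3, 25]],
 .nb [[1, 3, 4, 37]],
 .nb [[1, 0, 13, 3]],
 .nb [[1, 3, 26]],
 .nb [[1, 3, 11, 4]]]),
 ((nat_lit 0xe7dc9278c921255d95fa5bb5009c), [.fx 2 56,
 .nb [[1, 3, 47]],
 .fx 7 12,
 .nb [[3, 1, 37]],
 .nb [[1, 9, 3]],
 .nb [[1, 22, 3], [1, 3, 5], [2, 31, 3], [2, 43, 1], [1, 3, 18], [2, 35, 3], [1, 4, 1], [1, 3, 9]],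
 .nb [[1, 2, 47, 3]],
 .nb [[2, 5, 2]],
 .nb [[1, 3]],
 .nb [[3, 1, 23]],
 .nb [[3, 12]],
 .fx 27 2,
 .nb [[3, 1, 10]],
 .nb [[1, 3, 4, 37]],
 .nb [[2, 28, 1]],
 .nb [[1, 3, 7, 45]],
 .nb [[1, 12, 2]],
 .nb [[1, 3, 17]],
 .nb [[1, 3, 16]]]),
 ((nat_lit 0xf7dcc20349cd057b3c78d3b5484c), [.nb [[]],
 .fx 2 56,
 .nb [[1, 3, 47]],
 .fx 45 12,
 .nb [[2, 12, 3]],
 .nb [[1, 3, 24]],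
 .fx 52 10,
 .nb [[1, 12, 2]],
 .nb [[2, 47, 3], [3, 1, 36]],
 .nb [[1, 54]],
 .nb [[1, 3, 11]],
 .nb [[1, 33, 1]],
 .nb [[1, 3, 7, 45]],
 .nb [[1, 9, 3]],
 .nb [[1, 3, 19]],
 .nb [[1, 3, 11, 4]],
 .nb [[3, 1, 23]],
 .nb [[1, 3, 9]],
 .nb [[1, 3, 32]]])]
theorem ex_6 : exAll 275 9 nx D 20160 ex2_6 = true := by decide +kernel
noncomputable def ex2_7 : List (ℕ × List Ins) := [((nat_lit 0x462b90f8f0223b44d7cf6d5617b2), [.nb [[]],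
 .fx 1 56,
 .nb [[1, 22, 3]],
 .fx 5 10,
 .nb [[1, 0, 24, 3]],
 .nb [[2, 5, 2]],
 .nb [[1, 3, 5, 10], [2, 33, 2], [1, 3, 28], [2, 11, 2], [1, 3, 11, 4], [1, 3, 27], [2, 28, 1], [1, 3, 5, 8]],
 .nb [[1, 3, 5, 14]],
 .nb [[1, 2, 47, 1]],
 .nb [[1, 3, 27]],
 .nb [[1, 35, 2]],
 .fx 24 2,
 .nb [[1, 3, 5, 10]],
 .nb [[1, 3, 29]],
 .nb [[1, 3, 28]],
 .nb [[1, 3, 6, 53]],
 .nb [[2, 33, 2]],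
 .nb [[1, 9, 3]],
 .nb [[1, 47, 3]]]),
 ((nat_lit 0x562bc08370ce1b627e4de5565f62), [.fx 1 56,
 .nb [[1, 22, 3]],
 .fx 5 10,
 .nb [[1, 0, 24, 3]],
 .nb [[2, 5, 2]],
 .nb [[1, 3, 5, 10], [1, 3, 11, 4], [1, 3, 27], [1, 3, 11], [1, 3, 24], [1, 3, 9, 3], [1, 3, 40], [1, 3, 5, 8]],
 .nb [[1, 35, 2]],
 .nb [[2, 41, 1]],
 .nb [[1, 3, 27]],
 .nb [[1, 3, 11, 4]],
 .nb [[1, 4, 27]],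
 .fx 71 2,
 .nb [[1, 3, 24]],
 .nb [[2, 4, 3]],
 .nb [[1, 3, 11]],
 .nb [[3, 1, 36]],
 .nb [[1, 3, 6, 9]],
 .nb [[1, 9, 3]],
 .nb [[1, 3, 29]]]),
 ((nat_lit 0x5628d07bd0ec3966bdcbc91649f0), [.nb [[]],
 .fx 4 56,
 .nb [[1, 23, 2]],
 .fx 9 14,
 .nb [[1, 3, 5]],
 .nb [[1, 33, 1]],
 .fx 17 12,
 .nb [[1, 3, 45]],
 .nb [[1, 3, 4, 37]],
 .nb [[1, 0, 24, 3], [1, 3, 9, 3]],
 .nb [[1, 3, 5, 8]],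
 .nb [[1, 3, 6, 39]],
 .nb [[3, 1, 12]],
 .nb [[1, 3, 24]],
 .nb [[3, 1, 24]],
 .nb [[1, 3, 28]],
 .nb [[3, 1, 38]],
 .nb [[2, 12, 3]]]),
 ((nat_lit 0xe7fb828079021f51567d75571722), [.nb [[]],
 .fx 1 56,
 .nb [[1, 22, 3]],
 .fx 33 14,
 .nb [[2, 33, 2]],
 .fx 9 12,
 .nb [[1, 3, 5]],
 .nb [[1, 3, 7, 45]],
 .nb [[1, 3], [1, 47, 2]],
 .nb [[1, 3, 5, 8]],
 .nb [[1, 3, 31]],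
 .nb [[1, 3, 32]],
 .nb [[3, 1, 23]],
 .nb [[1, 3, 5, 10]],
 .nb [[1, 3, 41]],
 .nb [[1, 9, 3]],
 .nb [[1, 3, 8, 3]],
 .nb [[3, 1, 36]],
 .nb [[1, 12, 2]],
 .nb [[1, 0, 24, 3]]]),
 ((nat_lit 0xe7f89278d9203d5595fb591701b0), [.nb [[]],
 .fx 4 56,
 .nb [[1, 23, 2]],
 .fx 9 14,
 .nb [[1, 3, 5]],
 .nb [[1, 3, 16]],
 .fx 7 9,
 .nb [[3, 1, 37]],
 .nb [[2, 41, 1], [1, 2, 47, 1]],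
 .nb [[1, 4, 27]],
 .nb [[2, 4, 3]],
 .nb [[2, 34, 1]],
 .nb [[1, 3, 30]],
 .nb [[2, 38, 3]],
 .nb [[3, 1, 38]],
 .nb [[1, 3, 5, 8]],
 .nb [[1, 3, 6]],
 .nb [[1, 11, 3]],
 .nb [[1, 36, 3]],
 .nb [[1, 3, 8, 3]]]),
 ((nat_lit 0xf7f8c20359cc1d733c79d1174960), [.nb [[]],
 .fx 5 56,
 .nb [[1, 0, 24, 3]],
 .fx 1 12,
 .nb [[1, 22, 3]],
 .fx 109 2,
 .nb [[1, 3, 17]],
 .nb [[2, 43, 1], [1, 3, 45], [1, 36, 3], [2, 47, 3], [1, 45, 3], [2, 12, 3], [3, 1, 28], [1, 15, 2]],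
 .nb [[1, 3, 16]],
 .nb [[1, 3, 7, 45]],
 .nb [[1, 3, 11, 4]],
 .nb [[1, 4, 27]],
 .fx 38 2,
 .nb [[1, 32, 2]],
 .nb [[1, 3, 7]],
 .nb [[1, 5, 1]],
 .nb [[3, 1, 23]],
 .nb [[1, 3, 4, 28]],
 .nb [[1, 3, 40]],
 .nb [[1, 3, 6, 39]]]),
 ((nat_lit 0x1460bb0f8e632a344d7ce6d54b692), [.fx 1 56,
 .nb [[1, 22, 3]],
 .fx 24 10,
 .nb [[1, 3, 5, 10]],
 .nb [[2, 33, 2], [1, 3, 28], [2, 11, 2], [1, 3, 11, 4], [2, 28, 1], [1, 3, 5, 8], [2, 5, 2], [1, 47, 2]],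
 .nb [[3, 1, 32]],
 .nb [[2, 35, 3]],
 .nb [[1, 47, 2]],
 .nb [[3, 6]],
 .fx 54 2,
 .nb [[1, 3, 11, 4]],
 .nb [[1, 3, 6]],
 .nb [[2, 28, 1]],
 .nb [[2, 33, 2]],
 .nb [[3, 1, 37]],
 .nb [[1, 41, 3]],
 .nb [[1, 3, 14]],
 .nb [[1, 3, 5, 17]]]),
 ((nat_lit 0x1560be08366de83627e4ce554fe42), [.fx 1 56,
 .nb [[1, 22, 3]],
 .fx 24 10,
 .nb [[1, 3, 5, 10]],
 .nb [[1, 7, 1]],
 .nb [[1, 3, 11, 4], [1, 3, 11], [1, 3, 24], [1, 3, 9, 3], [1, 3, 40], [1, 3, 5, 8], [2, 5, 2], [1, 47, 2]],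
 .nb [[3, 1, 32]],
 .nb [[2, 35, 3]],
 .nb [[1, 3, 5, 8]],
 .nb [[1, 22, 2]],
 .nb [[3, 6]],
 .fx 80 2,
 .nb [[1, 3, 9, 3]],
 .nb [[1, 3, 10]],
 .nb [[1, 3, 11, 4]],
 .nb [[1, 3, 14]],
 .nb [[1, 3, 24]],
 .nb [[1, 33, 1]],
 .nb [[1, 3, 29]]]),
 ((nat_lit 0x15608f07bc6fca166bdcac914e8d0), [.nb [[]],
 .fx 4 56,
 .nb [[1, 23, 2]],
 .fx 9 14,
 .nb [[1, 3, 5]],
 .nb [[1, 33, 1]],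
 .fx 20 12,
 .nb [[1, 36, 3]],
 .nb [[1, 47, 2]],
 .nb [[1, 3, 51], [2, 38, 3]],
 .nb [[1, 7, 1]],
 .nb [[1, 3, 24]],
 .nb [[3, 1, 28]],
 .nb [[3, 1, 32]],
 .nb [[1, 9, 3]],
 .nb [[3, 1, 24]],
 .nb [[1, 3, 4, 37]],
 .nb [[1, 15, 2]]]),
 ((nat_lit 0x1e7dba2806f128751567c7555b602), [.nb [[]],
 .fx 1 56,
 .nb [[1, 22, 3]],
 .fx 5 14,
 .nb [[1, 0, 24, 3]],
 .fx 109 2,
 .nb [[1, 3, 17]],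
 .fx 9 10,
 .nb [[1, 3, 5]],
 .nb [[1, 11, 3]],
 .nb [[1, 7, 1], [1, 3, 5, 8]],
 .nb [[3, 1, 22]],
 .nb [[1, 3, 11, 4]],
 .nb [[1, 3, 16]],
 .nb [[1, 3, 4, 28]],
 .nb [[1, 47, 2]],
 .nb [[1, 3, 5, 8]],
 .nb [[1, 3, 26]],
 .nb [[3, 1, 36]],
 .nb [[1, 3, 32]],
 .nb [[1, 3, 4, 37]],
 .nb [[1, 3]]]),
 ((nat_lit 0x1e7d8b278cf30a55595fa5915a090), [.nb [[]],
 .fx 4 56,
 .nb [[1, 23, 2]],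
 .fx 9 14,
 .nb [[1, 3, 5]],
 .nb [[1, 3, 16]],
 .fx 7 9,
 .nb [[3, 1, 37]],
 .nb [[1, 15, 2], [1, 54, 2], [1, 3]],
 .nb [[1, 2, 47, 3]],
 .nb [[1, 3, 6, 53]],
 .nb [[1, 3, 28]],
 .nb [[1, 9, 3]],
 .nb [[3, 1, 32]],
 .nb [[1, 3, 9, 30]],
 .nb [[1, 0, 13, 3]],
 .nb [[1, 11, 3]],
 .nb [[1, 47, 2]],
 .nb [[1, 7, 1]]]),
 ((nat_lit 0x1f7d8e2034fdc85733c78d115e840), [.nb [[]],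
 .fx 6 56,
 .nb [[3, 1, 15]],
 .fx 21 14,
 .nb [[1, 24, 3]],
 .nb [[1, 33, 1]],
 .fx 20 10,
 .nb [[1, 36, 3]],
 .nb [[1, 5, 1], [1, 3, 4, 28], [1, 7, 1], [1, 3, 30]],
 .nb [[1, 3, 8, 3]],
 .nb [[1, 9, 3]],
 .nb [[3, 1, 28]],
 .nb [[1, 3, 11]],
 .nb [[1, 15, 2]],
 .nb [[1, 7, 1]],
 .nb [[2, 5, 3]],
 .nb [[2, 5, 2]],
 .nb [[3, 1, 32]],
 .nb [[1, 12, 2]]]),
 ((nat_lit 0x1462fa08076139b48564d67f6b72e), [.fx 1 56,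
 .nb [[1, 22, 3]],
 .fx 5 10,
 .nb [[1, 0, 24, 3]],
 .nb [[1, 3, 5, 10], [1, 3, 25], [1, 3, 11, 4], [1, 3, 27], [1, 7, 1], [1, 3, 5, 8], [1, 3], [1, 47, 2]],
 .nb [[1, 3, 5, 14]],
 .nb [[1, 2, 47, 1]],
 .nb [[1, 3, 11, 4]],
 .nb [[1, 3, 27]],
 .nb [[1, 4, 27]],
 .fx 93 2,
 .nb [[1, 7, 1]],
 .nb [[1, 3, 5, 10]],
 .nb [[1, 3, 4, 37]],
 .nb [[1, 3, 25]],
 .nb [[3, 1, 23]],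
 .nb [[1, 2, 14, 1]],
 .nb [[3, 1, 36]]]),
 ((nat_lit 0x1462cb078d631b94c95cb4bb6a1bc), [.fx 2 56,
 .nb [[1, 3, 47]],
 .fx 7 12,
 .nb [[3, 1, 37]],
 .nb [[1, 49, 2], [1, 3, 5, 10], [1, 3, 28], [1, 51, 3], [2, 4, 3], [2, 34, 1], [1, 3, 9, 30], [3, 1, 24], [1, 3, 13], [2, 28, 1], [1, 3], [3, 1, 12], [3, 1, 23]],
 .nb [[3, 12], [3, 50], [2, 34]],
 .nb [[1, 3, 11, 4], [1, 3, 4, 37], [2, 5, 2]],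
 .fx 59 2,
 .nb [[2, 34, 1]],
 .nb [[2, 4, 3]],
 .fx 27 3,
 .nb [[3, 1, 10]],
 .nb [[1, 3, 4, 37]],
 .nb [[1, 3, 51]],
 .nb [[1, 3, 25]],
 .nb [[1, 3, 5, 8]],
 .nb [[2, 4, 2]],
 .nb [[3, 50]],
 .nb [[1, 32, 2]],
 .nb [[1, 3, 6, 53]],
 .nb [[1, 3, 11, 4]],
 .nb [[1, 3, 13]]]),
 ((nat_lit 0x1562ce00356dd996a3c49c3b6e96c), [.fx 2 56,
 .nb [[1, 3, 47]],
 .fx 45 12,
 .nb [[2, 12, 3]],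
 .nb [[1, 3, 24]],
 .fx 54 10,
 .nb [[1, 3, 11, 4]],
 .nb [[1, 3, 10]],
 .nb [[1, 0, 24, 3], [1, 36, 3], [1, 3]],
 .nb [[1, 3, 23]],
 .nb [[1, 33, 1]],
 .nb [[1, 3, 9]],
 .nb [[1, 3, 19]],
 .nb [[1, 7, 1]],
 .nb [[1, 18, 5]],
 .nb [[1, 3, 12]],
 .nb [[1, 9, 3]],
 .nb [[1, 3, 27]],
 .nb [[1, 3, 5, 14]]]),
 ((nat_lit 0x1e7fca2005f119d59147953b7a12c), [.nb [[]],
 .fx 2 56,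
 .nb [[1, 3, 47]],
 .fx 52 12,
 .nb [[1, 12, 2]],
 .fx 62 2,
 .nb [[1, 3, 8]],
 .fx 30 9,
 .nb [[2, 47, 3]],
 .nb [[2, 34, 1]],
 .nb [[2, 31, 3], [2, 43, 1]],
 .nb [[1, 3, 12]],
 .nb [[1, 7, 1]],
 .nb [[2, 5, 2]],
 .nb [[1, 3, 11, 4]],
 .nb [[1, 3, 7]],
 .nb [[1, 3, 43]],
 .nb [[1, 9, 3]],
 .nb [[1, 3, 7, 45]]])]
theorem ex_7 : exAll 275 9 nx D 20160 ex2_7 = true := by decide +kernel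
noncomputable def ex2_8 : List (ℕ × List Ins) := [((nat_lit 0x8079dfce023638cd3ce2ff8169e), [.nb [[]],
 .fx 1 56,
 .nb [[1, 22, 3]],
 .fx 24 10,
 .nb [[1, 3, 5, 10]],
 .fx 93 2,
 .nb [[1, 7, 1]],
 .fx 33 9,
 .nb [[2, 33, 2]],
 .nb [[1, 5, 1], [2, 34, 1], [1, 9, 3]],
 .nb [[3, 1, 37]],
 .nb [[1, 3, 23]],
 .nb [[1, 3, 25]],
 .nb [[1, 3, 33]],
 .nb [[1, 41, 3]],
 .nb [[1, 43, 2]],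
 .nb [[1, 3, 28]],
 .nb [[3, 37, 1]],
 .nb [[2, 11, 2]],
 .nb [[1, 3, 6]]]),
 ((nat_lit 0x1807cd8760cf43aa7a4ca7f85e4e), [.nb [[]],
 .fx 1 56,
 .nb [[1, 22, 3]],
 .fx 24 10,
 .nb [[1, 3, 5, 10]],
 .fx 93 2,
 .nb [[1, 7, 1]],
 .fx 51 9,
 .nb [[1, 3, 25]],
 .nb [[1, 3, 23]],
 .nb [[3, 1, 10], [3, 1, 22]],
 .nb [[1, 3, 33]],
 .nb [[1, 3]],
 .nb [[1, 3, 5, 8]],
 .nb [[1, 3, 4]],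
 .nb [[1, 3, 11]],
 .nb [[1, 54, 2]],
 .nb [[1, 3, 18]],
 .nb [[1, 43, 2]],
 .nb [[1, 41, 3]]]),
 ((nat_lit 0x1804dd7fc0ed61aeb9ca8bb848dc), [.nb [[]],
 .fx 2 56,
 .nb [[1, 3, 47]],
 .fx 7 14,
 .nb [[3, 1, 37]],
 .fx 106 2,
 .nb [[1, 9, 3]],
 .fx 4 10,
 .nb [[1, 23, 2]],
 .nb [[1, 3, 25]],
 .nb [[1, 3, 28], [2, 28, 1]],
 .nb [[3, 1, 10]],
 .nb [[1, 3]],
 .nb [[1, 7, 1]],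
 .nb [[1, 40]],
 .nb [[1, 33, 1]],
 .nb [[1, 3, 24]],
 .nb [[1, 43, 2]],
 .nb [[2, 28, 1]],
 .nb [[1, 3, 23]],
 .nb [[1, 15, 2]]]),
 ((nat_lit 0xa9d78f8469034799527c37f9160e), [.nb [[]],
 .fx 1 56,
 .nb [[1, 22, 3]],
 .fx 5 14,
 .nb [[1, 0, 24, 3]],
 .nb [[1, 3, 17]],
 .fx 2 10,
 .nb [[1, 3, 47]],
 .nb [[1, 12, 2], [1, 3, 7], [1, 3, 33], [1, 3, 30]],
 .nb [[1, 43, 2]],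
 .nb [[1, 3, 6, 39]],
 .nb [[1, 3, 23]],
 .nb [[1, 3, 30]],
 .nb [[1, 3]],
 .nb [[1, 3, 5, 8]],
 .nb [[1, 3, 31]],
 .nb [[1, 3, 26]],
 .nb [[1, 3, 5, 10]],
 .nb [[1, 0, 13, 3]],
 .nb [[2, 47, 1]]]),
 ((nat_lit 0xa9d49f7cc921659d91fa1bb9009c), [.nb [[]],
 .fx 2 56,
 .nb [[1, 3, 47]],
 .fx 7 14,
 .nb [[3, 1, 37]],
 .fx 106 2,
 .nb [[1, 9, 3]],
 .fx 4 10,
 .nb [[1, 23, 2]],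
 .nb [[1, 3, 25]],
 .nb [[2, 35, 3], [1, 3, 6, 9]],
 .nb [[1, 3, 30]],
 .nb [[1, 3, 7]],
 .nb [[1, 3, 33]],
 .nb [[1, 43, 2]],
 .nb [[1, 3, 7, 45]],
 .nb [[3, 1, 10]],
 .nb [[1, 12, 2]],
 .nb [[1, 3, 28]],
 .nb [[1, 3, 6, 53]]]),
 ((nat_lit 0xb9d4cf0749cd45bb387893b9484c), [.fx 2 56,
 .nb [[1, 3, 47]],
 .nb [[1, 3, 4, 50], [2, 12, 3], [1, 12, 2], [2, 47, 1], [1, 3, 8], [1, 3, 24], [1, 3, 7], [1, 3, 33], [1, 3, 4], [1, 3, 40], [1, 3, 7, 45], [1, 43, 2], [1, 33, 1], [1, 3, 30]],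
 .nb [[1, 23, 2], [1, 0, 24, 3], [1, 3, 21], [1, 3, 45], [1, 35, 2], [1, 3, 28], [2, 11, 2], [1, 51, 3], [2, 34, 1], [1, 3, 27], [3, 37, 1], [1, 3, 9, 30], [1, 3, 44], [1, 3, 6], [1, 3, 13], [3, 1, 12]],
 .fx 19 2,
 .nb [[1, 3, 4, 50]],
 .fx 94 2,
 .nb [[1, 3, 40]],
 .nb [[1, 3, 49]],
 .nb [[1, 3, 9]],
 .nb [[1, 52]],
 .fx 55 2,
 .nb [[2, 47, 1]],
 .nb [[1, 3, 7]],
 .nb [[1, 0, 13, 3]],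
 .nb [[1, 3, 8, 3]],
 .nb [[1, 3, 5, 8]],
 .nb [[1, 3, 8]],
 .nb [[1, 12, 2]]]),
 ((nat_lit 0x8239dfcf0227b84d3cf2d5a17b2), [.nb [[]],
 .fx 1 56,
 .nb [[1, 22, 3]],
 .fx 5 10,
 .nb [[1, 0, 24, 3]],
 .fx 109 2,
 .nb [[1, 3, 17]],
 .fx 24 9,
 .nb [[1, 3, 5, 10]],
 .nb [[3, 1, 28], [1, 3, 10], [1, 3, 14]],
 .nb [[1, 3, 23]],
 .nb [[1, 3, 29]],
 .nb [[1, 2, 47, 1]],
 .nb [[1, 41, 3]],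
 .nb [[2, 35, 3]],
 .nb [[1, 3, 5, 53]],
 .nb [[2, 0]],
 .nb [[2, 33, 2]],
 .nb [[1, 3, 6]],
 .nb [[2, 28, 1]],
 .nb [[1, 4, 1]]]),
 ((nat_lit 0x1823cd8770ce5ba27a4da55a5f62), [.nb [[]],
 .fx 1 56,
 .nb [[1, 22, 3]],
 .fx 5 10,
 .nb [[1, 0, 24, 3]],
 .fx 109 2,
 .nb [[1, 3, 17]],
 .fx 24 9,
 .nb [[1, 3, 5, 10]],
 .nb [[1, 3, 6], [1, 3, 4, 28], [1, 3, 7, 45]],
 .nb [[1, 3, 33]],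
 .nb [[1, 3, 29]],
 .nb [[2, 4, 3]],
 .nb [[1, 3, 8]],
 .nb [[3, 1, 36]],
 .nb [[2, 40]],
 .nb [[1, 3, 27]],
 .nb [[1, 3, 9, 3]],
 .nb [[1, 54, 2]],
 .nb [[1, 3, 24]]]),
 ((nat_lit 0x1820dd7fd0ec79a6b9cb891a49f0), [.nb [[]],
 .fx 4 56,
 .nb [[1, 23, 2]],
 .fx 9 14,
 .nb [[1, 3, 5]],
 .nb [[1, 33, 1]],
 .fx 17 12,
 .nb [[1, 3, 45]],
 .nb [[2, 47, 3], [1, 3, 6, 9], [3, 1, 39]],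
 .nb [[3, 1, 37]],
 .nb [[1, 3, 24]],
 .nb [[2, 33, 2]],
 .nb [[1, 15, 2]],
 .nb [[1, 3, 9]],
 .nb [[2, 43, 1]],
 .nb [[2, 41]],
 .nb [[1, 2, 47, 3]],
 .nb [[1, 3, 6]],
 .nb [[1, 54, 2]],
 .nb [[2, 12, 3]]]),
 ((nat_lit 0xa9f38f8479025f91527d355b1722), [.nb [[]],
 .fx 1 56,
 .nb [[1, 22, 3]],
 .nb [[2, 33, 2], [1, 3, 28], [2, 11, 2], [1, 3, 25], [1, 3, 11, 4], [1, 3, 11], [1, 3, 24], [1, 3, 9, 3], [2, 28, 1], [1, 7, 1], [1, 3, 40], [1, 3], [2, 5, 2], [1, 47, 2]],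
 .nb [[3, 1, 22], [1, 11, 3], [2, 38, 3], [1, 3, 4, 28]],
 .fx 153 3,
 .nb [[1, 14]],
 .nb [[1, 3, 16], [1, 3, 17]],
 .nb [[1, 0, 24, 3], [1, 3, 27]],
 .fx 24 2,
 .nb [[1, 3, 5, 10]],
 .nb [[1, 3, 41]],
 .nb [[2, 35, 3]],
 .nb [[2, 23]],
 .fx 5 2,
 .nb [[1, 0, 24, 3]],
 .nb [[1, 3, 17]],
 .nb [[1, 3, 4, 28]],
 .nb [[1, 3, 33]],
 .nb [[1, 3, 32]],
 .nb [[3, 1, 22]],
 .nb [[1, 2, 47, 1]]]),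
 ((nat_lit 0xa9f09f7cd9207d9591fb191b01b0), [.nb [[]],
 .fx 4 56,
 .nb [[1, 23, 2]],
 .fx 9 14,
 .nb [[1, 3, 5]],
 .nb [[1, 3, 16]],
 .fx 7 9,
 .nb [[3, 1, 37]],
 .nb [[1, 15, 2], [1, 3], [1, 47, 2]],
 .nb [[1, 3, 17]],
 .nb [[1, 3, 30]],
 .nb [[2, 33, 2]],
 .nb [[1, 3, 7, 45]],
 .nb [[1, 35, 2]],
 .nb [[2, 8]],
 .nb [[1, 3, 6]],
 .nb [[2, 28, 1]],
 .nb [[1, 3, 9, 30]],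
 .nb [[1, 3, 4, 28]]]),
 ((nat_lit 0xb9f0cf0759cc5db33879911b4960), [.nb [[]],
 .fx 5 56,
 .nb [[1, 0, 24, 3]],
 .fx 1 14,
 .nb [[1, 22, 3]],
 .nb [[1, 3, 17]],
 .fx 14 9,
 .nb [[2, 43, 1]],
 .nb [[1, 3, 26], [1, 3, 29], [1, 3, 4, 37]],
 .nb [[1, 0, 13, 3]],
 .nb [[1, 3, 19]],
 .nb [[1, 33, 1]],
 .nb [[1, 3, 9, 3]],
 .nb [[1, 3, 27]],
 .nb [[1, 3, 16]],
 .nb [[1, 3, 9]],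
 .nb [[2, 0]],
 .nb [[1, 54, 2]],
 .nb [[1, 3, 8]],
 .nb [[1, 3, 41]],
 .nb [[1, 3, 6, 39]]]),
 ((nat_lit 0x10803bdfce632e384d3ce2d58b692), [.nb [[]],
 .fx 1 56,
 .nb [[1, 22, 3]],
 .fx 24 10,
 .nb [[1, 3, 5, 10]],
 .nb [[1, 7, 1]],
 .nb [[2, 33, 2], [1, 3, 28], [2, 11, 2], [1, 3, 33], [1, 3, 23], [2, 28, 1], [1, 3, 5, 8], [1, 47, 2]],
 .nb [[3, 1, 32]],
 .nb [[2, 35, 3]],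
 .nb [[1, 3, 5, 8]],
 .nb [[2, 4, 3]],
 .fx 82 2,
 .nb [[1, 3, 33]],
 .nb [[1, 3, 29]],
 .nb [[1, 3, 28]],
 .nb [[3, 1, 38]],
 .nb [[2, 11, 2]],
 .nb [[1, 3, 10]],
 .nb [[1, 3, 5, 17]]]),
 ((nat_lit 0x11803ed8766dec3a27a4ca558fe42), [.fx 1 56,
 .nb [[1, 22, 3]],
 .fx 24 10,
 .nb [[1, 3, 5, 10]],
 .nb [[1, 7, 1]],
 .nb [[1, 3, 11], [1, 3, 24], [1, 3, 9, 3], [1, 3, 33], [1, 3, 23], [1, 3, 40], [1, 3, 5, 8], [1, 47, 2]],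
 .nb [[2, 4, 3]],
 .nb [[1, 22, 2]],
 .nb [[1, 3, 5, 8]],
 .nb [[1, 47, 2]],
 .nb [[3, 6]],
 .fx 66 2,
 .nb [[1, 3, 11]],
 .nb [[2, 47, 1]],
 .nb [[1, 3, 9, 3]],
 .nb [[1, 3, 4]],
 .nb [[1, 3, 12]],
 .nb [[1, 3, 10]],
 .nb [[1, 3, 29]]]),
 ((nat_lit 0x11800fd7fc6fce1a6b9ca8918e8d0), [.nb [[]],
 .fx 4 56,
 .nb [[1, 23, 2]],
 .fx 9 14,
 .nb [[1, 3, 5]],
 .nb [[1, 33, 1]],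
 .fx 20 12,
 .nb [[1, 36, 3]],
 .nb [[1, 47, 2]],
 .nb [[1, 3, 18], [1, 45, 3]],
 .nb [[2, 47, 1]],
 .nb [[1, 3, 33]],
 .nb [[1, 3, 6, 39]],
 .nb [[1, 3, 24]],
 .nb [[1, 3, 9, 30]],
 .nb [[3, 1, 38]],
 .nb [[1, 3, 6, 53]],
 .nb [[1, 15, 2]]]),
 ((nat_lit 0x1a9d3af846f12c791527c3559b602), [.nb [[]],
 .fx 1 56,
 .nb [[1, 22, 3]],
 .fx 5 14,
 .nb [[1, 0, 24, 3]],
 .nb [[1, 3, 17]],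
 .fx 9 10,
 .nb [[1, 3, 5]],
 .nb [[1, 11, 3]],
 .nb [[2, 33, 2], [1, 3]],
 .nb [[1, 3, 33]],
 .nb [[1, 3, 32]],
 .nb [[1, 3, 7, 45]],
 .nb [[1, 3, 5, 8]],
 .nb [[1, 7, 1]],
 .nb [[1, 3, 41]],
 .nb [[1, 3, 23]],
 .nb [[2, 4, 3]],
 .nb [[1, 54, 2]],
 .nb [[3, 1, 36]]])]
theorem ex_8 : exAll 275 9 nx D 20160 ex2_8 = true := by decide +kernel
noncomputable def ex2_9 : List (ℕ × List Ins) := [((nat_lit 0x1a9d0bf7ccf30e59591fa1919a090), [.nb [[]],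
 .fx 4 56,
 .nb [[1, 23, 2]],
 .fx 9 14,
 .nb [[1, 3, 5]],
 .nb [[1, 3, 16]],
 .fx 7 9,
 .nb [[3, 1, 37]],
 .nb [[1, 15, 2], [1, 3]],
 .nb [[1, 3, 17]],
 .nb [[1, 3, 4]],
 .nb [[1, 3, 28]],
 .nb [[2, 28, 1]],
 .nb [[1, 3, 6, 39]],
 .nb [[1, 3, 33]],
 .nb [[2, 47, 1]],
 .nb [[1, 3, 30]],
 .nb [[1, 3, 9, 30]],
 .nb [[1, 0, 13, 3]]]),
 ((nat_lit 0x1b9d0ef074fdcc5b338789119e840), [.nb [[]],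
 .fx 6 56,
 .nb [[3, 1, 15]],
 .fx 21 14,
 .nb [[1, 24, 3]],
 .fx 90 2,
 .nb [[1, 3, 23]],
 .fx 20 10,
 .nb [[1, 36, 3]],
 .nb [[1, 3, 29], [2, 28, 1]],
 .nb [[1, 3, 5, 8]],
 .nb [[1, 5, 1]],
 .nb [[3, 1, 32]],
 .nb [[1, 12, 2]],
 .nb [[2, 31, 3]],
 .nb [[1, 3, 8]],
 .nb [[2, 43, 1]],
 .nb [[1, 47, 2]],
 .nb [[1, 7, 1]],
 .nb [[1, 0, 13, 3]]]),
 ((nat_lit 0x10827ad847613db88524d27fab72e), [.nb [[]],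
 .fx 1 56,
 .nb [[1, 22, 3]],
 .fx 5 10,
 .nb [[1, 0, 24, 3]],
 .fx 109 2,
 .nb [[1, 3, 17]],
 .fx 24 9,
 .nb [[1, 3, 5, 10]],
 .nb [[1, 7, 1]],
 .nb [[2, 43, 1], [2, 12, 3]],
 .nb [[1, 54, 2]],
 .nb [[1, 3, 25]],
 .nb [[1, 3, 33]],
 .nb [[1, 3]],
 .nb [[1, 47, 2]],
 .nb [[1, 3, 27]],
 .nb [[1, 43, 2]],
 .nb [[1, 32, 2]],
 .nb [[2, 4, 3]]]),
 ((nat_lit 0x10824bd7cd631f98c91cb0bbaa1bc), [.nb [[]],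
 .fx 2 56,
 .nb [[1, 3, 47]],
 .fx 7 14,
 .nb [[3, 1, 37]],
 .nb [[1, 47, 2]],
 .fx 19 12,
 .nb [[1, 3, 4, 50]],
 .nb [[2, 35, 3], [1, 3, 9], [1, 3, 4, 28]],
 .nb [[1, 2, 47, 3]],
 .nb [[1, 3, 12]],
 .nb [[2, 4, 3]],
 .nb [[1, 3, 5, 10]],
 .nb [[3, 1, 36]],
 .nb [[1, 33, 1]],
 .nb [[3, 12]],
 .nb [[1, 3, 33]],
 .nb [[1, 3, 4]],
 .nb [[1, 3, 9, 30]],
 .nb [[3, 1, 10]]]),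
 ((nat_lit 0x11824ed0756ddd9aa384983bae96c), [.fx 2 56,
 .nb [[1, 3, 47]],
 .nb [[1, 3, 4, 50], [2, 12, 3], [2, 47, 1], [1, 3, 8], [1, 3, 10], [1, 3, 24], [1, 3, 12], [1, 3, 33], [1, 3, 4], [1, 7, 1], [1, 3, 40], [1, 43, 2], [1, 33, 1], [1, 47, 2]],
 .nb [[1, 9, 39]],
 .nb [[1, 3]],
 .fx 19 2,
 .nb [[1, 3, 4, 50]],
 .fx 94 2,
 .nb [[1, 3, 40]],
 .nb [[1, 54, 2]],
 .nb [[1, 3, 24]],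
 .nb [[2, 5, 3]],
 .nb [[1, 50]],
 .fx 62 2,
 .nb [[1, 3, 8]],
 .nb [[1, 3, 5, 8]],
 .nb [[2, 47, 1]],
 .nb [[1, 3, 10]],
 .nb [[2, 4, 3]],
 .nb [[1, 3, 12]],
 .nb [[3, 1, 12]]]),
 ((nat_lit 0x1a9f4af045f11dd99107913bba12c), [.nb [[]],
 .fx 2 56,
 .nb [[1, 3, 47]],
 .fx 19 14,
 .nb [[1, 3, 4, 50]],
 .fx 94 2,
 .nb [[1, 3, 40]],
 .fx 33 10,
 .nb [[2, 33, 2]],
 .nb [[1, 3, 49], [2, 38, 3], [2, 34, 1]],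
 .nb [[1, 43, 2]],
 .nb [[1, 3, 7]],
 .nb [[3, 1, 12]],
 .nb [[1, 3, 33]],
 .nb [[1, 3, 7, 45]],
 .nb [[1, 3, 8]],
 .nb [[1, 12, 2]],
 .nb [[1, 3]],
 .nb [[1, 3, 10]],
 .nb [[1, 3, 43]]]),
 ((nat_lit 0x4e0b9dfce02263c4d7ce6d5c1692), [.nb [[]],
 .fx 1 56,
 .nb [[1, 22, 3]],
 .fx 24 10,
 .nb [[1, 3, 5, 10]],
 .fx 93 2,
 .nb [[1, 7, 1]],
 .fx 33 9,
 .nb [[2, 33, 2]],
 .nb [[1, 24, 3], [1, 5, 1], [2, 34, 1]],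
 .nb [[1, 3, 28]],
 .nb [[1, 3, 4]],
 .nb [[1, 3, 6]],
 .nb [[2, 28, 1]],
 .nb [[2, 5, 2]],
 .nb [[1, 3, 11, 4]],
 .nb [[1, 41, 3]],
 .nb [[3, 37, 1]],
 .nb [[1, 3, 5, 8]]]),
 ((nat_lit 0x5e0bcd8760ce43e27e4ce55c5e42), [.nb [[]],
 .fx 1 56,
 .nb [[1, 22, 3]],
 .fx 24 10,
 .nb [[1, 3, 5, 10]],
 .fx 93 2,
 .nb [[1, 7, 1]],
 .fx 54 9,
 .nb [[1, 3, 11, 4]],
 .nb [[1, 3, 9]],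
 .nb [[1, 3, 23]],
 .nb [[3, 1, 28]],
 .nb [[1, 15, 2]],
 .nb [[1, 3, 11]],
 .nb [[1, 33, 1]],
 .nb [[1, 3, 40]],
 .nb [[1, 3, 24]],
 .nb [[1, 3, 9, 3]],
 .nb [[1, 3, 33]],
 .nb [[2, 47, 1]]]),
 ((nat_lit 0x5e08dd7fc0ec61e6bdcac91c48d0), [.nb [[]],
 .fx 4 56,
 .nb [[1, 23, 2]],
 .fx 9 14,
 .nb [[1, 3, 5]],
 .nb [[1, 33, 1]],
 .fx 20 12,
 .nb [[1, 36, 3]],
 .nb [[2, 47, 1], [1, 3, 6, 53], [2, 28, 1]],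
 .nb [[1, 3, 11]],
 .nb [[1, 15, 2]],
 .nb [[2, 47, 1]],
 .nb [[1, 3, 5, 8]],
 .nb [[2, 33, 2]],
 .nb [[1, 3, 6, 53]],
 .nb [[1, 2, 47, 3]],
 .nb [[1, 9, 3]],
 .nb [[2, 43, 1]],
 .nb [[1, 3, 33]],
 .nb [[1, 54, 2]]]),
 ((nat_lit 0xefdb8f84690247d1567c755d1602), [.nb [[]],
 .fx 1 56,
 .nb [[1, 22, 3]],
 .fx 5 14,
 .nb [[1, 0, 24, 3]],
 .nb [[1, 5, 1], [1, 3, 9], [1, 3, 9, 30], [1, 3, 19], [3, 1, 24], [1, 3, 6], [1, 3, 6, 53], [1, 33, 1]],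
 .nb [[1, 3, 11, 4]],
 .nb [[1, 3, 16]],
 .nb [[2, 47, 3]],
 .nb [[1, 3, 17]],
 .nb [[1, 3, 5, 14]],
 .nb [[1, 2, 47, 1]],
 .nb [[1, 2, 13]],
 .fx 100 2,
 .nb [[1, 0, 13, 3]],
 .nb [[2, 47, 1]],
 .nb [[1, 3, 7]],
 .nb [[1, 3, 8, 3]],
 .nb [[1, 43, 2]],
 .nb [[1, 3, 31]],
 .nb [[1, 3, 5, 10]]]),
 ((nat_lit 0xefd89f7cc92065d595fa591d0090), [.nb [[]],
 .fx 4 56,
 .nb [[1, 23, 2]],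
 .fx 9 14,
 .nb [[1, 3, 5]],
 .nb [[1, 3, 16]],
 .fx 7 9,
 .nb [[3, 1, 37]],
 .nb [[1, 15, 2], [1, 3], [1, 47, 2]],
 .nb [[1, 3, 30]],
 .nb [[1, 3, 5, 14]],
 .nb [[1, 0, 13, 3]],
 .nb [[2, 38, 3]],
 .nb [[2, 33, 2]],
 .nb [[1, 3, 6, 9]],
 .nb [[1, 11, 53]],
 .nb [[1, 3, 5, 8]],
 .nb [[1, 3, 6, 39]],
 .nb [[1, 3, 9, 30]],
 .nb [[2, 28, 1]]]),
 ((nat_lit 0xffd8cf0749cc45f33c78d11d4840), [.nb [[]],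
 .fx 6 56,
 .nb [[3, 1, 15]],
 .fx 21 14,
 .nb [[1, 24, 3]],
 .fx 90 2,
 .nb [[1, 3, 23]],
 .fx 20 10,
 .nb [[1, 36, 3]],
 .nb [[1, 3, 32], [1, 3, 19], [1, 3, 40]],
 .nb [[1, 5, 1]],
 .nb [[2, 31, 3]],
 .nb [[1, 3, 5, 8]],
 .nb [[1, 32, 2]],
 .nb [[2, 5, 3]],
 .nb [[1, 9, 3]],
 .nb [[2, 43, 1]],
 .nb [[2, 47, 1]],
 .nb [[1, 12, 2]],
 .nb [[1, 3, 4]]]),
 ((nat_lit 0x4e2f8d8470035bc8564d67fe172e), [.fx 1 56,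
 .nb [[1, 22, 3]],
 .fx 5 10,
 .nb [[1, 0, 24, 3]],
 .nb [[2, 5, 2]],
 .nb [[1, 3, 5, 10], [1, 3, 25], [1, 3, 11, 4], [1, 3, 27], [1, 3, 33], [1, 3, 23], [1, 3, 5, 8], [1, 3]],
 .nb [[1, 35, 2]],
 .nb [[2, 41, 1]],
 .nb [[1, 3, 27]],
 .nb [[1, 3, 11, 4]],
 .nb [[1, 4, 27]],
 .fx 82 2,
 .nb [[1, 3, 33]],
 .nb [[1, 3]],
 .nb [[1, 3, 6, 9]],
 .nb [[3, 1, 23]],
 .nb [[1, 3, 29]],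
 .nb [[1, 3, 5, 10]],
 .nb [[1, 43, 2]]]),
 ((nat_lit 0x4e2c9d7cd02179cc95cb4bbe01bc), [.nb [[]],
 .fx 2 56,
 .nb [[1, 3, 47]],
 .fx 7 14,
 .nb [[3, 1, 37]],
 .nb [[1, 9, 3]],
 .fx 19 12,
 .nb [[1, 3, 4, 50]],
 .nb [[2, 5, 3], [1, 3, 29], [1, 3, 41]],
 .nb [[1, 2, 47, 3]],
 .nb [[2, 5, 2]],
 .nb [[2, 4, 3]],
 .nb [[2, 34, 1]],
 .nb [[1, 3, 40]],
 .nb [[2]],
 .nb [[1, 3, 6, 53]],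
 .nb [[1, 3, 11, 4]],
 .nb [[3, 1, 24]],
 .nb [[1, 3, 13]]]),
 ((nat_lit 0x5e2ccd0750cd59ea3c49c3be496c), [.fx 2 56,
 .nb [[1, 3, 47]],
 .nb [[1, 3, 4, 50], [2, 12, 3], [1, 3, 11, 4], [2, 47, 1], [1, 3, 8], [1, 3, 24], [1, 3, 33], [1, 3, 4], [1, 3, 40], [1, 3, 4, 37], [1, 9, 3], [1, 43, 2], [1, 33, 1], [2, 5, 2]],
 .nb [[1, 4, 4]],
 .nb [[1, 3]],
 .fx 19 2,
 .nb [[1, 3, 4, 50]],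
 .fx 94 2,
 .nb [[1, 3, 40]],
 .nb [[1, 54, 2]],
 .nb [[2, 5, 3]],
 .nb [[1, 50]],
 .fx 62 2,
 .nb [[1, 3, 8]],
 .nb [[3, 1, 12]],
 .nb [[1, 3, 33]],
 .nb [[2, 5, 2]],
 .nb [[1, 3, 44]],
 .nb [[1, 3, 11, 4]],
 .nb [[1, 3, 5, 8]]]),
 ((nat_lit 0xeffc8f0459015dd9147953bf012c), [.nb [[]],
 .fx 2 56,
 .nb [[1, 3, 47]],
 .fx 19 14,
 .nb [[1, 3, 4, 50]],
 .fx 94 2,
 .nb [[1, 3, 40]],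
 .fx 33 10,
 .nb [[2, 33, 2]],
 .nb [[1, 24, 3], [1, 45, 3], [3, 1, 39]],
 .nb [[1, 43, 2]],
 .nb [[1, 12, 2]],
 .nb [[3, 1, 36]],
 .nb [[1, 3, 4]],
 .nb [[1, 3, 30]],
 .nb [[2, 47, 1]],
 .nb [[1, 3, 7]],
 .nb [[1, 3]],
 .nb [[1, 3, 11, 4]],
 .nb [[1, 3, 25]]])]
theorem ex_9 : exAll 275 9 nx D 20160 ex2_9 = true := by decide +kernel
noncomputable def ex2_10 : List (ℕ × List Ins) := [((nat_lit 0x14e0fad846613c3c8564c67fcb60e), [.fx 1 56,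
 .nb [[1, 22, 3]],
 .fx 24 10,
 .nb [[1, 3, 5, 10]],
 .nb [[1, 3, 25], [1, 3, 11, 4], [1, 3, 33], [1, 3, 23], [1, 3, 5, 8], [1, 3], [2, 5, 2], [1, 47, 2]],
 .nb [[3, 1, 32]],
 .nb [[2, 35, 3]],
 .nb [[1, 47, 2]],
 .nb [[1, 3, 5, 8]],
 .nb [[3, 6]],
 .fx 51 2,
 .nb [[1, 3, 25]],
 .nb [[1, 3, 23]],
 .nb [[1, 3, 12]],
 .nb [[2, 5, 2]],
 .nb [[1, 3, 10]],
 .nb [[1, 3, 43]],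
 .nb [[1, 43, 2]]]),
 ((nat_lit 0x14e0cbd7cc631e1cc95ca4bbca09c), [.nb [[]],
 .fx 2 56,
 .nb [[1, 3, 47]],
 .fx 26 12,
 .nb [[1, 3, 26]],
 .nb [[1, 3, 4]],
 .fx 34 10,
 .nb [[2, 4, 2]],
 .nb [[1, 3, 33]],
 .nb [[1, 3, 14], [3, 1, 38], [3, 1, 23]],
 .nb [[1, 3, 5, 8]],
 .nb [[1, 3, 14]],
 .nb [[1, 51, 3]],
 .nb [[1, 43, 2]],
 .nb [[1, 3, 8]],
 .nb [[3, 1, 38]],
 .nb [[1, 3, 43]],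
 .nb [[1, 3, 12]],
 .nb [[1, 3, 10]],
 .nb [[1, 3, 11, 4]],
 .nb [[1, 9, 3]]]),
 ((nat_lit 0x15e0ced0746ddc1ea3c48c3bce84c), [.nb [[]],
 .fx 2 56,
 .nb [[1, 3, 47]],
 .fx 7 12,
 .nb [[3, 1, 37]],
 .fx 106 2,
 .nb [[1, 9, 3]],
 .fx 6 10,
 .nb [[3, 1, 15]],
 .nb [[3, 1, 28]],
 .nb [[2, 4, 3], [1, 54, 2], [3, 1, 23]],
 .nb [[1, 2, 47, 3]],
 .nb [[2, 5, 2]],
 .nb [[1, 49, 2]],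
 .nb [[1, 33, 1]],
 .nb [[1, 3, 24]],
 .nb [[1, 0, 5]],
 .nb [[1, 3, 8]],
 .nb [[1, 3, 4]],
 .nb [[1, 15, 2]],
 .nb [[1, 7, 1]]]),
 ((nat_lit 0x1efdcaf044f11c5d9147853bda00c), [.nb [[]],
 .fx 2 56,
 .nb [[1, 3, 47]],
 .fx 7 12,
 .nb [[3, 1, 37]],
 .fx 106 2,
 .nb [[1, 9, 3]],
 .fx 13 10,
 .nb [[1, 2, 14, 1]],
 .nb [[1, 3, 43]],
 .nb [[1, 3, 26]],
 .nb [[1, 3, 30]],
 .nb [[1, 3, 16]],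
 .nb [[1, 3, 8]],
 .nb [[1, 12, 2]],
 .nb [[2, 4, 3]],
 .nb [[1, 3, 12]],
 .nb [[2, 47, 1]],
 .nb [[1, 3, 4, 37]],
 .nb [[1, 3, 10]],
 .nb [[1, 43, 2]],
 .nb [[1, 3, 7, 45]]]),
 ((nat_lit 0x14e2bad847612dbc0564d655eb722), [.fx 1 56,
 .nb [[1, 22, 3]],
 .fx 5 10,
 .nb [[1, 0, 24, 3]],
 .nb [[2, 5, 2]],
 .nb [[1, 3, 5, 10], [1, 3, 11, 4], [1, 3, 27], [1, 3, 33], [1, 3, 23], [1, 7, 1], [1, 3, 5, 8], [1, 47, 2]],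
 .nb [[1, 35, 2]],
 .nb [[2, 41, 1]],
 .nb [[1, 2, 47, 1]],
 .nb [[1, 4, 27]],
 .fx 24 2,
 .nb [[1, 3, 5, 10]],
 .nb [[1, 7, 1]],
 .nb [[1, 3, 4, 37]],
 .nb [[3, 1, 23]],
 .nb [[1, 3, 29]],
 .nb [[1, 3, 33]],
 .nb [[1, 32, 2]]]),
 ((nat_lit 0x14e28bd7cd630f9c495cb491ea1b0), [.nb [[]],
 .fx 4 56,
 .nb [[1, 23, 2]],
 .fx 9 14,
 .nb [[1, 3, 5]],
 .fx 104 2,
 .nb [[1, 3, 16]],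
 .fx 14 11,
 .nb [[2, 43, 1]],
 .nb [[2, 11, 2], [1, 51, 3], [1, 3, 13]],
 .nb [[1, 3]],
 .nb [[1, 3, 4]],
 .nb [[1, 43, 2]],
 .nb [[3, 37, 1]],
 .nb [[1, 3, 13]],
 .nb [[1, 3, 8]],
 .nb [[2, 33]],
 .nb [[2, 34, 1]],
 .nb [[2, 47, 1]],
 .nb [[2, 4, 3]],
 .nb [[1, 3, 6]]]),
 ((nat_lit 0x15e28ed0756dcd9e23c49c11ee960), [.nb [[]],
 .fx 5 56,
 .nb [[1, 0, 24, 3]],
 .fx 1 12,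
 .nb [[1, 22, 3]],
 .nb [[2, 5, 2]],
 .fx 26 10,
 .nb [[1, 3, 26]],
 .nb [[1, 3, 23], [1, 3, 5, 8]],
 .nb [[1, 47, 2]],
 .nb [[1, 3, 5, 8]],
 .nb [[1, 3, 44]],
 .nb [[1, 3, 6, 39]],
 .nb [[1, 54, 2]],
 .nb [[1, 3, 6, 9]],
 .nb [[1, 3, 19]],
 .nb [[1, 3, 4, 37]],
 .nb [[3, 1, 36]],
 .nb [[1, 3, 27]],
 .nb [[1, 9, 3]]]),
 ((nat_lit 0x1eff8af045f10ddd11479511fa120), [.nb [[]],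
 .fx 5 56,
 .nb [[1, 0, 24, 3]],
 .fx 1 12,
 .nb [[1, 22, 3]],
 .fx 109 2,
 .nb [[1, 3, 17]],
 .nb [[1, 3, 45], [1, 3, 4, 50], [1, 36, 3], [2, 47, 3], [1, 45, 3], [1, 3, 10], [1, 3, 14], [1, 3, 4]],
 .nb [[1, 3, 27]],
 .nb [[1, 3, 11, 4]],
 .nb [[1, 3, 5, 14]],
 .nb [[1, 3, 7, 45]],
 .nb [[2, 47, 3]],
 .nb [[1, 4, 27]],
 .fx 35 2,
 .nb [[1, 3, 6, 39]],
 .nb [[1, 47, 2]],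
 .nb [[1, 3, 6, 9]],
 .nb [[1, 9, 3]],
 .nb [[1, 3, 4, 28]],
 .nb [[1, 0, 13, 3]],
 .nb [[2, 47, 1]]]),
 ((nat_lit 0x2730f8f033bb0cd3872fe237be), [.nb [[]],
 .fx 1 56,
 .nb [[1, 22, 3]],
 .fx 5 10,
 .nb [[1, 0, 24, 3]],
 .fx 109 2,
 .nb [[1, 3, 17]],
 .fx 24 9,
 .nb [[1, 3, 5, 10]],
 .nb [[1, 7, 1]],
 .nb [[1, 3, 6], [1, 3, 29]],
 .nb [[2, 4, 3]],
 .nb [[1, 3, 27]],
 .nb [[1, 3, 6]],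
 .nb [[1, 3, 28]],
 .nb [[1, 3, 6, 53]],
 .nb [[2, 33, 2]],
 .nb [[2, 28, 1]],
 .nb [[1, 3]],
 .nb [[3, 1, 36]],
 .nb [[3, 1, 24]]]),
 ((nat_lit 0x1027608370df9b2a7a05a7e27f6e), [.nb [[]],
 .fx 1 56,
 .nb [[1, 22, 3]],
 .fx 5 10,
 .nb [[1, 0, 24, 3]],
 .fx 109 2,
 .nb [[1, 3, 17]],
 .fx 24 9,
 .nb [[1, 3, 5, 10]],
 .nb [[1, 7, 1]],
 .nb [[1, 3, 4, 50]],
 .nb [[1, 3, 19]],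
 .nb [[1, 33, 1]],
 .nb [[1, 3, 40]],
 .nb [[1, 3, 24]],
 .nb [[1, 2, 47, 1]],
 .nb [[1, 3, 9, 3]],
 .nb [[1, 3, 11]],
 .nb [[2, 4, 3]],
 .nb [[1, 3]]]),
 ((nat_lit 0x100370fbe0fea326fb86ad407ed2), [.fx 1 56,
 .nb [[1, 22, 3]],
 .fx 24 10,
 .nb [[1, 3, 5, 10]],
 .nb [[1, 7, 1]],
 .nb [[2, 33, 2], [1, 3, 28], [2, 11, 2], [1, 3, 11], [1, 3, 24], [1, 3, 9, 3], [2, 28, 1], [1, 3, 40]],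
 .nb [[1, 14]],
 .nb [[2, 4, 3]],
 .nb [[2, 35, 3]],
 .nb [[1, 22, 2]],
 .nb [[1, 3, 5, 8]],
 .nb [[3, 6]],
 .fx 66 2,
 .nb [[1, 3, 11]],
 .nb [[2, 28, 1]],
 .nb [[1, 3, 6]],
 .nb [[1, 3, 40]],
 .nb [[2, 33, 2]],
 .nb [[1, 2, 14, 1]],
 .nb [[3, 1, 37]]]),
 ((nat_lit 0x1024707bd0fdb92eb9838ba269fc), [.nb [[]],
 .fx 2 56,
 .nb [[1, 3, 47]],
 .fx 7 10,
 .nb [[3, 1, 37]],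
 .fx 106 2,
 .nb [[1, 9, 3]],
 .fx 27 9,
 .nb [[3, 1, 10]],
 .nb [[1, 7, 1]],
 .nb [[1, 3, 8, 3], [1, 3, 29]],
 .nb [[1, 51, 3]],
 .nb [[1, 3, 9, 30]],
 .nb [[3, 1, 24]],
 .nb [[1, 2, 47, 3]],
 .nb [[2, 40]],
 .nb [[2, 12, 3]],
 .nb [[1, 3, 24]],
 .nb [[1, 3, 5, 10]],
 .nb [[2, 34, 1]]]),
 ((nat_lit 0xa1f7228079139f19523537e3372e), [.nb [[]],
 .fx 1 56,
 .nb [[1, 22, 3]],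
 .fx 33 14,
 .nb [[2, 33, 2]],
 .nb [[1, 3, 30]],
 .fx 9 12,
 .nb [[1, 3, 5]],
 .nb [[1, 3, 7, 45]],
 .nb [[1, 3, 21], [1, 35, 2]],
 .nb [[1, 3]],
 .nb [[1, 3, 5, 10]],
 .nb [[1, 3, 41]],
 .nb [[2, 38, 3]],
 .nb [[1, 3, 27]],
 .nb [[3, 1, 39]],
 .nb [[1, 3, 25]],
 .nb [[3, 1, 36]],
 .nb [[1, 45, 3]]]),
 ((nat_lit 0xa1d332f8e932a715d3b63d413692), [.nb [[]],
 .fx 1 56,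
 .nb [[1, 22, 3]],
 .fx 5 14,
 .nb [[1, 0, 24, 3]],
 .fx 26 12,
 .nb [[1, 3, 26]],
 .nb [[1, 3, 4, 28]],
 .nb [[1, 3, 5, 10], [1, 3, 28]],
 .nb [[1, 7, 1]],
 .nb [[1, 3, 41]],
 .nb [[1, 3, 8, 3]],
 .nb [[1, 3, 6, 53]],
 .nb [[1, 0, 13, 3]],
 .nb [[2, 11, 2]],
 .nb [[3, 1, 24]],
 .nb [[1, 3, 7]],
 .nb [[1, 12, 2]],
 .nb [[3, 1, 36]],
 .nb [[1, 3, 32]]]),
 ((nat_lit 0xa1f43278d931bd1d91b31ba321bc), [.nb [[]],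
 .fx 2 56,
 .nb [[1, 3, 47]],
 .fx 7 10,
 .nb [[3, 1, 37]],
 .fx 106 2,
 .nb [[1, 9, 3]],
 .fx 27 9,
 .nb [[3, 1, 10]],
 .nb [[1, 7, 1]],
 .nb [[1, 3, 5, 53], [1, 3, 14]],
 .nb [[1, 12, 2]],
 .nb [[1, 3, 6, 53]],
 .nb [[1, 3, 10]],
 .nb [[1, 3]],
 .nb [[1, 2, 47, 3]],
 .nb [[1, 3, 17]],
 .nb [[1, 51, 3]],
 .nb [[1, 3, 9, 30]],
 .nb [[1, 3, 30]]]),
 ((nat_lit 0xb1d3628369de87337a34b5417e42), [.nb [[]],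
 .fx 1 56,
 .nb [[1, 22, 3]],
 .fx 5 14,
 .nb [[1, 0, 24, 3]],
 .nb [[1, 3, 17]],
 .fx 26 12,
 .nb [[1, 3, 26]],
 .nb [[1, 3, 4, 28]],
 .nb [[2, 31, 3], [1, 3, 18]],
 .nb [[1, 3, 11]],
 .nb [[1, 3, 40]],
 .nb [[1, 3, 8, 3]],
 .nb [[2, 4, 3]],
 .nb [[1, 3, 30]],
 .nb [[1, 3, 24]],
 .nb [[1, 3, 5, 10]],
 .nb [[1, 3, 31]],
 .nb [[1, 5, 1]]])]
theorem ex_10 : exAll 275 9 nx D 20160 ex2_10 = true := by decide +kernel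
noncomputable def ex2_11 : List (ℕ × List Ins) := [((nat_lit 0xb1f4620359dd9d3b383193a3696c), [.fx 2 56,
 .nb [[1, 3, 47]],
 .fx 45 10,
 .nb [[2, 12, 3]],
 .nb [[1, 3, 24]],
 .nb [[1, 12, 2], [1, 3, 10], [1, 3, 7], [1, 7, 1], [1, 3, 40], [1, 3, 7, 45], [1, 33, 1], [1, 3, 30]],
 .nb [[2, 5, 3]],
 .nb [[1, 24, 3]],
 .nb [[1, 3, 49]],
 .nb [[1, 3, 9]],
 .fx 68 2,
 .nb [[1, 3, 10]],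
 .nb [[1, 3, 9, 3]],
 .nb [[1, 3, 30]],
 .nb [[3, 1, 32]],
 .nb [[1, 3, 7, 45]],
 .nb [[1, 3, 17]],
 .nb [[1, 3, 18]]]),
 ((nat_lit 0xb1d0727bc9fca537b9b2990168d0), [.nb [[]],
 .fx 4 56,
 .nb [[1, 23, 2]],
 .fx 9 14,
 .nb [[1, 3, 5]],
 .fx 104 2,
 .nb [[1, 3, 16]],
 .nb [[3, 1, 37], [2, 31, 3], [1, 2, 14, 1], [3, 1, 10], [2, 5, 3], [1, 5, 1], [3, 37, 1], [3, 1, 36]],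
 .nb [[1, 3, 24]],
 .nb [[2, 38, 3]],
 .nb [[1, 3, 7]],
 .nb [[2, 43, 1]],
 .nb [[3, 1, 24]],
 .nb [[1, 3, 8, 3]],
 .nb [[1, 12, 28]],
 .nb [[1, 3, 28]],
 .nb [[2, 28, 1]],
 .nb [[1, 0, 13, 3]],
 .nb [[1, 3, 41]]]),
 ((nat_lit 0x4e2f2d847013dbc8560567ee372e), [.fx 1 56,
 .nb [[1, 22, 3]],
 .fx 5 10,
 .nb [[1, 0, 24, 3]],
 .nb [[2, 5, 2]],
 .nb [[1, 3, 5, 10], [1, 3, 25], [1, 3, 11, 4], [1, 3, 27], [1, 3, 33], [1, 3, 23], [1, 7, 1], [1, 3]],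
 .nb [[2, 4, 3]],
 .nb [[1, 3, 8]],
 .nb [[1, 35, 2]],
 .nb [[1, 3, 5, 10]],
 .nb [[1, 3, 27]],
 .nb [[1, 3, 11, 4]],
 .nb [[1, 3, 5, 14]],
 .nb [[1, 3, 26]],
 .nb [[1, 3, 23]],
 .nb [[1, 3, 25]],
 .nb [[3, 1, 23]]]),
 ((nat_lit 0x4e0b3dfce032e3c4d7866d4c3692), [.nb [[]],
 .fx 1 56,
 .nb [[1, 22, 3]],
 .fx 24 10,
 .nb [[1, 3, 5, 10]],
 .nb [[1, 7, 1]],
 .nb [[2, 33, 2], [1, 3, 28], [2, 11, 2], [1, 3, 11, 4], [1, 3, 33], [1, 3, 23], [2, 28, 1], [2, 5, 2]],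
 .nb [[1, 3, 7, 45]],
 .nb [[3, 1, 32]],
 .nb [[2, 4, 3]],
 .nb [[1, 22, 2]],
 .nb [[2, 41]],
 .fx 82 2,
 .nb [[1, 3, 33]],
 .nb [[3, 37, 1]],
 .nb [[2, 11, 2]],
 .nb [[2, 33, 2]],
 .nb [[3, 1, 38]],
 .nb [[2, 5, 2]],
 .nb [[1, 2, 14, 1]]]),
 ((nat_lit 0x4e2c3d7cd031f9cc95834bae21bc), [.nb [[]],
 .fx 2 56,
 .nb [[1, 3, 47]],
 .fx 26 14,
 .nb [[1, 3, 26]],
 .nb [[1, 3, 4]],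
 .fx 5 12,
 .nb [[1, 0, 24, 3]],
 .nb [[3, 1, 23]],
 .nb [[1, 2, 14, 1]],
 .nb [[3, 1, 36]],
 .nb [[2, 47, 1]],
 .nb [[3, 1, 37]],
 .nb [[1, 3, 13]],
 .nb [[2, 5, 2]],
 .nb [[1, 3, 10]],
 .nb [[1, 3, 6, 53]],
 .nb [[1, 3, 4, 50]],
 .nb [[1, 3, 43]]]),
 ((nat_lit 0x5e0b6d8760dec3e27e04e54c7e42), [.nb [[]],
 .fx 1 56,
 .nb [[1, 22, 3]],
 .fx 24 10,
 .nb [[1, 3, 5, 10]],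
 .nb [[1, 7, 1]],
 .nb [[1, 3, 11, 4], [1, 3, 11], [1, 3, 24], [1, 3, 9, 3], [1, 3, 33], [1, 3, 23], [1, 3, 40], [2, 5, 2]],
 .nb [[1, 2, 33, 3]],
 .nb [[3, 1, 32]],
 .nb [[1, 22, 2]],
 .nb [[1, 47, 2]],
 .nb [[2, 41]],
 .fx 80 2,
 .nb [[1, 3, 9, 3]],
 .nb [[2, 47, 1]],
 .nb [[1, 3, 11]],
 .nb [[1, 3, 4]],
 .nb [[1, 3, 10]],
 .nb [[1, 3, 11, 4]],
 .nb [[1, 3, 29]]]),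
 ((nat_lit 0x5e2c6d0750ddd9ea3c01c3ae696c), [.nb [[]],
 .fx 2 56,
 .nb [[1, 3, 47]],
 .fx 7 14,
 .nb [[3, 1, 37]],
 .nb [[1, 9, 3]],
 .fx 24 12,
 .nb [[1, 3, 5, 10]],
 .nb [[1, 3, 18], [1, 3, 9]],
 .nb [[1, 33, 1]],
 .nb [[1, 3, 4, 50]],
 .nb [[2, 12, 3]],
 .nb [[1, 43, 2]],
 .nb [[1, 3]],
 .nb [[1, 52]],
 .nb [[2, 47, 1]],
 .nb [[1, 3, 33]],
 .nb [[1, 15, 2]],
 .nb [[1, 7, 1]]]),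
 ((nat_lit 0x5e087d7fc0fce1e6bd82c90c68d0), [.nb [[]],
 .fx 4 56,
 .nb [[1, 23, 2]],
 .fx 9 14,
 .nb [[1, 3, 5]],
 .nb [[1, 33, 1]],
 .fx 33 12,
 .nb [[2, 33, 2]],
 .nb [[1, 15, 2]],
 .nb [[2, 31, 3], [1, 3, 5, 14], [2, 5, 3]],
 .nb [[1, 3, 4, 37]],
 .nb [[1, 3, 24]],
 .nb [[1, 3, 9, 3]],
 .nb [[3, 1, 32]],
 .nb [[2, 4, 3]],
 .nb [[1, 3, 6]],
 .nb [[3, 1, 38]],
 .nb [[2, 47, 1]]]),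
 ((nat_lit 0xefdb2f846912c7d15634754d3602), [.nb [[]],
 .fx 1 56,
 .nb [[1, 22, 3]],
 .fx 5 14,
 .nb [[1, 0, 24, 3]],
 .fx 109 2,
 .nb [[1, 3, 17]],
 .nb [[1, 3, 5], [1, 2, 14, 1], [1, 11, 3], [2, 41, 1], [2, 38, 3], [3, 1, 39], [3, 1, 32], [1, 47, 3]],
 .nb [[1, 4, 27]],
 .nb [[1, 3, 5, 10]],
 .nb [[1, 7, 1]],
 .nb [[1, 3, 11, 4]],
 .nb [[1, 3, 16]],
 .nb [[1, 3, 29]],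
 .nb [[1, 3, 23]],
 .nb [[1, 3, 7]],
 .nb [[1, 3, 4, 37]],
 .nb [[1, 3, 6, 9]],
 .nb [[1, 43, 2]]]),
 ((nat_lit 0xeffc2f045911ddd9143153af212c), [.nb [[]],
 .fx 2 56,
 .nb [[1, 3, 47]],
 .fx 7 14,
 .nb [[3, 1, 37]],
 .nb [[1, 9, 3]],
 .fx 24 12,
 .nb [[1, 3, 5, 10]],
 .nb [[2, 38, 3], [1, 3, 4, 28]],
 .nb [[1, 3, 10]],
 .nb [[1, 3, 11, 4]],
 .nb [[3, 1, 12]],
 .nb [[1, 3, 7]],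
 .nb [[2, 47, 1]],
 .nb [[3, 1, 23]],
 .nb [[1, 7, 1]],
 .nb [[1, 12, 2]],
 .nb [[1, 3, 30]],
 .nb [[2, 34, 1]],
 .nb [[1, 3, 7, 45]]]),
 ((nat_lit 0xefd83f7cc930e5d595b2590d2090), [.nb [[]],
 .fx 4 56,
 .nb [[1, 23, 2]],
 .fx 9 14,
 .nb [[1, 3, 5]],
 .nb [[1, 3, 16]],
 .fx 7 9,
 .nb [[3, 1, 37]],
 .nb [[1, 15, 2], [1, 3], [1, 47, 2]],
 .nb [[1, 3, 30]],
 .nb [[1, 3, 8]],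
 .nb [[1, 3, 28]],
 .nb [[2, 28, 1]],
 .nb [[2, 47, 1]],
 .nb [[3, 1, 24]],
 .nb [[1, 0, 13, 3]],
 .nb [[3, 1, 32]],
 .nb [[1, 7, 1]]]),
 ((nat_lit 0xffd86f0749dcc5f33c30d10d6840), [.nb [[]],
 .fx 6 56,
 .nb [[3, 1, 15]],
 .fx 21 14,
 .nb [[1, 24, 3]],
 .fx 90 2,
 .nb [[1, 3, 23]],
 .nb [[3, 1, 22], [2, 12, 3], [2, 38, 3], [2, 4, 3], [1, 3, 9], [1, 3, 7], [3, 1, 36], [1, 3, 7, 45]],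
 .nb [[2, 43, 1]],
 .nb [[1, 43, 2]],
 .nb [[2, 5, 3]],
 .nb [[1, 5, 49]],
 .fx 68 2,
 .nb [[1, 3, 10]],
 .nb [[1, 5, 1]],
 .nb [[1, 3, 17]],
 .nb [[3, 1, 28]],
 .nb [[2, 5, 2]],
 .nb [[1, 3, 11, 4]],
 .nb [[1, 3, 5, 14]]]),
 ((nat_lit 0x1002790f8b6233a0cc3cf2ef297be), [.nb [[]],
 .fx 1 56,
 .nb [[1, 22, 3]],
 .fx 5 10,
 .nb [[1, 0, 24, 3]],
 .fx 109 2,
 .nb [[1, 3, 17]],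
 .fx 33 9,
 .nb [[2, 33, 2]],
 .nb [[1, 3, 6], [1, 3, 6, 53]],
 .nb [[1, 32, 2]],
 .nb [[2, 11, 2]],
 .nb [[1, 3, 6, 53]],
 .nb [[3, 37, 1]],
 .nb [[1, 47, 2]],
 .nb [[2, 28, 1]],
 .nb [[1, 3, 25]],
 .nb [[1, 3, 27]],
 .nb [[3, 1, 24]],
 .nb [[1, 3, 28]],
 .nb [[1, 3]]]),
 ((nat_lit 0x11027c08336cf1a2a6a4da6f2df6e), [.nb [[]],
 .fx 1 56,
 .nb [[1, 22, 3]],
 .fx 5 10,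
 .nb [[1, 0, 24, 3]],
 .fx 109 2,
 .nb [[1, 3, 17]],
 .fx 51 9,
 .nb [[1, 3, 25]],
 .nb [[1, 3, 19]],
 .nb [[1, 3, 5, 8]],
 .nb [[1, 47, 2]],
 .nb [[1, 33, 1]],
 .nb [[1, 4, 1]],
 .nb [[1, 5, 1]],
 .nb [[1, 3, 9, 3]],
 .nb [[1, 3, 24]],
 .nb [[1, 3, 9]],
 .nb [[1, 3]],
 .nb [[1, 3, 6, 39]]]),
 ((nat_lit 0x11003d0fba6ee2226ebceac50ded2), [.fx 1 56,
 .nb [[1, 22, 3]],
 .fx 33 10,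
 .nb [[2, 33, 2]],
 .nb [[1, 3, 9, 3]],
 .nb [[1, 3, 28], [2, 11, 2], [1, 3, 11], [1, 3, 24], [2, 28, 1], [1, 3, 40], [1, 3, 5, 8], [1, 47, 2]],
 .nb [[1, 5, 1]],
 .nb [[1, 2, 47, 3]],
 .nb [[1, 3, 19]],
 .nb [[1, 3, 5, 8]],
 .nb [[1, 3, 28]],
 .nb [[1, 3, 40]],
 .nb [[2, 5, 3]],
 .nb [[2, 22]],
 .nb [[2, 11, 2]],
 .nb [[1, 3, 24]],
 .nb [[1, 3, 14]],
 .nb [[1, 3, 6]]]),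
 ((nat_lit 0x11024d07b96ed382ea9cb8ab2c9fc), [.fx 2 56,
 .nb [[1, 3, 47]],
 .fx 7 10,
 .nb [[3, 1, 37]],
 .nb [[1, 47, 2]],
 .nb [[3, 1, 10], [1, 2, 47, 3], [2, 12, 3], [1, 3, 24], [1, 3, 12], [1, 3, 6, 53], [1, 3, 40], [1, 33, 1]],
 .nb [[1, 49, 2]],
 .nb [[1, 3]],
 .nb [[1, 2, 47, 3]],
 .nb [[1, 4, 27]],
 .nb [[1, 7]],
 .fx 71 2,
 .nb [[1, 3, 24]],
 .nb [[2, 12, 3]],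
 .nb [[1, 5, 1]],
 .nb [[1, 15, 2]],
 .nb [[3, 1, 12]],
 .nb [[1, 32, 2]],
 .nb [[1, 3, 6, 53]]])]
theorem ex_11 : exAll 275 9 nx D 20160 ex2_11 = true := by decide +kernel
noncomputable def ex2_12 : List (ℕ × List Ins) := [((nat_lit 0x1a1f782803f031e19427d36f3972e), [.nb [[]],
 .fx 1 56,
 .nb [[1, 22, 3]],
 .fx 24 14,
 .nb [[1, 3, 5, 10]],
 .nb [[1, 3, 41]],
 .fx 17 12,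
 .nb [[1, 3, 45]],
 .nb [[1, 3, 5], [1, 2, 33, 3], [1, 2, 47, 1]],
 .nb [[1, 3, 7]],
 .nb [[1, 3, 25]],
 .nb [[1, 3, 27]],
 .nb [[1, 3, 16]],
 .nb [[1, 3, 12]],
 .nb [[1, 0, 13, 3]],
 .nb [[1, 3, 17]],
 .nb [[1, 3, 5, 8]],
 .nb [[1, 35, 2]],
 .nb [[1, 3, 29]]]),
 ((nat_lit 0x1a1d392f8af222615c3fe3c519692), [.nb [[]],
 .fx 1 56,
 .nb [[1, 22, 3]],
 .fx 5 14,
 .nb [[1, 0, 24, 3]],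
 .nb [[1, 3, 17]],
 .fx 26 12,
 .nb [[1, 3, 26]],
 .nb [[1, 3, 4, 28]],
 .nb [[1, 3, 23]],
 .nb [[1, 3, 7]],
 .nb [[1, 3, 9, 30]],
 .nb [[1, 3, 14]],
 .nb [[1, 3, 5, 8]],
 .nb [[1, 3, 28]],
 .nb [[1, 3, 8, 3]],
 .nb [[2, 11, 2]],
 .nb [[1, 3, 6, 39]],
 .nb [[1, 32, 2]]]),
 ((nat_lit 0x1a1f492789f213c1d81fb1ab381bc), [.fx 2 56,
 .nb [[1, 3, 47]],
 .fx 7 10,
 .nb [[3, 1, 37]],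
 .nb [[3, 1, 10], [1, 2, 47, 3], [1, 12, 2], [1, 3, 7], [1, 3, 12], [1, 3, 6, 53], [1, 3, 7, 45], [1, 3, 30]],
 .nb [[3, 1, 38]],
 .nb [[1, 49, 2]],
 .nb [[1, 3]],
 .nb [[1, 2, 47, 3]],
 .nb [[1, 24, 3]],
 .nb [[1, 7]],
 .fx 27 2,
 .nb [[3, 1, 10]],
 .nb [[1, 3, 9, 30]],
 .nb [[1, 3, 30]],
 .nb [[2, 28, 1]],
 .nb [[1, 12, 2]],
 .nb [[1, 3, 17]],
 .nb [[1, 3, 16]]]),
 ((nat_lit 0x1b1d3c2832fce06336a7cb451de42), [.nb [[]],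
 .fx 1 56,
 .nb [[1, 22, 3]],
 .fx 5 14,
 .nb [[1, 0, 24, 3]],
 .nb [[1, 3, 17]],
 .fx 26 12,
 .nb [[1, 3, 26]],
 .nb [[1, 3, 4, 28]],
 .nb [[1, 3, 23], [2, 28, 1]],
 .nb [[1, 3, 11]],
 .nb [[1, 12, 2]],
 .nb [[1, 33, 1]],
 .nb [[1, 3, 9, 3]],
 .nb [[1, 3, 6, 39]],
 .nb [[1, 47, 2]],
 .nb [[1, 3, 8, 3]],
 .nb [[1, 3, 24]],
 .nb [[1, 32, 2]]]),
 ((nat_lit 0x1b1f4c2031fcd1c3b287992b3c96c), [.fx 2 56,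
 .nb [[1, 3, 47]],
 .fx 45 10,
 .nb [[2, 12, 3]],
 .nb [[1, 3, 24]],
 .nb [[1, 12, 2], [1, 3, 7], [1, 3, 12], [1, 3, 40], [1, 3, 7, 45], [1, 33, 1], [1, 3, 30], [1, 47, 2]],
 .nb [[1, 3, 9]],
 .nb [[1, 3, 49]],
 .nb [[1, 24, 3]],
 .nb [[2, 5, 3]],
 .nb [[3, 37]],
 .fx 74 2,
 .nb [[1, 3, 12]],
 .nb [[1, 3, 11]],
 .nb [[3, 1, 12]],
 .nb [[1, 3, 7]],
 .nb [[1, 32, 2]],
 .nb [[1, 3, 19]],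
 .nb [[3, 1, 28]]]),
 ((nat_lit 0x1b1d0d27b8fec2437a9fa9811c8d0), [.nb [[]],
 .fx 4 56,
 .nb [[1, 23, 2]],
 .fx 9 14,
 .nb [[1, 3, 5]],
 .fx 104 2,
 .nb [[1, 3, 16]],
 .nb [[3, 1, 37], [2, 31, 3], [3, 1, 10], [1, 32, 2], [2, 5, 3], [1, 5, 1], [3, 37, 1], [1, 3, 12]],
 .nb [[1, 3, 9]],
 .nb [[1, 3, 30]],
 .nb [[1, 3, 7]],
 .nb [[2, 43, 1]],
 .nb [[3, 1, 24]],
 .nb [[1, 3, 4, 28]],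
 .nb [[1, 47]],
 .nb [[1, 2, 47, 3]],
 .nb [[1, 3, 6, 53]],
 .nb [[1, 12, 2]],
 .nb [[1, 3, 7, 45]]]),
 ((nat_lit 0x14e2f8d8436035ac8464d66fe972e), [.fx 1 56,
 .nb [[1, 22, 3]],
 .fx 5 10,
 .nb [[1, 0, 24, 3]],
 .nb [[2, 5, 2]],
 .nb [[1, 3, 25], [1, 3, 11, 4], [1, 3, 27], [1, 3, 33], [1, 3, 23], [1, 3, 5, 8], [1, 3], [1, 47, 2]],
 .nb [[1, 3, 6, 39]],
 .nb [[1, 43, 2]],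
 .nb [[1, 35, 2]],
 .nb [[1, 3, 5, 8]],
 .nb [[1, 3, 27]],
 .nb [[1, 3, 11, 4]],
 .nb [[1, 3, 5, 14]],
 .nb [[1, 3, 29]],
 .nb [[1, 3, 33]],
 .nb [[1, 3]],
 .nb [[1, 9, 3]]]),
 ((nat_lit 0x14e0b9dfca62262c4c7ce6c5c9692), [.nb [[]],
 .fx 1 56,
 .nb [[1, 22, 3]],
 .fx 33 10,
 .nb [[2, 33, 2]],
 .fx 80 2,
 .nb [[1, 3, 9, 3]],
 .fx 40 9,
 .nb [[1, 3, 28]],
 .nb [[3, 1], [3, 1, 15], [1, 3, 44]],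
 .nb [[1, 3, 6, 39]],
 .nb [[1, 3, 23]],
 .nb [[1, 3, 12]],
 .nb [[1, 3, 5, 8]],
 .nb [[1, 47, 2]],
 .nb [[1, 3, 33]],
 .nb [[1, 3, 14]],
 .nb [[1, 2, 33, 3]],
 .nb [[1, 3, 13]],
 .nb [[3, 1, 10]]]),
 ((nat_lit 0x14e2c9d7c962178cc85cb4abe81bc), [.nb [[]],
 .fx 2 56,
 .nb [[1, 3, 47]],
 .fx 26 14,
 .nb [[1, 3, 26]],
 .nb [[1, 3, 4]],
 .fx 5 12,
 .nb [[1, 0, 24, 3]],
 .nb [[3, 1, 23]],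
 .nb [[1, 36, 3]],
 .nb [[1, 3, 12]],
 .nb [[2, 5, 2]],
 .nb [[3, 1, 37]],
 .nb [[1, 3, 4, 37]],
 .nb [[3, 1, 10]],
 .nb [[3, 1, 12]],
 .nb [[1, 3, 8]],
 .nb [[1, 3, 13]],
 .nb [[2, 47, 1]],
 .nb [[1, 3, 33]],
 .nb [[2, 28, 1]]]),
 ((nat_lit 0x15e0bcd8726ce42e26e4ce45cde42), [.nb [[]],
 .fx 1 56,
 .nb [[1, 22, 3]],
 .fx 54 10,
 .nb [[1, 3, 11, 4]],
 .fx 60 2,
 .nb [[1, 3, 27]],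
 .fx 66 9,
 .nb [[1, 3, 11]],
 .nb [[3, 1], [3, 1, 10]],
 .nb [[1, 3, 23]],
 .nb [[1, 15, 2]],
 .nb [[1, 3, 9, 3]],
 .nb [[2, 43, 1]],
 .nb [[1, 47, 2]],
 .nb [[1, 3, 40]],
 .nb [[1, 3, 24]],
 .nb [[1, 49, 2]],
 .nb [[1, 3, 33]],
 .nb [[1, 3, 19]]]),
 ((nat_lit 0x15e2ccd0716cd58ea2c49c2bec96c), [.nb [[]],
 .fx 2 56,
 .nb [[1, 3, 47]],
 .nb [[3, 1, 37], [1, 3, 26], [3, 1, 10], [2, 4, 2], [1, 2, 47, 3], [1, 12, 2], [1, 3, 10], [1, 3, 7], [1, 2, 33, 3], [1, 3, 6, 53], [1, 7, 1], [1, 41, 3], [1, 3, 7, 45], [1, 3, 30]],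
 .nb [[1, 3, 49]],
 .nb [[3, 6]],
 .nb [[1, 9, 3], [2, 5, 2]],
 .nb [[1, 3, 12], [1, 47, 2]],
 .fx 106 2,
 .nb [[1, 9, 3]],
 .nb [[1, 47, 2]],
 .nb [[1, 3, 5, 14]],
 .nb [[1, 10, 37]],
 .fx 82 2,
 .nb [[1, 3, 33]],
 .nb [[1, 3, 43]],
 .nb [[2, 47, 1]],
 .nb [[1, 3, 11, 4]],
 .nb [[1, 3, 45]],
 .nb [[1, 3, 40]],
 .nb [[1, 33, 1]]]),
 ((nat_lit 0x15e08dd7f86ec60e6adcac81cc8d0), [.nb [[]],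
 .fx 4 56,
 .nb [[1, 23, 2]],
 .fx 9 14,
 .nb [[1, 3, 5]],
 .nb [[1, 33, 1]],
 .fx 20 12,
 .nb [[1, 36, 3]],
 .nb [[1, 47, 2]],
 .nb [[3, 1, 10], [1, 3, 11, 4]],
 .nb [[1, 3, 6, 53]],
 .nb [[3, 1, 38]],
 .nb [[1, 3, 6]],
 .nb [[2, 28, 1]],
 .nb [[2, 47, 1]],
 .nb [[1, 3, 5, 8]],
 .nb [[1, 9, 3]],
 .nb [[3, 1, 28]],
 .nb [[1, 54, 2]]]),
 ((nat_lit 0x1efdb8f842f0246d1467c745d9602), [.nb [[]],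
 .fx 1 56,
 .nb [[1, 22, 3]],
 .fx 5 14,
 .nb [[1, 0, 24, 3]],
 .fx 109 2,
 .nb [[1, 3, 17]],
 .nb [[1, 3, 5], [1, 49, 2], [1, 11, 3], [2, 41, 1], [2, 38, 3], [3, 1, 39], [1, 47, 3], [1, 3, 12]],
 .nb [[1, 4, 27]],
 .nb [[1, 3, 5, 8]],
 .nb [[1, 47, 2]],
 .nb [[1, 3, 11, 4]],
 .nb [[1, 3, 16]],
 .nb [[1, 3, 26]],
 .nb [[1, 3, 33]],
 .nb [[1, 3, 32]],
 .nb [[1, 3, 6, 9]],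
 .nb [[1, 3, 4, 37]],
 .nb [[1, 3, 8]]]),
 ((nat_lit 0x1effc8f041f015cd9047952bf812c), [.nb [[]],
 .fx 2 56,
 .nb [[1, 3, 47]],
 .nb [[3, 1, 37], [1, 3, 26], [3, 1, 10], [2, 4, 2], [1, 2, 47, 3], [2, 12, 3], [1, 3, 10], [1, 3, 24], [1, 2, 33, 3], [1, 3, 6, 53], [1, 7, 1], [1, 3, 40], [1, 41, 3], [1, 33, 1]],
 .nb [[1, 9, 39]],
 .nb [[1, 24, 3]],
 .nb [[1, 3, 11, 4], [1, 3, 4, 37]],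
 .nb [[1, 4, 8]],
 .nb [[1, 9, 3], [2, 5, 2]],
 .nb [[1, 3, 12], [1, 47, 2]],
 .fx 74 2,
 .nb [[1, 3, 12]],
 .nb [[2, 5, 2]],
 .nb [[3, 12]],
 .fx 82 2,
 .nb [[1, 3, 33]],
 .nb [[1, 3, 7, 45]],
 .nb [[1, 11, 3]],
 .nb [[1, 43, 2]],
 .nb [[1, 3, 8, 3]],
 .nb [[2, 47, 1]],
 .nb [[1, 0, 24, 3]]]),
 ((nat_lit 0x1efd89f7c8f2064d585fa581d8090), [.nb [[]],
 .fx 4 56,
 .nb [[1, 23, 2]],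
 .fx 9 14,
 .nb [[1, 3, 5]],
 .nb [[1, 3, 16]],
 .fx 7 9,
 .nb [[3, 1, 37]],
 .nb [[2, 4, 3], [1, 15, 2], [1, 3]],
 .nb [[1, 3, 5, 8]],
 .nb [[2, 47, 1]],
 .nb [[1, 3, 8, 3]],
 .nb [[2, 28, 1]],
 .nb [[1, 3, 6]],
 .nb [[1, 0, 13, 3]],
 .nb [[1, 36, 3]],
 .nb [[1, 3, 17]],
 .nb [[2, 38, 3]],
 .nb [[1, 3, 6, 53]],
 .nb [[1, 3, 28]]]),
 ((nat_lit 0x1ffd8cf070fcc44f32c78d01dc840), [.nb [[]],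
 .fx 6 56,
 .nb [[3, 1, 15]],
 .fx 21 14,
 .nb [[1, 24, 3]],
 .fx 90 2,
 .nb [[1, 3, 23]],
 .nb [[1, 36, 3], [3, 1, 22], [1, 3, 6, 39], [2, 12, 3], [2, 38, 3], [1, 3, 9], [1, 3, 7], [1, 3, 7, 45]],
 .nb [[1, 3, 24]],
 .nb [[2, 12, 3]],
 .nb [[1, 43, 2]],
 .nb [[1, 5, 49]],
 .fx 49 2,
 .nb [[1, 5, 1]],
 .nb [[1, 3, 5, 8]],
 .nb [[1, 11, 3]],
 .nb [[2, 5, 2]],
 .nb [[2, 31, 3]],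
 .nb [[1, 3, 41]],
 .nb [[3, 1, 23]]])]
theorem ex_12 : exAll 275 9 nx D 20160 ex2_12 = true := by decide +kernel
noncomputable def ex2_13 : List (ℕ × List Ins) := [((nat_lit 0xa1f712d0b9031e1dc2353ee3173e), [.nb [[]],
 .fx 1 56,
 .nb [[1, 22, 3]],
 .fx 24 14,
 .nb [[1, 3, 5, 10]],
 .nb [[1, 3, 41]],
 .fx 17 10,
 .nb [[1, 3, 45]],
 .nb [[1, 0, 13, 3], [1, 3, 17], [1, 3, 30]],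
 .nb [[1, 3, 44]],
 .nb [[1, 3, 30]],
 .nb [[1, 41, 3]],
 .nb [[2, 28, 1]],
 .nb [[1, 12, 2]],
 .nb [[1, 3, 29]],
 .nb [[1, 0, 13, 3]],
 .nb [[1, 3, 31]],
 .nb [[1, 3, 32]],
 .nb [[1, 3, 25]],
 .nb [[1, 3, 16]]]),
 ((nat_lit 0x4e2f1dd4b0035accc6056eee173e), [.fx 1 56,
 .nb [[1, 22, 3]],
 .fx 5 10,
 .nb [[1, 0, 24, 3]],
 .nb [[2, 5, 2]],
 .nb [[2, 11, 2], [1, 3, 25], [1, 3, 11, 4], [1, 3, 27], [1, 3, 33], [1, 3, 23], [2, 28, 1], [1, 3]],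
 .nb [[3, 6]],
 .nb [[1, 3, 13]],
 .nb [[1, 3, 33]],
 .nb [[1, 3]],
 .nb [[1, 3, 29]],
 .nb [[1, 9, 3]],
 .nb [[2, 11, 2]],
 .nb [[1, 3, 4, 37]],
 .nb [[1, 2, 47, 1]],
 .nb [[1, 3, 11, 4]],
 .nb [[1, 3, 27]]]),
 ((nat_lit 0xefdb1fd4a90246d5c6347c4d1612), [.nb [[]],
 .fx 1 56,
 .nb [[1, 22, 3]],
 .fx 5 14,
 .nb [[1, 0, 24, 3]],
 .fx 109 2,
 .nb [[1, 3, 17]],
 .nb [[1, 3, 5], [1, 11, 3], [2, 41, 1], [2, 38, 3], [1, 51, 3], [3, 1, 39], [1, 47, 3], [1, 3, 13]],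
 .nb [[1, 9, 39]],
 .nb [[1, 3, 7, 45]],
 .nb [[2, 11, 2]],
 .nb [[1, 3, 23]],
 .nb [[1, 3, 7]],
 .nb [[1, 0, 13, 3]],
 .nb [[3, 1, 24]],
 .nb [[1, 3, 32]],
 .nb [[1, 3, 8]],
 .nb [[1, 3, 6, 53]],
 .nb [[1, 3, 31]]]),
 ((nat_lit 0xeffc1f5499015cdd84315aaf013c), [.nb [[]],
 .fx 2 56,
 .nb [[1, 3, 47]],
 .fx 7 14,
 .nb [[3, 1, 37]],
 .nb [[1, 9, 3]],
 .fx 3 10,
 .nb [[3, 1]],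
 .nb [[2, 47, 3]],
 .nb [[1, 3, 10], [1, 41, 3]],
 .nb [[1, 3, 7, 45]],
 .nb [[1, 3, 33]],
 .nb [[1, 3, 23]],
 .nb [[1, 3, 6, 53]],
 .nb [[1, 3, 11, 4]],
 .nb [[1, 3, 4]],
 .nb [[3, 1, 23]],
 .nb [[1, 3, 7]],
 .nb [[3, 1, 10]],
 .nb [[1, 51, 3]],
 .nb [[1, 3, 16]]]),
 ((nat_lit 0xa1f7428339431e1b6a3536e3176e), [.nb [[]],
 .fx 1 56,
 .nb [[1, 22, 3]],
 .fx 24 14,
 .nb [[1, 3, 5, 10]],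
 .nb [[1, 3, 41]],
 .fx 17 10,
 .nb [[1, 3, 45]],
 .nb [[1, 3, 5], [1, 2, 33, 3], [1, 2, 47, 1]],
 .nb [[1, 3, 7]],
 .nb [[1, 3, 25]],
 .nb [[1, 3, 27]],
 .nb [[1, 3, 16]],
 .nb [[1, 35, 2]],
 .nb [[1, 3, 9, 3]],
 .nb [[1, 3, 40]],
 .nb [[1, 12, 2]],
 .nb [[1, 3, 4, 28]],
 .nb [[1, 0, 24, 3]],
 .nb [[1, 3]]]),
 ((nat_lit 0x4e2f4d8730435aca6e0566ee176e), [.fx 1 56,
 .nb [[1, 22, 3]],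
 .fx 5 10,
 .nb [[1, 0, 24, 3]],
 .nb [[2, 5, 2]],
 .nb [[1, 3, 25], [1, 3, 11, 4], [1, 3, 27], [1, 3, 9, 3], [1, 3, 33], [1, 3, 23], [1, 3, 40], [1, 3]],
 .nb [[3, 6]],
 .nb [[3, 1, 15]],
 .nb [[1, 3, 23]],
 .nb [[1, 3, 25]],
 .nb [[1, 3, 26]],
 .nb [[3, 1, 23]],
 .nb [[1, 3, 40]],
 .nb [[2, 47, 1]],
 .nb [[1, 3, 29]],
 .nb [[1, 3, 33]],
 .nb [[1, 3]]]),
 ((nat_lit 0xefdb4f87294246d36e34744d1642), [.nb [[]],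
 .fx 1 56,
 .nb [[1, 22, 3]],
 .fx 5 14,
 .nb [[1, 0, 24, 3]],
 .fx 109 2,
 .nb [[1, 3, 17]],
 .nb [[3, 1, 15], [1, 3, 5], [1, 11, 3], [2, 5, 3], [2, 41, 1], [2, 38, 3], [3, 1, 39], [1, 47, 3]],
 .nb [[1, 4, 4]],
 .nb [[3, 1, 22]],
 .nb [[1, 3, 40]],
 .nb [[1, 3, 11, 4]],
 .nb [[1, 3, 16]],
 .nb [[1, 3, 8, 3]],
 .nb [[1, 5, 1]],
 .nb [[1, 3, 7]],
 .nb [[1, 54, 2]],
 .nb [[1, 3, 19]],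
 .nb [[1, 0, 13, 3]]]),
 ((nat_lit 0xeffc4f0719415cdb2c3152af016c), [.nb [[]],
 .fx 2 56,
 .nb [[1, 3, 47]],
 .fx 7 14,
 .nb [[3, 1, 37]],
 .nb [[1, 9, 3]],
 .fx 3 10,
 .nb [[3, 1]],
 .nb [[2, 47, 3]],
 .nb [[1, 12, 2], [1, 3, 7, 45]],
 .nb [[1, 3, 33]],
 .nb [[1, 3, 8]],
 .nb [[1, 3, 19]],
 .nb [[1, 15, 2]],
 .nb [[1, 3, 40]],
 .nb [[1, 3, 23]],
 .nb [[2, 12, 3]],
 .nb [[1, 3, 4]],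
 .nb [[1, 5, 1]]]),
 ((nat_lit 0xa1f702a839233e1943b736e317ae), [.nb [[]],
 .fx 1 56,
 .nb [[1, 22, 3]],
 .fx 24 14,
 .nb [[1, 3, 5, 10]],
 .nb [[1, 3, 41]],
 .fx 2 10,
 .nb [[1, 3, 47]],
 .nb [[1, 12, 2], [1, 3, 7], [1, 3, 30]],
 .nb [[1, 41, 3]],
 .nb [[2, 33, 2]],
 .nb [[1, 3, 30]],
 .nb [[1, 3, 7, 45]],
 .nb [[1, 3, 27]],
 .nb [[1, 3]],
 .nb [[1, 3, 32]],
 .nb [[3, 1, 37]],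
 .nb [[1, 3, 28]],
 .nb [[1, 3, 31]],
 .nb [[1, 0, 24, 3]]]),
 ((nat_lit 0x4e2f0dac30237ac8478766ee17ae), [.fx 1 56,
 .nb [[1, 22, 3]],
 .fx 5 10,
 .nb [[1, 0, 24, 3]],
 .nb [[2, 5, 2]],
 .nb [[2, 33, 2], [1, 3, 28], [1, 3, 25], [1, 3, 11, 4], [1, 3, 27], [1, 3, 33], [1, 3, 23], [1, 3]],
 .nb [[1, 4, 7]],
 .nb [[1, 2, 47, 3]],
 .nb [[1, 3, 23]],
 .nb [[1, 3, 25]],
 .nb [[1, 3, 26]],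
 .nb [[3, 1, 23]],
 .nb [[2, 33, 2]],
 .nb [[1, 3, 6, 9]],
 .nb [[1, 2, 47, 1]],
 .nb [[1, 3, 11, 4]],
 .nb [[1, 3, 27]]]),
 ((nat_lit 0xefdb0fac292266d147b6744d1682), [.nb [[]],
 .fx 1 56,
 .nb [[1, 22, 3]],
 .fx 5 14,
 .nb [[1, 0, 24, 3]],
 .fx 109 2,
 .nb [[1, 3, 17]],
 .nb [[1, 3, 5], [1, 11, 3], [1, 2, 47, 3], [2, 41, 1], [2, 38, 3], [3, 1, 39], [1, 47, 3], [3, 1, 38]],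
 .nb [[1, 4, 4]],
 .nb [[1, 3, 7, 45]],
 .nb [[2, 33, 2]],
 .nb [[1, 3, 33]],
 .nb [[1, 3, 32]],
 .nb [[1, 3, 30]],
 .nb [[1, 3, 6]],
 .nb [[1, 3, 7]],
 .nb [[1, 43, 2]],
 .nb [[1, 3, 9, 30]],
 .nb [[1, 3, 41]]]),
 ((nat_lit 0xeffc0f2c19217cd905b352af01ac), [.nb [[]],
 .fx 2 56,
 .nb [[1, 3, 47]],
 .fx 26 14,
 .nb [[1, 3, 26]],
 .fx 88 2,
 .nb [[1, 3, 4]],
 .nb [[3, 1], [1, 3, 45], [1, 3, 5, 14], [2, 33, 2], [1, 3, 6, 9], [1, 3, 9, 30], [1, 3, 44], [1, 54, 2]],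
 .nb [[1, 2, 13]],
 .nb [[1, 3, 43]],
 .nb [[1, 2, 47, 3]],
 .nb [[1, 12, 2]],
 .nb [[1, 3, 7]],
 .nb [[2, 47, 1]],
 .nb [[2, 5, 2]],
 .nb [[3, 37, 1]],
 .nb [[1, 3, 33]],
 .nb [[3, 1, 38]],
 .nb [[1, 43, 2]]]),
 ((nat_lit 0x2750fbb0633a0eeb872ee217fe), [.nb [[]],
 .fx 1 56,
 .nb [[1, 22, 3]],
 .fx 5 10,
 .nb [[1, 0, 24, 3]],
 .fx 109 2,
 .nb [[1, 3, 17]],
 .fx 33 9,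
 .nb [[2, 33, 2]],
 .nb [[1, 3, 9, 3]],
 .nb [[1, 2, 47, 1]],
 .nb [[3, 1, 37]],
 .nb [[1, 15, 2]],
 .nb [[1, 3, 49]],
 .nb [[2, 28, 1]],
 .nb [[1, 3, 40]],
 .nb [[1, 3, 28]],
 .nb [[1, 3]],
 .nb [[1, 3, 19]],
 .nb [[3, 1, 24]],
 .nb [[1, 3, 29]]]),
 ((nat_lit 0xa1d352fba9622617ebb63c4116d2), [.nb [[]],
 .fx 1 56,
 .nb [[1, 22, 3]],
 .fx 5 14,
 .nb [[1, 0, 24, 3]],
 .fx 26 12,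
 .nb [[1, 3, 26]],
 .nb [[1, 3, 4, 28]],
 .nb [[1, 3, 28], [1, 3, 9, 3]],
 .nb [[2, 35, 3]],
 .nb [[1, 3, 7]],
 .nb [[1, 3, 23]],
 .nb [[1, 3, 5, 8]],
 .nb [[1, 3, 31]],
 .nb [[1, 3, 6, 53]],
 .nb [[2, 28, 1]],
 .nb [[1, 3, 28]],
 .nb [[1, 3, 8, 3]],
 .nb [[2, 11, 2]],
 .nb [[3, 1, 24]]]),
 ((nat_lit 0xa1f4527b99613c1fa9b31aa301fc), [.nb [[]],
 .fx 2 56,
 .nb [[1, 3, 47]],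
 .fx 7 10,
 .nb [[3, 1, 37]],
 .fx 106 2,
 .nb [[1, 9, 3]],
 .fx 27 9,
 .nb [[3, 1, 10]],
 .nb [[1, 3, 6], [3, 1, 38], [1, 3, 4, 28]],
 .nb [[1, 3, 41]],
 .nb [[1, 2, 47, 3]],
 .nb [[1, 3, 7]],
 .nb [[1, 3]],
 .nb [[1, 3, 6, 53]],
 .nb [[2, 12, 3]],
 .nb [[1, 3, 9, 30]],
 .nb [[1, 3, 40]],
 .nb [[1, 3, 30]],
 .nb [[1, 3, 13]]]),
 ((nat_lit 0x4e0b5dffa06262c6ef866c4c16d2), [.nb [[]],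
 .fx 1 56,
 .nb [[1, 22, 3]],
 .fx 33 10,
 .nb [[2, 33, 2]],
 .nb [[1, 3, 9, 3]],
 .nb [[1, 3, 28], [2, 11, 2], [1, 3, 11, 4], [1, 3, 33], [1, 3, 23], [2, 28, 1], [1, 3, 40], [2, 5, 2]],
 .nb [[1, 2, 47, 3]],
 .nb [[1, 22, 2]],
 .nb [[1, 2, 33, 3]],
 .nb [[1, 3, 19]],
 .fx 47 2,
 .nb [[2, 11, 2]],
 .nb [[3, 37, 1]],
 .nb [[1, 3, 33]],
 .nb [[1, 3, 6, 53]],
 .nb [[1, 3, 23]],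
 .nb [[1, 9, 3]],
 .nb [[1, 5, 1]]])]
theorem ex_13 : exAll 275 9 nx D 20160 ex2_13 = true := by decide +kernel
noncomputable def ex2_14 : List (ℕ × List Ins) := [((nat_lit 0x4e2c5d7f906178cead834aae01fc), [.nb [[]],
 .fx 2 56,
 .nb [[1, 3, 47]],
 .fx 26 14,
 .nb [[1, 3, 26]],
 .nb [[1, 3, 4]],
 .fx 5 12,
 .nb [[1, 0, 24, 3]],
 .nb [[3, 1, 23]],
 .nb [[3, 1, 15], [1, 3, 9, 3]],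
 .nb [[1, 3, 6, 53]],
 .nb [[1, 3, 40]],
 .nb [[1, 2, 47, 3]],
 .nb [[1, 3, 11, 4]],
 .nb [[3, 37, 1]],
 .nb [[2, 12, 3]],
 .nb [[3, 1, 37]],
 .nb [[3, 1, 10]]]),
 ((nat_lit 0xefd85f7f896064d7adb2580d00d0), [.fx 4 56,
 .nb [[1, 23, 2]],
 .nb [[1, 2, 47, 3], [1, 3, 28], [2, 38, 3], [2, 47, 1], [1, 3, 33], [1, 3, 6], [1, 3, 6, 53], [3, 1, 38], [2, 28, 1], [1, 3, 16], [3, 1, 23], [1, 9, 3], [1, 3, 17], [1, 3, 30]],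
 .nb [[1, 51, 3]],
 .nb [[3, 6]],
 .nb [[1, 4, 4], [1, 4, 27]],
 .fx 84 2,
 .nb [[1, 3, 6, 53]],
 .fx 40 2,
 .nb [[1, 3, 28]],
 .nb [[3, 1, 37]],
 .nb [[1, 3, 13]],
 .nb [[1, 3, 6]],
 .fx 105 2,
 .nb [[3, 1, 23]],
 .nb [[1, 3, 31]],
 .nb [[1, 3, 4, 37]],
 .nb [[2, 38, 3]],
 .nb [[1, 3, 23]],
 .nb [[1, 43, 2]],
 .nb [[1, 3, 16]],
 .nb [[1, 0, 13, 3]]]),
 ((nat_lit 0xb1f70280398f1e394235b6e35f2e), [.nb [[]],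
 .fx 1 56,
 .nb [[1, 22, 3]],
 .fx 24 14,
 .nb [[1, 3, 5, 10]],
 .nb [[1, 3, 41]],
 .fx 2 10,
 .nb [[1, 3, 47]],
 .nb [[1, 41, 3], [1, 3, 7, 45], [1, 33, 1]],
 .nb [[1, 12, 2]],
 .nb [[1, 3, 11]],
 .nb [[1, 41, 3]],
 .nb [[1, 3, 16]],
 .nb [[1, 0, 24, 3]],
 .nb [[1, 3, 17]],
 .nb [[1, 33, 1]],
 .nb [[1, 3, 4, 28]],
 .nb [[1, 3, 24]],
 .nb [[1, 3, 25]],
 .nb [[1, 3]]]),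
 ((nat_lit 0x5e2f0d84308f5ae84605e6ee5f2e), [.fx 1 56,
 .nb [[1, 22, 3]],
 .fx 5 10,
 .nb [[1, 0, 24, 3]],
 .nb [[2, 5, 2]],
 .nb [[1, 3, 25], [1, 3, 11, 4], [1, 3, 27], [1, 3, 11], [1, 3, 24], [1, 3, 33], [1, 3, 23], [1, 3]],
 .nb [[1, 4, 7]],
 .nb [[1, 3, 18]],
 .nb [[1, 3, 33]],
 .nb [[1, 3]],
 .nb [[1, 3, 29]],
 .nb [[1, 9, 3]],
 .nb [[1, 3, 11]],
 .nb [[1, 54, 2]],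
 .nb [[1, 3, 26]],
 .nb [[1, 3, 23]],
 .nb [[1, 3, 25]]]),
 ((nat_lit 0xffdb0f84298e46f14634f44d5e02), [.nb [[]],
 .fx 1 56,
 .nb [[1, 22, 3]],
 .fx 5 14,
 .nb [[1, 0, 24, 3]],
 .fx 109 2,
 .nb [[1, 3, 17]],
 .nb [[1, 3, 5], [2, 31, 3], [1, 3, 18], [1, 11, 3], [2, 41, 1], [2, 38, 3], [3, 1, 39], [1, 47, 3]],
 .nb [[1, 9, 39]],
 .nb [[1, 3, 4, 28]],
 .nb [[1, 3, 11]],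
 .nb [[1, 3, 11, 4]],
 .nb [[1, 3, 16]],
 .nb [[1, 12, 2]],
 .nb [[1, 33, 1]],
 .nb [[1, 3, 32]],
 .nb [[2, 47, 1]],
 .nb [[1, 3, 9]],
 .nb [[1, 3, 30]]]),
 ((nat_lit 0xfffc0f04198d5cf90431d2af492c), [.nb [[]],
 .fx 2 56,
 .nb [[1, 3, 47]],
 .fx 7 14,
 .nb [[3, 1, 37]],
 .nb [[1, 9, 3]],
 .fx 36 10,
 .nb [[1, 11, 3]],
 .nb [[1, 3, 33], [1, 43, 2], [2, 5, 2]],
 .nb [[1, 3, 21]],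
 .nb [[1, 3, 23]],
 .nb [[1, 3, 7, 45]],
 .nb [[1, 3, 24]],
 .nb [[1, 43, 2]],
 .nb [[1, 3, 16]],
 .nb [[1, 33, 1]],
 .nb [[1, 3, 7]],
 .nb [[1, 3, 4]],
 .nb [[1, 3, 8]],
 .nb [[1, 3, 4, 50]]]),
 ((nat_lit 0x102750d3b0cf1a2eea05aee25f7e), [.nb [[]],
 .fx 1 56,
 .nb [[1, 22, 3]],
 .fx 5 10,
 .nb [[1, 0, 24, 3]],
 .fx 109 2,
 .nb [[1, 3, 17]],
 .fx 47 9,
 .nb [[2, 11, 2]],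
 .nb [[1, 3, 24]],
 .nb [[1, 5, 1], [1, 2, 47, 1]],
 .nb [[1, 3, 9]],
 .nb [[1, 5, 1]],
 .nb [[1, 3, 9, 3]],
 .nb [[1, 33, 1]],
 .nb [[3, 1, 24]],
 .nb [[1, 3, 11]],
 .nb [[1, 3, 40]],
 .nb [[2, 28, 1]],
 .nb [[1, 3, 6, 53]],
 .nb [[1, 3, 19]]]),
 ((nat_lit 0xb1d352d3a9ce0637ea34bc415e52), [.nb [[]],
 .fx 1 56,
 .nb [[1, 22, 3]],
 .fx 5 14,
 .nb [[1, 0, 24, 3]],
 .nb [[1, 3, 17]],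
 .fx 26 12,
 .nb [[1, 3, 26]],
 .nb [[1, 3, 4, 28]],
 .nb [[2, 31, 3], [1, 3, 18]],
 .nb [[2, 28, 1]],
 .nb [[1, 3, 40]],
 .nb [[1, 3, 7, 45]],
 .nb [[2, 11, 2]],
 .nb [[1, 3, 9, 3]],
 .nb [[1, 33, 1]],
 .nb [[1, 3, 41]],
 .nb [[1, 3, 31]],
 .nb [[1, 5, 1]]]),
 ((nat_lit 0xb1f4525399cd1c3fa8319aa3497c), [.nb [[]],
 .fx 2 56,
 .nb [[1, 3, 47]],
 .fx 27 10,
 .nb [[3, 1, 10]],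
 .fx 93 2,
 .nb [[1, 7, 1]],
 .fx 45 9,
 .nb [[2, 12, 3]],
 .nb [[1, 3, 24]],
 .nb [[1, 0, 31, 1]],
 .nb [[1, 3, 17]],
 .nb [[3, 1, 28]],
 .nb [[1, 3, 40]],
 .nb [[1, 33, 1]],
 .nb [[1, 3, 7, 45]],
 .nb [[2, 31, 3]],
 .nb [[1, 3, 6, 53]],
 .nb [[1, 3, 13]],
 .nb [[1, 12, 2]],
 .nb [[1, 3, 30]]]),
 ((nat_lit 0x5e0b5dd7a0ce42e6ee04ec4c5e52), [.nb [[]],
 .fx 1 56,
 .nb [[1, 22, 3]],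
 .fx 47 10,
 .nb [[2, 11, 2]],
 .nb [[1, 3, 24]],
 .nb [[1, 3, 11, 4], [1, 3, 11], [1, 3, 9, 3], [1, 3, 33], [1, 3, 23], [2, 28, 1], [1, 3, 40], [2, 5, 2]],
 .nb [[1, 12, 2]],
 .nb [[1, 3, 9]],
 .nb [[1, 2, 33, 3]],
 .nb [[2, 28, 1]],
 .nb [[2, 35, 3]],
 .nb [[1, 10, 44]],
 .fx 54 2,
 .nb [[1, 3, 11, 4]],
 .nb [[3, 1, 24]],
 .nb [[2, 43, 1]],
 .nb [[1, 47, 3]],
 .nb [[2, 5, 2]],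
 .nb [[1, 15, 2]],
 .nb [[1, 5, 1]]]),
 ((nat_lit 0x5e2c5d5790cd58eeac01caae497c), [.nb [[]],
 .fx 2 56,
 .nb [[1, 3, 47]],
 .fx 7 14,
 .nb [[3, 1, 37]],
 .nb [[1, 9, 3]],
 .fx 3 10,
 .nb [[3, 1]],
 .nb [[2, 47, 3]],
 .nb [[1, 3, 13], [2, 28, 1]],
 .nb [[1, 3, 6, 53]],
 .nb [[3, 1, 10]],
 .nb [[1, 51, 3]],
 .nb [[3, 1, 24]],
 .nb [[1, 2]],
 .nb [[1, 3, 24]],
 .nb [[1, 43, 2]],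
 .nb [[1, 3, 23]],
 .nb [[1, 3, 19]]]),
 ((nat_lit 0xffd85f5789cc44f7ac30d80d4850), [.nb [[]],
 .fx 4 56,
 .nb [[1, 23, 2]],
 .fx 14 14,
 .nb [[2, 43, 1]],
 .nb [[1, 3, 17]],
 .nb [[1, 3, 4, 50], [3, 1, 10], [2, 47, 3], [2, 12, 3], [3, 1, 28], [1, 15, 2], [1, 3, 4], [2, 5, 2]],
 .nb [[1, 3, 5]],
 .nb [[1, 3, 16]],
 .nb [[3, 1, 28]],
 .nb [[1, 3, 7]],
 .fx 82 2,
 .nb [[1, 3, 33]],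
 .nb [[1, 3, 19]],
 .nb [[2, 38, 3]],
 .nb [[1, 3, 24]],
 .nb [[1, 3, 40]],
 .nb [[1, 3, 4, 37]],
 .nb [[2, 28, 1]]]),
 ((nat_lit 0x102710f8b0af3a2cc387aee25fbe), [.nb [[]],
 .fx 1 56,
 .nb [[1, 22, 3]],
 .fx 5 10,
 .nb [[1, 0, 24, 3]],
 .fx 109 2,
 .nb [[1, 3, 17]],
 .fx 33 9,
 .nb [[2, 33, 2]],
 .nb [[1, 3, 6], [1, 3, 6, 53]],
 .nb [[2, 47, 3]],
 .nb [[1, 3]],
 .nb [[2, 11, 2]],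
 .nb [[1, 3, 24]],
 .nb [[1, 3, 6, 53]],
 .nb [[2, 28, 1]],
 .nb [[1, 3, 11]],
 .nb [[1, 3, 28]],
 .nb [[1, 3, 9, 30]],
 .nb [[1, 3, 25]],
 .nb [[1, 33, 1]]]),
 ((nat_lit 0xb1d312f8a9ae2635c3b6bc415e92), [.nb [[]],
 .fx 1 56,
 .nb [[1, 22, 3]],
 .fx 5 14,
 .nb [[1, 0, 24, 3]],
 .nb [[1, 3, 17]],
 .fx 26 12,
 .nb [[1, 3, 26]],
 .nb [[1, 3, 4, 28]],
 .nb [[2, 31, 3], [1, 3, 18]],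
 .nb [[2, 28, 1]],
 .nb [[1, 3, 24]],
 .nb [[1, 3, 11]],
 .nb [[1, 3, 28]],
 .nb [[1, 3, 8, 3]],
 .nb [[1, 2, 47, 1]],
 .nb [[1, 33, 1]],
 .nb [[1, 3, 32]],
 .nb [[1, 3, 31]]]),
 ((nat_lit 0xb1f4127899ad3c3d81b39aa349bc), [.nb [[]],
 .fx 2 56,
 .nb [[1, 3, 47]],
 .fx 7 10,
 .nb [[3, 1, 37]],
 .fx 106 2,
 .nb [[1, 9, 3]],
 .fx 27 9,
 .nb [[3, 1, 10]],
 .nb [[3, 1, 32], [1, 3, 29]],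
 .nb [[1, 12, 2]],
 .nb [[1, 3, 13]],
 .nb [[1, 3, 6, 53]],
 .nb [[1, 3]],
 .nb [[1, 2, 47, 3]],
 .nb [[1, 3, 16]],
 .nb [[1, 33, 1]],
 .nb [[1, 3, 24]],
 .nb [[1, 3, 28]],
 .nb [[1, 51, 3]]]),
 ((nat_lit 0x5e0b1dfca0ae62e4c786ec4c5e92), [.fx 1 56,
 .nb [[1, 22, 3]],
 .nb [[2, 33, 2], [1, 3, 28], [2, 11, 2], [1, 3, 11, 4], [1, 3, 11], [1, 3, 24], [1, 3, 33], [1, 3, 23], [2, 28, 1], [2, 5, 2]],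
 .nb [[1, 22, 2]],
 .nb [[3, 6]],
 .nb [[1, 3, 11], [1, 3, 24]],
 .fx 47 2,
 .nb [[2, 11, 2]],
 .nb [[1, 3, 24]],
 .nb [[1, 3, 9]],
 .nb [[2, 22]],
 .fx 54 2,
 .nb [[1, 3, 11, 4]],
 .nb [[2, 43, 1]],
 .nb [[1, 43, 2]],
 .nb [[2, 33, 2]],
 .nb [[1, 9, 3]],
 .nb [[3, 1, 28]],
 .nb [[1, 54, 2]]])]
theorem ex_14 : exAll 275 9 nx D 20160 ex2_14 = true := by decide +kernel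
noncomputable def ex2_15 : List (ℕ × List Ins) := [((nat_lit 0x5e2c1d7c90ad78ec8583caae49bc), [.nb [[]],
 .fx 2 56,
 .nb [[1, 3, 47]],
 .fx 26 14,
 .nb [[1, 3, 26]],
 .nb [[1, 3, 4]],
 .fx 5 12,
 .nb [[1, 0, 24, 3]],
 .nb [[3, 1, 23]],
 .nb [[3, 1, 37]],
 .nb [[1, 9, 3]],
 .nb [[1, 3, 6]],
 .nb [[1, 3, 8]],
 .nb [[3, 1, 12]],
 .nb [[1, 3, 24]],
 .nb [[1, 43, 2]],
 .nb [[1, 3, 13]],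
 .nb [[2, 5, 2]],
 .nb [[1, 3, 4, 50]]]),
 ((nat_lit 0xffd81f7c89ac64f585b2d80d4890), [.nb [[]],
 .fx 4 56,
 .nb [[1, 23, 2]],
 .fx 9 12,
 .nb [[1, 3, 5]],
 .fx 104 2,
 .nb [[1, 3, 16]],
 .nb [[3, 1, 37], [2, 31, 3], [1, 3, 5, 14], [3, 1, 10], [1, 3, 11, 4], [3, 37, 1], [1, 3, 8], [1, 43, 2]],
 .nb [[3, 1, 24]],
 .nb [[3, 1, 28]],
 .nb [[2, 31, 3]],
 .nb [[2, 43, 1]],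
 .nb [[2, 8]],
 .fx 84 2,
 .nb [[1, 3, 6, 53]],
 .nb [[3, 1, 38]],
 .nb [[2, 33, 2]],
 .nb [[1, 9, 3]],
 .nb [[3, 1, 23]],
 .nb [[2, 5, 2]],
 .nb [[2, 38, 3]]]),
 ((nat_lit 0x102740ab30ef3a2a6b87a6e25fee), [.nb [[]],
 .fx 1 56,
 .nb [[1, 22, 3]],
 .fx 5 10,
 .nb [[1, 0, 24, 3]],
 .fx 109 2,
 .nb [[1, 3, 17]],
 .fx 33 9,
 .nb [[2, 33, 2]],
 .nb [[1, 3, 9, 3]],
 .nb [[1, 2, 47, 1], [1, 33, 1]],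
 .nb [[1, 3, 19]],
 .nb [[1, 33, 1]],
 .nb [[1, 3, 24]],
 .nb [[1, 5, 1]],
 .nb [[1, 3, 6]],
 .nb [[1, 3, 40]],
 .nb [[1, 3, 11]],
 .nb [[1, 3, 28]],
 .nb [[1, 3, 9, 30]],
 .nb [[1, 3, 9]]]),
 ((nat_lit 0xb1d342ab29ee26336bb6b4415ec2), [.nb [[]],
 .fx 1 56,
 .nb [[1, 22, 3]],
 .fx 5 14,
 .nb [[1, 0, 24, 3]],
 .nb [[1, 3, 17]],
 .fx 26 12,
 .nb [[1, 3, 26]],
 .nb [[1, 3, 4, 28]],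
 .nb [[2, 31, 3], [1, 3, 18]],
 .nb [[1, 3, 40]],
 .nb [[1, 3, 8, 3]],
 .nb [[1, 3, 11]],
 .nb [[3, 1, 22]],
 .nb [[1, 3, 29]],
 .nb [[2, 33, 2]],
 .nb [[1, 5, 1]],
 .nb [[1, 3, 41]],
 .nb [[1, 3, 7]]]),
 ((nat_lit 0xb1f4422b19ed3c3b29b392a349ec), [.nb [[]],
 .fx 2 56,
 .nb [[1, 3, 47]],
 .nb [[3, 1, 37], [1, 2, 47, 3], [2, 12, 3], [1, 12, 2], [1, 3, 24], [1, 3, 7], [1, 3, 40], [1, 3, 7, 45], [1, 33, 1], [1, 3, 30]],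
 .nb [[1, 4, 4]],
 .nb [[3, 6]],
 .nb [[1, 4, 27]],
 .nb [[1, 3, 24], [1, 33, 1]],
 .fx 45 2,
 .nb [[2, 12, 3]],
 .nb [[1, 3, 24]],
 .nb [[2, 5, 3]],
 .nb [[1, 50]],
 .fx 7 2,
 .nb [[3, 1, 37]],
 .nb [[3, 1, 12]],
 .nb [[1, 3, 7]],
 .nb [[1, 3, 11]],
 .nb [[1, 12, 2]],
 .nb [[2, 31, 3]],
 .nb [[1, 3, 19]],
 .nb [[1, 35, 2]]]),
 ((nat_lit 0x5e0b4daf20ee62e26f86e44c5ec2), [.nb [[]],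
 .fx 1 56,
 .nb [[1, 22, 3]],
 .fx 33 10,
 .nb [[2, 33, 2]],
 .nb [[1, 3, 9, 3]],
 .nb [[1, 3, 28], [1, 3, 11, 4], [1, 3, 11], [1, 3, 24], [1, 3, 33], [1, 3, 23], [1, 3, 40], [2, 5, 2]],
 .nb [[1, 3, 8, 3]],
 .nb [[1, 3, 19]],
 .nb [[1, 2, 33, 3]],
 .nb [[1, 3, 28]],
 .nb [[1, 22, 2]],
 .nb [[1, 0, 26]],
 .fx 54 2,
 .nb [[1, 3, 11, 4]],
 .nb [[1, 3, 6]],
 .nb [[1, 15, 2]],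
 .nb [[1, 3, 5]],
 .nb [[2, 5, 2]],
 .nb [[2, 43, 1]],
 .nb [[1, 33, 1]]]),
 ((nat_lit 0x5e2c4d2f10ed78ea2d83c2ae49ec), [.nb [[]],
 .fx 2 56,
 .nb [[1, 3, 47]],
 .fx 26 14,
 .nb [[1, 3, 26]],
 .nb [[1, 3, 4]],
 .fx 5 12,
 .nb [[1, 0, 24, 3]],
 .nb [[3, 1, 23]],
 .nb [[3, 1, 15], [1, 3, 9, 3]],
 .nb [[1, 33, 1]],
 .nb [[1, 2, 47, 3]],
 .nb [[2, 47, 3]],
 .nb [[1, 3, 24]],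
 .nb [[3, 1, 37]],
 .nb [[1, 15, 2]],
 .nb [[1, 3, 4, 37]],
 .nb [[1, 3, 11, 4]],
 .nb [[3, 37, 1]]]),
 ((nat_lit 0xffd84f2f09ec64f32db2d00d48c0), [.nb [[]],
 .fx 6 56,
 .nb [[3, 1, 15]],
 .fx 21 12,
 .nb [[1, 24, 3]],
 .fx 90 2,
 .nb [[1, 3, 23]],
 .nb [[3, 1, 37], [3, 1, 22], [1, 2, 47, 3], [2, 12, 3], [2, 38, 3], [1, 3, 9], [1, 3, 7], [1, 3, 7, 45]],
 .nb [[1, 3]],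
 .nb [[1, 3, 24]],
 .nb [[1, 5, 49]],
 .fx 40 2,
 .nb [[1, 3, 28]],
 .nb [[1, 3, 4, 28]],
 .nb [[3, 1, 23]],
 .nb [[1, 12, 2]],
 .nb [[3, 37, 1]],
 .nb [[2, 31, 3]],
 .nb [[1, 3, 33]],
 .nb [[1, 5, 1]]]),
 ((nat_lit 0xa1f7a28039139e19427d36f3372e), [.nb [[]],
 .fx 1 56,
 .nb [[1, 22, 3]],
 .fx 24 14,
 .nb [[1, 3, 5, 10]],
 .fx 93 2,
 .nb [[1, 7, 1]],
 .fx 2 12,
 .nb [[1, 3, 47]],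
 .nb [[1, 12, 2], [1, 3, 7], [1, 3, 30]],
 .nb [[1, 3, 25]],
 .nb [[1, 3, 7]],
 .nb [[1, 41, 3]],
 .nb [[1, 12, 2]],
 .nb [[1, 3, 10]],
 .nb [[1, 3, 5, 8]],
 .nb [[1, 3, 7, 45]],
 .nb [[1, 3, 27]],
 .nb [[1, 0, 13, 3]],
 .nb [[1, 0, 24, 3]],
 .nb [[1, 3]]]),
 ((nat_lit 0x4e2fad843013dac8464d66fe372e), [.fx 1 56,
 .nb [[1, 22, 3]],
 .fx 5 10,
 .nb [[1, 0, 24, 3]],
 .nb [[2, 5, 2]],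
 .nb [[1, 3, 25], [1, 3, 11, 4], [1, 3, 27], [1, 3, 33], [1, 3, 23], [1, 7, 1], [1, 3, 5, 8], [1, 3]],
 .nb [[1, 4, 7]],
 .nb [[3, 1, 32]],
 .nb [[1, 3, 11, 4]],
 .nb [[1, 3, 27]],
 .nb [[1, 2, 47, 1]],
 .nb [[1, 3, 5, 14]],
 .nb [[1, 7, 1]],
 .nb [[1, 3, 8]],
 .nb [[1, 3, 29]],
 .nb [[1, 3, 33]],
 .nb [[1, 3]]]),
 ((nat_lit 0xefdbaf842912c6d1467c745d3602), [.nb [[]],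
 .fx 1 56,
 .nb [[1, 22, 3]],
 .fx 5 14,
 .nb [[1, 0, 24, 3]],
 .fx 109 2,
 .nb [[1, 3, 17]],
 .nb [[1, 3, 5], [1, 2, 14, 1], [1, 11, 3], [2, 41, 1], [2, 38, 3], [3, 1, 39], [3, 1, 32], [1, 47, 3]],
 .nb [[1, 4, 27]],
 .nb [[3, 1, 22]],
 .nb [[1, 7, 1]],
 .nb [[1, 3, 23]],
 .nb [[1, 3, 7]],
 .nb [[1, 3, 41]],
 .nb [[1, 32, 2]],
 .nb [[1, 3, 16]],
 .nb [[1, 3, 4, 37]],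
 .nb [[1, 3, 6, 39]],
 .nb [[1, 12, 2]]]),
 ((nat_lit 0xeffcaf041911dcd9047952bf212c), [.nb [[]],
 .fx 2 56,
 .nb [[1, 3, 47]],
 .fx 7 14,
 .nb [[3, 1, 37]],
 .nb [[1, 9, 3]],
 .fx 36 10,
 .nb [[1, 11, 3]],
 .nb [[1, 3, 25], [1, 3, 27], [1, 3, 44]],
 .nb [[1, 3, 4, 50]],
 .nb [[1, 12, 2]],
 .nb [[1, 3, 16]],
 .nb [[1, 43, 2]],
 .nb [[1, 3, 11, 4]],
 .nb [[1, 3, 10]],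
 .nb [[3, 1, 23]],
 .nb [[1, 7, 1]],
 .nb [[1, 3, 33]],
 .nb [[1, 3, 7]]]),
 ((nat_lit 0x27f0d3b0539a0eea4d2ef2377e), [.nb [[]],
 .fx 1 56,
 .nb [[1, 22, 3]],
 .fx 5 10,
 .nb [[1, 0, 24, 3]],
 .fx 109 2,
 .nb [[1, 3, 17]],
 .fx 47 9,
 .nb [[2, 11, 2]],
 .nb [[1, 32, 2], [3, 1, 24]],
 .nb [[1, 7, 1]],
 .nb [[1, 3, 19]],
 .nb [[1, 3, 5, 8]],
 .nb [[3, 1, 24]],
 .nb [[1, 3, 6, 39]],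
 .nb [[1, 3, 9, 3]],
 .nb [[2, 28, 1]],
 .nb [[1, 3]],
 .nb [[1, 5, 1]],
 .nb [[1, 3, 27]]]),
 ((nat_lit 0xa1d3f2d3a9528617ea7c3c513652), [.nb [[]],
 .fx 1 56,
 .nb [[1, 22, 3]],
 .fx 5 14,
 .nb [[1, 0, 24, 3]],
 .nb [[1, 3, 17]],
 .fx 26 12,
 .nb [[1, 3, 26]],
 .nb [[1, 3, 4, 28]],
 .nb [[1, 3, 9, 3]],
 .nb [[1, 3, 30]],
 .nb [[1, 15, 2]],
 .nb [[1, 3, 32]],
 .nb [[1, 2, 47, 1]],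
 .nb [[2, 11, 2]],
 .nb [[1, 0, 13, 3]],
 .nb [[1, 32, 2]],
 .nb [[1, 3, 8, 3]],
 .nb [[1, 12, 2]]]),
 ((nat_lit 0xa1f4f25399519c1fa8791ab3217c), [.fx 2 56,
 .nb [[1, 3, 47]],
 .fx 27 10,
 .nb [[3, 1, 10]],
 .nb [[1, 7, 1]],
 .nb [[2, 12, 3], [1, 12, 2], [1, 3, 10], [1, 3, 7], [1, 3, 6, 53], [1, 3, 40], [1, 3, 7, 45], [1, 3, 30]],
 .nb [[3, 1, 32]],
 .nb [[1, 3]],
 .nb [[1, 3, 49]],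
 .nb [[3, 1, 24]],
 .nb [[1, 0, 26]],
 .fx 45 2,
 .nb [[2, 12, 3]],
 .nb [[1, 3, 5, 8]],
 .nb [[1, 3, 7, 45]],
 .nb [[1, 3, 21]],
 .nb [[2, 11, 2]],
 .nb [[1, 32, 2]],
 .nb [[1, 3, 16]]]),
 ((nat_lit 0x4e0bfdd7a052c2c6ee4c6c5c3652), [.nb [[]],
 .fx 1 56,
 .nb [[1, 22, 3]],
 .fx 47 10,
 .nb [[2, 11, 2]],
 .fx 71 2,
 .nb [[1, 3, 24]],
 .fx 54 9,
 .nb [[1, 3, 11, 4]],
 .nb [[1, 3, 10], [3, 1, 24]],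
 .nb [[1, 3, 5, 8]],
 .nb [[3, 1, 23]],
 .nb [[1, 7, 1]],
 .nb [[1, 3, 40]],
 .nb [[3, 1, 10]],
 .nb [[1, 2, 14, 1]],
 .nb [[2, 28, 1]],
 .nb [[1, 3, 9, 3]],
 .nb [[1, 3, 33]]])]
theorem ex_15 : exAll 275 9 nx D 20160 ex2_15 = true := by decide +kernel
noncomputable def ex2_16 : List (ℕ × List Ins) := [((nat_lit 0x4e2cfd579051d8ceac494abe217c), [.nb [[]],
 .fx 2 56,
 .nb [[1, 3, 47]],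
 .fx 7 14,
 .nb [[3, 1, 37]],
 .nb [[1, 9, 3]],
 .fx 3 10,
 .nb [[3, 1]],
 .nb [[2, 47, 3]],
 .nb [[1, 3, 6, 53], [1, 7, 1]],
 .nb [[1, 51, 3]],
 .nb [[1, 3, 13]],
 .nb [[1, 3, 10]],
 .nb [[1, 3, 6, 53]],
 .nb [[2, 31]],
 .nb [[1, 43, 2]],
 .nb [[1, 3, 40]],
 .nb [[1, 54, 2]],
 .nb [[1, 3, 19]]]),
 ((nat_lit 0xefd8ff578950c4d7ac78581d2050), [.fx 4 56,
 .nb [[1, 23, 2]],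
 .fx 35 14,
 .nb [[1, 3, 6, 39]],
 .nb [[1, 3, 33]],
 .nb [[1, 11, 3], [1, 3, 32], [1, 32, 2], [1, 5, 1], [1, 3, 19], [1, 3, 13], [1, 3, 4, 28], [1, 3, 7, 45]],
 .nb [[1, 3, 5, 8]],
 .nb [[2, 47, 1]],
 .nb [[1, 3, 4]],
 .nb [[1, 51, 3]],
 .nb [[3, 38]],
 .fx 63 2,
 .nb [[3, 1, 32]],
 .nb [[1, 9, 3]],
 .nb [[1, 2, 14, 1]],
 .nb [[1, 3, 16]],
 .nb [[1, 3, 30]],
 .nb [[1, 0, 13, 3]],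
 .nb [[1, 3, 6, 53]]]),
 ((nat_lit 0x27b0f8b033ba0cc3cf2ef237be), [.nb [[]],
 .fx 1 56,
 .nb [[1, 22, 3]],
 .fx 5 10,
 .nb [[1, 0, 24, 3]],
 .fx 109 2,
 .nb [[1, 3, 17]],
 .fx 33 9,
 .nb [[2, 33, 2]],
 .nb [[1, 3, 6], [1, 3, 6, 53]],
 .nb [[1, 32, 2]],
 .nb [[2, 28, 1]],
 .nb [[1, 3, 6, 53]],
 .nb [[3, 37, 1]],
 .nb [[1, 7, 1]],
 .nb [[1, 3, 26]],
 .nb [[1, 3, 5, 8]],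
 .nb [[1, 3, 27]],
 .nb [[3, 1, 24]],
 .nb [[1, 3]]]),
 ((nat_lit 0xa1d3b2f8a932a615c3fe3c513692), [.nb [[]],
 .fx 1 56,
 .nb [[1, 22, 3]],
 .fx 5 14,
 .nb [[1, 0, 24, 3]],
 .nb [[1, 3, 17]],
 .fx 26 12,
 .nb [[1, 3, 26]],
 .nb [[1, 3, 4, 28]],
 .nb [[1, 3, 28]],
 .nb [[1, 3, 8, 3]],
 .nb [[3, 37, 1]],
 .nb [[1, 3, 16]],
 .nb [[1, 3, 29]],
 .nb [[1, 7, 1]],
 .nb [[1, 3, 41]],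
 .nb [[3, 1, 24]],
 .nb [[1, 3, 30]],
 .nb [[1, 3, 31]]]),
 ((nat_lit 0xa1f4b2789931bc1d81fb1ab321bc), [.nb [[]],
 .fx 2 56,
 .nb [[1, 3, 47]],
 .fx 7 10,
 .nb [[3, 1, 37]],
 .fx 106 2,
 .nb [[1, 9, 3]],
 .fx 27 9,
 .nb [[3, 1, 10]],
 .nb [[1, 7, 1]],
 .nb [[1, 3, 5, 53], [1, 3, 14]],
 .nb [[1, 12, 2]],
 .nb [[1, 3, 6, 53]],
 .nb [[1, 3, 10]],
 .nb [[1, 3]],
 .nb [[1, 2, 47, 3]],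
 .nb [[1, 3, 17]],
 .nb [[1, 51, 3]],
 .nb [[1, 3, 9, 30]],
 .nb [[1, 3, 30]]]),
 ((nat_lit 0x4e0bbdfca032e2c4c7ce6c5c3692), [.fx 1 56,
 .nb [[1, 22, 3]],
 .nb [[2, 33, 2], [1, 3, 28], [2, 11, 2], [1, 3, 11, 4], [1, 3, 33], [1, 3, 23], [2, 28, 1], [1, 7, 1], [1, 3, 5, 8], [2, 5, 2]],
 .nb [[2, 35, 3]],
 .nb [[1, 4, 7]],
 .nb [[1, 3, 6, 39], [3, 1, 32]],
 .nb [[1, 2, 33, 3]],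
 .fx 33 2,
 .nb [[2, 33, 2]],
 .nb [[1, 3, 30]],
 .nb [[1, 3, 9, 30]],
 .fx 54 2,
 .nb [[1, 3, 11, 4]],
 .nb [[1, 3, 5, 17]],
 .nb [[1, 7, 1]],
 .nb [[2, 28, 1]],
 .nb [[3, 1, 23]],
 .nb [[1, 3, 8]],
 .nb [[1, 47, 3]]]),
 ((nat_lit 0x4e2cbd7c9031f8cc85cb4abe21bc), [.nb [[]],
 .fx 2 56,
 .nb [[1, 3, 47]],
 .fx 26 14,
 .nb [[1, 3, 26]],
 .nb [[1, 3, 4]],
 .fx 5 12,
 .nb [[1, 0, 24, 3]],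
 .nb [[3, 1, 23]],
 .nb [[1, 2, 14, 1], [1, 36, 3]],
 .nb [[1, 3, 6, 53]],
 .nb [[1, 7, 1]],
 .nb [[1, 3, 10]],
 .nb [[3, 1, 37]],
 .nb [[1, 9, 3]],
 .nb [[1, 3, 43]],
 .nb [[1, 3, 5, 8]],
 .nb [[2, 47, 1]],
 .nb [[1, 3, 4, 50]]]),
 ((nat_lit 0xefd8bf7c8930e4d585fa581d2090), [.nb [[]],
 .fx 4 56,
 .nb [[1, 23, 2]],
 .fx 9 12,
 .nb [[1, 3, 5]],
 .nb [[1, 3, 16]],
 .fx 7 9,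
 .nb [[3, 1, 37]],
 .nb [[1, 51, 3], [1, 3, 13], [1, 3, 23]],
 .nb [[1, 3, 4, 37]],
 .nb [[1, 0, 13, 3]],
 .nb [[3, 1, 10]],
 .nb [[1, 7, 1]],
 .nb [[3, 1, 23]],
 .nb [[1, 9, 3]],
 .nb [[3, 1, 32]],
 .nb [[1, 3, 6]],
 .nb [[2, 28, 1]]]),
 ((nat_lit 0x27e0ab3073ba0a6bcf26f237ee), [.nb [[]],
 .fx 1 56,
 .nb [[1, 22, 3]],
 .fx 5 10,
 .nb [[1, 0, 24, 3]],
 .fx 109 2,
 .nb [[1, 3, 17]],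
 .fx 33 9,
 .nb [[2, 33, 2]],
 .nb [[1, 3, 9, 3]],
 .nb [[1, 23, 2], [1, 3, 4]],
 .nb [[1, 3, 40]],
 .nb [[1, 5, 1]],
 .nb [[1, 3, 5, 8]],
 .nb [[1, 3, 19]],
 .nb [[1, 7, 1]],
 .nb [[1, 3, 6]],
 .nb [[1, 32, 2]],
 .nb [[1, 3, 6, 39]],
 .nb [[1, 2, 47, 1]]]),
 ((nat_lit 0xa1d3e2ab2972a6136bfe345136c2), [.nb [[]],
 .fx 1 56,
 .nb [[1, 22, 3]],
 .fx 5 14,
 .nb [[1, 0, 24, 3]],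
 .fx 26 12,
 .nb [[1, 3, 26]],
 .nb [[1, 3, 4, 28]],
 .nb [[1, 3, 28], [1, 3, 9, 3]],
 .nb [[2, 35, 3]],
 .nb [[1, 3, 7]],
 .nb [[1, 3, 23]],
 .nb [[2, 28, 1]],
 .nb [[1, 12, 2]],
 .nb [[1, 3, 6, 39]],
 .nb [[1, 3, 5, 8]],
 .nb [[1, 3, 9, 3]],
 .nb [[1, 3, 30]],
 .nb [[1, 7, 1]],
 .nb [[1, 32, 2]]]),
 ((nat_lit 0xa1f4e22b1971bc1b29fb12b321ec), [.nb [[]],
 .fx 2 56,
 .nb [[1, 3, 47]],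
 .nb [[3, 1, 37], [1, 2, 47, 3], [2, 12, 3], [1, 12, 2], [1, 3, 10], [1, 3, 7], [1, 7, 1], [1, 3, 40], [1, 3, 7, 45], [1, 3, 30]],
 .nb [[1, 24, 3]],
 .nb [[3, 6]],
 .nb [[2, 33, 2], [3, 1, 38]],
 .nb [[1, 3, 49]],
 .fx 45 2,
 .nb [[2, 12, 3]],
 .nb [[1, 3, 24]],
 .nb [[1, 50]],
 .fx 72 2,
 .nb [[1, 3, 7]],
 .nb [[3, 1, 12]],
 .nb [[3, 1, 37]],
 .nb [[1, 3, 17]],
 .nb [[1, 3, 10]],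
 .nb [[1, 3, 8, 3]],
 .nb [[2, 34, 1]]]),
 ((nat_lit 0x4e0bedaf2072e2c26fce645c36c2), [.fx 1 56,
 .nb [[1, 22, 3]],
 .fx 33 10,
 .nb [[2, 33, 2]],
 .nb [[1, 3, 9, 3]],
 .nb [[1, 3, 28], [1, 3, 11, 4], [1, 3, 33], [1, 3, 23], [1, 7, 1], [1, 3, 40], [1, 3, 5, 8], [2, 5, 2]],
 .nb [[1, 3, 19]],
 .nb [[1, 2, 33, 3]],
 .nb [[1, 22, 2]],
 .nb [[1, 2, 47, 3]],
 .nb [[1, 0, 26]],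
 .fx 93 2,
 .nb [[1, 7, 1]],
 .nb [[1, 15, 2]],
 .nb [[1, 3, 11, 4]],
 .nb [[1, 3, 5]],
 .nb [[1, 3, 6]],
 .nb [[2, 5, 3]],
 .nb [[1, 9, 3]]]),
 ((nat_lit 0x4e2ced2f1071f8ca2dcb42be21ec), [.nb [[]],
 .fx 2 56,
 .nb [[1, 3, 47]],
 .fx 26 14,
 .nb [[1, 3, 26]],
 .nb [[1, 3, 4]],
 .fx 5 12,
 .nb [[1, 0, 24, 3]],
 .nb [[3, 1, 23]],
 .nb [[1, 3, 6, 53], [1, 3, 7, 45], [1, 33, 1]],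
 .nb [[1, 2, 47, 3]],
 .nb [[2, 5, 2]],
 .nb [[1, 3, 23]],
 .nb [[1, 7, 1]],
 .nb [[1, 3, 4, 37]],
 .nb [[1, 15, 2]],
 .nb [[1, 3, 10]],
 .nb [[3, 1, 37]],
 .nb [[3, 37, 1]]]),
 ((nat_lit 0xefd8ef2f0970e4d32dfa501d20c0), [.nb [[]],
 .fx 6 56,
 .nb [[3, 1, 15]],
 .fx 11 12,
 .nb [[2, 31, 3]],
 .nb [[2, 5, 2]],
 .fx 13 9,
 .nb [[1, 2, 14, 1]],
 .nb [[1, 3, 19], [1, 3, 40], [1, 3, 16]],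
 .nb [[1, 3, 31]],
 .nb [[2, 5, 3]],
 .nb [[1, 9, 3]],
 .nb [[1, 3, 9, 30]],
 .nb [[1, 3, 4, 28]],
 .nb [[1, 43, 2]],
 .nb [[1, 3, 28]],
 .nb [[3, 37, 1]],
 .nb [[1, 5, 1]],
 .nb [[1, 15, 2]]]),
 ((nat_lit 0x1027b0d0b09f9a2cc24daef27f3e), [.nb [[]],
 .fx 1 56,
 .nb [[1, 22, 3]],
 .fx 5 10,
 .nb [[1, 0, 24, 3]],
 .fx 109 2,
 .nb [[1, 3, 17]],
 .fx 47 9,
 .nb [[2, 11, 2]],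
 .nb [[1, 3, 24]],
 .nb [[1, 2, 47, 1]],
 .nb [[1, 23, 2]],
 .nb [[2, 43, 1]],
 .nb [[1, 3, 27]],
 .nb [[1, 3, 6, 39]],
 .nb [[3, 1, 24]],
 .nb [[1, 3, 11]],
 .nb [[2, 28, 1]],
 .nb [[1, 3, 9]],
 .nb [[1, 32, 2]]]),
 ((nat_lit 0xb1d3b2d0a99e8635c27cbc517e12), [.nb [[]],
 .fx 1 56,
 .nb [[1, 22, 3]],
 .fx 5 14,
 .nb [[1, 0, 24, 3]],
 .nb [[1, 3, 17]],
 .fx 26 12,
 .nb [[1, 3, 26]],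
 .nb [[1, 3, 4, 28]],
 .nb [[1, 3, 23]],
 .nb [[1, 3, 7]],
 .nb [[2, 35, 3]],
 .nb [[1, 4, 4]],
 .nb [[1, 3, 11]],
 .nb [[2, 28, 1]],
 .nb [[1, 3, 24]],
 .nb [[1, 0, 13, 3]],
 .nb [[1, 3, 6, 53]],
 .nb [[1, 33, 1]],
 .nb [[1, 2, 47, 1]]])]
theorem ex_16 : exAll 275 9 nx D 20160 ex2_16 = true := by decide +kernel
noncomputable def ex2_17 : List (ℕ × List Ins) := [((nat_lit 0xb1f4b250999d9c3d80799ab3693c), [.nb [[]],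
 .fx 2 56,
 .nb [[1, 3, 47]],
 .fx 27 10,
 .nb [[3, 1, 10]],
 .nb [[1, 7, 1]],
 .nb [[1, 12, 2], [1, 3, 10], [1, 3, 24], [1, 3, 7], [1, 3, 6, 53], [1, 3, 7, 45], [1, 33, 1], [1, 3, 30]],
 .nb [[1, 3, 11, 4]],
 .nb [[3, 1, 24]],
 .nb [[3, 1, 32]],
 .nb [[1, 3]],
 .nb [[1, 3, 6, 53]],
 .fx 72 2,
 .nb [[1, 3, 7]],
 .nb [[3, 1, 28]],
 .nb [[1, 3, 24]],
 .nb [[2, 31, 3]],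
 .nb [[1, 3, 7, 45]],
 .nb [[1, 3, 4, 28]],
 .nb [[1, 3, 17]]]),
 ((nat_lit 0x5e0bbdd4a09ec2e4c64cec5c7e12), [.nb [[]],
 .fx 1 56,
 .nb [[1, 22, 3]],
 .fx 47 10,
 .nb [[2, 11, 2]],
 .nb [[1, 3, 24]],
 .nb [[1, 3, 11, 4], [1, 3, 11], [1, 3, 33], [1, 3, 23], [2, 28, 1], [1, 7, 1], [1, 3, 5, 8], [2, 5, 2]],
 .nb [[1, 12, 2]],
 .nb [[1, 3, 13]],
 .nb [[1, 3, 9]],
 .nb [[1, 2, 33, 3]],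
 .nb [[2, 28, 1]],
 .fx 82 2,
 .nb [[1, 3, 33]],
 .nb [[1, 32, 2]],
 .nb [[1, 7, 1]],
 .nb [[1, 36, 3]],
 .nb [[1, 3, 23]],
 .nb [[3, 1, 23]],
 .nb [[1, 3, 4]]]),
 ((nat_lit 0x5e2cbd54909dd8ec8449cabe693c), [.nb [[]],
 .fx 2 56,
 .nb [[1, 3, 47]],
 .fx 7 14,
 .nb [[3, 1, 37]],
 .nb [[1, 9, 3]],
 .fx 50 10,
 .nb [[1, 51, 3]],
 .nb [[2, 28, 1]],
 .nb [[1, 3, 51], [2, 47, 3]],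
 .nb [[1, 7, 1]],
 .nb [[1, 3, 10]],
 .nb [[1, 3, 6, 53]],
 .nb [[1, 3, 13]],
 .nb [[2, 40]],
 .nb [[1, 3, 4, 50]],
 .nb [[1, 33, 1]],
 .nb [[2, 34, 1]],
 .nb [[1, 3, 4]]]),
 ((nat_lit 0xffd8bf54899cc4f58478d81d6810), [.nb [[]],
 .fx 4 56,
 .nb [[1, 23, 2]],
 .fx 9 12,
 .nb [[1, 3, 5]],
 .fx 104 2,
 .nb [[1, 3, 16]],
 .nb [[2, 31, 3], [1, 2, 14, 1], [1, 3, 5, 14], [3, 1, 10], [1, 32, 2], [1, 3, 11, 4], [1, 3, 8], [1, 43, 2]],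
 .nb [[1, 41, 3]],
 .nb [[1, 3, 17]],
 .nb [[3, 1, 28]],
 .nb [[2, 8]],
 .fx 93 2,
 .nb [[1, 7, 1]],
 .nb [[3, 1, 23]],
 .nb [[1, 3, 4, 28]],
 .nb [[1, 3, 33]],
 .nb [[1, 3, 6, 39]],
 .nb [[1, 3, 24]],
 .nb [[1, 12, 2]],
 .nb [[2, 28, 1]]]),
 ((nat_lit 0x1027e08330df9a2a6a4da6f27f6e), [.nb [[]],
 .fx 1 56,
 .nb [[1, 22, 3]],
 .fx 5 10,
 .nb [[1, 0, 24, 3]],
 .fx 109 2,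
 .nb [[1, 3, 17]],
 .fx 51 9,
 .nb [[1, 3, 25]],
 .nb [[1, 3, 19]],
 .nb [[1, 33, 1]],
 .nb [[1, 4, 1]],
 .nb [[3, 1, 28]],
 .nb [[1, 3, 11]],
 .nb [[1, 3]],
 .nb [[1, 5, 1]],
 .nb [[1, 3, 5, 8]],
 .nb [[1, 3, 40]],
 .nb [[1, 3, 9, 3]],
 .nb [[1, 3, 24]]]),
 ((nat_lit 0xb1d3e28329de86336a7cb4517e42), [.nb [[]],
 .fx 1 56,
 .nb [[1, 22, 3]],
 .fx 5 14,
 .nb [[1, 0, 24, 3]],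
 .nb [[1, 3, 17]],
 .fx 26 12,
 .nb [[1, 3, 26]],
 .nb [[1, 3, 4, 28]],
 .nb [[2, 31, 3], [1, 3, 18]],
 .nb [[1, 3, 5, 8]],
 .nb [[1, 3, 11]],
 .nb [[1, 3, 40]],
 .nb [[1, 3, 31]],
 .nb [[1, 5, 1]],
 .nb [[1, 3, 24]],
 .nb [[1, 3, 9, 3]],
 .nb [[1, 7, 1]]]),
 ((nat_lit 0xb1f4e20319dd9c3b287992b3696c), [.fx 2 56,
 .nb [[1, 3, 47]],
 .fx 45 10,
 .nb [[2, 12, 3]],
 .nb [[1, 3, 24]],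
 .nb [[1, 12, 2], [1, 3, 10], [1, 3, 7], [1, 7, 1], [1, 3, 40], [1, 3, 7, 45], [1, 33, 1], [1, 3, 30]],
 .nb [[2, 5, 3]],
 .nb [[1, 24, 3]],
 .nb [[1, 3, 49]],
 .nb [[1, 3, 9]],
 .fx 68 2,
 .nb [[1, 3, 10]],
 .nb [[1, 3, 9, 3]],
 .nb [[1, 3, 30]],
 .nb [[3, 1, 32]],
 .nb [[1, 3, 7, 45]],
 .nb [[1, 3, 17]],
 .nb [[1, 3, 18]]]),
 ((nat_lit 0x5e0bed8720dec2e26e4ce45c7e42), [.nb [[]],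
 .fx 1 56,
 .nb [[1, 22, 3]],
 .fx 54 10,
 .nb [[1, 3, 11, 4]],
 .fx 60 2,
 .nb [[1, 3, 27]],
 .fx 66 9,
 .nb [[1, 3, 11]],
 .nb [[2, 43, 1], [1, 15, 2]],
 .nb [[1, 3, 40]],
 .nb [[3, 1, 32]],
 .nb [[1, 3, 9, 3]],
 .nb [[2, 43, 1]],
 .nb [[1, 3, 19]],
 .nb [[1, 7, 1]],
 .nb [[1, 3, 24]],
 .nb [[1, 3, 23]],
 .nb [[1, 3, 10]],
 .nb [[1, 3, 33]]]),
 ((nat_lit 0x5e2ced0710ddd8ea2c49c2be696c), [.nb [[]],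
 .fx 2 56,
 .nb [[1, 3, 47]],
 .fx 7 14,
 .nb [[3, 1, 37]],
 .nb [[1, 9, 3]],
 .fx 49 10,
 .nb [[1, 5, 1]],
 .nb [[1, 2, 47, 3], [1, 3, 7], [1, 41, 3]],
 .nb [[1, 3, 23]],
 .nb [[2, 34, 1]],
 .nb [[1, 3, 8]],
 .nb [[1, 3, 44]],
 .nb [[1, 3, 24]],
 .nb [[2, 12, 3]],
 .nb [[1, 33, 1]],
 .nb [[1, 3, 40]],
 .nb [[1, 3, 11, 4]],
 .nb [[1, 3, 33]],
 .nb [[1, 7, 1]],
 .nb [[1, 15, 2]],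
 .nb [[2, 47, 1]]]),
 ((nat_lit 0xffd8ef0709dcc4f32c78d01d6840), [.nb [[]],
 .fx 6 56,
 .nb [[3, 1, 15]],
 .fx 21 12,
 .nb [[1, 24, 3]],
 .fx 90 2,
 .nb [[1, 3, 23]],
 .nb [[1, 36, 3], [3, 1, 22], [1, 3, 6, 39], [2, 12, 3], [2, 38, 3], [1, 3, 9], [1, 3, 7], [1, 3, 7, 45]],
 .nb [[2, 5, 3]],
 .nb [[1, 3, 24]],
 .nb [[1, 3, 9]],
 .nb [[2, 43, 1]],
 .nb [[1, 5, 49]],
 .fx 49 2,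
 .nb [[1, 5, 1]],
 .nb [[1, 3, 5, 8]],
 .nb [[3, 1, 32]],
 .nb [[1, 0, 13, 3]],
 .nb [[1, 12, 2]],
 .nb [[1, 11, 3]],
 .nb [[2, 5, 2]]]),
 ((nat_lit 0xb1d3a2a829bea63143feb4517e82), [.nb [[]],
 .fx 1 56,
 .nb [[1, 22, 3]],
 .fx 5 14,
 .nb [[1, 0, 24, 3]],
 .nb [[1, 3, 17]],
 .fx 26 12,
 .nb [[1, 3, 26]],
 .nb [[1, 3, 4, 28]],
 .nb [[2, 31, 3], [1, 3, 18]],
 .nb [[1, 3, 5, 8]],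
 .nb [[1, 3, 24]],
 .nb [[1, 0, 13, 3]],
 .nb [[3, 1, 22]],
 .nb [[1, 7, 1]],
 .nb [[1, 3, 7, 45]],
 .nb [[1, 3, 28]],
 .nb [[1, 3, 11]],
 .nb [[2, 33, 2]],
 .nb [[1, 2, 47, 1]]]),
 ((nat_lit 0x5e2cad2c10bdf8e805cbc2be69ac), [.nb [[]],
 .fx 2 56,
 .nb [[1, 3, 47]],
 .fx 26 14,
 .nb [[1, 3, 26]],
 .nb [[1, 3, 4]],
 .fx 5 12,
 .nb [[1, 0, 24, 3]],
 .nb [[3, 1, 23]],
 .nb [[1, 2, 14, 1], [1, 36, 3]],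
 .nb [[1, 33, 1]],
 .nb [[1, 7, 1]],
 .nb [[1, 3, 4, 37]],
 .nb [[2, 47, 3]],
 .nb [[1, 3, 24]],
 .nb [[1, 3, 23]],
 .nb [[3, 1, 37]],
 .nb [[1, 3, 10]],
 .nb [[1, 2, 47, 3]],
 .nb [[1, 3, 43]]]),
 ((nat_lit 0x1003f0fba0fea226ebceac507ed2), [.fx 1 56,
 .nb [[1, 22, 3]],
 .fx 33 10,
 .nb [[2, 33, 2]],
 .nb [[1, 3, 28], [2, 11, 2], [1, 3, 11], [1, 3, 24], [2, 28, 1], [1, 7, 1], [1, 3, 40], [1, 3, 5, 8]],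
 .nb [[1, 2, 33, 3]],
 .nb [[1, 3, 19]],
 .nb [[3, 1, 15]],
 .nb [[1, 3, 28]],
 .nb [[1, 4, 7]],
 .nb [[1, 0, 26]],
 .fx 47 2,
 .nb [[2, 11, 2]],
 .nb [[1, 3, 24]],
 .nb [[3, 37, 1]],
 .nb [[1, 3, 13]],
 .nb [[2, 43, 1]],
 .nb [[1, 41, 3]],
 .nb [[1, 5, 1]]]),
 ((nat_lit 0x1024f07b90fdb82ea9cb8ab269fc), [.nb [[]],
 .fx 2 56,
 .nb [[1, 3, 47]],
 .fx 7 10,
 .nb [[3, 1, 37]],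
 .fx 106 2,
 .nb [[1, 9, 3]],
 .fx 27 9,
 .nb [[3, 1, 10]],
 .nb [[1, 7, 1]],
 .nb [[1, 3, 8, 3], [1, 3, 29]],
 .nb [[1, 51, 3]],
 .nb [[1, 3, 9, 30]],
 .nb [[3, 1, 24]],
 .nb [[1, 2, 47, 3]],
 .nb [[1, 3, 10]],
 .nb [[1, 3, 6, 53]],
 .nb [[2, 40]],
 .nb [[2, 12, 3]],
 .nb [[1, 3, 24]],
 .nb [[1, 15, 2]],
 .nb [[1, 3, 9, 3]]]),
 ((nat_lit 0xb1d0f27b89fca437a9fa981168d0), [.nb [[]],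
 .fx 4 56,
 .nb [[1, 23, 2]],
 .fx 9 12,
 .nb [[1, 3, 5]],
 .fx 104 2,
 .nb [[1, 3, 16]],
 .nb [[3, 1, 37], [2, 31, 3], [1, 2, 14, 1], [3, 1, 10], [1, 32, 2], [2, 5, 3], [1, 5, 1], [3, 37, 1]],
 .nb [[2, 43, 1]],
 .nb [[1, 3, 17]],
 .nb [[3, 1, 28]],
 .nb [[2, 8]],
 .nb [[3, 6]],
 .fx 67 2,
 .nb [[1, 3, 9]],
 .nb [[1, 3, 30]],
 .nb [[1, 12, 2]],
 .nb [[3, 1, 38]],
 .nb [[1, 3, 28]],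
 .nb [[1, 15, 2]],
 .nb [[1, 3, 6, 39]]]),
 ((nat_lit 0x5e08fd7f80fce0e6adcac81c68d0), [.nb [[]],
 .fx 4 56,
 .nb [[1, 23, 2]],
 .fx 9 12,
 .nb [[1, 3, 5]],
 .nb [[1, 33, 1]],
 .fx 23 10,
 .nb [[1, 3, 51]],
 .nb [[1, 0, 31, 1], [1, 3, 32], [1, 3, 14]],
 .nb [[1, 3, 4, 37]],
 .nb [[1, 7, 1]],
 .nb [[1, 3, 28]],
 .nb [[2, 47, 1]],
 .nb [[1, 3, 5, 8]],
 .nb [[1, 3, 9, 30]],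
 .nb [[1, 3, 33]],
 .nb [[2, 28, 1]],
 .nb [[1, 54, 2]],
 .nb [[2, 43, 1]]])]
theorem ex_17 : exAll 275 9 nx D 20160 ex2_17 = true := by decide +kernel
noncomputable def ex2_18 : List (ℕ × List Ins) := [((nat_lit 0x1a1f702807f031f19523537e3972e), [.nb [[]],
 .fx 1 56,
 .nb [[1, 22, 3]],
 .fx 33 14,
 .nb [[2, 33, 2]],
 .nb [[1, 3, 30]],
 .fx 8 10,
 .nb [[1, 3, 21]],
 .nb [[1, 3, 7], [1, 0, 13, 3], [1, 3, 41]],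
 .nb [[1, 41, 3]],
 .nb [[1, 3, 5, 10]],
 .nb [[1, 3, 41]],
 .nb [[2, 38, 3]],
 .nb [[1, 3, 27]],
 .nb [[1, 0, 24, 3]],
 .nb [[1, 3, 17]],
 .nb [[3, 1, 36]],
 .nb [[1, 47, 2]],
 .nb [[1, 3, 8, 3]],
 .nb [[1, 3]]]),
 ((nat_lit 0x14e2f0d8476035bc8560567ee972e), [.fx 1 56,
 .nb [[1, 22, 3]],
 .fx 5 10,
 .nb [[1, 0, 24, 3]],
 .nb [[2, 5, 2]],
 .nb [[1, 3, 5, 10], [1, 3, 25], [1, 3, 11, 4], [1, 3, 27], [1, 3, 33], [1, 3, 23], [1, 3], [1, 47, 2]],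
 .nb [[3, 6]],
 .nb [[1, 49, 2]],
 .nb [[1, 3, 11, 4]],
 .nb [[1, 3, 27]],
 .nb [[1, 2, 47, 1]],
 .nb [[1, 3, 5, 14]],
 .nb [[1, 47, 2]],
 .nb [[1, 43, 2]],
 .nb [[1, 3, 26]],
 .nb [[1, 3, 23]],
 .nb [[1, 3, 25]]]),
 ((nat_lit 0x1efdb0f846f0247d15634754d9602), [.nb [[]],
 .fx 1 56,
 .nb [[1, 22, 3]],
 .fx 5 14,
 .nb [[1, 0, 24, 3]],
 .fx 109 2,
 .nb [[1, 3, 17]],
 .nb [[1, 3, 5], [1, 49, 2], [1, 11, 3], [2, 41, 1], [2, 38, 3], [3, 1, 39], [1, 47, 3], [1, 3, 12]],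
 .nb [[1, 4, 27]],
 .nb [[1, 3, 4, 28]],
 .nb [[1, 47, 2]],
 .nb [[1, 3, 33]],
 .nb [[1, 3, 32]],
 .nb [[1, 3, 31]],
 .nb [[3, 1, 36]],
 .nb [[1, 3, 16]],
 .nb [[1, 3, 6, 9]],
 .nb [[2, 4, 3]],
 .nb [[1, 3, 8, 3]]]),
 ((nat_lit 0x1effc0f045f015dd9143153af812c), [.nb [[]],
 .fx 2 56,
 .nb [[1, 3, 47]],
 .fx 7 14,
 .nb [[3, 1, 37]],
 .fx 106 2,
 .nb [[1, 9, 3]],
 .fx 3 12,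
 .nb [[3, 1]],
 .nb [[2, 47, 3]],
 .nb [[1, 3, 10], [1, 41, 3]],
 .nb [[1, 12, 2]],
 .nb [[1, 3, 8]],
 .nb [[3, 1, 23]],
 .nb [[1, 3, 12]],
 .nb [[2, 5, 2]],
 .nb [[1, 3, 7, 45]],
 .nb [[1, 3, 7]],
 .nb [[1, 3, 4]],
 .nb [[1, 3, 16]],
 .nb [[1, 3, 17]]]),
 ((nat_lit 0x1a1d352d3ef420717fa343d419652), [.nb [[]],
 .fx 1 56,
 .nb [[1, 22, 3]],
 .fx 5 14,
 .nb [[1, 0, 24, 3]],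
 .nb [[1, 3, 17]],
 .fx 26 12,
 .nb [[1, 3, 26]],
 .nb [[1, 3, 4, 28]],
 .nb [[1, 49, 2], [1, 3, 12]],
 .nb [[2, 28, 1]],
 .nb [[1, 3, 5, 10]],
 .nb [[1, 3, 41]],
 .nb [[1, 3, 7, 45]],
 .nb [[2, 11, 2]],
 .nb [[3, 1, 22]],
 .nb [[1, 3, 9, 3]],
 .nb [[1, 47, 2]],
 .nb [[1, 3, 40]],
 .nb [[1, 3, 29]]]),
 ((nat_lit 0x14e2c5d57d64159cebc014bae817c), [.nb [[]],
 .fx 2 56,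
 .nb [[1, 3, 47]],
 .fx 7 14,
 .nb [[3, 1, 37]],
 .fx 106 2,
 .nb [[1, 9, 3]],
 .nb [[3, 1], [1, 3, 5, 14], [1, 24, 3], [1, 3, 51], [2, 47, 3], [1, 3, 6, 9], [1, 45, 3], [3, 1, 36]],
 .nb [[1, 27]],
 .nb [[3, 1, 23]],
 .nb [[1, 3, 12]],
 .nb [[2, 5, 2]],
 .nb [[1, 3, 49]],
 .nb [[1, 4, 27]],
 .fx 55 2,
 .nb [[2, 47, 1]],
 .nb [[1, 3, 13]],
 .nb [[1, 3, 33]],
 .nb [[3, 1, 10]],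
 .nb [[1, 3, 4, 37]],
 .nb [[1, 5, 1]],
 .nb [[1, 3, 40]]]),
 ((nat_lit 0x1002710f8f6233b0cd3872fe297be), [.nb [[]],
 .fx 1 56,
 .nb [[1, 22, 3]],
 .fx 5 10,
 .nb [[1, 0, 24, 3]],
 .fx 109 2,
 .nb [[1, 3, 17]],
 .fx 24 9,
 .nb [[1, 3, 5, 10]],
 .nb [[1, 3, 6], [1, 3, 29]],
 .nb [[2, 4, 3]],
 .nb [[1, 3, 27]],
 .nb [[1, 3, 6]],
 .nb [[1, 3, 28]],
 .nb [[3, 37, 1]],
 .nb [[2, 28, 1]],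
 .nb [[1, 3]],
 .nb [[1, 3, 6, 53]],
 .nb [[1, 47, 2]],
 .nb [[3, 1, 24]],
 .nb [[1, 3, 25]]]),
 ((nat_lit 0x1a1d312f8ef222715d3b63d419692), [.nb [[]],
 .fx 1 56,
 .nb [[1, 22, 3]],
 .fx 5 14,
 .nb [[1, 0, 24, 3]],
 .nb [[1, 3, 17]],
 .fx 26 12,
 .nb [[1, 3, 26]],
 .nb [[1, 3, 4, 28]],
 .nb [[1, 49, 2], [1, 3, 12]],
 .nb [[2, 28, 1]],
 .nb [[1, 47, 2]],
 .nb [[2, 33, 2]],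
 .nb [[1, 12, 2]],
 .nb [[1, 3, 6]],
 .nb [[1, 3, 5, 10]],
 .nb [[1, 3, 28]],
 .nb [[2, 11, 2]]]),
 ((nat_lit 0x1a1f41278df213d1d91b31ba381bc), [.fx 2 56,
 .nb [[1, 3, 47]],
 .fx 7 10,
 .nb [[3, 1, 37]],
 .nb [[1, 47, 2]],
 .nb [[3, 1, 10], [1, 2, 47, 3], [1, 12, 2], [1, 3, 7], [1, 3, 12], [1, 3, 6, 53], [1, 3, 7, 45], [1, 3, 30]],
 .nb [[3, 1, 38]],
 .nb [[1, 24, 3]],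
 .nb [[1, 3]],
 .nb [[1, 49, 2]],
 .fx 27 2,
 .nb [[3, 1, 10]],
 .nb [[1, 3, 9, 30]],
 .nb [[1, 3, 30]],
 .nb [[2, 28, 1]],
 .nb [[1, 12, 2]],
 .nb [[1, 3, 17]],
 .nb [[2, 4, 3]]]),
 ((nat_lit 0x14e0b1dfce62263c4d7866d4c9692), [.nb [[]],
 .fx 1 56,
 .nb [[1, 22, 3]],
 .fx 24 10,
 .nb [[1, 3, 5, 10]],
 .fx 93 2,
 .nb [[1, 7, 1]],
 .fx 33 9,
 .nb [[2, 33, 2]],
 .nb [[2, 38, 3], [3, 1, 12], [1, 3, 7, 45]],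
 .nb [[3, 1, 36]],
 .nb [[1, 3, 23]],
 .nb [[1, 41, 3]],
 .nb [[3, 1, 37]],
 .nb [[2, 28, 1]],
 .nb [[1, 3, 11, 4]],
 .nb [[1, 3, 6]],
 .nb [[1, 47, 2]],
 .nb [[1, 3, 28]],
 .nb [[3, 37, 1]],
 .nb [[1, 3, 29]]]),
 ((nat_lit 0x14e2c1d7cd62179cc95834bae81bc), [.nb [[]],
 .fx 2 56,
 .nb [[1, 3, 47]],
 .fx 26 14,
 .nb [[1, 3, 26]],
 .fx 5 12,
 .nb [[1, 0, 24, 3]],
 .nb [[3, 1, 23]],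
 .nb [[3, 1, 37], [1, 3, 12]],
 .nb [[1, 3, 49]],
 .nb [[1, 3, 33]],
 .nb [[1, 3, 7, 45]],
 .nb [[1, 33, 1]],
 .nb [[1, 3, 4, 50]],
 .nb [[2, 28, 1]],
 .nb [[1, 3, 6, 53]],
 .nb [[3, 1, 37]],
 .nb [[1, 9, 3]],
 .nb [[3, 1, 10]],
 .nb [[1, 3, 13]]]),
 ((nat_lit 0x1efd81f7ccf2065d595b2590d8090), [.fx 4 56,
 .nb [[1, 23, 2]],
 .nb [[1, 2, 47, 3], [1, 3, 28], [2, 38, 3], [2, 47, 1], [1, 3, 33], [1, 3, 6], [1, 3, 6, 53], [3, 1, 38], [2, 28, 1], [1, 3, 16], [3, 1, 23], [1, 9, 3], [1, 3, 17], [1, 3, 30]],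
 .nb [[1, 51, 3]],
 .nb [[3, 6]],
 .nb [[1, 4, 4], [1, 4, 27]],
 .fx 84 2,
 .nb [[1, 3, 6, 53]],
 .fx 40 2,
 .nb [[1, 3, 28]],
 .nb [[3, 1, 37]],
 .nb [[1, 3, 13]],
 .nb [[1, 3, 6]],
 .fx 105 2,
 .nb [[3, 1, 23]],
 .nb [[1, 3, 31]],
 .nb [[1, 3, 4, 37]],
 .nb [[2, 38, 3]],
 .nb [[1, 3, 23]],
 .nb [[1, 43, 2]],
 .nb [[1, 3, 16]],
 .nb [[1, 0, 13, 3]]]),
 ((nat_lit 0x1002740ab76633b0a7b8727e297ee), [.nb [[]],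
 .fx 1 56,
 .nb [[1, 22, 3]],
 .fx 5 10,
 .nb [[1, 0, 24, 3]],
 .fx 109 2,
 .nb [[1, 3, 17]],
 .fx 24 9,
 .nb [[1, 3, 5, 10]],
 .nb [[1, 3, 6], [1, 3, 29]],
 .nb [[2, 4, 3]],
 .nb [[1, 3, 27]],
 .nb [[1, 3, 6]],
 .nb [[1, 3, 28]],
 .nb [[1, 3, 40]],
 .nb [[3, 1, 36]],
 .nb [[1, 3, 9, 30]],
 .nb [[1, 5, 1]],
 .nb [[2, 33, 2]],
 .nb [[1, 47, 2]],
 .nb [[1, 3, 9, 3]]]),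
 ((nat_lit 0x1a1d342ab6f6227137bb6354196c2), [.nb [[]],
 .fx 1 56,
 .nb [[1, 22, 3]],
 .fx 5 14,
 .nb [[1, 0, 24, 3]],
 .nb [[1, 3, 17]],
 .fx 26 12,
 .nb [[1, 3, 26]],
 .nb [[1, 3, 4, 28]],
 .nb [[1, 49, 2], [1, 3, 12]],
 .nb [[2, 33, 2]],
 .nb [[1, 3, 30]],
 .nb [[1, 47, 2]],
 .nb [[1, 3, 7, 45]],
 .nb [[1, 2, 47, 1]],
 .nb [[1, 3, 40]],
 .nb [[1, 3, 6]],
 .nb [[1, 0, 13, 3]],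
 .nb [[1, 3, 7]]]),
 ((nat_lit 0x1a1f4422b5f613d1b39b313a381ec), [.nb [[]],
 .fx 2 56,
 .nb [[1, 3, 47]],
 .fx 7 10,
 .nb [[3, 1, 37]],
 .nb [[1, 47, 2]],
 .nb [[1, 2, 47, 3], [2, 12, 3], [1, 12, 2], [1, 3, 7], [1, 3, 12], [1, 3, 40], [1, 3, 7, 45], [1, 3, 30]],
 .nb [[2, 5, 2]],
 .nb [[3, 1, 38]],
 .nb [[1, 49, 2]],
 .nb [[1, 3]],
 .nb [[1, 2, 47, 3]],
 .fx 52 2,
 .nb [[1, 12, 2]],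
 .nb [[1, 3, 19]],
 .nb [[2, 12, 3]],
 .nb [[1, 3, 9, 3]],
 .nb [[1, 3, 30]],
 .nb [[1, 3, 17]],
 .nb [[1, 0, 13, 3]]]),
 ((nat_lit 0x14e0b4daf666263c27f86654c96c2), [.nb [[]],
 .fx 1 56,
 .nb [[1, 22, 3]],
 .fx 24 10,
 .nb [[1, 3, 5, 10]],
 .fx 93 2,
 .nb [[1, 7, 1]],
 .fx 33 9,
 .nb [[2, 33, 2]],
 .nb [[1, 3, 9, 3]],
 .nb [[3, 1]],
 .nb [[2, 47, 1]],
 .nb [[3, 37, 1]],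
 .nb [[1, 3, 40]],
 .nb [[1, 3, 28]],
 .nb [[1, 3, 11, 4]],
 .nb [[1, 3, 6]],
 .nb [[1, 47, 2]],
 .nb [[1, 3, 12]],
 .nb [[2, 5, 2]],
 .nb [[1, 3, 23]]])]
theorem ex_18 : exAll 275 9 nx D 20160 ex2_18 = true := by decide +kernel
noncomputable def ex2_19 : List (ℕ × List Ins) := [((nat_lit 0x14e2c4d2f566179ca3d8343ae81ec), [.nb [[]],
 .fx 2 56,
 .nb [[1, 3, 47]],
 .fx 26 14,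
 .nb [[1, 3, 26]],
 .nb [[1, 3, 4]],
 .fx 5 12,
 .nb [[1, 0, 24, 3]],
 .nb [[3, 1, 23]],
 .nb [[3, 1, 15], [1, 3, 9, 3]],
 .nb [[1, 2, 47, 3]],
 .nb [[2, 5, 2]],
 .nb [[1, 3, 40]],
 .nb [[1, 3, 23]],
 .nb [[1, 3, 43]],
 .nb [[1, 47, 2]],
 .nb [[3, 37, 1]],
 .nb [[1, 3, 4, 37]],
 .nb [[1, 3, 33]]]),
 ((nat_lit 0x1efd84f2f4f6065d33db2510d80c0), [.nb [[]],
 .fx 6 56,
 .nb [[3, 1, 15]],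
 .fx 40 14,
 .nb [[1, 3, 28]],
 .nb [[1, 3, 4, 28]],
 .nb [[1, 3, 4, 50], [1, 3, 5, 10], [1, 2, 47, 3], [1, 3, 11, 4], [1, 3, 9, 3], [1, 3, 33], [3, 1, 23], [1, 47, 2]],
 .nb [[2, 35, 3]],
 .nb [[1, 3, 30]],
 .nb [[1, 2, 47, 3]],
 .nb [[1, 3, 8, 3]],
 .fx 90 2,
 .nb [[1, 3, 23]],
 .nb [[3, 1, 36]],
 .nb [[1, 12, 2]],
 .nb [[3, 37, 1]],
 .nb [[1, 3, 14]],
 .nb [[1, 3, 8]],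
 .nb [[1, 15, 2]]]),
 ((nat_lit 0x1102710d0f68f1b2cd205afe2df3e), [.nb [[]],
 .fx 1 56,
 .nb [[1, 22, 3]],
 .fx 5 10,
 .nb [[1, 0, 24, 3]],
 .fx 109 2,
 .nb [[1, 3, 17]],
 .fx 24 9,
 .nb [[1, 3, 5, 10]],
 .nb [[1, 3, 9], [1, 3, 29], [1, 33, 1]],
 .nb [[2, 11, 2]],
 .nb [[1, 3, 24]],
 .nb [[1, 3, 29]],
 .nb [[3, 1, 24]],
 .nb [[1, 3, 11]],
 .nb [[2, 4, 3]],
 .nb [[1, 3, 27]],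
 .nb [[1, 3, 6, 53]],
 .nb [[1, 47, 2]],
 .nb [[1, 2, 47, 1]]]),
 ((nat_lit 0x1b1d312d0ef8e0735d234bd41de12), [.nb [[]],
 .fx 1 56,
 .nb [[1, 22, 3]],
 .fx 5 14,
 .nb [[1, 0, 24, 3]],
 .nb [[1, 3, 17]],
 .fx 26 12,
 .nb [[1, 3, 26]],
 .nb [[1, 3, 4, 28]],
 .nb [[1, 3, 23], [1, 3, 5, 8]],
 .nb [[1, 47, 2]],
 .nb [[1, 3, 7]],
 .nb [[3, 1, 24]],
 .nb [[1, 3, 11]],
 .nb [[2, 11, 2]],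
 .nb [[1, 3, 5, 10]],
 .nb [[1, 3, 9]],
 .nb [[1, 3, 30]],
 .nb [[1, 3, 8, 3]]]),
 ((nat_lit 0x1b1f41250df8d1d3d90319ba3c93c), [.nb [[]],
 .fx 2 56,
 .nb [[1, 3, 47]],
 .fx 27 10,
 .nb [[3, 1, 10]],
 .fx 93 2,
 .nb [[1, 7, 1]],
 .fx 52 9,
 .nb [[1, 12, 2]],
 .nb [[1, 3, 11], [1, 3, 13]],
 .nb [[1, 33, 1]],
 .nb [[1, 3, 4, 28]],
 .nb [[1, 3, 24]],
 .nb [[1, 47, 2]],
 .nb [[2, 11, 2]],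
 .nb [[1, 3, 18]],
 .nb [[1, 3, 6, 53]],
 .nb [[1, 3, 12]],
 .nb [[1, 3, 7]]]),
 ((nat_lit 0x15e0b1dd4e68e43e4d604ed4cde12), [.nb [[]],
 .fx 1 56,
 .nb [[1, 22, 3]],
 .fx 24 10,
 .nb [[1, 3, 5, 10]],
 .fx 93 2,
 .nb [[1, 7, 1]],
 .fx 47 9,
 .nb [[2, 11, 2]],
 .nb [[1, 3, 24]],
 .nb [[1, 3, 21], [1, 3, 6, 39]],
 .nb [[1, 3, 33]],
 .nb [[1, 3, 11]],
 .nb [[2, 28, 1]],
 .nb [[1, 33, 1]],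
 .nb [[1, 3, 23]],
 .nb [[1, 3, 9]],
 .nb [[1, 3, 4]],
 .nb [[1, 3, 14]],
 .nb [[1, 3, 11, 4]]]),
 ((nat_lit 0x15e2c1d54d68d59ec9401cbaec93c), [.nb [[]],
 .fx 2 56,
 .nb [[1, 3, 47]],
 .fx 7 14,
 .nb [[3, 1, 37]],
 .fx 106 2,
 .nb [[1, 9, 3]],
 .fx 3 12,
 .nb [[3, 1]],
 .nb [[2, 47, 3]],
 .nb [[1, 3, 10], [1, 41, 3], [1, 3, 30]],
 .nb [[1, 3, 6, 53]],
 .nb [[1, 3, 11, 4]],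
 .nb [[3, 1, 10]],
 .nb [[3, 1, 23]],
 .nb [[1, 3, 12]],
 .nb [[3, 1, 24]],
 .nb [[2, 31]],
 .nb [[1, 43, 2]],
 .nb [[1, 3, 24]],
 .nb [[1, 54, 2]],
 .nb [[3, 1, 12]]]),
 ((nat_lit 0x1ffd81f54cf8c45f59430d90dc810), [.fx 4 56,
 .nb [[1, 23, 2]],
 .fx 14 14,
 .nb [[2, 43, 1]],
 .nb [[1, 3, 17]],
 .nb [[1, 3, 4, 50], [3, 1, 10], [2, 47, 3], [1, 45, 3], [3, 1, 28], [1, 3, 14], [1, 3, 4], [2, 5, 2]],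
 .nb [[1, 33, 1]],
 .nb [[1, 3, 16]],
 .nb [[1, 3, 7]],
 .nb [[1, 51, 3]],
 .nb [[2, 41]],
 .fx 67 2,
 .nb [[1, 3, 9]],
 .nb [[1, 3, 30]],
 .nb [[1, 3, 18]],
 .nb [[1, 3, 33]],
 .nb [[3, 1, 23]],
 .nb [[1, 3, 11, 4]],
 .nb [[1, 3, 6, 53]]]),
 ((nat_lit 0x11027408376cf1b2a7a05a7e2df6e), [.nb [[]],
 .fx 1 56,
 .nb [[1, 22, 3]],
 .fx 5 10,
 .nb [[1, 0, 24, 3]],
 .fx 109 2,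
 .nb [[1, 3, 17]],
 .fx 24 9,
 .nb [[1, 3, 5, 10]],
 .nb [[1, 3, 9], [1, 3, 29], [1, 33, 1]],
 .nb [[1, 3, 10]],
 .nb [[1, 3, 9, 3]],
 .nb [[1, 3, 25]],
 .nb [[1, 3, 29]],
 .nb [[1, 33, 1]],
 .nb [[1, 5, 1]],
 .nb [[1, 3, 27]],
 .nb [[1, 3, 19]],
 .nb [[2, 4, 3]],
 .nb [[3, 1, 36]]]),
 ((nat_lit 0x1b1d342836fce07337a34b541de42), [.nb [[]],
 .fx 1 56,
 .nb [[1, 22, 3]],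
 .fx 5 14,
 .nb [[1, 0, 24, 3]],
 .nb [[1, 3, 17]],
 .fx 26 12,
 .nb [[1, 3, 26]],
 .nb [[1, 3, 4, 28]],
 .nb [[1, 3, 23], [2, 28, 1], [1, 3, 5, 8]],
 .nb [[1, 3, 40]],
 .nb [[1, 3, 8, 3]],
 .nb [[3, 1, 22]],
 .nb [[1, 3, 5, 10]],
 .nb [[1, 3, 41]],
 .nb [[1, 33, 1]],
 .nb [[1, 47, 2]],
 .nb [[1, 3, 9, 3]],
 .nb [[1, 5, 1]]]),
 ((nat_lit 0x1b1f442035fcd1d3b383193a3c96c), [.fx 2 56,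
 .nb [[1, 3, 47]],
 .fx 45 10,
 .nb [[2, 12, 3]],
 .nb [[1, 3, 24]],
 .nb [[1, 12, 2], [1, 3, 7], [1, 3, 12], [1, 3, 40], [1, 3, 7, 45], [1, 33, 1], [1, 3, 30], [1, 47, 2]],
 .nb [[1, 3, 9]],
 .nb [[1, 3, 49]],
 .nb [[1, 24, 3]],
 .nb [[2, 5, 3]],
 .nb [[3, 37]],
 .fx 74 2,
 .nb [[1, 3, 12]],
 .nb [[1, 3, 11]],
 .nb [[1, 12, 2]],
 .nb [[3, 1, 12]],
 .nb [[1, 3, 19]],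
 .nb [[3, 1, 28]],
 .nb [[1, 3, 17]]]),
 ((nat_lit 0x15e0b4d8766ce43e27e04e54cde42), [.nb [[]],
 .fx 1 56,
 .nb [[1, 22, 3]],
 .fx 24 10,
 .nb [[1, 3, 5, 10]],
 .fx 93 2,
 .nb [[1, 7, 1]],
 .fx 54 9,
 .nb [[1, 3, 11, 4]],
 .nb [[1, 3, 9], [1, 3, 14]],
 .nb [[1, 15, 2]],
 .nb [[1, 3, 24]],
 .nb [[1, 3, 9]],
 .nb [[1, 3, 18]],
 .nb [[1, 3, 23]],
 .nb [[1, 3, 9, 3]],
 .nb [[3, 1, 28]],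
 .nb [[1, 3, 40]],
 .nb [[1, 3, 11]],
 .nb [[1, 3, 33]]]),
 ((nat_lit 0x15e2c4d0756cd59ea3c01c3aec96c), [.nb [[]],
 .fx 2 56,
 .nb [[1, 3, 47]],
 .fx 7 14,
 .nb [[3, 1, 37]],
 .fx 106 2,
 .nb [[1, 9, 3]],
 .fx 3 12,
 .nb [[3, 1]],
 .nb [[2, 47, 3]],
 .nb [[1, 3, 24], [1, 3, 12], [1, 33, 1]],
 .nb [[1, 2, 47, 3]],
 .nb [[3, 1, 23]],
 .nb [[1, 3]],
 .nb [[1, 3, 4, 37]],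
 .nb [[1, 3, 11, 4]],
 .nb [[1, 0, 5]],
 .nb [[1, 43, 2]],
 .nb [[1, 33, 1]],
 .nb [[1, 3, 19]],
 .nb [[1, 3, 4]]]),
 ((nat_lit 0x1ffd84f074fcc45f33c30d10dc840), [.fx 6 56,
 .nb [[3, 1, 15]],
 .fx 11 14,
 .nb [[2, 31, 3]],
 .nb [[2, 5, 2]],
 .nb [[1, 49, 2], [1, 3, 18], [1, 11, 3], [2, 5, 3], [2, 38, 3], [3, 1, 39], [1, 3, 12], [1, 3, 17]],
 .nb [[3, 1, 28]],
 .nb [[1, 9, 3]],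
 .nb [[3, 1, 23]],
 .nb [[1, 3, 40]],
 .nb [[1, 0, 35]],
 .fx 14 2,
 .nb [[2, 43, 1]],
 .nb [[1, 43, 2]],
 .nb [[1, 3, 24]],
 .nb [[1, 0, 13, 3]],
 .nb [[1, 3, 4, 28]],
 .nb [[1, 3, 41]],
 .nb [[1, 5, 1]]]),
 ((nat_lit 0x1102700a876af3b285387a7e2dfae), [.nb [[]],
 .fx 1 56,
 .nb [[1, 22, 3]],
 .fx 5 10,
 .nb [[1, 0, 24, 3]],
 .fx 109 2,
 .nb [[1, 3, 17]],
 .fx 24 9,
 .nb [[1, 3, 5, 10]],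
 .nb [[1, 3, 10], [1, 3, 4]],
 .nb [[1, 3, 25]],
 .nb [[3, 1, 36]],
 .nb [[1, 3, 28]],
 .nb [[1, 3, 6]],
 .nb [[1, 3, 24]],
 .nb [[2, 4, 3]],
 .nb [[1, 3]],
 .nb [[1, 3, 9]],
 .nb [[1, 33, 1]]]),
 ((nat_lit 0x1b1d302a86fae273153b6b541de82), [.nb [[]],
 .fx 1 56,
 .nb [[1, 22, 3]],
 .fx 5 14,
 .nb [[1, 0, 24, 3]],
 .nb [[1, 3, 17]],
 .fx 26 12,
 .nb [[1, 3, 26]],
 .nb [[1, 3, 4, 28]],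
 .nb [[1, 3, 23], [2, 28, 1], [1, 3, 5, 8]],
 .nb [[2, 33, 2]],
 .nb [[1, 3, 30]],
 .nb [[1, 3, 7, 45]],
 .nb [[1, 3, 24]],
 .nb [[1, 0, 13, 3]],
 .nb [[3, 1, 36]],
 .nb [[1, 3, 11]],
 .nb [[1, 3, 28]],
 .nb [[1, 3, 6]]])]
theorem ex_19 : exAll 275 9 nx D 20160 ex2_19 = true := by decide +kernel
noncomputable def ex2_20 : List (ℕ × List Ins) := [((nat_lit 0x1b1f402285fad3d3911b393a3c9ac), [.fx 2 56,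
 .nb [[1, 3, 47]],
 .fx 7 10,
 .nb [[3, 1, 37]],
 .nb [[1, 47, 2]],
 .nb [[1, 2, 47, 3], [1, 12, 2], [1, 3, 24], [1, 3, 7], [1, 3, 12], [1, 3, 7, 45], [1, 33, 1], [1, 3, 30]],
 .nb [[1, 49, 2]],
 .nb [[1, 3]],
 .nb [[1, 24, 3]],
 .nb [[3, 1, 38]],
 .nb [[1, 7]],
 .fx 71 2,
 .nb [[1, 3, 24]],
 .nb [[2, 4, 3]],
 .nb [[1, 3, 30]],
 .nb [[2, 34, 1]],
 .nb [[1, 3, 9, 30]],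
 .nb [[3, 1, 36]],
 .nb [[1, 11, 3]]]),
 ((nat_lit 0x15e0b0dac66ae63e05786e54cde82), [.nb [[]],
 .fx 1 56,
 .nb [[1, 22, 3]],
 .fx 24 10,
 .nb [[1, 3, 5, 10]],
 .fx 93 2,
 .nb [[1, 7, 1]],
 .fx 33 9,
 .nb [[2, 33, 2]],
 .nb [[1, 45, 3], [3, 1, 36], [3, 1, 23]],
 .nb [[1, 3, 18]],
 .nb [[1, 3, 33]],
 .nb [[1, 47, 2]],
 .nb [[1, 3, 28]],
 .nb [[2, 5, 2]],
 .nb [[1, 3, 11, 4]],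
 .nb [[1, 3, 12]],
 .nb [[1, 3, 11]],
 .nb [[1, 43, 2]],
 .nb [[1, 3, 24]]]),
 ((nat_lit 0x15e2c0d2c56ad79e81583c3aec9ac), [.nb [[]],
 .fx 2 56,
 .nb [[1, 3, 47]],
 .fx 26 14,
 .nb [[1, 3, 26]],
 .fx 5 12,
 .nb [[1, 0, 24, 3]],
 .nb [[3, 1, 23]],
 .nb [[3, 1, 37], [1, 3, 12]],
 .nb [[1, 3, 49]],
 .nb [[1, 3, 33]],
 .nb [[1, 3, 7, 45]],
 .nb [[1, 3, 6, 53]],
 .nb [[1, 3, 11, 4]],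
 .nb [[2, 43, 1]],
 .nb [[1, 33, 1]],
 .nb [[1, 3, 12]],
 .nb [[2, 5, 2]],
 .nb [[1, 3, 24]],
 .nb [[3, 1, 28]]]),
 ((nat_lit 0x1ffd80f2c4fac65f115b2d10dc880), [.fx 7 56,
 .nb [[3, 1, 37]],
 .fx 15 14,
 .nb [[1, 49, 2]],
 .nb [[3, 1, 23]],
 .nb [[2, 31, 3], [1, 3, 31], [1, 3, 18], [2, 33, 2], [1, 12, 2], [1, 3, 7], [1, 3, 12], [1, 3, 4, 28]],
 .nb [[1, 47, 2]],
 .nb [[1, 9, 3]],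
 .nb [[2, 5, 2]],
 .nb [[3, 1, 38]],
 .nb [[1, 47]],
 .fx 24 2,
 .nb [[1, 3, 5, 10]],
 .nb [[1, 54, 2]],
 .nb [[1, 45, 3]],
 .nb [[1, 0, 13, 3]],
 .nb [[1, 3, 17]],
 .nb [[1, 3, 41]],
 .nb [[1, 3, 9, 30]]]),
 ((nat_lit 0x1100350fbe6ee2326fb86ad40ded2), [.nb [[]],
 .fx 1 56,
 .nb [[1, 22, 3]],
 .fx 24 10,
 .nb [[1, 3, 5, 10]],
 .fx 93 2,
 .nb [[1, 7, 1]],
 .fx 33 9,
 .nb [[2, 33, 2]],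
 .nb [[1, 3, 9, 3]],
 .nb [[1, 22, 2], [2, 5, 3]],
 .nb [[1, 3, 19]],
 .nb [[2, 35, 3]],
 .nb [[1, 47, 2]],
 .nb [[1, 41, 3]],
 .nb [[1, 3, 29]],
 .nb [[1, 3, 40]],
 .nb [[1, 4, 24]],
 .nb [[2, 11, 2]],
 .nb [[1, 3, 24]],
 .nb [[1, 3, 6]],
 .nb [[1, 3, 14]]]),
 ((nat_lit 0x11024507bd6ed392eb9838ba2c9fc), [.fx 2 56,
 .nb [[1, 3, 47]],
 .fx 7 10,
 .nb [[3, 1, 37]],
 .nb [[1, 47, 2]],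
 .nb [[3, 1, 10], [1, 2, 47, 3], [2, 12, 3], [1, 3, 24], [1, 3, 12], [1, 3, 6, 53], [1, 3, 40], [1, 33, 1]],
 .nb [[1, 24, 3]],
 .nb [[3, 1, 38]],
 .nb [[2, 33, 2]],
 .nb [[1, 3, 12]],
 .nb [[1, 2, 47, 3]],
 .nb [[1, 4, 27]],
 .nb [[1, 7]],
 .fx 71 2,
 .nb [[1, 3, 24]],
 .nb [[2, 12, 3]],
 .nb [[1, 5, 1]],
 .nb [[1, 15, 2]],
 .nb [[3, 1, 12]],
 .nb [[1, 3, 51]],
 .nb [[1, 3, 13]]]),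
 ((nat_lit 0x1b1d0527bcfec2537b9b29901c8d0), [.fx 4 56,
 .nb [[1, 23, 2]],
 .fx 14 14,
 .nb [[2, 43, 1]],
 .nb [[1, 3, 17]],
 .nb [[3, 1, 37], [3, 1, 10], [1, 45, 3], [2, 12, 3], [3, 1, 28], [3, 37, 1], [1, 3, 14], [1, 15, 2]],
 .nb [[1, 3, 16]],
 .nb [[2, 31, 3]],
 .nb [[1, 3, 7]],
 .nb [[1, 51, 3]],
 .nb [[1, 31]],
 .fx 84 2,
 .nb [[1, 3, 6, 53]],
 .nb [[3, 1, 38]],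
 .nb [[1, 3, 19]],
 .nb [[2, 38, 3]],
 .nb [[1, 3, 24]],
 .nb [[1, 3, 9, 3]],
 .nb [[1, 47, 2]]]),
 ((nat_lit 0x15e085d7fc6ec61e6bd82c90cc8d0), [.nb [[]],
 .fx 4 56,
 .nb [[1, 23, 2]],
 .fx 14 14,
 .nb [[2, 43, 1]],
 .fx 97 2,
 .nb [[1, 41, 3]],
 .fx 25 10,
 .nb [[1, 3, 49]],
 .nb [[1, 7, 1], [1, 2, 47, 1], [1, 3, 16]],
 .nb [[1, 3, 5, 14]],
 .nb [[3, 1, 38]],
 .nb [[1, 2, 47, 3]],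
 .nb [[2, 28, 1]],
 .nb [[1, 3, 40]],
 .nb [[1, 3, 28]],
 .nb [[1, 51, 3]],
 .nb [[2, 4, 3]],
 .nb [[1, 3, 33]],
 .nb [[1, 3, 9, 3]]]),
 ((nat_lit 0x10027b0d0f6139b0cd24d2ff2b73e), [.nb [[]],
 .fx 1 56,
 .nb [[1, 22, 3]],
 .fx 5 10,
 .nb [[1, 0, 24, 3]],
 .fx 109 2,
 .nb [[1, 3, 17]],
 .fx 24 9,
 .nb [[1, 3, 5, 10]],
 .nb [[1, 7, 1]],
 .nb [[1, 3, 29]],
 .nb [[1, 3, 10]],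
 .nb [[1, 45, 3]],
 .nb [[1, 3]],
 .nb [[1, 3, 6, 53]],
 .nb [[1, 32, 2]],
 .nb [[1, 47, 2]],
 .nb [[1, 3, 5, 8]],
 .nb [[2, 4, 3]],
 .nb [[3, 1, 24]]]),
 ((nat_lit 0x1a1d3b2d0ef128715d27c3d51b612), [.nb [[]],
 .fx 1 56,
 .nb [[1, 22, 3]],
 .fx 5 14,
 .nb [[1, 0, 24, 3]],
 .nb [[1, 3, 17]],
 .fx 26 12,
 .nb [[1, 3, 26]],
 .nb [[1, 3, 4, 28]],
 .nb [[1, 3, 23]],
 .nb [[1, 3, 7]],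
 .nb [[2, 35, 3]],
 .nb [[1, 4, 4]],
 .nb [[1, 47, 2]],
 .nb [[1, 3, 5, 8]],
 .nb [[1, 3, 5, 10]],
 .nb [[1, 3, 41]],
 .nb [[1, 3, 6, 39]],
 .nb [[3, 1, 36]],
 .nb [[1, 3, 29]]]),
 ((nat_lit 0x1a1f4b250df119d1d90791bb3a13c), [.nb [[]],
 .fx 2 56,
 .nb [[1, 3, 47]],
 .fx 27 10,
 .nb [[3, 1, 10]],
 .nb [[1, 12, 2], [1, 3, 10], [1, 3, 7], [1, 3, 12], [1, 3, 6, 53], [1, 3, 7, 45], [1, 3, 30], [1, 47, 2]],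
 .nb [[1, 3, 11, 4]],
 .nb [[3, 1, 32]],
 .nb [[1, 3]],
 .nb [[1, 3, 6, 53]],
 .nb [[1, 3, 49]],
 .nb [[1, 0, 26]],
 .fx 52 2,
 .nb [[1, 12, 2]],
 .nb [[1, 3, 13]],
 .nb [[1, 3, 6, 39]],
 .nb [[1, 3, 44]],
 .nb [[1, 3, 30]],
 .nb [[1, 45, 3]],
 .nb [[1, 47, 2]]]),
 ((nat_lit 0x14e0bbdd4e612c3c4d64c6d5cb612), [.nb [[]],
 .fx 1 56,
 .nb [[1, 22, 3]],
 .fx 24 10,
 .nb [[1, 3, 5, 10]],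
 .nb [[1, 7, 1]],
 .nb [[2, 11, 2], [1, 3, 11, 4], [1, 3, 33], [1, 3, 23], [2, 28, 1], [1, 3, 5, 8], [2, 5, 2], [1, 47, 2]],
 .nb [[1, 3, 31]],
 .nb [[3, 1, 32]],
 .nb [[2, 35, 3]],
 .nb [[1, 47, 2]],
 .nb [[1, 22, 2]],
 .nb [[1, 14]],
 .fx 54 2,
 .nb [[1, 3, 11, 4]],
 .nb [[1, 3, 14]],
 .nb [[1, 3, 10]],
 .nb [[1, 3, 29]],
 .nb [[1, 3, 33]],
 .nb [[3, 1, 24]],
 .nb [[3, 1, 10]]]),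
 ((nat_lit 0x14e2cbd54d611d9cc94494bbea13c), [.nb [[]],
 .fx 2 56,
 .nb [[1, 3, 47]],
 .fx 7 14,
 .nb [[3, 1, 37]],
 .fx 106 2,
 .nb [[1, 9, 3]],
 .fx 3 12,
 .nb [[3, 1]],
 .nb [[2, 47, 3]],
 .nb [[1, 41, 3], [1, 3, 30]],
 .nb [[3, 1, 24]],
 .nb [[1, 7, 1]],
 .nb [[1, 3, 4, 37]],
 .nb [[1, 3, 11, 4]],
 .nb [[1, 3, 10]],
 .nb [[1, 51, 3]],
 .nb [[2, 26]],
 .nb [[1, 3, 33]],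
 .nb [[1, 3, 8]],
 .nb [[2, 34, 1]],
 .nb [[1, 43, 2]]]),
 ((nat_lit 0x1efd8bf54cf10c5d59478591da010), [.nb [[]],
 .fx 4 56,
 .nb [[1, 23, 2]],
 .fx 35 14,
 .nb [[1, 3, 6, 39]],
 .nb [[1, 3, 33]],
 .nb [[1, 11, 3], [1, 3, 32], [1, 32, 2], [1, 45, 3], [2, 4, 3], [1, 3, 13], [1, 3, 4, 28], [1, 3, 7, 45]],
 .nb [[2, 34, 1]],
 .nb [[2, 47, 1]],
 .nb [[1, 32, 2]],
 .nb [[1, 3, 4]],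
 .fx 48 2,
 .nb [[2, 38, 3]],
 .nb [[1, 47, 2]],
 .nb [[1, 9, 3]],
 .nb [[3, 1, 32]],
 .nb [[1, 3, 14]],
 .nb [[1, 3, 41]],
 .nb [[1, 3, 6, 53]]]),
 ((nat_lit 0x10027e08376539b0a7a4d27f2b76e), [.nb [[]],
 .fx 1 56,
 .nb [[1, 22, 3]],
 .fx 5 10,
 .nb [[1, 0, 24, 3]],
 .fx 109 2,
 .nb [[1, 3, 17]],
 .fx 24 9,
 .nb [[1, 3, 5, 10]],
 .nb [[1, 7, 1]],
 .nb [[1, 3, 29]],
 .nb [[1, 3, 10]],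
 .nb [[1, 45, 3]],
 .nb [[1, 3, 51]],
 .nb [[1, 3, 9, 3]],
 .nb [[1, 47, 2]],
 .nb [[1, 3, 5, 8]],
 .nb [[1, 3, 25]],
 .nb [[2, 4, 3]],
 .nb [[1, 5, 1]],
 .nb [[1, 3, 26]]]),
 ((nat_lit 0x1a1d3e2836f5287137a7c3551b642), [.nb [[]],
 .fx 1 56,
 .nb [[1, 22, 3]],
 .fx 5 14,
 .nb [[1, 0, 24, 3]],
 .nb [[1, 3, 17]],
 .fx 26 12,
 .nb [[1, 3, 26]],
 .nb [[1, 3, 4, 28]],
 .nb [[1, 49, 2], [1, 3, 12]],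
 .nb [[1, 3, 5, 8]],
 .nb [[1, 3, 5, 10]],
 .nb [[1, 47, 2]],
 .nb [[1, 3, 9, 3]],
 .nb [[1, 3, 30]],
 .nb [[1, 3, 29]],
 .nb [[3, 1, 36]],
 .nb [[1, 3, 16]],
 .nb [[1, 12, 2]]])]
theorem ex_20 : exAll 275 9 nx D 20160 ex2_20 = true := by decide +kernel
noncomputable def ex2_21 : List (ℕ × List Ins) := [((nat_lit 0x1a1f4e2035f519d1b387913b3a16c), [.nb [[]],
 .fx 2 56,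
 .nb [[1, 3, 47]],
 .fx 45 10,
 .nb [[2, 12, 3]],
 .fx 71 2,
 .nb [[1, 3, 24]],
 .fx 52 9,
 .nb [[1, 12, 2]],
 .nb [[3, 1, 32], [1, 3, 19]],
 .nb [[3, 1, 36]],
 .nb [[1, 7, 1]],
 .nb [[3, 1, 32]],
 .nb [[1, 2, 14, 1]],
 .nb [[1, 3, 7, 45]],
 .nb [[1, 3, 12]],
 .nb [[1, 32, 2]],
 .nb [[1, 47, 2]],
 .nb [[1, 3, 10]],
 .nb [[1, 3, 7]]]),
 ((nat_lit 0x14e0bed876652c3c27e4c655cb642), [.fx 1 56,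
 .nb [[1, 22, 3]],
 .fx 24 10,
 .nb [[1, 3, 5, 10]],
 .nb [[1, 7, 1]],
 .nb [[1, 3, 11, 4], [1, 3, 9, 3], [1, 3, 33], [1, 3, 23], [1, 3, 40], [1, 3, 5, 8], [2, 5, 2], [1, 47, 2]],
 .nb [[3, 1, 32]],
 .nb [[2, 35, 3]],
 .nb [[1, 22, 2]],
 .nb [[2, 4, 3]],
 .nb [[1, 14]],
 .fx 80 2,
 .nb [[1, 3, 9, 3]],
 .nb [[1, 3, 10]],
 .nb [[1, 3, 11, 4]],
 .nb [[1, 3, 29]],
 .nb [[1, 3, 14]],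
 .nb [[1, 32, 2]],
 .nb [[1, 3, 4]]]),
 ((nat_lit 0x14e2ced075651d9ca3c4943bea16c), [.nb [[]],
 .fx 2 56,
 .nb [[1, 3, 47]],
 .fx 7 14,
 .nb [[3, 1, 37]],
 .fx 106 2,
 .nb [[1, 9, 3]],
 .fx 3 12,
 .nb [[3, 1]],
 .nb [[2, 47, 3]],
 .nb [[1, 3, 12], [1, 7, 1]],
 .nb [[3, 1, 23]],
 .nb [[1, 3, 10]],
 .nb [[1, 3, 11, 4]],
 .nb [[1, 3]],
 .nb [[2, 34]],
 .nb [[2, 12, 3]],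
 .nb [[1, 3, 40]],
 .nb [[1, 3, 4, 50]],
 .nb [[1, 3, 19]],
 .nb [[1, 7, 1]],
 .nb [[1, 3, 4]]]),
 ((nat_lit 0x1efd8ef074f50c5d33c78511da040), [.fx 6 56,
 .nb [[3, 1, 15]],
 .nb [[1, 32, 2], [1, 5, 1], [1, 12, 2], [1, 3, 10], [1, 15, 2], [1, 3, 4, 28], [1, 3, 23], [1, 7, 1], [1, 3, 5, 8], [1, 0, 13, 3], [1, 9, 3], [1, 43, 2], [2, 5, 2], [1, 3, 30]],
 .nb [[1, 3, 40]],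
 .nb [[3, 6]],
 .nb [[1, 9, 39], [1, 4, 27]],
 .fx 49 2,
 .nb [[1, 5, 1]],
 .fx 68 2,
 .nb [[1, 3, 10]],
 .nb [[1, 3, 6, 39]],
 .nb [[2, 5, 3]],
 .nb [[1, 7, 1]],
 .fx 90 2,
 .nb [[1, 3, 23]],
 .nb [[1, 3, 7]],
 .nb [[1, 3, 6, 9]],
 .nb [[1, 3, 30]],
 .nb [[1, 3, 4]],
 .nb [[2, 47, 1]],
 .nb [[1, 0, 13, 3]],
 .nb [[1, 3, 41]]]),
 ((nat_lit 0x10027a0a87633bb0853cf27f2b7ae), [.nb [[]],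
 .fx 1 56,
 .nb [[1, 22, 3]],
 .fx 5 10,
 .nb [[1, 0, 24, 3]],
 .fx 109 2,
 .nb [[1, 3, 17]],
 .fx 24 9,
 .nb [[1, 3, 5, 10]],
 .nb [[1, 7, 1]],
 .nb [[1, 3, 6], [1, 3, 29]],
 .nb [[2, 4, 3]],
 .nb [[1, 3, 6]],
 .nb [[1, 3, 28]],
 .nb [[3, 1, 36]],
 .nb [[1, 32, 2]],
 .nb [[1, 47, 2]],
 .nb [[2, 33, 2]],
 .nb [[1, 3, 5, 8]],
 .nb [[1, 3, 6, 39]],
 .nb [[1, 3, 9, 30]]]),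
 ((nat_lit 0x1a1d3a2a86f32a71153fe3551b682), [.nb [[]],
 .fx 1 56,
 .nb [[1, 22, 3]],
 .fx 5 14,
 .nb [[1, 0, 24, 3]],
 .nb [[1, 3, 17]],
 .fx 26 12,
 .nb [[1, 3, 26]],
 .nb [[1, 3, 4, 28]],
 .nb [[1, 49, 2], [1, 3, 12]],
 .nb [[1, 3, 5, 8]],
 .nb [[2, 33, 2]],
 .nb [[3, 1, 22]],
 .nb [[1, 7, 1]],
 .nb [[1, 3, 28]],
 .nb [[3, 1, 36]],
 .nb [[1, 0, 13, 3]],
 .nb [[1, 12, 2]],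
 .nb [[1, 3, 6]]]),
 ((nat_lit 0x1a1f4a2285f31bd1911fb13b3a1ac), [.nb [[]],
 .fx 2 56,
 .nb [[1, 3, 47]],
 .fx 7 10,
 .nb [[3, 1, 37]],
 .nb [[1, 2, 47, 3], [1, 12, 2], [1, 3, 10], [1, 3, 7], [1, 3, 12], [1, 7, 1], [1, 3, 7, 45], [1, 3, 30]],
 .nb [[2, 5, 2]],
 .nb [[1, 49, 2]],
 .nb [[1, 3]],
 .nb [[1, 2, 47, 3]],
 .nb [[1, 24, 3]],
 .nb [[1, 7]],
 .fx 102 2,
 .nb [[1, 3, 7, 45]],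
 .nb [[1, 3, 28]],
 .nb [[1, 3, 5, 10]],
 .nb [[3, 1, 12]],
 .nb [[1, 3, 7]],
 .nb [[1, 3, 6, 39]],
 .nb [[1, 3, 10]]]),
 ((nat_lit 0x14e0badac6632e3c057ce655cb682), [.nb [[]],
 .fx 1 56,
 .nb [[1, 22, 3]],
 .fx 24 10,
 .nb [[1, 3, 5, 10]],
 .nb [[1, 7, 1]],
 .nb [[2, 33, 2], [1, 3, 28], [1, 3, 11, 4], [1, 3, 33], [1, 3, 23], [1, 3, 5, 8], [2, 5, 2], [1, 47, 2]],
 .nb [[1, 3, 31]],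
 .nb [[2, 4, 3]],
 .nb [[3, 1, 32]],
 .nb [[2, 35, 3]],
 .nb [[1, 47, 2]],
 .fx 82 2,
 .nb [[1, 3, 33]],
 .nb [[3, 37, 1]],
 .nb [[2, 33, 2]],
 .nb [[1, 3, 6]],
 .nb [[1, 3, 11, 4]],
 .nb [[1, 43, 2]],
 .nb [[2, 47, 1]]]),
 ((nat_lit 0x14e2cad2c5631f9c815cb43bea1ac), [.nb [[]],
 .fx 2 56,
 .nb [[1, 3, 47]],
 .fx 26 14,
 .nb [[1, 3, 26]],
 .nb [[1, 3, 4]],
 .fx 5 12,
 .nb [[1, 0, 24, 3]],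
 .nb [[3, 1, 23]],
 .nb [[1, 2, 14, 1], [1, 36, 3]],
 .nb [[1, 47, 2]],
 .nb [[1, 9, 3]],
 .nb [[1, 3, 10]],
 .nb [[2, 47, 3]],
 .nb [[3, 1, 12]],
 .nb [[1, 2, 47, 3]],
 .nb [[1, 45, 3]],
 .nb [[1, 43, 2]],
 .nb [[1, 3, 33]]]),
 ((nat_lit 0x1efd8af2c4f30e5d115fa511da080), [.nb [[]],
 .fx 7 56,
 .nb [[3, 1, 37]],
 .fx 15 14,
 .nb [[1, 49, 2]],
 .nb [[3, 1, 23]],
 .nb [[1, 3, 31], [2, 33, 2], [1, 12, 2], [1, 3, 10], [1, 3, 7], [1, 3, 12], [1, 3, 4, 28], [1, 7, 1]],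
 .nb [[1, 3, 47]],
 .nb [[1, 9, 3]],
 .nb [[1, 3, 12]],
 .nb [[2, 5, 2]],
 .fx 100 2,
 .nb [[1, 0, 13, 3]],
 .nb [[1, 3, 6, 39]],
 .nb [[1, 3, 23]],
 .nb [[2, 4, 3]],
 .nb [[1, 36, 3]],
 .nb [[1, 3, 7, 45]],
 .nb [[1, 3, 28]]]),
 ((nat_lit 0x10003f0fbe672a306fbce2d50b6d2), [.fx 1 56,
 .nb [[1, 22, 3]],
 .fx 24 10,
 .nb [[1, 3, 5, 10]],
 .nb [[1, 7, 1]],
 .nb [[2, 33, 2], [1, 3, 28], [2, 11, 2], [1, 3, 9, 3], [2, 28, 1], [1, 3, 40], [1, 3, 5, 8], [1, 47, 2]],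
 .nb [[3, 1, 32]],
 .nb [[2, 35, 3]],
 .nb [[3, 6]],
 .nb [[1, 14]],
 .fx 80 2,
 .nb [[1, 3, 9, 3]],
 .nb [[2, 33, 2]],
 .nb [[1, 41, 3]],
 .nb [[3, 1, 38]],
 .nb [[2, 11, 2]],
 .nb [[3, 1, 37]],
 .nb [[1, 3, 5, 17]]]),
 ((nat_lit 0x10024f07bd671b90eb9cb0bb2a1fc), [.fx 2 56,
 .nb [[1, 3, 47]],
 .fx 7 10,
 .nb [[3, 1, 37]],
 .nb [[1, 47, 2]],
 .nb [[3, 1, 10], [1, 2, 47, 3], [2, 12, 3], [1, 3, 10], [1, 3, 12], [1, 3, 6, 53], [1, 7, 1], [1, 3, 40]],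
 .nb [[1, 49, 2]],
 .nb [[1, 3]],
 .nb [[3, 1, 38]],
 .nb [[1, 2, 47, 3]],
 .nb [[1, 4, 27]],
 .nb [[1, 7]],
 .fx 27 2,
 .nb [[3, 1, 10]],
 .nb [[1, 7, 1]],
 .nb [[1, 3, 19]],
 .nb [[2, 12, 3]],
 .nb [[1, 15, 2]],
 .nb [[3, 1, 12]],
 .nb [[1, 3, 5, 10]]]),
 ((nat_lit 0x1a1d0f27bcf70a517b9fa1911a0d0), [.nb [[]],
 .fx 4 56,
 .nb [[1, 23, 2]],
 .fx 35 14,
 .nb [[1, 3, 6, 39]],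
 .fx 82 2,
 .nb [[1, 3, 33]],
 .fx 5 10,
 .nb [[1, 0, 24, 3]],
 .nb [[3, 1, 24]],
 .nb [[1, 11, 3], [1, 45, 3]],
 .nb [[1, 7, 1]],
 .nb [[1, 3, 9, 30]],
 .nb [[1, 3, 16]],
 .nb [[1, 2, 14, 1]],
 .nb [[1, 3, 6, 53]],
 .nb [[1, 3, 5, 8]],
 .nb [[1, 3, 30]],
 .nb [[2, 38, 3]],
 .nb [[2, 28, 1]]]),
 ((nat_lit 0x14e08fd7fc670e1c6bdca491ca0d0), [.fx 4 56,
 .nb [[1, 23, 2]],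
 .fx 35 14,
 .nb [[1, 3, 6, 39]],
 .nb [[1, 3, 33]],
 .nb [[1, 32, 2], [1, 45, 3], [1, 5, 1], [2, 4, 3], [3, 37, 1], [1, 3, 9, 30], [1, 3, 19], [1, 3, 13]],
 .nb [[2, 47, 1]],
 .nb [[1, 3, 5, 8]],
 .nb [[1, 36, 3]],
 .nb [[1, 3, 4]],
 .nb [[1, 51, 3]],
 .nb [[3, 38]],
 .fx 84 2,
 .nb [[1, 3, 6, 53]],
 .nb [[1, 3, 28]],
 .nb [[1, 3, 14]],
 .nb [[1, 9, 3]],
 .nb [[3, 1, 32]],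
 .nb [[1, 3, 12]],
 .nb [[2, 5, 3]]]),
 ((nat_lit 0x11027a080769f9b28524da7f2ff2e), [.nb [[]],
 .fx 1 56,
 .nb [[1, 22, 3]],
 .fx 5 10,
 .nb [[1, 0, 24, 3]],
 .fx 109 2,
 .nb [[1, 3, 17]],
 .fx 24 9,
 .nb [[1, 3, 5, 10]],
 .nb [[1, 7, 1]],
 .nb [[1, 3, 4, 50], [2, 12, 3]],
 .nb [[1, 47, 2]],
 .nb [[1, 3, 5, 8]],
 .nb [[1, 33, 1]],
 .nb [[1, 3, 11]],
 .nb [[1, 3, 9]],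
 .nb [[1, 3]],
 .nb [[1, 3, 29]],
 .nb [[3, 1, 36]],
 .nb [[1, 3, 24]],
 .nb [[1, 32, 2]]]),
 ((nat_lit 0x1b1d3a2806f9e8731527cb551fe02), [.nb [[]],
 .fx 1 56,
 .nb [[1, 22, 3]],
 .fx 5 14,
 .nb [[1, 0, 24, 3]],
 .nb [[1, 3, 17]],
 .fx 26 12,
 .nb [[1, 3, 26]],
 .nb [[1, 3, 4, 28]],
 .nb [[1, 3, 23], [2, 28, 1]],
 .nb [[1, 3, 11]],
 .nb [[1, 3, 7]],
 .nb [[1, 32, 2]],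
 .nb [[1, 47, 2]],
 .nb [[1, 7, 1]],
 .nb [[1, 3, 24]],
 .nb [[2, 4, 3]],
 .nb [[1, 3, 8, 3]],
 .nb [[1, 3, 30]]])]
theorem ex_21 : exAll 275 9 nx D 20160 ex2_21 = true := by decide +kernel
noncomputable def ex2_22 : List (ℕ × List Ins) := [((nat_lit 0x1b1f4a2005f9d9d39107993b3e92c), [.nb [[]],
 .fx 2 56,
 .nb [[1, 3, 47]],
 .fx 52 10,
 .nb [[1, 12, 2]],
 .fx 62 2,
 .nb [[1, 3, 8]],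
 .fx 68 9,
 .nb [[1, 3, 10]],
 .nb [[1, 3, 6, 39], [3, 1, 36]],
 .nb [[1, 47, 2]],
 .nb [[1, 3, 9]],
 .nb [[1, 3, 12]],
 .nb [[1, 3, 6, 39]],
 .nb [[1, 3, 14]],
 .nb [[1, 3, 24]],
 .nb [[1, 7, 1]],
 .nb [[1, 3, 7, 45]],
 .nb [[1, 3, 11]],
 .nb [[1, 3, 7]]]),
 ((nat_lit 0x15e0bad84669ec3e0564ce55cfe02), [.nb [[]],
 .fx 1 56,
 .nb [[1, 22, 3]],
 .fx 24 10,
 .nb [[1, 3, 5, 10]],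
 .nb [[1, 7, 1]],
 .nb [[1, 3, 11, 4], [1, 3, 11], [1, 3, 24], [1, 3, 33], [1, 3, 23], [1, 3, 5, 8], [2, 5, 2], [1, 47, 2]],
 .nb [[2, 4, 3]],
 .nb [[1, 22, 2]],
 .nb [[2, 35, 3]],
 .nb [[3, 1, 32]],
 .fx 66 2,
 .nb [[1, 3, 11]],
 .nb [[1, 3, 12]],
 .nb [[2, 5, 2]],
 .nb [[1, 3, 9]],
 .nb [[1, 3, 23]],
 .nb [[1, 3, 4]],
 .nb [[1, 2, 14, 1]]]),
 ((nat_lit 0x15e2cad04569dd9e81449c3bee92c), [.nb [[]],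
 .fx 2 56,
 .nb [[1, 3, 47]],
 .nb [[3, 1, 37], [1, 3, 26], [3, 1, 10], [2, 4, 2], [1, 2, 47, 3], [2, 12, 3], [1, 12, 2], [1, 3, 7], [1, 2, 33, 3], [1, 3, 6, 53], [1, 3, 40], [1, 41, 3], [1, 3, 7, 45], [1, 3, 30]],
 .nb [[1, 24, 3]],
 .nb [[1, 4, 27]],
 .nb [[1, 4, 7]],
 .fx 54 2,
 .nb [[1, 3, 11, 4]],
 .nb [[1, 3, 10]],
 .nb [[1, 0, 26]],
 .fx 71 2,
 .nb [[1, 3, 24]],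
 .nb [[1, 43, 2]],
 .nb [[2, 4, 3]],
 .nb [[1, 3, 12]],
 .nb [[2, 5, 2]],
 .nb [[3, 1, 23]],
 .nb [[1, 3, 44]]]),
 ((nat_lit 0x1ffd8af044f9cc5f11478d11de800), [.nb [[]],
 .fx 11 56,
 .nb [[2, 31, 3]],
 .fx 37 14,
 .nb [[1, 3, 32]],
 .fx 79 2,
 .nb [[3, 1, 24]],
 .fx 20 9,
 .nb [[1, 36, 3]],
 .nb [[1, 3, 12]],
 .nb [[3, 1], [1, 23, 2]],
 .nb [[2, 4, 3]],
 .nb [[1, 3, 14]],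
 .nb [[1, 47, 2]],
 .nb [[1, 3, 9]],
 .nb [[2, 5, 2]],
 .nb [[1, 3, 41]],
 .nb [[1, 3, 10]],
 .nb [[1, 3, 33]]]),
 ((nat_lit 0x11003f0d3e6de8326fa4cad50fe52), [.fx 1 56,
 .nb [[1, 22, 3]],
 .fx 24 10,
 .nb [[1, 3, 5, 10]],
 .nb [[2, 11, 2], [1, 3, 11], [1, 3, 24], [1, 3, 9, 3], [2, 28, 1], [1, 3, 40], [1, 3, 5, 8], [1, 47, 2]],
 .nb [[2, 35, 3]],
 .nb [[3, 1, 32]],
 .nb [[1, 3, 6, 39]],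
 .nb [[1, 47, 2]],
 .nb [[3, 6]],
 .nb [[1, 14]],
 .fx 66 2,
 .nb [[1, 3, 11]],
 .nb [[2, 28, 1]],
 .nb [[1, 3, 12]],
 .nb [[1, 3, 18]],
 .nb [[3, 1, 24]],
 .nb [[1, 41, 3]],
 .nb [[1, 2, 14, 1]]]),
 ((nat_lit 0x11024f053d6dd992eb8498bb2e97c), [.fx 2 56,
 .nb [[1, 3, 47]],
 .fx 27 10,
 .nb [[3, 1, 10]],
 .nb [[1, 7, 1]],
 .nb [[2, 12, 3], [1, 3, 10], [1, 3, 24], [1, 3, 12], [1, 3, 6, 53], [1, 3, 40], [1, 33, 1], [1, 47, 2]],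
 .nb [[3, 1, 32]],
 .nb [[1, 3]],
 .nb [[1, 3, 6, 53]],
 .nb [[1, 4, 8]],
 .nb [[1, 0, 26]],
 .fx 45 2,
 .nb [[2, 12, 3]],
 .nb [[1, 3, 24]],
 .nb [[1, 3, 44]],
 .nb [[1, 3, 18]],
 .nb [[1, 47, 2]],
 .nb [[1, 3, 11]],
 .nb [[1, 3, 43]]]),
 ((nat_lit 0x1b1d0f253cfdc8537b8789911e850), [.fx 4 56,
 .nb [[1, 23, 2]],
 .fx 14 14,
 .nb [[2, 43, 1]],
 .nb [[1, 3, 17]],
 .nb [[1, 36, 3], [3, 1, 10], [1, 45, 3], [2, 12, 3], [3, 1, 28], [1, 3, 10], [1, 3, 14], [1, 15, 2]],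
 .nb [[1, 33, 1]],
 .nb [[1, 3, 16]],
 .nb [[1, 3, 7]],
 .nb [[3, 1, 10]],
 .nb [[2, 41]],
 .fx 84 2,
 .nb [[1, 3, 6, 53]],
 .nb [[1, 3, 41]],
 .nb [[1, 3, 6, 39]],
 .nb [[1, 7, 1]],
 .nb [[1, 3, 12]],
 .nb [[1, 3, 9]],
 .nb [[1, 3, 30]]]),
 ((nat_lit 0x15e08fd57c6dcc1e6bc48c91ce850), [.nb [[]],
 .fx 4 56,
 .nb [[1, 23, 2]],
 .fx 14 14,
 .nb [[2, 43, 1]],
 .fx 97 2,
 .nb [[1, 41, 3]],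
 .fx 25 10,
 .nb [[1, 3, 49]],
 .nb [[3, 1, 38], [1, 2, 47, 1], [1, 3, 16]],
 .nb [[1, 3, 5, 14]],
 .nb [[1, 7, 1]],
 .nb [[3, 1, 23]],
 .nb [[1, 3, 40]],
 .nb [[1, 3, 5, 8]],
 .nb [[2, 47, 1]],
 .nb [[1, 47, 2]],
 .nb [[1, 3, 6, 39]],
 .nb [[1, 3, 33]],
 .nb [[3, 1, 32]],
 .nb [[3, 1, 36]]]),
 ((nat_lit 0x11003b0f8e6bea324d3cead50fe92), [.fx 1 56,
 .nb [[1, 22, 3]],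
 .fx 24 10,
 .nb [[1, 3, 5, 10]],
 .nb [[1, 7, 1]],
 .nb [[2, 33, 2], [1, 3, 28], [2, 11, 2], [1, 3, 11], [1, 3, 24], [2, 28, 1], [1, 3, 5, 8], [1, 47, 2]],
 .nb [[3, 1, 32]],
 .nb [[2, 35, 3]],
 .nb [[2, 4, 3]],
 .nb [[1, 47, 2]],
 .nb [[3, 6]],
 .nb [[1, 14]],
 .fx 66 2,
 .nb [[1, 3, 11]],
 .nb [[2, 28, 1]],
 .nb [[1, 3, 6]],
 .nb [[2, 33, 2]],
 .nb [[3, 1, 37]],
 .nb [[1, 41, 3]],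
 .nb [[1, 2, 14, 1]]]),
 ((nat_lit 0x11024b078d6bdb92c91cb8bb2e9bc), [.nb [[]],
 .fx 2 56,
 .nb [[1, 3, 47]],
 .fx 7 10,
 .nb [[3, 1, 37]],
 .nb [[3, 1, 10], [1, 2, 47, 3], [1, 3, 10], [1, 3, 24], [1, 3, 12], [1, 3, 6, 53], [1, 7, 1], [1, 33, 1]],
 .nb [[1, 3]],
 .nb [[1, 3, 14]],
 .nb [[1, 2, 47, 3]],
 .nb [[1, 7]],
 .nb [[1, 4, 27]],
 .fx 27 2,
 .nb [[3, 1, 10]],
 .nb [[1, 7, 1]],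
 .nb [[1, 3, 9, 30]],
 .nb [[3, 1, 24]],
 .nb [[1, 3, 6, 39]],
 .nb [[3, 1, 12]],
 .nb [[1, 3, 5, 10]]]),
 ((nat_lit 0x1b1d0b278cfbca53591fa9911e890), [.nb [[]],
 .fx 4 56,
 .nb [[1, 23, 2]],
 .fx 9 12,
 .nb [[1, 3, 5]],
 .fx 104 2,
 .nb [[1, 3, 16]],
 .nb [[3, 1, 37], [2, 31, 3], [1, 2, 14, 1], [3, 1, 10], [1, 32, 2], [3, 37, 1], [1, 3, 12], [3, 1, 36]],
 .nb [[1, 3, 32]],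
 .nb [[3, 1, 24]],
 .nb [[1, 3, 17]],
 .nb [[3, 1, 10]],
 .nb [[2, 8]],
 .nb [[3, 6]],
 .fx 93 2,
 .nb [[1, 7, 1]],
 .nb [[2, 4, 3]],
 .nb [[3, 1, 32]],
 .nb [[1, 3, 30]],
 .nb [[1, 3, 24]],
 .nb [[1, 3, 41]],
 .nb [[1, 2, 47, 3]]]),
 ((nat_lit 0x15e08bd7cc6bce1e495cac91ce890), [.nb [[]],
 .fx 4 56,
 .nb [[1, 23, 2]],
 .fx 9 12,
 .nb [[1, 3, 5]],
 .fx 23 10,
 .nb [[1, 3, 51]],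
 .nb [[1, 3, 8, 3], [1, 0, 13, 3], [1, 3, 7, 45]],
 .nb [[3, 1, 38]],
 .nb [[1, 3, 6, 53]],
 .nb [[1, 3, 4]],
 .nb [[2, 4, 3]],
 .nb [[1, 7, 1]],
 .nb [[1, 3, 6, 39]],
 .nb [[1, 3, 33]],
 .nb [[3, 1, 32]],
 .nb [[2, 47, 1]],
 .nb [[1, 47, 2]],
 .nb [[1, 3, 9, 30]]]),
 ((nat_lit 0x11003e0ab66fea3227bcea550fec2), [.fx 1 56,
 .nb [[1, 22, 3]],
 .fx 24 10,
 .nb [[1, 3, 5, 10]],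
 .nb [[1, 7, 1]],
 .nb [[2, 33, 2], [1, 3, 28], [1, 3, 11], [1, 3, 24], [1, 3, 9, 3], [1, 3, 40], [1, 3, 5, 8], [1, 47, 2]],
 .nb [[1, 22, 2]],
 .nb [[2, 4, 3]],
 .nb [[1, 49, 2]],
 .nb [[1, 3, 5, 8]],
 .nb [[1, 47, 2]],
 .nb [[3, 6]],
 .nb [[1, 14]],
 .fx 80 2,
 .nb [[1, 3, 9, 3]],
 .nb [[2, 33, 2]],
 .nb [[3, 1, 38]],
 .nb [[3, 1, 37]],
 .nb [[1, 41, 3]],
 .nb [[1, 3, 5, 17]],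
 .nb [[1, 33, 1]]]),
 ((nat_lit 0x11024e02b56fdb92a39cb83b2e9ec), [.fx 2 56,
 .nb [[1, 3, 47]],
 .fx 7 10,
 .nb [[3, 1, 37]],
 .nb [[1, 47, 2]],
 .nb [[1, 2, 47, 3], [2, 12, 3], [1, 3, 10], [1, 3, 24], [1, 3, 12], [1, 7, 1], [1, 3, 40], [1, 33, 1]],
 .nb [[1, 49, 2]],
 .nb [[1, 3]],
 .nb [[1, 2, 47, 3]],
 .nb [[1, 4, 27]],
 .nb [[1, 7]],
 .fx 71 2,
 .nb [[1, 3, 24]],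
 .nb [[2, 12, 3]],
 .nb [[3, 1, 12]],
 .nb [[1, 5, 1]],
 .nb [[1, 3, 10]],
 .nb [[1, 15, 2]],
 .nb [[1, 3, 51]]]),
 ((nat_lit 0x1b1d0e22b4ffca53339fa9111e8c0), [.nb [[]],
 .fx 6 56,
 .nb [[3, 1, 15]],
 .fx 21 12,
 .nb [[1, 24, 3]],
 .nb [[1, 33, 1]],
 .fx 34 10,
 .nb [[2, 4, 2]],
 .nb [[1, 3, 47], [1, 3, 6, 9], [1, 51, 3]],
 .nb [[1, 3, 24]],
 .nb [[1, 0, 13, 3]],
 .nb [[1, 32, 2]],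
 .nb [[1, 15, 2]],
 .nb [[1, 3, 8, 3]],
 .nb [[1, 3, 10]],
 .nb [[1, 3, 41]],
 .nb [[1, 12, 2]],
 .nb [[1, 3, 30]],
 .nb [[2, 31, 3]]]),
 ((nat_lit 0x15e08ed2f46fce1e23dcac11ce8c0), [.nb [[]],
 .fx 6 56,
 .nb [[3, 1, 15]],
 .fx 21 12,
 .nb [[1, 24, 3]],
 .fx 90 2,
 .nb [[1, 3, 23]],
 .nb [[3, 1, 37], [1, 36, 3], [1, 3, 6, 39], [1, 2, 47, 3], [2, 12, 3], [2, 4, 3], [1, 3, 9], [3, 1, 36]],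
 .nb [[1, 3, 4, 50]],
 .nb [[2, 5, 3]],
 .nb [[1, 43, 2]],
 .nb [[2, 12, 3]],
 .nb [[1, 4, 27]],
 .nb [[1, 5, 49]],
 .fx 40 2,
 .nb [[1, 3, 28]],
 .nb [[1, 3, 12]],
 .nb [[1, 3, 9, 30]],
 .nb [[2, 5, 2]],
 .nb [[3, 1, 28]],
 .nb [[1, 3, 4, 37]],
 .nb [[1, 7, 1]]])]
theorem ex_22 : exAll 275 9 nx D 20160 ex2_22 = true := by decide +kernel
noncomputable def ex2_23 : List (ℕ × List Ins) := [((nat_lit 0x102750f9b0633a2cc3872ee25ffe), [.nb [[]],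
 .fx 1 56,
 .nb [[1, 22, 3]],
 .fx 5 10,
 .nb [[1, 0, 24, 3]],
 .fx 109 2,
 .nb [[1, 3, 17]],
 .fx 33 9,
 .nb [[2, 33, 2]],
 .nb [[1, 3, 9, 3]],
 .nb [[1, 2, 47, 1], [1, 33, 1]],
 .nb [[1, 3, 19]],
 .nb [[1, 3, 25]],
 .nb [[1, 33, 1]],
 .nb [[1, 3, 9, 30]],
 .nb [[2, 28, 1]],
 .nb [[1, 3, 6]],
 .nb [[1, 3, 40]],
 .nb [[2, 11, 2]],
 .nb [[1, 3, 6, 53]],
 .nb [[1, 3, 26]]]),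
 ((nat_lit 0x11027e08176539b28524d27f2ff6e), [.nb [[]],
 .fx 1 56,
 .nb [[1, 22, 3]],
 .fx 5 10,
 .nb [[1, 0, 24, 3]],
 .fx 109 2,
 .nb [[1, 3, 17]],
 .fx 24 9,
 .nb [[1, 3, 5, 10]],
 .nb [[1, 7, 1]],
 .nb [[1, 3, 29], [1, 33, 1]],
 .nb [[1, 3, 19]],
 .nb [[1, 33, 1]],
 .nb [[1, 3, 14]],
 .nb [[1, 3, 5, 8]],
 .nb [[1, 3, 25]],
 .nb [[1, 3]],
 .nb [[1, 3, 27]],
 .nb [[1, 32, 2]]]),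
 ((nat_lit 0x11003f0f9e672a324d3ce2d50fed2), [.fx 1 56,
 .nb [[1, 22, 3]],
 .fx 24 10,
 .nb [[1, 3, 5, 10]],
 .nb [[1, 7, 1]],
 .nb [[2, 33, 2], [1, 3, 28], [2, 11, 2], [1, 3, 9, 3], [2, 28, 1], [1, 3, 40], [1, 3, 5, 8], [1, 47, 2]],
 .nb [[3, 1, 32]],
 .nb [[2, 35, 3]],
 .nb [[1, 47, 2]],
 .nb [[3, 6]],
 .nb [[1, 14]],
 .fx 80 2,
 .nb [[1, 3, 9, 3]],
 .nb [[2, 33, 2]],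
 .nb [[1, 41, 3]],
 .nb [[3, 1, 38]],
 .nb [[2, 11, 2]],
 .nb [[1, 33, 1]],
 .nb [[1, 3, 14]]]),
 ((nat_lit 0x11024f079d671b92c91cb0bb2e9fc), [.fx 2 56,
 .nb [[1, 3, 47]],
 .fx 7 10,
 .nb [[3, 1, 37]],
 .nb [[1, 47, 2]],
 .nb [[3, 1, 10], [1, 2, 47, 3], [1, 3, 10], [1, 3, 12], [1, 3, 6, 53], [1, 7, 1], [1, 3, 40], [1, 33, 1]],
 .nb [[1, 3, 5, 10]],
 .nb [[3, 1, 12]],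
 .nb [[3, 1, 38]],
 .nb [[1, 49, 2]],
 .nb [[1, 33, 1]],
 .nb [[1, 2, 47, 3]],
 .nb [[1, 3, 12]],
 .nb [[2, 41]],
 .nb [[1, 3, 10]],
 .nb [[3, 1, 10]],
 .nb [[1, 3, 9, 30]],
 .nb [[1, 3, 13]]]),
 ((nat_lit 0xb1f7428139431e39423536e35f6e), [.nb [[]],
 .fx 1 56,
 .nb [[1, 22, 3]],
 .fx 24 14,
 .nb [[1, 3, 5, 10]],
 .nb [[1, 3, 41]],
 .fx 17 12,
 .nb [[1, 3, 45]],
 .nb [[3, 1, 39], [1, 47, 3]],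
 .nb [[1, 3, 30]],
 .nb [[1, 3, 25]],
 .nb [[1, 3, 9, 3]],
 .nb [[1, 3, 4, 28]],
 .nb [[1, 0, 24, 3]],
 .nb [[1, 3, 17]],
 .nb [[1, 3, 27]],
 .nb [[1, 3, 29]],
 .nb [[1, 3, 40]],
 .nb [[1, 33, 1]]]),
 ((nat_lit 0xb1d352f9a9622635c3b63c415ed2), [.nb [[]],
 .fx 1 56,
 .nb [[1, 22, 3]],
 .fx 5 14,
 .nb [[1, 0, 24, 3]],
 .nb [[1, 3, 17]],
 .fx 26 12,
 .nb [[1, 3, 26]],
 .nb [[1, 3, 4, 28]],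
 .nb [[2, 31, 3]],
 .nb [[1, 3, 9, 3]],
 .nb [[1, 3, 30]],
 .nb [[1, 3, 28]],
 .nb [[1, 0, 13, 3]],
 .nb [[2, 11, 2]],
 .nb [[1, 3, 29]],
 .nb [[1, 3, 16]],
 .nb [[3, 1, 24]],
 .nb [[1, 3, 32]],
 .nb [[1, 3, 7]],
 .nb [[1, 3, 6, 53]]]),
 ((nat_lit 0xb1f4527999613c3d81b31aa349fc), [.nb [[]],
 .fx 2 56,
 .nb [[1, 3, 47]],
 .fx 7 10,
 .nb [[3, 1, 37]],
 .fx 106 2,
 .nb [[1, 9, 3]],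
 .fx 27 9,
 .nb [[3, 1, 10]],
 .nb [[3, 1, 32], [1, 3, 11], [1, 3, 29]],
 .nb [[1, 12, 2]],
 .nb [[1, 3, 13]],
 .nb [[1, 33, 1]],
 .nb [[1, 3, 40]],
 .nb [[1, 3, 16]],
 .nb [[1, 3]],
 .nb [[1, 3, 9, 30]],
 .nb [[1, 3, 30]],
 .nb [[2, 34, 1]],
 .nb [[2, 28, 1]]]),
 ((nat_lit 0x1b1d3e2816f528731527c3551fe42), [.nb [[]],
 .fx 1 56,
 .nb [[1, 22, 3]],
 .fx 5 14,
 .nb [[1, 0, 24, 3]],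
 .nb [[1, 3, 17]],
 .fx 26 12,
 .nb [[1, 3, 26]],
 .nb [[1, 3, 4, 28]],
 .nb [[1, 3, 23], [2, 28, 1]],
 .nb [[3, 1, 28]],
 .nb [[1, 47, 2]],
 .nb [[1, 3, 7]],
 .nb [[1, 3, 40]],
 .nb [[1, 3, 8, 3]],
 .nb [[1, 7, 1]],
 .nb [[1, 3, 41]],
 .nb [[1, 3, 9, 3]],
 .nb [[3, 1, 36]],
 .nb [[1, 32, 2]]]),
 ((nat_lit 0x1b1f4e2015f519d39107913b3e96c), [.nb [[]],
 .fx 2 56,
 .nb [[1, 3, 47]],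
 .fx 52 10,
 .nb [[1, 12, 2]],
 .fx 62 2,
 .nb [[1, 3, 8]],
 .fx 68 9,
 .nb [[1, 3, 10]],
 .nb [[2, 41, 1], [2, 11, 2]],
 .nb [[1, 3, 7, 45]],
 .nb [[3, 1, 36]],
 .nb [[1, 3, 12]],
 .nb [[1, 3, 6, 39]],
 .nb [[1, 3, 40]],
 .nb [[1, 47, 2]],
 .nb [[1, 7, 1]],
 .nb [[3, 1, 15]],
 .nb [[1, 3, 7]],
 .nb [[1, 3, 14]]]),
 ((nat_lit 0x1b1d0f279cf70a53591fa1911e8d0), [.nb [[]],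
 .fx 4 56,
 .nb [[1, 23, 2]],
 .fx 9 14,
 .nb [[1, 3, 5]],
 .fx 104 2,
 .nb [[1, 3, 16]],
 .nb [[3, 1, 37], [2, 31, 3], [1, 2, 14, 1], [3, 1, 10], [1, 32, 2], [3, 37, 1], [1, 3, 12], [3, 1, 36]],
 .nb [[2, 43, 1]],
 .nb [[1, 3, 17]],
 .nb [[3, 1, 10]],
 .nb [[2, 31, 3]],
 .nb [[2, 8]],
 .fx 93 2,
 .nb [[1, 7, 1]],
 .nb [[2, 4, 3]],
 .nb [[3, 1, 32]],
 .nb [[1, 3, 30]],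
 .nb [[1, 3, 41]],
 .nb [[1, 2, 47, 3]],
 .nb [[1, 3, 6]]]),
 ((nat_lit 0x5e2f4d8530435ae8460566ee5f6e), [.fx 1 56,
 .nb [[1, 22, 3]],
 .fx 5 10,
 .nb [[1, 0, 24, 3]],
 .nb [[2, 5, 2]],
 .nb [[1, 3, 25], [1, 3, 11, 4], [1, 3, 27], [1, 3, 9, 3], [1, 3, 33], [1, 3, 23], [1, 3, 40], [1, 3]],
 .nb [[3, 6]],
 .nb [[1, 33, 1]],
 .nb [[1, 3, 23]],
 .nb [[1, 3, 25]],
 .nb [[1, 3, 19]],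
 .nb [[1, 3, 26]],
 .nb [[3, 1, 23]],
 .nb [[1, 3, 40]],
 .nb [[1, 3, 29]],
 .nb [[1, 3, 33]],
 .nb [[1, 3]]]),
 ((nat_lit 0x5e0b5dfda06262e4c7866c4c5ed2), [.fx 1 56,
 .nb [[1, 22, 3]],
 .fx 33 10,
 .nb [[2, 33, 2]],
 .nb [[1, 3, 28], [2, 11, 2], [1, 3, 11, 4], [1, 3, 33], [1, 3, 23], [2, 28, 1], [1, 3, 40], [2, 5, 2]],
 .nb [[1, 2, 47, 3]],
 .nb [[1, 3, 19]],
 .nb [[1, 2, 33, 3]],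
 .nb [[1, 3, 40]],
 .nb [[1, 22, 2]],
 .nb [[1, 0, 26]],
 .fx 47 2,
 .nb [[2, 11, 2]],
 .nb [[3, 37, 1]],
 .nb [[1, 3, 33]],
 .nb [[1, 3, 6, 53]],
 .nb [[1, 3, 23]],
 .nb [[1, 9, 3]],
 .nb [[3, 1, 23]]]),
 ((nat_lit 0x5e2c5d7d906178ec85834aae49fc), [.nb [[]],
 .fx 2 56,
 .nb [[1, 3, 47]],
 .fx 26 14,
 .nb [[1, 3, 26]],
 .nb [[1, 3, 4]],
 .fx 5 12,
 .nb [[1, 0, 24, 3]],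
 .nb [[3, 1, 23]],
 .nb [[1, 3, 7, 45]],
 .nb [[1, 3, 33]],
 .nb [[3, 1, 38]],
 .nb [[1, 3, 19]],
 .nb [[1, 33, 1]],
 .nb [[3, 1, 37]],
 .nb [[1, 9, 3]],
 .nb [[3, 1, 10]],
 .nb [[2, 43, 1]],
 .nb [[3, 1, 28]]]),
 ((nat_lit 0x15e0bed856652c3e0564c655cfe42), [.fx 1 56,
 .nb [[1, 22, 3]],
 .fx 24 10,
 .nb [[1, 3, 5, 10]],
 .nb [[1, 7, 1]],
 .nb [[1, 3, 11, 4], [1, 3, 9, 3], [1, 3, 33], [1, 3, 23], [1, 3, 40], [1, 3, 5, 8], [2, 5, 2], [1, 47, 2]],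
 .nb [[3, 1, 32]],
 .nb [[2, 35, 3]],
 .nb [[1, 22, 2]],
 .nb [[2, 4, 3]],
 .nb [[1, 14]],
 .fx 80 2,
 .nb [[1, 3, 9, 3]],
 .nb [[1, 3, 10]],
 .nb [[1, 3, 29]],
 .nb [[1, 3, 33]],
 .nb [[3, 1, 28]],
 .nb [[1, 3, 14]],
 .nb [[1, 32, 2]]]),
 ((nat_lit 0x15e2ced055651d9e8144943bee96c), [.nb [[]],
 .fx 2 56,
 .nb [[1, 3, 47]],
 .fx 7 14,
 .nb [[3, 1, 37]],
 .fx 106 2,
 .nb [[1, 9, 3]],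
 .fx 15 11,
 .nb [[1, 49, 2]],
 .nb [[3, 37, 1], [1, 3, 6], [3, 1, 38]],
 .nb [[1, 33, 1]],
 .nb [[1, 3, 4, 50]],
 .nb [[1, 3]],
 .nb [[1, 3, 5, 10]],
 .nb [[1, 3, 23]],
 .nb [[1, 3, 49]],
 .nb [[2, 5, 2]],
 .nb [[1, 3, 12]],
 .nb [[2, 22]],
 .nb [[2, 47, 1]],
 .nb [[1, 7, 1]],
 .nb [[1, 3, 9, 3]],
 .nb [[1, 3, 8]]]),
 ((nat_lit 0x15e08fd7dc670e1e495ca491ce8d0), [.nb [[]],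
 .fx 4 56,
 .nb [[1, 23, 2]],
 .fx 9 14,
 .nb [[1, 3, 5]],
 .nb [[1, 33, 1]],
 .fx 20 12,
 .nb [[1, 36, 3]],
 .nb [[1, 47, 2]],
 .nb [[1, 3, 21], [1, 3, 32]],
 .nb [[2, 28, 1]],
 .nb [[1, 3, 6]],
 .nb [[1, 9, 3]],
 .nb [[3, 1, 32]],
 .nb [[1, 3, 33]],
 .nb [[1, 3, 6, 39]],
 .nb [[1, 3, 10]],
 .nb [[1, 3, 5, 8]],
 .nb [[1, 7, 1]]])]
theorem ex_23 : exAll 275 9 nx D 20160 ex2_23 = true := by decide +kernel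
noncomputable def ex2_24 : List (ℕ × List Ins) := [((nat_lit 0xffdb4f85294246f14634744d5e42), [.nb [[]],
 .fx 1 56,
 .nb [[1, 22, 3]],
 .fx 5 14,
 .nb [[1, 0, 24, 3]],
 .fx 109 2,
 .nb [[1, 3, 17]],
 .nb [[3, 1, 15], [1, 3, 5], [2, 31, 3], [1, 11, 3], [2, 41, 1], [2, 38, 3], [3, 1, 39], [1, 47, 3]],
 .nb [[1, 3, 40]],
 .nb [[3, 1, 23]],
 .nb [[1, 3, 26]],
 .nb [[1, 3, 23]],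
 .nb [[1, 3, 31]],
 .nb [[1, 3, 9, 3]],
 .nb [[1, 33, 1]],
 .nb [[3, 1, 22]],
 .nb [[1, 3, 11, 4]],
 .nb [[1, 3, 16]],
 .nb [[1, 3, 19]]]),
 ((nat_lit 0xfffc4f0519415cf9043152af496c), [.nb [[]],
 .fx 2 56,
 .nb [[1, 3, 47]],
 .fx 7 14,
 .nb [[3, 1, 37]],
 .nb [[1, 9, 3]],
 .fx 36 12,
 .nb [[1, 11, 3]],
 .nb [[1, 3, 9, 3]],
 .nb [[1, 24, 3], [1, 3, 6, 9]],
 .nb [[1, 3, 33]],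
 .nb [[1, 33, 1]],
 .nb [[1, 3, 7, 45]],
 .nb [[1, 12, 2]],
 .nb [[1, 3, 19]],
 .nb [[1, 3, 7]],
 .nb [[2, 47, 1]],
 .nb [[3, 1, 12]],
 .nb [[2, 5, 2]]]),
 ((nat_lit 0xffd85f7d896064f585b2580d48d0), [.nb [[]],
 .fx 4 56,
 .nb [[1, 23, 2]],
 .fx 9 14,
 .nb [[1, 3, 5]],
 .fx 104 2,
 .nb [[1, 3, 16]],
 .nb [[3, 1, 37], [2, 31, 3], [1, 3, 5, 14], [3, 1, 10], [1, 3, 11, 4], [3, 37, 1], [1, 3, 8], [1, 43, 2]],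
 .nb [[3, 1, 24]],
 .nb [[2, 31, 3]],
 .nb [[2, 43, 1]],
 .nb [[2, 8]],
 .fx 84 2,
 .nb [[1, 3, 6, 53]],
 .nb [[3, 1, 38]],
 .nb [[2, 33, 2]],
 .nb [[1, 9, 3]],
 .nb [[3, 1, 23]],
 .nb [[2, 5, 2]],
 .nb [[2, 38, 3]]]),
 ((nat_lit 0x1ffd8ef054f50c5f11478511de840), [.nb [[]],
 .fx 6 56,
 .nb [[3, 1, 15]],
 .fx 21 14,
 .nb [[1, 24, 3]],
 .fx 90 2,
 .nb [[1, 3, 23]],
 .nb [[1, 36, 3], [3, 1, 22], [1, 3, 6, 39], [2, 38, 3], [2, 4, 3], [1, 3, 7], [3, 1, 36], [1, 3, 7, 45]],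
 .nb [[1, 54, 2]],
 .nb [[2, 43, 1]],
 .nb [[1, 43, 2]],
 .nb [[1, 3, 4, 50]],
 .fx 89 2,
 .nb [[1, 3, 4, 28]],
 .nb [[1, 3, 33]],
 .nb [[1, 32, 2]],
 .nb [[3, 1, 28]],
 .nb [[1, 9, 3]],
 .nb [[1, 7, 1]],
 .nb [[1, 3, 4]],
 .nb [[1, 3, 30]]]),
 ((nat_lit 0x2710fab0af3a0eeb87aee217be), [.nb [[]],
 .fx 1 56,
 .nb [[1, 22, 3]],
 .fx 5 10,
 .nb [[1, 0, 24, 3]],
 .fx 109 2,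
 .nb [[1, 3, 17]],
 .fx 33 9,
 .nb [[2, 33, 2]],
 .nb [[1, 5, 1], [1, 3, 6], [1, 3, 6, 53]],
 .nb [[1, 3, 11]],
 .nb [[2, 28, 1]],
 .nb [[1, 3, 9]],
 .nb [[1, 3]],
 .nb [[2, 11, 2]],
 .nb [[1, 3, 28]],
 .nb [[1, 3, 9, 30]],
 .nb [[1, 3, 25]],
 .nb [[1, 3, 29]]]),
 ((nat_lit 0x10027a082769f9b0a7a4da7f2b72e), [.nb [[]],
 .fx 1 56,
 .nb [[1, 22, 3]],
 .fx 5 10,
 .nb [[1, 0, 24, 3]],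
 .fx 109 2,
 .nb [[1, 3, 17]],
 .fx 24 9,
 .nb [[1, 3, 5, 10]],
 .nb [[1, 3, 9], [1, 3, 29]],
 .nb [[1, 5, 1]],
 .nb [[1, 3, 9]],
 .nb [[1, 3, 10]],
 .nb [[1, 3, 5, 8]],
 .nb [[1, 47, 2]],
 .nb [[1, 3]],
 .nb [[1, 3, 27]],
 .nb [[3, 1, 36]],
 .nb [[1, 3, 24]],
 .nb [[1, 3, 11]]]),
 ((nat_lit 0x10003b0fae6bea306fbcead50b692), [.fx 1 56,
 .nb [[1, 22, 3]],
 .fx 24 10,
 .nb [[1, 3, 5, 10]],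
 .nb [[1, 7, 1]],
 .nb [[2, 33, 2], [1, 3, 28], [2, 11, 2], [1, 3, 11], [1, 3, 24], [2, 28, 1], [1, 3, 5, 8], [1, 47, 2]],
 .nb [[3, 1, 32]],
 .nb [[2, 35, 3]],
 .nb [[2, 4, 3]],
 .nb [[1, 47, 2]],
 .nb [[3, 6]],
 .nb [[1, 14]],
 .fx 66 2,
 .nb [[1, 3, 11]],
 .nb [[2, 28, 1]],
 .nb [[1, 3, 6]],
 .nb [[2, 33, 2]],
 .nb [[3, 1, 37]],
 .nb [[1, 41, 3]],
 .nb [[1, 2, 14, 1]]]),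
 ((nat_lit 0x10024b07ad6bdb90eb9cb8bb2a1bc), [.fx 2 56,
 .nb [[1, 3, 47]],
 .fx 7 10,
 .nb [[3, 1, 37]],
 .nb [[1, 47, 2]],
 .nb [[3, 1, 10], [1, 2, 47, 3], [2, 12, 3], [1, 3, 10], [1, 3, 24], [1, 3, 12], [1, 3, 6, 53], [1, 7, 1]],
 .nb [[2, 4, 3]],
 .nb [[2, 34, 1]],
 .nb [[3, 1, 38]],
 .nb [[1, 49, 2]],
 .nb [[1, 3, 24]],
 .nb [[1, 2, 47, 3]],
 .nb [[1, 3, 12]],
 .nb [[2, 22]],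
 .nb [[1, 7, 1]],
 .nb [[1, 3, 6, 53]],
 .nb [[1, 3, 28]],
 .nb [[1, 51, 3]]]),
 ((nat_lit 0xa1f70282398f1e1b6a35b6e3172e), [.nb [[]],
 .fx 1 56,
 .nb [[1, 22, 3]],
 .fx 24 14,
 .nb [[1, 3, 5, 10]],
 .nb [[1, 3, 41]],
 .fx 17 12,
 .nb [[1, 3, 45]],
 .nb [[1, 3, 5], [1, 2, 33, 3], [1, 2, 47, 1]],
 .nb [[1, 3, 7]],
 .nb [[1, 3, 25]],
 .nb [[1, 3, 27]],
 .nb [[1, 3, 16]],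
 .nb [[1, 35, 2]],
 .nb [[1, 3, 24]],
 .nb [[1, 3, 17]],
 .nb [[1, 3]],
 .nb [[1, 3, 44]],
 .nb [[1, 3, 11]]]),
 ((nat_lit 0xa1d312faa9ae2617ebb6bc411692), [.nb [[]],
 .fx 1 56,
 .nb [[1, 22, 3]],
 .fx 5 14,
 .nb [[1, 0, 24, 3]],
 .nb [[1, 3, 17]],
 .fx 26 12,
 .nb [[1, 3, 26]],
 .nb [[1, 3, 4, 28]],
 .nb [[1, 3, 18]],
 .nb [[1, 15, 2]],
 .nb [[1, 3, 32]],
 .nb [[1, 3, 28]],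
 .nb [[3, 1, 24]],
 .nb [[1, 3, 30]],
 .nb [[1, 3, 11]],
 .nb [[2, 28, 1]],
 .nb [[1, 3, 31]],
 .nb [[1, 2, 47, 1]]]),
 ((nat_lit 0xa1f4127a99ad3c1fa9b39aa301bc), [.nb [[]],
 .fx 2 56,
 .nb [[1, 3, 47]],
 .fx 7 10,
 .nb [[3, 1, 37]],
 .fx 106 2,
 .nb [[1, 9, 3]],
 .fx 27 9,
 .nb [[3, 1, 10]],
 .nb [[3, 1, 28], [3, 1, 32], [1, 3, 29]],
 .nb [[3, 1, 12]],
 .nb [[1, 12, 2]],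
 .nb [[1, 3, 13]],
 .nb [[1, 3, 24]],
 .nb [[2, 12, 3]],
 .nb [[1, 3, 7]],
 .nb [[1, 3, 9, 30]],
 .nb [[2, 28, 1]],
 .nb [[1, 3, 6, 53]],
 .nb [[1, 3]]]),
 ((nat_lit 0x1a1d3a2826f9e87137a7cb551b602), [.nb [[]],
 .fx 1 56,
 .nb [[1, 22, 3]],
 .fx 5 14,
 .nb [[1, 0, 24, 3]],
 .nb [[1, 3, 17]],
 .fx 26 12,
 .nb [[1, 3, 26]],
 .nb [[1, 3, 4, 28]],
 .nb [[1, 3, 23], [2, 28, 1]],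
 .nb [[1, 3, 11]],
 .nb [[1, 3, 7]],
 .nb [[2, 4, 3]],
 .nb [[1, 3, 24]],
 .nb [[1, 0, 13, 3]],
 .nb [[3, 1, 36]],
 .nb [[1, 3, 6, 39]],
 .nb [[1, 32, 2]]]),
 ((nat_lit 0x1a1f4a2025f9d9d1b387993b3a12c), [.nb [[]],
 .fx 2 56,
 .nb [[1, 3, 47]],
 .fx 45 10,
 .nb [[2, 12, 3]],
 .nb [[1, 3, 24]],
 .nb [[1, 12, 2], [1, 3, 10], [1, 3, 7], [1, 3, 12], [1, 7, 1], [1, 3, 7, 45], [1, 3, 30], [1, 47, 2]],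
 .nb [[1, 3]],
 .nb [[1, 3, 9]],
 .nb [[1, 3, 49]],
 .nb [[1, 24, 3]],
 .nb [[1, 3, 40]],
 .nb [[3, 37]],
 .fx 74 2,
 .nb [[1, 3, 12]],
 .nb [[1, 3, 32]],
 .nb [[1, 3, 10]],
 .nb [[1, 3, 17]],
 .nb [[1, 3, 11]],
 .nb [[1, 12, 2]],
 .nb [[3, 1, 12]]]),
 ((nat_lit 0x1a1d0b27acfbca517b9fa9911a090), [.nb [[]],
 .fx 4 56,
 .nb [[1, 23, 2]],
 .fx 9 14,
 .nb [[1, 3, 5]],
 .nb [[1, 3, 16]],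
 .fx 7 9,
 .nb [[3, 1, 37]],
 .nb [[1, 5, 1]],
 .nb [[1, 54, 2], [1, 3]],
 .nb [[1, 2, 47, 3]],
 .nb [[2, 28, 1]],
 .nb [[3, 1, 38]],
 .nb [[1, 3, 28]],
 .nb [[1, 15, 2]],
 .nb [[2, 34]],
 .nb [[3, 1, 32]],
 .nb [[2, 38, 3]],
 .nb [[2, 4, 3]],
 .nb [[1, 7, 1]]]),
 ((nat_lit 0x4e2f0d86308f5aca6e05e6ee172e), [.fx 1 56,
 .nb [[1, 22, 3]],
 .fx 5 10,
 .nb [[1, 0, 24, 3]],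
 .nb [[2, 5, 2]],
 .nb [[1, 3, 25], [1, 3, 11, 4], [1, 3, 27], [1, 3, 11], [1, 3, 24], [1, 3, 33], [1, 3, 23], [1, 3]],
 .nb [[1, 4, 7]],
 .nb [[1, 5, 1]],
 .nb [[1, 3, 33]],
 .nb [[1, 3]],
 .nb [[1, 3, 9]],
 .nb [[1, 3, 29]],
 .nb [[1, 9, 3]],
 .nb [[1, 3, 11]],
 .nb [[1, 3, 26]],
 .nb [[1, 3, 23]],
 .nb [[1, 3, 25]]]),
 ((nat_lit 0x4e0b1dfea0ae62c6ef86ec4c1692), [.fx 1 56,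
 .nb [[1, 22, 3]],
 .nb [[2, 33, 2], [1, 3, 28], [2, 11, 2], [1, 3, 11, 4], [1, 3, 11], [1, 3, 24], [1, 3, 33], [1, 3, 23], [2, 28, 1], [2, 5, 2]],
 .nb [[1, 22, 2]],
 .nb [[3, 6]],
 .nb [[1, 3, 11], [1, 3, 24]],
 .nb [[2, 35, 3]],
 .fx 47 2,
 .nb [[2, 11, 2]],
 .nb [[1, 3, 9]],
 .nb [[2, 22]],
 .fx 54 2,
 .nb [[1, 3, 11, 4]],
 .nb [[1, 3, 6]],
 .nb [[2, 33, 2]],
 .nb [[1, 3, 4]],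
 .nb [[1, 43, 2]],
 .nb [[3, 37, 1]],
 .nb [[2, 47, 3]]])]
theorem ex_24 : exAll 275 9 nx D 20160 ex2_24 = true := by decide +kernel
noncomputable def ex2_25 : List (ℕ × List Ins) := [((nat_lit 0x4e2c1d7e90ad78cead83caae01bc), [.nb [[]],
 .fx 2 56,
 .nb [[1, 3, 47]],
 .fx 26 14,
 .nb [[1, 3, 26]],
 .fx 5 12,
 .nb [[1, 0, 24, 3]],
 .nb [[3, 1, 23]],
 .nb [[3, 1, 37], [2, 12, 3]],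
 .nb [[1, 3, 24]],
 .nb [[1, 43, 2]],
 .nb [[1, 9, 3]],
 .nb [[2, 28, 1]],
 .nb [[1, 3, 4, 37]],
 .nb [[3, 1, 10]],
 .nb [[1, 3, 13]],
 .nb [[1, 3, 33]],
 .nb [[1, 3, 11, 4]],
 .nb [[1, 15, 2]],
 .nb [[2, 47, 1]]]),
 ((nat_lit 0x14e0bad86669ec3c27e4ce55cb602), [.nb [[]],
 .fx 1 56,
 .nb [[1, 22, 3]],
 .fx 24 10,
 .nb [[1, 3, 5, 10]],
 .nb [[1, 7, 1]],
 .nb [[1, 3, 11, 4], [1, 3, 11], [1, 3, 24], [1, 3, 33], [1, 3, 23], [1, 3, 5, 8], [2, 5, 2], [1, 47, 2]],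
 .nb [[2, 4, 3]],
 .nb [[1, 22, 2]],
 .nb [[2, 35, 3]],
 .nb [[3, 1, 32]],
 .fx 66 2,
 .nb [[1, 3, 11]],
 .nb [[1, 3, 12]],
 .nb [[2, 5, 2]],
 .nb [[1, 3, 9]],
 .nb [[1, 3, 23]],
 .nb [[1, 3, 4]],
 .nb [[1, 2, 14, 1]]]),
 ((nat_lit 0x14e2cad06569dd9ca3c49c3bea12c), [.nb [[]],
 .fx 2 56,
 .nb [[1, 3, 47]],
 .fx 7 14,
 .nb [[3, 1, 37]],
 .fx 106 2,
 .nb [[1, 9, 3]],
 .fx 15 11,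
 .nb [[1, 49, 2]],
 .nb [[3, 37, 1], [1, 3, 6], [3, 1, 38]],
 .nb [[1, 3, 24]],
 .nb [[1, 43, 2]],
 .nb [[1, 3]],
 .nb [[2, 4, 3]],
 .nb [[1, 54, 2]],
 .nb [[1, 3, 49]],
 .nb [[2, 5, 2]],
 .nb [[1, 3, 12]],
 .nb [[2, 41]],
 .nb [[1, 3, 8]],
 .nb [[1, 3, 10]],
 .nb [[1, 15, 2]],
 .nb [[2, 47, 1]]]),
 ((nat_lit 0x14e08bd7ec6bce1c6bdcac91ca090), [.nb [[]],
 .fx 4 56,
 .nb [[1, 23, 2]],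
 .nb [[1, 3, 5], [2, 43, 1], [1, 3, 51], [2, 41, 1], [2, 38, 3], [1, 3, 25], [2, 34, 1], [1, 2, 47, 1], [1, 41, 3], [3, 1, 12], [1, 3, 16], [1, 33, 1], [1, 3, 17], [1, 3, 30]],
 .nb [[1, 51, 3]],
 .nb [[1, 10, 32]],
 .nb [[1, 3, 6, 53], [2, 28, 1]],
 .nb [[3, 6]],
 .fx 67 2,
 .nb [[1, 3, 9]],
 .nb [[2, 41, 1]],
 .nb [[1, 3, 11]],
 .nb [[2, 31]],
 .fx 63 2,
 .nb [[3, 1, 32]],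
 .nb [[1, 9, 3]],
 .nb [[2, 5, 2]],
 .nb [[1, 2, 47, 3]],
 .nb [[1, 3, 5, 14]],
 .nb [[1, 7, 1]],
 .nb [[1, 3, 23]]]),
 ((nat_lit 0xefdb0f86298e46d36e34f44d1602), [.nb [[]],
 .fx 1 56,
 .nb [[1, 22, 3]],
 .fx 5 14,
 .nb [[1, 0, 24, 3]],
 .fx 109 2,
 .nb [[1, 3, 17]],
 .nb [[1, 3, 5], [1, 3, 18], [1, 11, 3], [2, 5, 3], [2, 41, 1], [2, 38, 3], [3, 1, 39], [1, 47, 3]],
 .nb [[1, 3, 11]],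
 .nb [[1, 9, 3]],
 .nb [[1, 3, 29]],
 .nb [[1, 3, 33]],
 .nb [[1, 3, 41]],
 .nb [[1, 3, 24]],
 .nb [[1, 5, 1]],
 .nb [[1, 3, 4, 28]],
 .nb [[1, 3, 11, 4]],
 .nb [[1, 3, 16]],
 .nb [[1, 3, 9]]]),
 ((nat_lit 0xeffc0f06198d5cdb2c31d2af012c), [.nb [[]],
 .fx 2 56,
 .nb [[1, 3, 47]],
 .fx 7 14,
 .nb [[3, 1, 37]],
 .nb [[1, 9, 3]],
 .fx 36 12,
 .nb [[1, 11, 3]],
 .nb [[1, 3, 33], [1, 43, 2], [2, 5, 2]],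
 .nb [[1, 3, 21]],
 .nb [[1, 3, 23]],
 .nb [[1, 3, 24]],
 .nb [[1, 43, 2]],
 .nb [[1, 3, 7, 45]],
 .nb [[1, 3, 7]],
 .nb [[1, 5, 1]],
 .nb [[1, 3, 4]],
 .nb [[1, 3, 4, 37]],
 .nb [[1, 3, 16]],
 .nb [[1, 3, 8]]]),
 ((nat_lit 0xefd81f7e89ac64d7adb2d80d0090), [.nb [[]],
 .fx 4 56,
 .nb [[1, 23, 2]],
 .fx 9 14,
 .nb [[1, 3, 5]],
 .nb [[1, 3, 16]],
 .fx 7 9,
 .nb [[3, 1, 37]],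
 .nb [[1, 5, 1]],
 .nb [[1, 3, 45], [3, 1, 28]],
 .nb [[1, 3, 28]],
 .nb [[3, 1, 38]],
 .nb [[1, 3, 33]],
 .nb [[1, 3, 30]],
 .nb [[3, 1, 24]],
 .nb [[1, 2, 47, 3]],
 .nb [[2, 28, 1]],
 .nb [[1, 3, 24]],
 .nb [[1, 3, 9, 30]],
 .nb [[1, 15, 2]]]),
 ((nat_lit 0x1efd8af064f9cc5d33c78d11da000), [.nb [[]],
 .fx 13 56,
 .nb [[1, 2, 14, 1]],
 .fx 21 14,
 .nb [[1, 24, 3]],
 .nb [[1, 3, 4, 37]],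
 .fx 15 9,
 .nb [[1, 49, 2]],
 .nb [[1, 3, 43], [1, 41, 3], [1, 3]],
 .nb [[1, 3, 5, 14]],
 .nb [[1, 3, 30]],
 .nb [[2, 4, 3]],
 .nb [[1, 3, 8, 3]],
 .nb [[1, 3, 24]],
 .nb [[3, 1, 36]],
 .nb [[2, 47, 3]],
 .nb [[2, 12, 3]],
 .nb [[1, 15, 2]],
 .nb [[1, 3, 7]]]),
 ((nat_lit 0x10025b078f631b90cd3cf0bb2b5be), [.nb [[]],
 .fx 1 56,
 .nb [[1, 22, 3]],
 .fx 5 12,
 .nb [[1, 0, 24, 3]],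
 .fx 109 2,
 .nb [[1, 3, 17]],
 .fx 35 9,
 .nb [[1, 3, 6, 39]],
 .nb [[3, 1, 24]],
 .nb [[1, 3, 27], [1, 47, 2]],
 .nb [[1, 3, 5, 8]],
 .nb [[1, 47, 2]],
 .nb [[2, 4, 3]],
 .nb [[1, 7, 1]],
 .nb [[1, 3, 6]],
 .nb [[3, 11]],
 .nb [[2, 28, 1]],
 .nb [[1, 32, 2]],
 .nb [[2, 11, 2]],
 .nb [[1, 3, 6, 53]]]),
 ((nat_lit 0x4e2d1d7cb02178ccc7874aae15be), [.nb [[]],
 .fx 1 56,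
 .nb [[1, 22, 3]],
 .fx 5 12,
 .nb [[1, 0, 24, 3]],
 .nb [[2, 5, 2]],
 .fx 33 10,
 .nb [[2, 33, 2]],
 .nb [[1, 5, 1], [1, 3, 19], [3, 1, 36], [1, 3, 7, 45]],
 .nb [[1, 3, 33]],
 .nb [[1, 3]],
 .nb [[1, 3, 9, 30]],
 .nb [[1, 3, 27]],
 .nb [[1, 3, 11, 4]],
 .nb [[1, 43, 2]],
 .nb [[1, 9, 3]],
 .nb [[1, 3, 25]],
 .nb [[2, 28, 1]],
 .nb [[1, 3, 28]]]),
 ((nat_lit 0x14e2dad047611d9c8564d43beb52e), [.fx 1 56,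
 .nb [[1, 22, 3]],
 .fx 5 12,
 .nb [[1, 0, 24, 3]],
 .nb [[2, 5, 2]],
 .fx 24 10,
 .nb [[1, 3, 5, 10]],
 .nb [[1, 7, 1]],
 .nb [[2, 47, 1], [1, 54, 2], [1, 43, 2]],
 .nb [[1, 3, 6, 39]],
 .nb [[1, 3, 27]],
 .nb [[1, 3, 11, 4]],
 .nb [[1, 3, 5, 14]],
 .nb [[3, 11]],
 .nb [[1, 3, 25]],
 .nb [[1, 3, 23]],
 .nb [[2, 47, 1]],
 .nb [[3, 1, 36]]]),
 ((nat_lit 0x14e09bd7ce630e1c4d7ce491cb492), [.nb [[]],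
 .fx 1 56,
 .nb [[1, 22, 3]],
 .fx 24 12,
 .nb [[1, 3, 5, 10]],
 .nb [[1, 7, 1]],
 .fx 33 10,
 .nb [[2, 33, 2]],
 .nb [[2, 38, 3], [1, 41, 3], [3, 1, 12], [1, 3, 7, 45]],
 .nb [[1, 3, 23]],
 .nb [[3, 1, 37]],
 .nb [[1, 54, 2]],
 .nb [[1, 3, 5, 8]],
 .nb [[1, 47, 2]],
 .nb [[1, 3, 11, 4]],
 .nb [[1, 3, 14]],
 .nb [[1, 3, 28]],
 .nb [[2, 28, 1]],
 .nb [[1, 3, 12]],
 .nb [[1, 3, 10]]]),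
 ((nat_lit 0x10024f079d6fdb90c91cb8bb2a1fc), [.fx 2 56,
 .nb [[1, 3, 47]],
 .fx 7 10,
 .nb [[3, 1, 37]],
 .nb [[1, 47, 2]],
 .nb [[3, 1, 10], [1, 2, 47, 3], [1, 3, 10], [1, 3, 24], [1, 3, 12], [1, 3, 6, 53], [1, 7, 1], [1, 3, 40]],
 .nb [[2, 4, 3]],
 .nb [[1, 49, 2]],
 .nb [[1, 3]],
 .nb [[1, 3, 9]],
 .nb [[1, 3, 12]],
 .nb [[3, 1, 38]],
 .nb [[1, 5, 45]],
 .nb [[1, 3, 6, 53]],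
 .nb [[1, 3, 10]],
 .nb [[1, 51, 3]],
 .nb [[1, 3, 9, 30]]]),
 ((nat_lit 0x4e2c5d7d90ed78cc8583caae01fc), [.nb [[]],
 .fx 2 56,
 .nb [[1, 3, 47]],
 .fx 26 14,
 .nb [[1, 3, 26]],
 .nb [[1, 3, 4]],
 .fx 5 10,
 .nb [[1, 0, 24, 3]],
 .nb [[3, 1, 23]],
 .nb [[3, 1, 37], [1, 3, 40]],
 .nb [[1, 9, 3]],
 .nb [[3, 1, 37]],
 .nb [[1, 3, 4, 50]],
 .nb [[3, 37, 1]],
 .nb [[1, 3, 43]],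
 .nb [[2, 47, 1]],
 .nb [[1, 43, 2]],
 .nb [[1, 2, 47, 3]],
 .nb [[1, 3, 11, 4]]]),
 ((nat_lit 0x14e2ced0556ddd9c81449c3bea16c), [.nb [[]],
 .fx 2 56,
 .nb [[1, 3, 47]],
 .fx 7 14,
 .nb [[3, 1, 37]],
 .fx 106 2,
 .nb [[1, 9, 3]],
 .fx 15 11,
 .nb [[1, 49, 2]],
 .nb [[3, 37, 1], [1, 3, 6], [3, 1, 38]],
 .nb [[1, 3, 24]],
 .nb [[1, 43, 2]],
 .nb [[1, 3, 40]],
 .nb [[1, 3]],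
 .nb [[2, 4, 3]],
 .nb [[1, 54, 2]],
 .nb [[1, 3, 49]],
 .nb [[2, 41]],
 .nb [[1, 3, 8]],
 .nb [[1, 3, 10]],
 .nb [[1, 3, 19]],
 .nb [[1, 3, 4]]]),
 ((nat_lit 0x14e08fd7dc6fce1c495cac91ca0d0), [.nb [[]],
 .fx 4 56,
 .nb [[1, 23, 2]],
 .fx 9 14,
 .nb [[1, 3, 5]],
 .fx 104 2,
 .nb [[1, 3, 16]],
 .fx 2 10,
 .nb [[1, 3, 47]],
 .nb [[1, 41, 3], [1, 3, 30]],
 .nb [[1, 3, 9]],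
 .nb [[1, 3, 4]],
 .nb [[1, 3, 8]],
 .nb [[1, 3, 6, 39]],
 .nb [[1, 3, 5, 8]],
 .nb [[1, 47, 2]],
 .nb [[1, 9, 3]],
 .nb [[1, 3, 6]],
 .nb [[1, 3, 28]],
 .nb [[3, 1, 23]]])]
theorem ex_25 : exAll 275 9 nx D 20160 ex2_25 = true := by decide +kernel
noncomputable def ex2_26 : List (ℕ × List Ins) := [((nat_lit 0x10026b0f8d633bb0c91cb2ff2a3bc), [.fx 2 56,
 .nb [[1, 3, 47]],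
 .fx 7 10,
 .nb [[3, 1, 37]],
 .nb [[1, 47, 2]],
 .nb [[1, 3, 26], [3, 1, 10], [1, 2, 47, 3], [1, 3, 10], [1, 3, 12], [1, 3, 6, 53], [1, 7, 1], [1, 41, 3]],
 .nb [[1, 3, 5, 10]],
 .nb [[1, 49, 2]],
 .nb [[1, 3]],
 .nb [[1, 3, 5]],
 .nb [[1, 3, 10]],
 .nb [[1, 3, 6]],
 .nb [[1, 4, 27]],
 .nb [[1, 2, 47, 3]],
 .nb [[1, 3, 12]],
 .nb [[3, 1, 24]],
 .nb [[1, 3, 13]]]),
 ((nat_lit 0x4e2e1dfc90237acc85836eee03bc), [.nb [[]],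
 .fx 2 56,
 .nb [[1, 3, 47]],
 .fx 34 14,
 .nb [[2, 4, 2]],
 .nb [[1, 3, 33]],
 .fx 42 10,
 .nb [[1, 3, 6, 9]],
 .nb [[2, 34, 1]],
 .nb [[3, 1, 10], [1, 41, 3]],
 .nb [[1, 3, 4, 37]],
 .nb [[3, 1, 10]],
 .nb [[1, 3, 8]],
 .nb [[3, 1, 24]],
 .nb [[1, 3, 25]],
 .nb [[1, 43, 2]],
 .nb [[1, 3, 4]],
 .nb [[1, 2, 47, 3]],
 .nb [[1, 9, 3]]]),
 ((nat_lit 0x14e2ead845613dbc8144967fea32c), [.nb [[]],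
 .fx 2 56,
 .nb [[1, 3, 47]],
 .fx 7 14,
 .nb [[3, 1, 37]],
 .fx 106 2,
 .nb [[1, 9, 3]],
 .fx 15 11,
 .nb [[1, 49, 2]],
 .nb [[3, 37, 1], [1, 3, 6], [3, 1, 38]],
 .nb [[1, 41, 3]],
 .nb [[1, 3, 8]],
 .nb [[1, 3, 26]],
 .nb [[1, 3]],
 .nb [[1, 3, 5, 10]],
 .nb [[1, 3, 23]],
 .nb [[1, 3, 43]],
 .nb [[2, 31]],
 .nb [[1, 43, 2]],
 .nb [[1, 3, 12]],
 .nb [[1, 47, 3]],
 .nb [[1, 3, 4, 50]]]),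
 ((nat_lit 0x14e0abdfcc632e3c495ca6d5ca290), [.nb [[]],
 .fx 4 56,
 .nb [[1, 23, 2]],
 .fx 14 14,
 .nb [[2, 43, 1]],
 .nb [[1, 41, 3]],
 .fx 13 11,
 .nb [[1, 2, 14, 1]],
 .nb [[1, 3, 5, 10]],
 .nb [[1, 3, 12], [1, 3, 29], [1, 54, 2], [1, 43, 2]],
 .nb [[3, 1, 38]],
 .nb [[1, 3, 6, 53]],
 .nb [[1, 2, 47, 3]],
 .nb [[1, 9, 3]],
 .nb [[2, 4, 3]],
 .nb [[1, 7, 1]],
 .nb [[2, 47, 1]],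
 .nb [[1, 3, 6, 39]],
 .nb [[2, 11, 2]]]),
 ((nat_lit 0x2750f9b0ef3a0cc387aee217fe), [.nb [[]],
 .fx 1 56,
 .nb [[1, 22, 3]],
 .fx 5 12,
 .nb [[1, 0, 24, 3]],
 .fx 109 2,
 .nb [[1, 3, 17]],
 .fx 26 9,
 .nb [[1, 3, 26]],
 .nb [[2, 28, 1]],
 .nb [[1, 3, 11]],
 .nb [[3, 1, 12]],
 .nb [[3, 1, 15]],
 .nb [[1, 2, 47, 1]],
 .nb [[1, 3, 43]],
 .nb [[2, 11, 2]],
 .nb [[2, 33, 2]],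
 .nb [[1, 3, 28]],
 .nb [[1, 3, 9, 3]],
 .nb [[1, 3, 6]],
 .nb [[1, 3, 6, 53]]]),
 ((nat_lit 0x10027e08176df9b08524da7f2b76e), [.nb [[]],
 .fx 1 56,
 .nb [[1, 22, 3]],
 .fx 5 12,
 .nb [[1, 0, 24, 3]],
 .fx 109 2,
 .nb [[1, 3, 17]],
 .fx 26 9,
 .nb [[1, 3, 26]],
 .nb [[1, 3, 5, 8]],
 .nb [[1, 47, 2]],
 .nb [[1, 3, 19]],
 .nb [[1, 3, 14]],
 .nb [[2, 4, 3]],
 .nb [[1, 7, 1]],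
 .nb [[1, 3, 25]],
 .nb [[1, 3, 24]],
 .nb [[1, 32, 2]],
 .nb [[1, 3, 9, 3]],
 .nb [[1, 3, 6, 39]],
 .nb [[1, 3, 27]]]),
 ((nat_lit 0x10003f0f9e6fea304d3cead50b6d2), [.fx 1 56,
 .nb [[1, 22, 3]],
 .fx 24 12,
 .nb [[1, 3, 5, 10]],
 .nb [[1, 7, 1]],
 .fx 33 10,
 .nb [[2, 33, 2]],
 .nb [[1, 3, 9, 3]],
 .nb [[1, 22, 2], [1, 32, 2]],
 .nb [[3, 1, 32]],
 .nb [[1, 3, 40]],
 .nb [[1, 3, 28]],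
 .nb [[1, 3, 10]],
 .nb [[1, 47, 2]],
 .nb [[1, 0, 33]],
 .nb [[2, 28, 1]],
 .nb [[1, 3, 24]],
 .nb [[1, 3, 14]],
 .nb [[1, 3, 6]]]),
 ((nat_lit 0x4e2f4d8530cf5ac84605e6ee176e), [.fx 1 56,
 .nb [[1, 22, 3]],
 .fx 5 12,
 .nb [[1, 0, 24, 3]],
 .nb [[2, 5, 2]],
 .fx 51 10,
 .nb [[1, 3, 25]],
 .nb [[1, 3, 23]],
 .nb [[1, 3, 26], [1, 3, 9]],
 .nb [[1, 3, 4, 37]],
 .nb [[1, 3, 9]],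
 .nb [[3, 1, 23]],
 .nb [[1, 3]],
 .nb [[1, 3, 27]],
 .nb [[1, 3, 9, 3]],
 .nb [[1, 3, 40]],
 .nb [[1, 3, 5, 14]],
 .nb [[1, 3, 19]]]),
 ((nat_lit 0x4e0b5dfda0ee62c4c786ec4c16d2), [.fx 1 56,
 .nb [[1, 22, 3]],
 .fx 33 12,
 .nb [[2, 33, 2]],
 .nb [[1, 3, 9, 3]],
 .nb [[1, 3, 47], [3, 1], [1, 2, 14, 1], [1, 49, 2], [1, 3, 45], [1, 36, 3], [2, 4, 3], [1, 3, 44]],
 .nb [[1, 3, 28]],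
 .nb [[1, 3, 40]],
 .nb [[1, 2, 33, 3]],
 .nb [[1, 3, 19]],
 .nb [[1, 0, 31]],
 .fx 47 2,
 .nb [[2, 11, 2]],
 .nb [[1, 3, 24]],
 .nb [[1, 3, 13]],
 .nb [[2, 5, 2]],
 .nb [[1, 3, 33]],
 .nb [[3, 1, 23]],
 .nb [[1, 9, 3]]]),
 ((nat_lit 0x14e0bed8566dec3c0564ce55cb642), [.fx 1 56,
 .nb [[1, 22, 3]],
 .fx 24 12,
 .nb [[1, 3, 5, 10]],
 .nb [[1, 7, 1]],
 .fx 54 10,
 .nb [[1, 3, 11, 4]],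
 .nb [[1, 3, 5, 17], [1, 3, 19]],
 .nb [[3, 6]],
 .nb [[1, 3, 33]],
 .nb [[1, 3, 5, 8]],
 .nb [[1, 47, 2]],
 .nb [[1, 3, 14]],
 .nb [[1, 3, 24]],
 .nb [[1, 3, 10]],
 .nb [[1, 3, 9, 3]],
 .nb [[1, 3, 9]],
 .nb [[1, 54, 2]]]),
 ((nat_lit 0x11024b07ad631b92eb9cb0bb2e9bc), [.fx 2 56,
 .nb [[1, 3, 47]],
 .fx 7 10,
 .nb [[3, 1, 37]],
 .nb [[1, 47, 2]],
 .nb [[3, 1, 10], [1, 2, 47, 3], [2, 12, 3], [1, 3, 10], [1, 3, 12], [1, 3, 6, 53], [1, 7, 1], [1, 33, 1]],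
 .nb [[1, 3, 5, 10]],
 .nb [[1, 49, 2]],
 .nb [[1, 3]],
 .nb [[2, 43, 1]],
 .nb [[1, 3, 12]],
 .nb [[3, 1, 38]],
 .nb [[1, 40]],
 .nb [[3, 1, 10]],
 .nb [[1, 7, 1]],
 .nb [[1, 3, 13]],
 .nb [[1, 3, 28]]]),
 ((nat_lit 0x5e2c1d7e902178eead834aae49bc), [.nb [[]],
 .fx 2 56,
 .nb [[1, 3, 47]],
 .fx 26 14,
 .nb [[1, 3, 26]],
 .nb [[1, 3, 4]],
 .fx 3 10,
 .nb [[3, 1]],
 .nb [[1, 54, 2]],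
 .nb [[1, 3, 10], [1, 41, 3], [1, 47, 2]],
 .nb [[1, 12, 2]],
 .nb [[1, 3, 23]],
 .nb [[1, 3, 43]],
 .nb [[1, 4]],
 .fx 55 2,
 .nb [[2, 47, 1]],
 .nb [[1, 15, 2]],
 .nb [[3, 1, 37]],
 .nb [[1, 2, 47, 3]],
 .nb [[1, 3, 11, 4]],
 .nb [[3, 1, 23]],
 .nb [[2, 12, 3]]]),
 ((nat_lit 0x15e2cad065611d9ea3c4943bee92c), [.nb [[]],
 .fx 2 56,
 .nb [[1, 3, 47]],
 .fx 7 14,
 .nb [[3, 1, 37]],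
 .fx 106 2,
 .nb [[1, 9, 3]],
 .fx 15 11,
 .nb [[1, 49, 2]],
 .nb [[3, 37, 1], [1, 3, 6], [3, 1, 38]],
 .nb [[1, 33, 1]],
 .nb [[1, 3, 4, 50]],
 .nb [[2, 12, 3]],
 .nb [[1, 3]],
 .nb [[1, 3, 5, 10]],
 .nb [[1, 3, 23]],
 .nb [[1, 3, 49]],
 .nb [[2, 22]],
 .nb [[2, 47, 1]],
 .nb [[1, 7, 1]],
 .nb [[1, 5, 1]],
 .nb [[1, 3, 33]]]),
 ((nat_lit 0x15e08bd7ec630e1e6bdca491ce890), [.nb [[]],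
 .fx 4 56,
 .nb [[1, 23, 2]],
 .fx 9 14,
 .nb [[1, 3, 5]],
 .nb [[1, 33, 1]],
 .fx 15 11,
 .nb [[1, 49, 2]],
 .nb [[1, 45, 3]],
 .nb [[1, 36, 3], [3, 1, 28], [1, 3, 4, 37], [2, 5, 2]],
 .nb [[3, 1, 38]],
 .nb [[1, 3, 28]],
 .nb [[2, 28, 1]],
 .nb [[1, 3, 33]],
 .nb [[2, 5, 2]],
 .nb [[3, 1, 32]],
 .nb [[1, 7, 1]],
 .nb [[1, 3, 5, 8]],
 .nb [[3, 1, 28]]]),
 ((nat_lit 0x1025507bb0ed382eeb878aa25dfe), [.nb [[]],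
 .fx 1 56,
 .nb [[1, 22, 3]],
 .fx 5 12,
 .nb [[1, 0, 24, 3]],
 .fx 109 2,
 .nb [[1, 3, 17]],
 .fx 49 9,
 .nb [[1, 5, 1]],
 .nb [[1, 3, 9]],
 .nb [[2, 11, 2], [1, 3]],
 .nb [[1, 3, 24]],
 .nb [[2, 11, 2]],
 .nb [[1, 3, 6, 53]],
 .nb [[1, 3, 28]],
 .nb [[3, 1, 24]],
 .nb [[1, 3, 11]],
 .nb [[1, 33, 1]],
 .nb [[1, 3, 9, 30]],
 .nb [[1, 3, 25]]]),
 ((nat_lit 0x11025e00376dd992a7a4d83b2fd6e), [.nb [[]],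
 .fx 1 56,
 .nb [[1, 22, 3]],
 .fx 5 12,
 .nb [[1, 0, 24, 3]],
 .fx 109 2,
 .nb [[1, 3, 17]],
 .fx 35 9,
 .nb [[1, 3, 6, 39]],
 .nb [[1, 51, 3], [3, 1, 39], [1, 47, 3]],
 .nb [[1, 7, 1]],
 .nb [[1, 3, 25]],
 .nb [[1, 3, 11]],
 .nb [[2, 4, 3]],
 .nb [[1, 3, 27]],
 .nb [[1, 47, 2]],
 .nb [[1, 3, 24]],
 .nb [[1, 3, 5, 8]],
 .nb [[1, 3, 9]],
 .nb [[1, 2, 47, 1]]])]
theorem ex_26 : exAll 275 9 nx D 20160 ex2_26 = true := by decide +kernel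
noncomputable def ex2_27 : List (ℕ × List Ins) := [((nat_lit 0x11001f07be6fca126fbce8910fcd2), [.fx 1 56,
 .nb [[1, 22, 3]],
 .fx 24 12,
 .nb [[1, 3, 5, 10]],
 .nb [[1, 7, 1]],
 .fx 33 10,
 .nb [[2, 33, 2]],
 .nb [[1, 3, 9, 3]],
 .nb [[1, 3, 21], [1, 3, 8]],
 .nb [[2, 35, 3]],
 .nb [[1, 3, 40]],
 .nb [[1, 3, 28]],
 .nb [[3, 1, 32]],
 .nb [[1, 3, 10]],
 .nb [[1, 3, 2]],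
 .nb [[1, 33, 1]],
 .nb [[2, 11, 2]],
 .nb [[1, 3, 11]],
 .nb [[3, 37, 1]]]),
 ((nat_lit 0x5e2d4d0730cd58ea6e05c2ae5d6e), [.fx 1 56,
 .nb [[1, 22, 3]],
 .fx 5 12,
 .nb [[1, 0, 24, 3]],
 .nb [[2, 5, 2]],
 .fx 51 10,
 .nb [[1, 3, 25]],
 .nb [[1, 3, 23]],
 .nb [[1, 3, 9], [1, 33, 1]],
 .nb [[1, 3, 21]],
 .nb [[1, 3, 33]],
 .nb [[1, 3]],
 .nb [[1, 3, 19]],
 .nb [[1, 3, 11, 4]],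
 .nb [[1, 3, 9, 3]],
 .nb [[1, 3, 24]],
 .nb [[1, 43, 2]],
 .nb [[1, 3, 8, 3]]]),
 ((nat_lit 0x5e095d7fa0ec60e6ef86c80c5cd2), [.fx 1 56,
 .nb [[1, 22, 3]],
 .fx 33 12,
 .nb [[2, 33, 2]],
 .nb [[1, 3, 9, 3]],
 .fx 40 10,
 .nb [[1, 3, 28]],
 .nb [[1, 3, 40]],
 .nb [[1, 2, 33, 3], [1, 3, 6, 53], [1, 3, 13]],
 .nb [[1, 22, 2]],
 .nb [[1, 2, 33, 3]],
 .nb [[1, 3, 19]],
 .nb [[1, 0, 26]],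
 .fx 47 2,
 .nb [[2, 11, 2]],
 .nb [[1, 3, 24]],
 .nb [[1, 3, 13]],
 .nb [[1, 3, 33]],
 .nb [[3, 37, 1]],
 .nb [[1, 5, 1]],
 .nb [[1, 9, 3]]]),
 ((nat_lit 0x15e09ed0766dcc1e27e4cc11cfc42), [.fx 1 56,
 .nb [[1, 22, 3]],
 .fx 24 12,
 .nb [[1, 3, 5, 10]],
 .nb [[1, 7, 1]],
 .fx 54 10,
 .nb [[1, 3, 11, 4]],
 .nb [[1, 3, 19], [1, 15, 2]],
 .nb [[1, 3, 9]],
 .nb [[3, 1, 28]],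
 .nb [[1, 3, 9, 3]],
 .nb [[2, 5, 2]],
 .nb [[3, 1, 32]],
 .nb [[1, 3, 40]],
 .nb [[1, 3, 10]],
 .nb [[1, 3, 5, 8]],
 .nb [[1, 3, 11]],
 .nb [[1, 3, 23]],
 .nb [[1, 3, 14]]]),
 ((nat_lit 0x102710fab0233a2eeb872ee25fbe), [.nb [[]],
 .fx 1 56,
 .nb [[1, 22, 3]],
 .nb [[1, 0, 24, 3], [2, 33, 2], [1, 3, 28], [2, 11, 2], [1, 3, 25], [1, 3, 27], [2, 28, 1], [1, 3]],
 .nb [[3, 5]],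
 .nb [[1, 22, 2], [2, 35, 3]],
 .fx 12 2,
 .nb [[1, 22, 2]],
 .nb [[1, 12, 2], [1, 0, 13, 3]],
 .fx 47 2,
 .nb [[2, 11, 2]],
 .nb [[1, 0, 13, 3]],
 .nb [[1, 3, 6, 53]],
 .nb [[1, 10, 44]],
 .fx 33 2,
 .nb [[2, 33, 2]],
 .nb [[3, 37, 1]],
 .nb [[1, 3, 25]],
 .nb [[1, 3, 6]],
 .nb [[1, 0, 24, 3]],
 .nb [[1, 33, 1]],
 .nb [[1, 15, 2]]]),
 ((nat_lit 0x11027a08276139b2a7a4d27f2ff2e), [.nb [[]],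
 .fx 1 56,
 .nb [[1, 22, 3]],
 .nb [[1, 0, 24, 3], [1, 3, 5, 10], [1, 3, 25], [1, 3, 27], [1, 7, 1], [1, 3, 5, 8], [1, 3], [1, 47, 2]],
 .nb [[1, 2, 33, 3]],
 .nb [[1, 3, 31], [1, 3, 41]],
 .fx 12 2,
 .nb [[1, 22, 2]],
 .nb [[1, 7, 1], [1, 3, 5, 8]],
 .nb [[1, 4, 7]],
 .fx 93 2,
 .nb [[1, 7, 1]],
 .nb [[2, 4, 3]],
 .fx 5 2,
 .nb [[1, 0, 24, 3]],
 .nb [[1, 32, 2]],
 .nb [[3, 1, 36]],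
 .nb [[1, 3, 44]],
 .nb [[1, 3, 5, 53]],
 .nb [[1, 3]],
 .nb [[1, 3, 10]]]),
 ((nat_lit 0x11003b0fae632a326fbce2d50fe92), [.nb [[]],
 .fx 1 56,
 .nb [[1, 22, 3]],
 .nb [[1, 3, 5, 10], [2, 33, 2], [1, 3, 28], [2, 11, 2], [2, 28, 1], [1, 7, 1], [1, 3, 5, 8], [1, 47, 2]],
 .nb [[3, 5]],
 .nb [[3, 34]],
 .fx 12 2,
 .nb [[1, 22, 2]],
 .nb [[1, 7, 1], [1, 3, 5, 8]],
 .nb [[1, 4, 7]],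
 .fx 93 2,
 .nb [[1, 7, 1]],
 .nb [[1, 3, 5, 10]],
 .nb [[2, 41]],
 .fx 33 2,
 .nb [[2, 33, 2]],
 .nb [[1, 15, 2]],
 .nb [[1, 5, 1]],
 .nb [[1, 32, 2]],
 .nb [[3, 1, 10]],
 .nb [[2, 11, 2]],
 .nb [[3, 1, 28]]]),
 ((nat_lit 0x5e2f0d8630035aea6e0566ee5f2e), [.nb [[]],
 .fx 1 56,
 .nb [[1, 22, 3]],
 .nb [[1, 0, 24, 3], [1, 3, 25], [1, 3, 11, 4], [1, 3, 27], [1, 3, 33], [1, 3, 23], [1, 3], [2, 5, 2]],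
 .fx 12 3,
 .nb [[1, 22, 2]],
 .nb [[2, 23], [1, 7], [1, 0, 31], [1, 10, 44], [3, 11], [2, 41]],
 .fx 41 2,
 .nb [[2, 35, 3]],
 .fx 160 3,
 .nb [[3, 5]],
 .nb [[1, 12, 2], [1, 0, 13, 3]],
 .fx 52 2,
 .nb [[1, 12, 2]],
 .nb [[1, 3, 11]],
 .nb [[1, 3, 13]],
 .fx 51 2,
 .nb [[1, 3, 25]],
 .nb [[1, 3, 23]],
 .nb [[3, 1]],
 .nb [[1, 3, 8]],
 .nb [[1, 33, 1]],
 .nb [[1, 0, 24, 3]],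
 .nb [[2, 5, 2]]]),
 ((nat_lit 0x5e0b1dfea02262e6ef866c4c5e92), [.nb [[]],
 .fx 1 56,
 .nb [[1, 22, 3]],
 .nb [[2, 33, 2], [1, 3, 28], [2, 11, 2], [1, 3, 11, 4], [1, 3, 33], [1, 3, 23], [2, 28, 1], [2, 5, 2]],
 .nb [[3, 34]],
 .nb [[1, 2, 33, 3]],
 .fx 12 2,
 .nb [[1, 22, 2]],
 .nb [[1, 12, 2], [1, 0, 13, 3]],
 .fx 47 2,
 .nb [[2, 11, 2]],
 .nb [[1, 0, 13, 3]],
 .nb [[1, 3, 6, 53]],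
 .nb [[2, 22]],
 .fx 33 2,
 .nb [[2, 33, 2]],
 .nb [[3, 37, 1]],
 .nb [[1, 3, 33]],
 .nb [[1, 3, 6]],
 .nb [[1, 3, 11, 4]],
 .nb [[1, 9, 3]],
 .nb [[3, 1, 23]]]),
 ((nat_lit 0x15e0bad866612c3e27e4c655cfe02), [.nb [[]],
 .fx 1 56,
 .nb [[1, 22, 3]],
 .nb [[1, 3, 5, 10], [1, 3, 11, 4], [1, 3, 33], [1, 3, 23], [1, 7, 1], [1, 3, 5, 8], [2, 5, 2], [1, 47, 2]],
 .nb [[3, 34]],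
 .nb [[1, 3, 31], [1, 3, 41]],
 .fx 12 2,
 .nb [[1, 22, 2]],
 .nb [[1, 7, 1], [1, 3, 5, 8]],
 .nb [[1, 4, 7]],
 .fx 93 2,
 .nb [[1, 7, 1]],
 .nb [[1, 3, 5, 10]],
 .nb [[2, 4, 3]],
 .fx 82 2,
 .nb [[1, 3, 33]],
 .nb [[1, 32, 2]],
 .nb [[1, 45, 3]],
 .nb [[1, 3, 4]],
 .nb [[2, 4, 2]],
 .nb [[1, 2, 14, 1]],
 .nb [[2, 5, 2]]]),
 ((nat_lit 0x102650fb90ef3a2ea983aee24bfc), [.nb [[]],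
 .fx 2 56,
 .nb [[1, 3, 47]],
 .fx 7 10,
 .nb [[3, 1, 37]],
 .fx 106 2,
 .nb [[1, 9, 3]],
 .fx 26 9,
 .nb [[1, 3, 26]],
 .nb [[2, 43, 1], [3, 37, 1], [3, 1, 38]],
 .nb [[2, 5, 3]],
 .nb [[1, 3, 24]],
 .nb [[2, 12, 3]],
 .nb [[1, 33, 1]],
 .nb [[1, 3, 13]],
 .nb [[1, 15, 2]],
 .nb [[1, 3, 9, 30]],
 .nb [[1, 0, 24, 3]]]),
 ((nat_lit 0x11026e08356df9b2a3849a7f2eb6c), [.nb [[]],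
 .fx 2 56,
 .nb [[1, 3, 47]],
 .fx 26 10,
 .nb [[1, 3, 26]],
 .fx 88 2,
 .nb [[1, 3, 4]],
 .fx 45 9,
 .nb [[2, 12, 3]],
 .nb [[1, 3, 24]],
 .nb [[1, 22, 2], [1, 3, 31]],
 .nb [[3, 1, 32]],
 .nb [[1, 3, 40]],
 .nb [[2, 5, 3]],
 .nb [[1, 47, 2]],
 .nb [[1, 3, 12]],
 .nb [[3, 1, 12]],
 .nb [[1, 15, 2]],
 .nb [[1, 41, 3]]]),
 ((nat_lit 0x11002f0fbc6fea326b9caad50ead0), [.nb [[]],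
 .fx 4 56,
 .nb [[1, 23, 2]],
 .fx 23 14,
 .nb [[1, 3, 51]],
 .nb [[1, 7, 1]],
 .fx 13 12,
 .nb [[1, 2, 14, 1]],
 .nb [[1, 3, 13]],
 .nb [[1, 3, 25], [2, 47, 1], [1, 3, 33]],
 .nb [[3, 1, 32]],
 .nb [[1, 3, 5, 17]],
 .nb [[1, 3, 6, 39]],
 .nb [[1, 3, 5, 8]],
 .nb [[2, 28, 1]],
 .nb [[1, 33, 1]],
 .nb [[1, 3, 6]],
 .nb [[3, 1, 38]],
 .nb [[1, 41, 3]],
 .nb [[1, 3, 14]]]),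
 ((nat_lit 0x5e2e4d8710cf5aea2c01e6ee4b6c), [.nb [[]],
 .fx 2 56,
 .nb [[1, 3, 47]],
 .fx 7 14,
 .nb [[3, 1, 37]],
 .nb [[1, 9, 3]],
 .fx 29 12,
 .nb [[1, 0, 31, 1]],
 .nb [[1, 15, 2]],
 .nb [[2, 31, 3], [1, 3, 5, 14], [1, 3, 51]],
 .nb [[1, 43, 2]],
 .nb [[1, 3, 24]],
 .nb [[1, 3, 40]],
 .nb [[1, 3, 26]],
 .nb [[1, 3, 4]],
 .nb [[2, 34, 1]],
 .nb [[2, 5, 2]],
 .nb [[1, 3]]]),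
 ((nat_lit 0x5e0a5dff80ee62e6ad82ec4c4ad0), [.nb [[]],
 .fx 4 56,
 .nb [[1, 23, 2]],
 .fx 23 14,
 .nb [[1, 3, 51]],
 .nb [[3, 1, 23]],
 .fx 7 9,
 .nb [[3, 1, 37]],
 .nb [[1, 0, 13, 3], [1, 47, 2]],
 .nb [[1, 9, 3]],
 .nb [[1, 3, 29]],
 .nb [[1, 3, 28]],
 .nb [[2, 28, 1]],
 .nb [[2, 43, 1]],
 .nb [[1, 41, 3]],
 .nb [[1, 3, 5]],
 .nb [[1, 3, 33]],
 .nb [[1, 3, 9, 30]],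
 .nb [[1, 54, 2]]]),
 ((nat_lit 0x15e0aed8746dec3e23c48e55cea40), [.fx 6 56,
 .nb [[3, 1, 15]],
 .fx 11 14,
 .nb [[2, 31, 3]],
 .nb [[2, 5, 2]],
 .nb [[1, 3, 5], [1, 2, 14, 1], [1, 49, 2], [1, 3, 18], [2, 5, 3], [3, 1, 32], [1, 47, 3], [1, 3, 12]],
 .nb [[3, 1, 28]],
 .nb [[1, 9, 3]],
 .nb [[2, 5, 3]],
 .nb [[1, 3, 40]],
 .nb [[1, 12, 28]],
 .fx 49 2,
 .nb [[1, 5, 1]],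
 .nb [[1, 3, 5, 8]],
 .nb [[1, 41, 3]],
 .nb [[2, 43, 1]],
 .nb [[1, 3, 23]],
 .nb [[1, 3, 5, 17]],
 .nb [[1, 3, 19]]])]
theorem ex_27 : exAll 275 9 nx D 20160 ex2_27 = true := by decide +kernel
noncomputable def ex2_28 : List (ℕ × List Ins) := [((nat_lit 0x121e4b078d731bd0c91eb0bb3a1bc), [.fx 2 56,
 .nb [[1, 3, 47]],
 .fx 7 10,
 .nb [[3, 1, 37]],
 .nb [[1, 47, 2]],
 .nb [[3, 1, 10], [1, 2, 47, 3], [1, 3, 10], [1, 3, 7], [1, 3, 12], [1, 3, 6, 53], [1, 7, 1], [1, 3, 7, 45]],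
 .nb [[1, 3, 5, 10]],
 .nb [[1, 49, 2]],
 .nb [[1, 3]],
 .nb [[3, 1, 39]],
 .nb [[1, 7, 1]],
 .nb [[3, 37, 1]],
 .nb [[1, 5, 45]],
 .nb [[1, 3, 6, 53]],
 .nb [[1, 3, 10]],
 .nb [[1, 3, 28]],
 .nb [[3, 1, 24]]]),
 ((nat_lit 0x6fec1d7c91217ccc85a34aaf01bc), [.nb [[]],
 .fx 2 56,
 .nb [[1, 3, 47]],
 .fx 26 14,
 .nb [[1, 3, 26]],
 .nb [[1, 3, 4]],
 .fx 3 10,
 .nb [[3, 1]],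
 .nb [[1, 54, 2]],
 .nb [[1, 3, 10], [1, 41, 3], [1, 47, 2]],
 .nb [[1, 12, 2]],
 .nb [[1, 3, 23]],
 .nb [[1, 3, 43]],
 .nb [[1, 4]],
 .fx 55 2,
 .nb [[2, 47, 1]],
 .nb [[1, 3, 7]],
 .nb [[3, 1, 23]],
 .nb [[3, 1, 37]],
 .nb [[1, 9, 3]],
 .nb [[1, 3, 16]],
 .nb [[3, 1, 10]]]),
 ((nat_lit 0x16fecad045711ddc8146943bfa12c), [.nb [[]],
 .fx 2 56,
 .nb [[1, 3, 47]],
 .fx 7 14,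
 .nb [[3, 1, 37]],
 .fx 106 2,
 .nb [[1, 9, 3]],
 .fx 15 11,
 .nb [[1, 49, 2]],
 .nb [[3, 37, 1], [1, 3, 6], [3, 1, 38]],
 .nb [[1, 3, 7, 45]],
 .nb [[1, 3, 33]],
 .nb [[1, 3, 7]],
 .nb [[1, 3]],
 .nb [[1, 3, 5, 10]],
 .nb [[1, 3, 23]],
 .nb [[1, 3, 25]],
 .nb [[1, 0, 26]],
 .nb [[1, 3, 4]],
 .nb [[1, 3, 10]],
 .nb [[1, 3, 16]],
 .nb [[1, 3, 8]]]),
 ((nat_lit 0x16fc8bd7cc730e5c495ea491da090), [.nb [[]],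
 .fx 4 56,
 .nb [[1, 23, 2]],
 .fx 9 14,
 .nb [[1, 3, 5]],
 .nb [[1, 3, 16]],
 .fx 7 11,
 .nb [[3, 1, 37]],
 .nb [[2, 41, 1], [2, 34, 1], [1, 2, 47, 1], [3, 1, 12]],
 .nb [[1, 3, 10]],
 .nb [[1, 3, 6, 53]],
 .nb [[1, 3, 28]],
 .nb [[1, 9, 3]],
 .nb [[3, 1, 32]],
 .nb [[2, 4, 3]],
 .nb [[1, 3, 33]],
 .nb [[1, 2, 47, 3]],
 .nb [[1, 7, 1]],
 .nb [[3, 1, 24]]]),
 ((nat_lit 0x21e55079b1ed3c0cc3a78aa315fe), [.nb [[]],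
 .fx 1 56,
 .nb [[1, 22, 3]],
 .fx 24 12,
 .nb [[1, 3, 5, 10]],
 .nb [[1, 3, 41]],
 .fx 52 10,
 .nb [[1, 12, 2]],
 .nb [[1, 35, 2], [3, 37, 1], [1, 3, 9], [3, 1, 38]],
 .nb [[2, 11, 2]],
 .nb [[1, 3, 24]],
 .nb [[1, 3, 44]],
 .nb [[3, 37, 1]],
 .nb [[1, 3, 16]],
 .nb [[1, 3, 9, 3]],
 .nb [[3, 1, 38]],
 .nb [[1, 3, 7]],
 .nb [[1, 3, 6]]]),
 ((nat_lit 0x121e5e00177dd9d08526d83b3b56e), [.nb [[]],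
 .fx 1 56,
 .nb [[1, 22, 3]],
 .fx 33 12,
 .nb [[2, 33, 2]],
 .fx 40 10,
 .nb [[1, 3, 28]],
 .nb [[1, 3, 40]],
 .nb [[1, 3, 49], [2, 34, 1]],
 .nb [[2, 35, 3]],
 .nb [[1, 3, 19]],
 .nb [[1, 2, 33, 3]],
 .nb [[1, 4, 7]],
 .fx 37 2,
 .nb [[1, 3, 32]],
 .nb [[1, 3]],
 .nb [[1, 3, 14]],
 .nb [[1, 3, 5, 8]],
 .nb [[1, 3, 31]],
 .nb [[1, 3, 24]],
 .nb [[3, 1, 39]],
 .nb [[1, 3, 25]]]),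
 ((nat_lit 0x121c1f079e7fca504d3ee8911b4d2), [.nb [[]],
 .fx 1 56,
 .nb [[1, 22, 3]],
 .fx 5 12,
 .nb [[1, 0, 24, 3]],
 .nb [[1, 3, 17]],
 .fx 51 10,
 .nb [[1, 3, 25]],
 .nb [[1, 3, 7]],
 .nb [[1, 3, 9, 30], [1, 3, 19]],
 .nb [[3, 1, 36]],
 .nb [[1, 3, 9, 30]],
 .nb [[1, 3, 5, 8]],
 .nb [[3, 1, 24]],
 .nb [[1, 7, 1]],
 .nb [[2, 11, 2]],
 .nb [[1, 3, 16]],
 .nb [[1, 3, 11]],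
 .nb [[1, 3, 40]]]),
 ((nat_lit 0x6fed4d0531cd5cc84625c2af156e), [.nb [[]],
 .fx 1 56,
 .nb [[1, 22, 3]],
 .fx 24 12,
 .nb [[1, 3, 5, 10]],
 .nb [[1, 3, 41]],
 .fx 33 10,
 .nb [[2, 33, 2]],
 .nb [[1, 3, 9, 3]],
 .nb [[1, 35, 2], [2, 47, 1]],
 .nb [[1, 2, 33, 3]],
 .nb [[2, 35, 3]],
 .nb [[1, 3, 31]],
 .nb [[3, 1, 39]],
 .nb [[1, 3, 40]],
 .nb [[1, 4, 27]],
 .nb [[1, 3, 11]],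
 .nb [[1, 0, 24, 3]],
 .nb [[3, 1, 12]],
 .nb [[1, 3, 7]]]),
 ((nat_lit 0x6fc95d7da1ec64c4c7a6c80d14d2), [.nb [[]],
 .fx 1 56,
 .nb [[1, 22, 3]],
 .fx 5 12,
 .nb [[1, 0, 24, 3]],
 .fx 109 2,
 .nb [[1, 3, 17]],
 .nb [[3, 1, 15], [1, 3, 18], [1, 2, 47, 3], [2, 41, 1], [1, 51, 3], [3, 1, 39], [3, 1, 38], [1, 3, 13]],
 .nb [[1, 3, 16]],
 .nb [[1, 3, 5, 14]],
 .nb [[1, 2, 47, 1]],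
 .nb [[2, 35]],
 .fx 37 2,
 .nb [[1, 3, 32]],
 .nb [[1, 3, 33]],
 .nb [[1, 3, 9, 30]],
 .nb [[2, 11, 2]],
 .nb [[1, 3, 24]],
 .nb [[1, 3, 8]],
 .nb [[1, 3, 41]]]),
 ((nat_lit 0x16fc9ed0567dcc5c0566cc11db442), [.nb [[]],
 .fx 1 56,
 .nb [[1, 22, 3]],
 .fx 5 12,
 .nb [[1, 0, 24, 3]],
 .fx 109 2,
 .nb [[1, 3, 17]],
 .nb [[3, 1, 15], [1, 2, 14, 1], [1, 49, 2], [1, 3, 18], [2, 41, 1], [3, 1, 39], [3, 1, 32], [1, 3, 12]],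
 .nb [[1, 3, 5, 14]],
 .nb [[1, 3, 11, 4]],
 .nb [[1, 3, 16]],
 .nb [[1, 3, 7, 45]],
 .nb [[2, 35]],
 .fx 66 2,
 .nb [[1, 3, 11]],
 .nb [[1, 9, 3]],
 .nb [[1, 47, 2]],
 .nb [[1, 3, 32]],
 .nb [[1, 3, 33]],
 .nb [[3, 1, 36]],
 .nb [[1, 3, 24]]]),
 ((nat_lit 0x21e710f8b1233e0cc3a72ee317be), [.nb [[]],
 .fx 1 56,
 .nb [[1, 22, 3]],
 .fx 5 14,
 .nb [[1, 0, 24, 3]],
 .nb [[1, 3, 17]],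
 .nb [[1, 3, 26], [1, 3, 9, 30], [3, 1, 24], [1, 3, 6], [1, 3, 6, 53], [1, 3, 29], [1, 2, 47, 1], [1, 3, 7, 45]],
 .nb [[1, 3, 16]],
 .nb [[1, 3, 27]],
 .nb [[1, 3, 7, 45]],
 .nb [[2, 35]],
 .fx 33 2,
 .nb [[2, 33, 2]],
 .nb [[1, 3, 6, 53]],
 .nb [[1, 3]],
 .nb [[1, 3, 32]],
 .nb [[1, 3, 29]],
 .nb [[1, 3, 31]],
 .nb [[1, 24, 3]]]),
 ((nat_lit 0x121e7a08077139f08526d27f3b72e), [.nb [[]],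
 .fx 1 56,
 .nb [[1, 22, 3]],
 .fx 5 14,
 .nb [[1, 0, 24, 3]],
 .nb [[1, 3, 26], [1, 3, 6, 39], [1, 32, 2], [2, 4, 3], [3, 1, 36], [1, 3, 29], [1, 2, 47, 1], [1, 3, 7, 45]],
 .nb [[1, 3, 16]],
 .nb [[1, 3, 27]],
 .nb [[1, 2, 47, 1]],
 .nb [[1, 3, 45]],
 .nb [[2, 35]],
 .fx 37 2,
 .nb [[1, 3, 32]],
 .nb [[1, 3]],
 .nb [[3, 1, 36]],
 .nb [[1, 3, 26]],
 .nb [[1, 3, 41]],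
 .nb [[1, 7, 1]],
 .nb [[1, 3, 6, 39]]]),
 ((nat_lit 0x121c3b0f8e732a704d3ee2d51b692), [.fx 1 56,
 .nb [[1, 22, 3]],
 .nb [[1, 3, 31], [1, 3, 5, 10], [2, 33, 2], [1, 3, 32], [1, 3, 28], [2, 11, 2], [1, 3, 7], [2, 28, 1], [1, 7, 1], [1, 3, 5, 8], [1, 3, 41], [1, 3, 16], [1, 3, 17], [1, 47, 2]],
 .nb [[3, 5]],
 .nb [[1, 3, 5], [1, 3, 5, 17], [1, 3, 26], [1, 0, 31, 1], [1, 4, 1], [1, 47, 3], [1, 3, 29], [1, 41, 3]],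
 .fx 16 2,
 .nb [[1, 3, 31]],
 .fx 95 2,
 .nb [[1, 3, 5, 8]],
 .nb [[1, 3, 7, 45]],
 .nb [[1, 22, 2]],
 .nb [[1, 13, 11]],
 .fx 47 2,
 .nb [[2, 11, 2]],
 .nb [[1, 47, 3]],
 .nb [[1, 3, 16]],
 .nb [[1, 3, 32]],
 .nb [[1, 3, 29]],
 .nb [[1, 3, 28]],
 .nb [[1, 3, 14]]]),
 ((nat_lit 0x6fef0d8431035ec8462566ef172e), [.nb [[]],
 .fx 1 56,
 .nb [[1, 22, 3]],
 .fx 5 14,
 .nb [[1, 0, 24, 3]],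
 .fx 109 2,
 .nb [[1, 3, 17]],
 .fx 16 11,
 .nb [[1, 3, 31]],
 .nb [[3, 1, 28], [1, 15, 2]],
 .nb [[1, 3, 29]],
 .nb [[1, 3, 16]],
 .nb [[1, 43, 2]],
 .nb [[1, 3, 25]],
 .nb [[1, 3, 7]],
 .nb [[1, 3, 33]],
 .nb [[1, 3, 32]],
 .nb [[1, 3, 4, 37]],
 .nb [[1, 3, 5, 14]],
 .nb [[1, 47, 2]]]),
 ((nat_lit 0x6fcb1dfca12266c4c7a66c4d1692), [.nb [[]],
 .fx 1 56,
 .nb [[1, 22, 3]],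
 .fx 16 14,
 .nb [[1, 3, 31]],
 .fx 95 2,
 .nb [[1, 3, 5, 8]],
 .fx 25 10,
 .nb [[1, 3, 49]],
 .nb [[1, 7, 1], [1, 3, 40], [1, 0, 13, 3]],
 .nb [[1, 22, 2]],
 .nb [[1, 3, 11, 4]],
 .nb [[1, 3, 4]],
 .nb [[1, 3, 17]],
 .nb [[2, 5, 2]],
 .nb [[1, 47, 3]],
 .nb [[1, 3, 32]],
 .nb [[1, 3, 33]],
 .nb [[1, 3, 7]],
 .nb [[1, 3, 6, 53]]]),
 ((nat_lit 0x16fcbad846712c7c0566c655db602), [.fx 1 56,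
 .nb [[1, 22, 3]],
 .nb [[1, 3, 31], [1, 3, 5, 10], [1, 3, 32], [1, 3, 11, 4], [1, 3, 7], [1, 3, 33], [1, 3, 23], [1, 7, 1], [1, 3, 5, 8], [1, 3, 41], [1, 3, 16], [1, 3, 17], [2, 5, 2], [1, 47, 2]],
 .nb [[1, 23, 2], [3, 1, 37], [2, 31, 3], [2, 43, 1], [3, 1, 10], [2, 5, 3], [2, 12, 3], [1, 5, 1], [1, 51, 3], [3, 1, 28], [3, 37, 1], [3, 1, 24], [1, 15, 2], [1, 3, 6], [3, 1, 38], [1, 33, 1]],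
 .nb [[1, 3, 31], [1, 3, 41]],
 .fx 16 2,
 .nb [[1, 3, 31]],
 .fx 95 2,
 .nb [[1, 3, 5, 8]],
 .nb [[1, 22, 2]],
 .nb [[1, 7, 1]],
 .nb [[2, 41]],
 .fx 37 2,
 .nb [[1, 3, 32]],
 .nb [[1, 3, 33]],
 .nb [[1, 3, 4, 37]],
 .nb [[1, 9, 3]],
 .nb [[1, 47, 3]],
 .nb [[1, 3, 16]],
 .nb [[2, 5, 2]]])]
theorem ex_28 : exAll 275 9 nx D 20160 ex2_28 = true := by decide +kernel
noncomputable def ex2_29 : List (ℕ × List Ins) := [((nat_lit 0x21e650f991ef3e0c81a3aee303fc), [.nb [[]],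
 .fx 2 56,
 .nb [[1, 3, 47]],
 .fx 7 10,
 .nb [[3, 1, 37]],
 .fx 106 2,
 .nb [[1, 9, 3]],
 .fx 26 9,
 .nb [[1, 3, 26]],
 .nb [[3, 1, 39], [3, 37, 1], [3, 1, 38]],
 .nb [[1, 3, 6, 53]],
 .nb [[1, 3, 28]],
 .nb [[1, 3, 40]],
 .nb [[1, 3, 7, 45]],
 .nb [[1, 3, 24]],
 .nb [[2, 28, 1]],
 .nb [[1, 2, 47, 3]],
 .nb [[1, 3, 16]],
 .nb [[3, 1, 12]],
 .nb [[1, 0, 24, 3]]]),
 ((nat_lit 0x121e6e08157df9f081069a7f3a36c), [.nb [[]],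
 .fx 2 56,
 .nb [[1, 3, 47]],
 .fx 26 10,
 .nb [[1, 3, 26]],
 .fx 88 2,
 .nb [[1, 3, 4]],
 .fx 68 9,
 .nb [[1, 3, 10]],
 .nb [[2, 11, 2], [1, 5, 1]],
 .nb [[1, 3, 24]],
 .nb [[1, 3, 5, 8]],
 .nb [[1, 3, 7, 45]],
 .nb [[1, 7, 1]],
 .nb [[1, 45, 3]],
 .nb [[1, 3, 7]],
 .nb [[1, 47, 2]],
 .nb [[1, 3, 12]],
 .nb [[3, 1, 32]]]),
 ((nat_lit 0x121c2f0f9c7fea70491eaad51a2d0), [.nb [[]],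
 .fx 4 56,
 .nb [[1, 23, 2]],
 .fx 14 14,
 .nb [[2, 43, 1]],
 .nb [[1, 3, 49], [1, 35, 2], [1, 3, 11, 4], [1, 3, 44], [1, 54, 2], [1, 3], [1, 3, 4, 37], [1, 43, 2]],
 .nb [[1, 33, 1]],
 .nb [[3, 1, 10], [3, 1, 24]],
 .nb [[3, 5]],
 .nb [[1, 3, 6], [3, 1, 38]],
 .nb [[1, 3, 7]],
 .nb [[1, 3, 32]],
 .nb [[2, 41]],
 .fx 83 2,
 .nb [[1, 3, 6]],
 .nb [[1, 2, 47, 3]],
 .nb [[3, 1, 15]],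
 .nb [[1, 3, 40]],
 .nb [[1, 3, 41]],
 .nb [[1, 3, 6, 39]],
 .nb [[1, 3, 12]]]),
 ((nat_lit 0x6fee4d8511cf5ec80421e6ef036c), [.nb [[]],
 .fx 2 56,
 .nb [[1, 3, 47]],
 .fx 7 14,
 .nb [[3, 1, 37]],
 .nb [[1, 9, 3]],
 .fx 29 12,
 .nb [[1, 0, 31, 1]],
 .nb [[1, 3, 17]],
 .nb [[1, 2, 47, 3], [1, 7, 1]],
 .nb [[1, 3, 4, 37]],
 .nb [[2, 5, 2]],
 .nb [[1, 3, 9, 3]],
 .nb [[1, 47, 3]],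
 .nb [[1, 3, 4, 50]],
 .nb [[2, 47, 1]],
 .nb [[1, 3, 7]],
 .nb [[1, 3, 8]],
 .nb [[1, 3, 4]],
 .nb [[1, 3, 7, 45]],
 .nb [[1, 43, 2]]]),
 ((nat_lit 0x6fca5dfd81ee66c485a2ec4d02d0), [.nb [[]],
 .fx 4 56,
 .nb [[1, 23, 2]],
 .fx 14 14,
 .nb [[2, 43, 1]],
 .nb [[1, 3, 49], [1, 35, 2], [2, 4, 3], [1, 3, 12], [1, 3, 44], [3, 1, 36], [1, 3], [1, 47, 2]],
 .nb [[1, 33, 1]],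
 .nb [[3, 5]],
 .nb [[2, 41]],
 .nb [[1, 3, 5]],
 .nb [[1, 3, 7]],
 .nb [[3, 1, 10]],
 .fx 83 2,
 .nb [[1, 3, 6]],
 .nb [[1, 2, 47, 3]],
 .nb [[3, 1, 15]],
 .nb [[1, 9, 3]],
 .nb [[1, 3, 40]],
 .nb [[1, 54, 2]],
 .nb [[1, 3, 24]]]),
 ((nat_lit 0x16fcaed8547dec7c01468e55da240), [.nb [[]],
 .fx 6 56,
 .nb [[3, 1, 15]],
 .nb [[1, 32, 2], [1, 3, 10], [1, 3, 23], [1, 7, 1], [1, 3, 5, 8], [1, 9, 3], [1, 43, 2], [2, 5, 2]],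
 .nb [[1, 4, 7]],
 .nb [[1, 5, 1], [1, 15, 2]],
 .fx 70 2,
 .nb [[1, 3, 19]],
 .nb [[1, 7, 1], [1, 3, 5, 8]],
 .nb [[1, 25]],
 .fx 93 2,
 .nb [[1, 7, 1]],
 .nb [[1, 32, 2]],
 .nb [[1, 36, 3]],
 .fx 90 2,
 .nb [[1, 3, 23]],
 .nb [[3, 1, 36]],
 .nb [[2, 4, 3]],
 .nb [[1, 3, 4]],
 .nb [[1, 3, 9]],
 .nb [[1, 3, 12]],
 .nb [[2, 5, 2]]]),
 ((nat_lit 0x31e5107ab1213c2eeba70aa35dbe), [.fx 1 56,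
 .nb [[1, 22, 3]],
 .fx 5 14,
 .nb [[1, 0, 24, 3]],
 .nb [[1, 3, 17]],
 .nb [[1, 5, 1], [1, 3, 9, 30], [3, 1, 24], [1, 3, 6], [1, 3, 6, 53], [1, 2, 47, 1], [1, 3, 7, 45], [1, 33, 1]],
 .nb [[1, 3, 16]],
 .nb [[1, 3, 27]],
 .nb [[1, 3, 7, 45]],
 .nb [[1, 2, 47, 1]],
 .nb [[2, 35]],
 .fx 40 2,
 .nb [[1, 3, 28]],
 .nb [[1, 3, 6, 53]],
 .nb [[1, 3]],
 .nb [[1, 3, 32]],
 .nb [[1, 5, 1]],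
 .nb [[1, 3, 41]],
 .nb [[1, 3, 43]]]),
 ((nat_lit 0x131e5a00277119d2a7a6d03b3fd2e), [.fx 1 56,
 .nb [[1, 22, 3]],
 .fx 5 14,
 .nb [[1, 0, 24, 3]],
 .nb [[1, 3, 17]],
 .nb [[1, 3, 6, 39], [1, 32, 2], [1, 5, 1], [2, 4, 3], [3, 1, 36], [1, 2, 47, 1], [1, 3, 7, 45], [1, 33, 1]],
 .nb [[1, 3, 16]],
 .nb [[1, 3, 27]],
 .nb [[1, 3, 7, 45]],
 .nb [[1, 2, 47, 1]],
 .nb [[2, 35]],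
 .fx 37 2,
 .nb [[1, 3, 32]],
 .nb [[1, 3]],
 .nb [[3, 1, 36]],
 .nb [[1, 33, 1]],
 .nb [[1, 3, 31]],
 .nb [[1, 47, 2]],
 .nb [[2, 4, 3]]]),
 ((nat_lit 0x131c1b07ae730a526fbee0911fc92), [.fx 1 56,
 .nb [[1, 22, 3]],
 .nb [[1, 3, 31], [1, 3, 5, 10], [2, 33, 2], [1, 3, 32], [1, 3, 28], [2, 11, 2], [1, 3, 7], [2, 28, 1], [1, 7, 1], [1, 3, 5, 8], [1, 3, 41], [1, 3, 16], [1, 3, 17], [1, 47, 2]],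
 .nb [[3, 5]],
 .nb [[2, 31, 3], [2, 43, 1], [2, 5, 3], [2, 12, 3], [1, 5, 1], [3, 1, 28], [1, 15, 2], [1, 33, 1]],
 .fx 16 2,
 .nb [[1, 3, 31]],
 .fx 95 2,
 .nb [[1, 3, 5, 8]],
 .nb [[1, 3, 7, 45]],
 .nb [[1, 3, 5, 10]],
 .nb [[1, 22, 2]],
 .nb [[1, 13, 11]],
 .fx 47 2,
 .nb [[2, 11, 2]],
 .nb [[1, 33, 1]],
 .nb [[1, 3, 16]],
 .nb [[1, 3, 32]],
 .nb [[2, 5, 3]],
 .nb [[1, 3, 28]],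
 .nb [[1, 3, 14]]]),
 ((nat_lit 0x7fed0d0631015cea6e2542af5d2e), [.nb [[]],
 .fx 1 56,
 .nb [[1, 22, 3]],
 .fx 5 14,
 .nb [[1, 0, 24, 3]],
 .fx 109 2,
 .nb [[1, 3, 17]],
 .fx 16 11,
 .nb [[1, 3, 31]],
 .nb [[1, 3, 5, 17], [1, 41, 3]],
 .nb [[1, 33, 1]],
 .nb [[1, 3, 16]],
 .nb [[1, 43, 2]],
 .nb [[1, 3]],
 .nb [[1, 3, 32]],
 .nb [[1, 3, 23]],
 .nb [[1, 3, 7]],
 .nb [[3, 1, 23]],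
 .nb [[1, 3, 5, 14]],
 .nb [[1, 47, 2]]]),
 ((nat_lit 0x7fc91d7ea12064e6efa6480d5c92), [.nb [[]],
 .fx 1 56,
 .nb [[1, 22, 3]],
 .fx 16 14,
 .nb [[1, 3, 31]],
 .fx 95 2,
 .nb [[1, 3, 5, 8]],
 .fx 22 10,
 .nb [[1, 3, 5, 17]],
 .nb [[1, 3, 11, 4], [1, 3, 7], [2, 28, 1], [1, 3, 17]],
 .nb [[1, 9, 3]],
 .nb [[3, 1, 28]],
 .nb [[1, 3, 11, 4]],
 .nb [[1, 3, 16]],
 .nb [[1, 3, 33]],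
 .nb [[1, 3, 32]],
 .nb [[1, 33, 1]],
 .nb [[1, 3, 23]],
 .nb [[1, 3, 7]],
 .nb [[2, 5, 3]],
 .nb [[1, 3, 5, 53]]]),
 ((nat_lit 0x17fc9ad066710c5e27e6c411dfc02), [.fx 1 56,
 .nb [[1, 22, 3]],
 .nb [[1, 3, 31], [1, 3, 5, 10], [1, 3, 32], [1, 3, 11, 4], [1, 3, 7], [1, 3, 33], [1, 3, 23], [1, 7, 1], [1, 3, 5, 8], [1, 3, 41], [1, 3, 16], [1, 3, 17], [2, 5, 2], [1, 47, 2]],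
 .nb [[1, 23, 2], [3, 1, 37], [1, 3, 5], [1, 3, 5, 17], [1, 3, 26], [3, 1, 10], [1, 0, 31, 1], [1, 51, 3], [1, 4, 1], [3, 37, 1], [1, 47, 3], [3, 1, 24], [1, 3, 6], [3, 1, 38], [1, 3, 29], [1, 41, 3]],
 .nb [[1, 3, 31], [1, 3, 41]],
 .fx 16 2,
 .nb [[1, 3, 31]],
 .fx 95 2,
 .nb [[1, 3, 5, 8]],
 .nb [[1, 22, 2]],
 .nb [[1, 7, 1]],
 .nb [[2, 41]],
 .fx 37 2,
 .nb [[1, 3, 32]],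
 .nb [[1, 3, 33]],
 .nb [[1, 3, 4, 37]],
 .nb [[1, 9, 3]],
 .nb [[1, 15, 2]],
 .nb [[1, 3, 17]],
 .nb [[1, 3, 11, 4]]]),
 ((nat_lit 0x31e4507b91ed3c2ea9a38aa349fc), [.nb [[]],
 .fx 2 56,
 .nb [[1, 3, 47]],
 .fx 7 10,
 .nb [[3, 1, 37]],
 .fx 106 2,
 .nb [[1, 9, 3]],
 .fx 27 9,
 .nb [[3, 1, 10]],
 .nb [[3, 1, 32], [1, 3, 8, 3], [1, 3, 29]],
 .nb [[1, 51, 3]],
 .nb [[1, 3, 7]],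
 .nb [[1, 3, 7, 45]],
 .nb [[1, 3, 9, 30]],
 .nb [[1, 2, 47, 3]],
 .nb [[1, 3]],
 .nb [[1, 3, 6, 53]],
 .nb [[1, 3, 16]],
 .nb [[1, 33, 1]],
 .nb [[1, 3, 21]]]),
 ((nat_lit 0x131e4e00357dd9d2a386983b3e96c), [.nb [[]],
 .fx 2 56,
 .nb [[1, 3, 47]],
 .fx 45 10,
 .nb [[2, 12, 3]],
 .nb [[1, 3, 24]],
 .nb [[1, 3, 10], [1, 3, 7], [1, 3, 12], [1, 7, 1], [1, 3, 40], [1, 3, 7, 45], [1, 33, 1], [1, 47, 2]],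
 .nb [[2, 5, 3]],
 .nb [[1, 24, 3]],
 .nb [[1, 3, 40]],
 .nb [[1, 3, 49]],
 .nb [[1, 4, 27]],
 .fx 68 2,
 .nb [[1, 3, 10]],
 .nb [[1, 3, 32]],
 .nb [[1, 3, 12]],
 .nb [[1, 3, 17]],
 .nb [[1, 3, 11]],
 .nb [[3, 1, 12]],
 .nb [[1, 3, 7]]]),
 ((nat_lit 0x131c0f07bc7fca526b9ea8911e8d0), [.nb [[]],
 .fx 4 56,
 .nb [[1, 23, 2]],
 .fx 9 14,
 .nb [[1, 3, 5]],
 .fx 104 2,
 .nb [[1, 3, 16]],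
 .fx 7 10,
 .nb [[3, 1, 37]],
 .nb [[1, 5, 1]],
 .nb [[1, 3, 28], [2, 28, 1], [1, 3, 17]],
 .nb [[3, 1, 39]],
 .nb [[1, 3, 17]],
 .nb [[2, 43, 1]],
 .nb [[1, 15, 2]],
 .nb [[2, 13]],
 .nb [[1, 3, 6, 39]],
 .nb [[3, 1, 24]],
 .nb [[1, 2, 47, 3]],
 .nb [[2, 4, 3]],
 .nb [[1, 3, 24]],
 .nb [[3, 1, 32]]]),
 ((nat_lit 0x7fec4d0711cd5cea2c21c2af496c), [.nb [[]],
 .fx 2 56,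
 .nb [[1, 3, 47]],
 .fx 7 14,
 .nb [[3, 1, 37]],
 .nb [[1, 9, 3]],
 .fx 49 12,
 .nb [[1, 5, 1]],
 .nb [[1, 3, 16]],
 .nb [[3, 1], [2, 31, 3], [1, 3, 5, 14]],
 .nb [[1, 3, 40]],
 .nb [[1, 3, 7]],
 .nb [[1, 43, 2]],
 .nb [[1, 3, 24]],
 .nb [[2, 47, 1]],
 .nb [[2, 34, 1]],
 .nb [[2, 5, 2]],
 .nb [[1, 3]]])]
theorem ex_29 : exAll 275 9 nx D 20160 ex2_29 = true := by decide +kernel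
noncomputable def ex2_30 : List (ℕ × List Ins) := [((nat_lit 0x7fc85d7f81ec64e6ada2c80d48d0), [.nb [[]],
 .fx 4 56,
 .nb [[1, 23, 2]],
 .fx 9 14,
 .nb [[1, 3, 5]],
 .fx 104 2,
 .nb [[1, 3, 16]],
 .fx 7 10,
 .nb [[3, 1, 37]],
 .nb [[1, 5, 1]],
 .nb [[1, 0, 24, 3], [1, 3, 5, 17], [1, 4, 1]],
 .nb [[1, 3, 17]],
 .nb [[2, 47, 1]],
 .nb [[2, 43, 1]],
 .nb [[1, 3, 9, 30]],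
 .nb [[2, 28, 1]],
 .nb [[1, 3, 28]],
 .nb [[1, 3, 9]],
 .nb [[1, 54, 2]],
 .nb [[1, 3, 7]]]),
 ((nat_lit 0x17fc8ed0747dcc5e23c68c11de840), [.fx 6 56,
 .nb [[3, 1, 15]],
 .fx 11 14,
 .nb [[2, 31, 3]],
 .nb [[2, 5, 2]],
 .nb [[1, 2, 14, 1], [1, 49, 2], [1, 3, 18], [2, 5, 3], [3, 1, 39], [3, 1, 32], [1, 3, 12], [1, 3, 17]],
 .nb [[3, 1, 28]],
 .nb [[1, 9, 3]],
 .nb [[2, 5, 3]],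
 .nb [[1, 3, 40]],
 .nb [[1, 0, 35]],
 .fx 14 2,
 .nb [[2, 43, 1]],
 .nb [[1, 43, 2]],
 .nb [[1, 3, 7, 45]],
 .nb [[1, 15, 2]],
 .nb [[1, 3, 5, 8]],
 .nb [[1, 3, 41]],
 .nb [[1, 3, 24]]]),
 ((nat_lit 0x31e610fa91233e2ea9a32ee34bbc), [.nb [[]],
 .fx 2 56,
 .nb [[1, 3, 47]],
 .fx 7 10,
 .nb [[3, 1, 37]],
 .fx 106 2,
 .nb [[1, 9, 3]],
 .fx 26 9,
 .nb [[1, 3, 26]],
 .nb [[3, 1, 32], [1, 3, 14], [1, 3, 8, 3]],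
 .nb [[1, 3, 6, 53]],
 .nb [[3, 1, 12]],
 .nb [[2, 34, 1]],
 .nb [[1, 0, 24, 3]],
 .nb [[1, 41, 3]],
 .nb [[1, 35, 2]],
 .nb [[2, 22]],
 .nb [[1, 33, 1]],
 .nb [[1, 2, 47, 3]],
 .nb [[1, 3, 16]],
 .nb [[1, 3, 49]]]),
 ((nat_lit 0x131e6a08257139f2a386927f3eb2c), [.nb [[]],
 .fx 2 56,
 .nb [[1, 3, 47]],
 .fx 26 10,
 .nb [[1, 3, 26]],
 .fx 88 2,
 .nb [[1, 3, 4]],
 .fx 45 9,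
 .nb [[2, 12, 3]],
 .nb [[3, 37, 1], [1, 3, 23], [3, 1, 23]],
 .nb [[1, 3, 7]],
 .nb [[2, 5, 3]],
 .nb [[1, 3, 16]],
 .nb [[1, 47, 2]],
 .nb [[1, 15, 2]],
 .nb [[1, 4]],
 .nb [[1, 33, 1]],
 .nb [[3, 1, 39]],
 .nb [[1, 7, 1]],
 .nb [[1, 41, 3]]]),
 ((nat_lit 0x131c2b0fac732a726b9ea2d51ea90), [.nb [[]],
 .fx 4 56,
 .nb [[1, 23, 2]],
 .fx 23 14,
 .nb [[1, 3, 51]],
 .nb [[1, 7, 1]],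
 .fx 13 12,
 .nb [[1, 2, 14, 1]],
 .nb [[1, 3, 13]],
 .nb [[2, 31, 3], [1, 49, 2], [1, 3, 12]],
 .nb [[1, 5, 1]],
 .nb [[3, 1, 32]],
 .nb [[1, 15, 2]],
 .nb [[3, 1, 28]],
 .nb [[1, 32, 2]],
 .nb [[1, 51, 3]],
 .nb [[2, 5]],
 .nb [[1, 33, 1]],
 .nb [[1, 3, 16]],
 .nb [[1, 3, 14]],
 .nb [[3, 37, 1]]]),
 ((nat_lit 0x7fee0d8611035eea2c2166ef4b2c), [.nb [[]],
 .fx 2 56,
 .nb [[1, 3, 47]],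
 .fx 7 14,
 .nb [[3, 1, 37]],
 .nb [[1, 9, 3]],
 .fx 29 12,
 .nb [[1, 0, 31, 1]],
 .nb [[2, 31, 3], [1, 3, 5, 14], [1, 3, 51], [3, 1, 39]],
 .nb [[1, 47, 3]],
 .nb [[1, 41, 3]],
 .nb [[1, 3, 4, 50]],
 .nb [[1, 33, 1]],
 .nb [[1, 43, 2]],
 .nb [[1, 3, 8]],
 .nb [[1, 3, 26]],
 .nb [[2, 47, 1]],
 .nb [[1, 3, 11, 4]],
 .nb [[1, 3, 17]],
 .nb [[1, 3, 7, 45]]]),
 ((nat_lit 0x7fca1dfe812266e6ada26c4d4a90), [.nb [[]],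
 .fx 4 56,
 .nb [[1, 23, 2]],
 .fx 23 14,
 .nb [[1, 3, 51]],
 .nb [[3, 1, 23]],
 .fx 7 9,
 .nb [[3, 1, 37]],
 .nb [[1, 3, 9, 3], [1, 0, 13, 3], [1, 47, 2]],
 .nb [[1, 9, 3]],
 .nb [[1, 3, 33]],
 .nb [[3, 37, 1]],
 .nb [[2, 47, 1]],
 .nb [[1, 3, 6, 9]],
 .nb [[3, 4]],
 .nb [[1, 3, 28]],
 .nb [[1, 3, 6, 53]],
 .nb [[1, 3, 13]],
 .nb [[1, 3, 4, 50]]]),
 ((nat_lit 0x17fcaad864712c7e23c68655dea00), [.nb [[]],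
 .fx 9 56,
 .nb [[1, 3, 5]],
 .nb [[1, 23, 2], [1, 3, 45], [3, 1, 22], [2, 33, 2], [1, 11, 3], [1, 12, 2], [1, 3, 43], [1, 3, 9, 30], [1, 3, 8, 3], [1, 3, 44], [3, 1, 24], [1, 3, 4, 28], [1, 3], [1, 0, 13, 3]],
 .nb [[1, 41, 3]],
 .fx 57 2,
 .nb [[1, 4, 1]],
 .fx 123 3,
 .nb [[1, 25]],
 .nb [[1, 3, 7], [1, 3, 16]],
 .nb [[3, 1, 28], [1, 33, 1]],
 .fx 102 2,
 .nb [[1, 3, 7, 45]],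
 .nb [[1, 15, 2]],
 .nb [[2, 5, 3]],
 .nb [[1, 2, 14]],
 .fx 53 2,
 .nb [[3, 1, 28]],
 .nb [[1, 3, 7]],
 .nb [[2, 47, 1]],
 .nb [[1, 36, 3]],
 .nb [[1, 47, 2]],
 .nb [[3, 1, 23]],
 .nb [[1, 3, 17]]]),
 ((nat_lit 0x31e7408331cf1e2a6a25a6e35f6e), [.fx 1 56,
 .nb [[1, 22, 3]],
 .fx 5 14,
 .nb [[1, 0, 24, 3]],
 .nb [[1, 3, 17]],
 .nb [[1, 3, 26], [1, 5, 1], [1, 3, 9], [1, 3, 19], [1, 3, 29], [1, 2, 47, 1], [1, 3, 7, 45], [1, 33, 1]],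
 .nb [[1, 3, 16]],
 .nb [[1, 3, 27]],
 .nb [[1, 3, 7, 45]],
 .nb [[1, 2, 47, 1]],
 .nb [[2, 35]],
 .fx 37 2,
 .nb [[1, 3, 32]],
 .nb [[1, 33, 1]],
 .nb [[1, 3, 31]],
 .nb [[1, 3, 9, 3]],
 .nb [[1, 3, 26]],
 .nb [[2, 12, 3]],
 .nb [[1, 3, 11]]]),
 ((nat_lit 0x31c350fba1ee2626eba6ac415ed2), [.nb [[]],
 .fx 1 56,
 .nb [[1, 22, 3]],
 .fx 16 14,
 .nb [[1, 3, 31]],
 .fx 95 2,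
 .nb [[1, 3, 5, 8]],
 .fx 25 10,
 .nb [[1, 3, 49]],
 .nb [[1, 2, 47, 1]],
 .nb [[1, 0, 31, 1], [2, 12, 3], [3, 1, 24]],
 .nb [[1, 3, 19]],
 .nb [[2, 33, 2]],
 .nb [[1, 3, 9, 3]],
 .nb [[1, 3, 24]],
 .nb [[1, 3, 5, 53]],
 .nb [[2, 28, 1]],
 .nb [[1, 3, 17]],
 .nb [[1, 3, 28]],
 .nb [[3, 1, 28]]]),
 ((nat_lit 0x131c3e08367de87227a6ca551fe42), [.fx 1 56,
 .nb [[1, 22, 3]],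
 .nb [[1, 3, 31], [1, 3, 5, 10], [1, 3, 32], [1, 3, 11], [1, 3, 24], [1, 3, 7], [1, 3, 9, 3], [1, 7, 1], [1, 3, 40], [1, 3, 5, 8], [1, 3, 41], [1, 3, 16], [1, 3, 17], [1, 47, 2]],
 .nb [[3, 5]],
 .nb [[1, 2, 33, 3]],
 .fx 16 2,
 .nb [[1, 3, 31]],
 .fx 95 2,
 .nb [[1, 3, 5, 8]],
 .nb [[1, 3, 7, 45]],
 .nb [[3, 1, 32]],
 .nb [[1, 13, 11]],
 .fx 104 2,
 .nb [[1, 3, 16]],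
 .nb [[2, 5, 3]],
 .nb [[1, 3, 7]],
 .nb [[1, 3, 9, 3]],
 .nb [[1, 33, 1]],
 .nb [[1, 3, 11]],
 .nb [[1, 47, 3]]]),
 ((nat_lit 0x7fcb4d8721ce46e26e24e44d5e42), [.nb [[]],
 .fx 1 56,
 .nb [[1, 22, 3]],
 .fx 16 14,
 .nb [[1, 3, 31]],
 .fx 95 2,
 .nb [[1, 3, 5, 8]],
 .fx 25 10,
 .nb [[1, 3, 49]],
 .nb [[3, 1, 38], [1, 3, 4, 28]],
 .nb [[1, 3, 9, 3]],
 .nb [[1, 2, 47, 1]],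
 .nb [[1, 3, 41]],
 .nb [[1, 3, 17]],
 .nb [[2, 5, 2]],
 .nb [[1, 3, 33]],
 .nb [[2, 4, 2]],
 .nb [[1, 3, 16]],
 .nb [[1, 3, 11, 4]],
 .nb [[2, 41, 1]]]),
 ((nat_lit 0x18034b278de31b91d91db1bb2a1bc), [.fx 2 56,
 .nb [[1, 3, 47]],
 .fx 7 10,
 .nb [[3, 1, 37]],
 .nb [[1, 47, 2]],
 .nb [[3, 1, 10], [1, 2, 47, 3], [1, 12, 2], [1, 3, 10], [1, 3, 12], [1, 3, 6, 53], [1, 7, 1], [1, 3, 30]],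
 .nb [[2, 4, 3]],
 .nb [[1, 49, 2]],
 .nb [[1, 3]],
 .nb [[2, 38, 3]],
 .nb [[1, 3, 10]],
 .nb [[1, 3, 6]],
 .nb [[1, 40]],
 .nb [[3, 1, 10]],
 .nb [[1, 7, 1]],
 .nb [[1, 3, 9, 30]],
 .nb [[2, 28, 1]]]),
 ((nat_lit 0xce3c1f7c982178dd85935aae01bc), [.nb [[]],
 .fx 2 56,
 .nb [[1, 3, 47]],
 .nb [[1, 3, 26], [2, 4, 2], [2, 12, 3], [1, 3, 10], [1, 3, 24], [1, 3, 7], [1, 3, 12], [1, 2, 33, 3], [1, 7, 1], [1, 3, 40], [1, 41, 3], [1, 3, 7, 45], [1, 33, 1], [1, 47, 2]],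
 .nb [[1, 3, 23]],
 .nb [[1, 3]],
 .nb [[1, 3, 8], [1, 3, 4]],
 .nb [[1, 5]],
 .fx 62 2,
 .nb [[1, 3, 8]],
 .nb [[1, 12, 2]],
 .nb [[2, 38, 3]],
 .nb [[1, 4]],
 .fx 27 2,
 .nb [[3, 1, 10]],
 .nb [[1, 3, 4, 37]],
 .nb [[1, 3, 21]],
 .nb [[1, 3, 33]],
 .nb [[1, 43, 2]],
 .nb [[3, 1, 12]],
 .nb [[3, 1, 37]]]),
 ((nat_lit 0x1ce3caf045e11d9d9145953bea12c), [.nb [[]],
 .fx 2 56,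
 .nb [[1, 3, 47]],
 .fx 7 14,
 .nb [[3, 1, 37]],
 .fx 106 2,
 .nb [[1, 9, 3]],
 .fx 15 11,
 .nb [[1, 49, 2]],
 .nb [[3, 37, 1], [1, 3, 6], [3, 1, 38]],
 .nb [[1, 3, 30]],
 .nb [[1, 3, 4]],
 .nb [[1, 12, 2]],
 .nb [[1, 3]],
 .nb [[2, 4, 3]],
 .nb [[1, 54, 2]],
 .nb [[1, 3, 43]],
 .nb [[2, 26]],
 .nb [[1, 3, 33]],
 .nb [[1, 7, 1]],
 .nb [[1, 0, 13, 3]],
 .nb [[2, 47, 1]]]),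
 ((nat_lit 0x1ce18bf7cce30e1d595da591ca090), [.nb [[]],
 .fx 4 56,
 .nb [[1, 23, 2]],
 .fx 9 14,
 .nb [[1, 3, 5]],
 .fx 104 2,
 .nb [[1, 3, 16]],
 .fx 17 10,
 .nb [[1, 3, 45]],
 .nb [[1, 2, 47, 1], [1, 3, 17]],
 .nb [[2, 38, 3]],
 .nb [[1, 3, 4, 37]],
 .nb [[1, 3, 11, 4]],
 .nb [[1, 3, 10]],
 .nb [[2, 28, 1]],
 .nb [[1, 3, 6, 53]],
 .nb [[1, 7, 1]],
 .nb [[1, 3, 5, 8]],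
 .nb [[3, 1, 32]],
 .nb [[1, 3, 6, 39]]])]
theorem ex_30 : exAll 275 9 nx D 20160 ex2_30 = true := by decide +kernel
noncomputable def ex2_31 : List (ℕ × List Ins) := [((nat_lit 0x80355279b8ed381dc3979aa215fe), [.nb [[]],
 .fx 1 56,
 .nb [[1, 22, 3]],
 .nb [[1, 3, 31], [1, 3, 5, 10], [1, 3, 32], [1, 3, 11, 4], [1, 3, 7], [1, 3, 33], [1, 3, 23], [1, 7, 1], [1, 3, 5, 8], [1, 3, 41], [1, 3, 16], [1, 3, 17], [2, 5, 2], [1, 47, 2]],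
 .nb [[1, 49, 2], [1, 3, 6, 39], [2, 4, 3], [3, 1, 39], [3, 1, 32], [1, 3, 7, 45]],
 .fx 12 3,
 .nb [[1, 22, 2]],
 .nb [[1, 7, 1], [1, 3, 5, 8]],
 .nb [[1, 4, 7]],
 .fx 41 2,
 .nb [[2, 35, 3]],
 .nb [[1, 3, 11], [1, 3, 24]],
 .nb [[1, 12, 2], [1, 0, 13, 3]],
 .fx 52 2,
 .nb [[1, 12, 2]],
 .nb [[1, 3, 9]],
 .nb [[1, 10, 44]],
 .fx 5 2,
 .nb [[1, 0, 24, 3]],
 .nb [[3, 1, 24]],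
 .nb [[1, 3, 28]],
 .nb [[1, 23, 2]],
 .nb [[1, 3, 25]],
 .nb [[3, 1]],
 .nb [[1, 3, 43]]]),
 ((nat_lit 0x18035e2017edd9919525d93b2b56e), [.nb [[]],
 .fx 1 56,
 .nb [[1, 22, 3]],
 .fx 16 14,
 .nb [[1, 3, 31]],
 .fx 95 2,
 .nb [[1, 3, 5, 8]],
 .fx 10 11,
 .nb [[1, 3, 5, 53]],
 .nb [[3, 1, 12]],
 .nb [[1, 3, 5, 10], [1, 3, 11], [1, 3, 8, 3]],
 .nb [[1, 7, 1]],
 .nb [[2, 4, 3]],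
 .nb [[1, 3]],
 .nb [[3, 1, 32]],
 .nb [[2, 34]],
 .nb [[1, 3, 8, 3]],
 .nb [[1, 0, 24, 3]],
 .nb [[2, 41, 1]],
 .nb [[1, 3, 30]]]),
 ((nat_lit 0x18011f279eefca115d3de9910b4d2), [.nb [[]],
 .fx 1 56,
 .nb [[1, 22, 3]],
 .fx 5 14,
 .nb [[1, 0, 24, 3]],
 .fx 109 2,
 .nb [[1, 3, 17]],
 .fx 16 11,
 .nb [[1, 3, 31]],
 .nb [[1, 3, 5, 53], [2, 4, 2], [1, 2, 33, 3]],
 .nb [[2, 4, 3]],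
 .nb [[1, 7, 1]],
 .nb [[1, 3, 6, 39]],
 .nb [[1, 3, 6]],
 .nb [[3, 1, 24]],
 .nb [[1, 5, 5]],
 .nb [[1, 3, 24]],
 .nb [[1, 0, 13, 3]],
 .nb [[1, 3, 9, 30]],
 .nb [[1, 32, 2]]]),
 ((nat_lit 0xce3d4f0538cd58d94615d2ae156e), [.nb [[]],
 .fx 1 56,
 .nb [[1, 22, 3]],
 .nb [[1, 3, 31], [1, 3, 5, 10], [2, 33, 2], [1, 3, 32], [1, 3, 28], [2, 11, 2], [1, 3, 7], [2, 28, 1], [1, 7, 1], [1, 3, 5, 8], [1, 3, 41], [1, 3, 16], [1, 3, 17], [1, 47, 2]],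
 .nb [[3, 5]],
 .nb [[1, 22, 2], [2, 35, 3]],
 .fx 12 2,
 .nb [[1, 22, 2]],
 .fx 52 2,
 .nb [[1, 12, 2]],
 .nb [[1, 3, 11]],
 .nb [[1, 11, 3]],
 .nb [[2, 22]],
 .fx 75 2,
 .nb [[1, 3, 8, 3]],
 .nb [[1, 3, 40]],
 .nb [[2, 38, 3]],
 .nb [[2, 5, 2]],
 .nb [[1, 3, 23]],
 .nb [[2, 47, 3]],
 .nb [[1, 9, 3]]]),
 ((nat_lit 0xce195f7da8ec60d5c796d80c14d2), [.nb [[]],
 .fx 1 56,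
 .nb [[1, 22, 3]],
 .fx 5 14,
 .nb [[1, 0, 24, 3]],
 .nb [[2, 5, 2]],
 .fx 6 9,
 .nb [[3, 1, 15]],
 .nb [[1, 32, 2], [1, 5, 1], [1, 33, 1]],
 .nb [[1, 3, 23]],
 .nb [[1, 3, 11, 4]],
 .nb [[1, 3, 19]],
 .nb [[1, 3, 33]],
 .nb [[1, 3, 6, 9]],
 .nb [[1, 9]],
 .nb [[1, 3, 30]],
 .nb [[2, 33, 2]],
 .nb [[1, 3, 9, 30]],
 .nb [[1, 3, 4, 37]]]),
 ((nat_lit 0x1ce19ef056edcc1d1565cd11cb442), [.nb [[]],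
 .fx 1 56,
 .nb [[1, 22, 3]],
 .fx 5 14,
 .nb [[1, 0, 24, 3]],
 .nb [[2, 5, 2]],
 .fx 6 9,
 .nb [[3, 1, 15]],
 .nb [[1, 3, 28], [1, 3, 27], [1, 3]],
 .nb [[1, 3, 6, 9]],
 .nb [[1, 3, 30]],
 .nb [[1, 3, 9, 3]],
 .nb [[1, 3, 4, 28]],
 .nb [[3, 1, 36]],
 .nb [[2, 47, 1]],
 .nb [[1, 3, 40]],
 .nb [[2, 40]],
 .nb [[1, 12, 2]],
 .nb [[1, 3, 5, 10]],
 .nb [[1, 43, 2]],
 .nb [[1, 3, 24]]]),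
 ((nat_lit 0x803712f8b8233a1dc3973ee217be), [.nb [[]],
 .fx 1 56,
 .nb [[1, 22, 3]],
 .fx 5 12,
 .nb [[1, 0, 24, 3]],
 .fx 109 2,
 .nb [[1, 3, 17]],
 .fx 26 9,
 .nb [[1, 3, 26]],
 .nb [[1, 3, 4, 28]],
 .nb [[1, 3, 28], [1, 3, 25]],
 .nb [[1, 3, 8, 3]],
 .nb [[1, 3, 28]],
 .nb [[1, 3, 9, 30]],
 .nb [[2, 11, 2]],
 .nb [[3, 1, 24]],
 .nb [[1, 3, 30]],
 .nb [[1, 3, 29]],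
 .nb [[1, 3, 6, 53]],
 .nb [[1, 3]]]),
 ((nat_lit 0x18037a2807e139b19525d37f2b72e), [.nb [[]],
 .fx 1 56,
 .nb [[1, 22, 3]],
 .fx 5 12,
 .nb [[1, 0, 24, 3]],
 .fx 109 2,
 .nb [[1, 3, 17]],
 .fx 26 9,
 .nb [[1, 3, 26]],
 .nb [[1, 3, 4, 28]],
 .nb [[1, 3, 4, 50], [3, 1, 10]],
 .nb [[1, 3, 5, 8]],
 .nb [[1, 3, 30]],
 .nb [[1, 3, 25]],
 .nb [[1, 3, 5, 10]],
 .nb [[1, 7, 1]],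
 .nb [[1, 3, 27]],
 .nb [[1, 3]],
 .nb [[2, 4, 3]],
 .nb [[1, 3, 8, 3]]]),
 ((nat_lit 0x18013b2f8ee32a315d3de3d50b692), [.fx 1 56,
 .nb [[1, 22, 3]],
 .fx 24 12,
 .nb [[1, 3, 5, 10]],
 .nb [[1, 7, 1]],
 .fx 33 10,
 .nb [[2, 33, 2]],
 .nb [[1, 3, 30]],
 .nb [[3, 1], [1, 3, 6, 9]],
 .nb [[1, 41, 3]],
 .nb [[1, 3, 5, 8]],
 .nb [[1, 3, 28]],
 .nb [[2, 38, 3]],
 .nb [[1, 2, 14, 1]],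
 .nb [[2, 0]],
 .nb [[1, 0, 13, 3]],
 .nb [[2, 11, 2]],
 .nb [[1, 3, 14]],
 .nb [[1, 3, 6]]]),
 ((nat_lit 0xce3f0f8438035ad9461576ee172e), [.fx 1 56,
 .nb [[1, 22, 3]],
 .fx 5 12,
 .nb [[1, 0, 24, 3]],
 .nb [[2, 5, 2]],
 .fx 51 10,
 .nb [[1, 3, 25]],
 .nb [[1, 3, 23]],
 .nb [[1, 3, 26], [3, 1, 22]],
 .nb [[3, 1, 12]],
 .nb [[1, 3, 33]],
 .nb [[1, 3]],
 .nb [[1, 3, 4, 28]],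
 .nb [[1, 3, 11, 4]],
 .nb [[1, 3, 8, 3]],
 .nb [[1, 12, 2]],
 .nb [[1, 3, 8]],
 .nb [[1, 3, 9, 3]]]),
 ((nat_lit 0xce1b1ffca82262d5c7967c4c1692), [.fx 1 56,
 .nb [[1, 22, 3]],
 .fx 33 12,
 .nb [[2, 33, 2]],
 .nb [[1, 3, 30]],
 .fx 40 10,
 .nb [[1, 3, 28]],
 .nb [[1, 3, 8, 3]],
 .nb [[1, 2, 33, 3], [1, 3, 6, 53], [1, 3, 13]],
 .nb [[2, 35, 3]],
 .nb [[1, 2, 33, 3]],
 .nb [[2, 38, 3]],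
 .nb [[1, 0, 31]],
 .fx 47 2,
 .nb [[2, 11, 2]],
 .nb [[1, 0, 13, 3]],
 .nb [[1, 3, 6, 53]],
 .nb [[1, 3, 23]],
 .nb [[3, 1, 10]],
 .nb [[1, 41, 3]],
 .nb [[3, 1, 23]]]),
 ((nat_lit 0x1ce1baf846e12c3d1565c755cb602), [.nb [[]],
 .fx 1 56,
 .nb [[1, 22, 3]],
 .fx 24 12,
 .nb [[1, 3, 5, 10]],
 .nb [[1, 7, 1]],
 .fx 52 10,
 .nb [[1, 12, 2]],
 .nb [[2, 34, 1], [1, 3, 13]],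
 .nb [[2, 5, 2]],
 .nb [[1, 3, 29]],
 .nb [[1, 3, 33]],
 .nb [[3, 1, 32]],
 .nb [[1, 0, 13, 3]],
 .nb [[1, 3, 30]],
 .nb [[1, 3, 14]],
 .nb [[1, 3, 5, 8]],
 .nb [[1, 3, 23]],
 .nb [[1, 2, 14, 1]]]),
 ((nat_lit 0x803652f998ef3a1d8193bee203fc), [.nb [[]],
 .fx 2 56,
 .nb [[1, 3, 47]],
 .fx 7 10,
 .nb [[3, 1, 37]],
 .fx 106 2,
 .nb [[1, 9, 3]],
 .fx 26 9,
 .nb [[1, 3, 26]],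
 .nb [[1, 3, 30]],
 .nb [[1, 22, 2]],
 .nb [[1, 3, 44]],
 .nb [[1, 41, 3]],
 .nb [[1, 0, 13, 3]],
 .nb [[1, 3, 6, 53]],
 .nb [[3, 1, 10]],
 .nb [[1, 3, 13]],
 .nb [[3, 1, 12]],
 .nb [[1, 11, 3]],
 .nb [[1, 2, 47, 3]]]),
 ((nat_lit 0x18036e2815edf9b191059b7f2a36c), [.fx 2 56,
 .nb [[1, 3, 47]],
 .fx 26 10,
 .nb [[1, 3, 26]],
 .nb [[1, 3, 30]],
 .nb [[1, 12, 2], [1, 3, 10], [1, 3, 24], [1, 3, 12], [1, 7, 1], [1, 3, 40], [1, 41, 3], [1, 47, 2]],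
 .nb [[2, 38, 3]],
 .nb [[1, 3, 43]],
 .nb [[1, 12, 2]],
 .nb [[1, 41, 3]],
 .nb [[1, 5, 45]],
 .fx 68 2,
 .nb [[1, 3, 10]],
 .nb [[1, 3, 8, 3]],
 .nb [[1, 3, 40]],
 .nb [[1, 11, 3]],
 .nb [[1, 7, 1]],
 .nb [[1, 3, 5, 8]],
 .nb [[3, 1, 12]]]),
 ((nat_lit 0x18012f2f9cefea31591dabd50a2d0), [.nb [[]],
 .fx 4 56,
 .nb [[1, 23, 2]],
 .fx 14 14,
 .nb [[2, 43, 1]],
 .nb [[1, 41, 3]],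
 .fx 7 10,
 .nb [[3, 1, 37]],
 .nb [[1, 0, 31, 1]],
 .nb [[1, 3, 28], [2, 28, 1]],
 .nb [[2, 11, 2]],
 .nb [[1, 47, 3]],
 .nb [[1, 3, 5]],
 .nb [[1, 3, 16]],
 .nb [[2, 13]],
 .nb [[1, 3, 6, 39]],
 .nb [[1, 51, 3]],
 .nb [[1, 3, 6, 53]],
 .nb [[2, 4, 3]],
 .nb [[1, 3, 30]],
 .nb [[3, 1, 32]]]),
 ((nat_lit 0xce3e4f8518cf5ad90411f6ee036c), [.nb [[]],
 .fx 2 56,
 .nb [[1, 3, 47]],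
 .fx 7 14,
 .nb [[3, 1, 37]],
 .nb [[1, 9, 3]],
 .fx 29 12,
 .nb [[1, 0, 31, 1]],
 .nb [[1, 3, 5, 14], [1, 3, 51], [2, 38, 3], [1, 3, 4, 28]],
 .nb [[1, 12, 2]],
 .nb [[1, 3, 4]],
 .nb [[1, 3, 30]],
 .nb [[1, 3, 19]],
 .nb [[1, 3, 33]],
 .nb [[1, 3, 11, 4]],
 .nb [[3, 1, 12]],
 .nb [[1, 3, 4, 37]],
 .nb [[1, 43, 2]],
 .nb [[1, 3, 40]]])]
theorem ex_31 : exAll 275 9 nx D 20160 ex2_31 = true := by decide +kernel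
noncomputable def ex2_32 : List (ℕ × List Ins) := [((nat_lit 0xce1a5ffd88ee62d58592fc4c02d0), [.nb [[]],
 .fx 4 56,
 .nb [[1, 23, 2]],
 .fx 14 14,
 .nb [[2, 43, 1]],
 .nb [[1, 41, 3]],
 .fx 7 10,
 .nb [[3, 1, 37]],
 .nb [[1, 0, 31, 1]],
 .nb [[1, 35, 2], [1, 3, 7, 45]],
 .nb [[1, 43, 2]],
 .nb [[2, 28, 1]],
 .nb [[1, 3, 6]],
 .nb [[1, 3, 6, 53]],
 .nb [[1, 3, 28]],
 .nb [[1, 3, 24]],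
 .nb [[1, 3, 30]],
 .nb [[1, 3, 18]]]),
 ((nat_lit 0x1ce1aef854edec3d11458f55ca240), [.fx 6 56,
 .nb [[3, 1, 15]],
 .fx 38 12,
 .nb [[1, 32, 2]],
 .nb [[1, 7, 1]],
 .fx 52 10,
 .nb [[1, 12, 2]],
 .nb [[1, 35, 2], [3, 1, 38]],
 .nb [[2, 5, 2]],
 .nb [[1, 4, 1]],
 .nb [[1, 43, 2]],
 .nb [[3, 1, 32]],
 .nb [[1, 0, 13, 3]],
 .nb [[1, 3, 30]],
 .nb [[1, 3, 14]],
 .nb [[1, 3, 5, 8]],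
 .nb [[1, 3, 23]],
 .nb [[1, 49, 2]]]),
 ((nat_lit 0x9035127ab821383feb971aa25dbe), [.nb [[]],
 .fx 1 56,
 .nb [[1, 22, 3]],
 .fx 5 12,
 .nb [[1, 0, 24, 3]],
 .fx 109 2,
 .nb [[1, 3, 17]],
 .fx 28 9,
 .nb [[3, 1, 22]],
 .nb [[2, 28, 1], [1, 3]],
 .nb [[1, 12, 2]],
 .nb [[2, 28, 1]],
 .nb [[1, 3, 6, 53]],
 .nb [[1, 2, 47, 1]],
 .nb [[1, 3, 8, 3]],
 .nb [[1, 3, 28]],
 .nb [[1, 2, 33, 3]],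
 .nb [[2, 33, 2]],
 .nb [[1, 0, 13, 3]],
 .nb [[1, 3, 9, 30]],
 .nb [[1, 5, 1]],
 .nb [[1, 33, 1]]]),
 ((nat_lit 0x19035a2027e11993b7a5d13b2fd2e), [.nb [[]],
 .fx 1 56,
 .nb [[1, 22, 3]],
 .fx 5 12,
 .nb [[1, 0, 24, 3]],
 .fx 109 2,
 .nb [[1, 3, 17]],
 .fx 28 9,
 .nb [[3, 1, 22]],
 .nb [[1, 7, 1], [1, 3, 5, 8], [1, 3]],
 .nb [[1, 45, 3]],
 .nb [[1, 7, 1]],
 .nb [[1, 47, 2]],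
 .nb [[1, 3, 5, 10]],
 .nb [[2, 4, 3]],
 .nb [[1, 3, 27]],
 .nb [[1, 5, 1]],
 .nb [[1, 2, 47, 1]],
 .nb [[1, 3, 8, 3]]]),
 ((nat_lit 0x19011b27aee30a137fbde1910fc92), [.fx 1 56,
 .nb [[1, 22, 3]],
 .fx 24 12,
 .nb [[1, 3, 5, 10]],
 .nb [[1, 7, 1]],
 .fx 33 10,
 .nb [[2, 33, 2]],
 .nb [[1, 3, 30]],
 .nb [[1, 2, 14, 1], [2, 35, 3]],
 .nb [[2, 4, 3]],
 .nb [[1, 3, 8, 3]],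
 .nb [[1, 3, 28]],
 .nb [[2, 38, 3]],
 .nb [[1, 47, 2]],
 .nb [[1, 0, 19]],
 .nb [[1, 12, 2]],
 .nb [[2, 28, 1]],
 .nb [[3, 37, 1]],
 .nb [[3, 1, 37]]]),
 ((nat_lit 0xde3d0f06380158fb6e1552ae5d2e), [.fx 1 56,
 .nb [[1, 22, 3]],
 .fx 5 12,
 .nb [[1, 0, 24, 3]],
 .nb [[2, 5, 2]],
 .fx 51 10,
 .nb [[1, 3, 25]],
 .nb [[1, 3, 23]],
 .nb [[3, 1, 22], [1, 33, 1]],
 .nb [[1, 9, 3]],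
 .nb [[3, 1, 22]],
 .nb [[1, 3, 6, 9]],
 .nb [[1, 3]],
 .nb [[1, 3, 27]],
 .nb [[1, 3, 8, 3]],
 .nb [[1, 3, 30]],
 .nb [[1, 3, 5, 14]],
 .nb [[1, 3, 4, 28]]]),
 ((nat_lit 0xde191f7ea82060f7ef96580c5c92), [.fx 1 56,
 .nb [[1, 22, 3]],
 .fx 33 12,
 .nb [[2, 33, 2]],
 .nb [[1, 3, 30]],
 .nb [[1, 3, 21], [1, 3, 51], [1, 35, 2], [1, 3, 6, 39], [1, 32, 2], [3, 1, 32], [1, 3, 43], [1, 3, 10]],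
 .nb [[1, 3, 28]],
 .nb [[1, 3, 8, 3]],
 .nb [[1, 2, 33, 3]],
 .nb [[1, 0, 31]],
 .fx 47 2,
 .nb [[2, 11, 2]],
 .nb [[1, 0, 13, 3]],
 .nb [[1, 3, 6, 53]],
 .nb [[1, 3, 11, 4]],
 .nb [[1, 3, 23]],
 .nb [[1, 9, 3]],
 .nb [[3, 1, 23]]]),
 ((nat_lit 0x1de19af066e10c1f37e5c511cfc02), [.fx 1 56,
 .nb [[1, 22, 3]],
 .fx 24 12,
 .nb [[1, 3, 5, 10]],
 .nb [[1, 7, 1]],
 .fx 52 10,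
 .nb [[1, 12, 2]],
 .nb [[3, 1, 32], [1, 3, 14], [1, 54, 2]],
 .nb [[3, 1, 36]],
 .nb [[3, 1, 32]],
 .nb [[1, 3, 30]],
 .nb [[1, 3, 11, 4]],
 .nb [[1, 3, 5, 8]],
 .nb [[1, 47, 2]],
 .nb [[1, 54, 2]],
 .nb [[2, 35, 3]],
 .nb [[1, 3, 33]],
 .nb [[1, 2, 14, 1]]]),
 ((nat_lit 0x9034527b98ed383fa9939aa249fc), [.nb [[]],
 .fx 2 56,
 .nb [[1, 3, 47]],
 .fx 7 10,
 .nb [[3, 1, 37]],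
 .fx 106 2,
 .nb [[1, 9, 3]],
 .fx 27 9,
 .nb [[3, 1, 10]],
 .nb [[3, 1, 32], [1, 3, 29]],
 .nb [[1, 3]],
 .nb [[1, 2, 47, 3]],
 .nb [[1, 3, 6, 53]],
 .nb [[2, 34, 1]],
 .nb [[1, 3, 40]],
 .nb [[1, 3, 30]],
 .nb [[1, 12, 2]],
 .nb [[1, 33, 1]],
 .nb [[3, 1, 24]],
 .nb [[1, 11, 3]],
 .nb [[1, 3, 44]]]),
 ((nat_lit 0x19034e2035edd993b385993b2e96c), [.nb [[]],
 .fx 2 56,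
 .nb [[1, 3, 47]],
 .fx 45 10,
 .nb [[2, 12, 3]],
 .nb [[1, 12, 2], [1, 3, 10], [1, 3, 12], [1, 7, 1], [1, 3, 40], [1, 33, 1], [1, 3, 30], [1, 47, 2]],
 .nb [[1, 3, 9]],
 .nb [[1, 3, 49]],
 .nb [[1, 33, 1]],
 .nb [[1, 24, 3]],
 .nb [[1, 4, 27]],
 .fx 74 2,
 .nb [[1, 3, 12]],
 .nb [[1, 3, 11]],
 .nb [[1, 12, 2]],
 .nb [[1, 3, 19]],
 .nb [[1, 7, 1]],
 .nb [[1, 3, 5, 8]],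
 .nb [[3, 1, 12]]]),
 ((nat_lit 0x19010f27bcefca137b9da9910e8d0), [.nb [[]],
 .fx 4 56,
 .nb [[1, 23, 2]],
 .fx 9 14,
 .nb [[1, 3, 5]],
 .nb [[1, 33, 1]],
 .fx 7 10,
 .nb [[3, 1, 37]],
 .nb [[1, 5, 1]],
 .nb [[1, 3, 28], [2, 28, 1]],
 .nb [[2, 33, 2]],
 .nb [[1, 15, 2]],
 .nb [[2, 43, 1]],
 .nb [[1, 3, 17]],
 .nb [[2, 13]],
 .nb [[1, 3, 6, 39]],
 .nb [[3, 1, 24]],
 .nb [[1, 2, 47, 3]],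
 .nb [[2, 4, 3]],
 .nb [[1, 3, 24]],
 .nb [[3, 1, 32]]]),
 ((nat_lit 0xde3c4f0718cd58fb2c11d2ae496c), [.nb [[]],
 .fx 2 56,
 .nb [[1, 3, 47]],
 .fx 7 14,
 .nb [[3, 1, 37]],
 .nb [[1, 9, 3]],
 .fx 36 12,
 .nb [[1, 11, 3]],
 .nb [[1, 3, 9, 3]],
 .nb [[1, 24, 3], [1, 3, 6, 9], [1, 3, 9]],
 .nb [[1, 3, 33]],
 .nb [[1, 3]],
 .nb [[1, 43, 2]],
 .nb [[2, 12, 3]],
 .nb [[1, 12, 2]],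
 .nb [[1, 3, 8]],
 .nb [[1, 3, 19]],
 .nb [[1, 33, 1]],
 .nb [[1, 3, 4]]]),
 ((nat_lit 0xde185f7f88ec60f7ad92d80c48d0), [.nb [[]],
 .fx 4 56,
 .nb [[1, 23, 2]],
 .fx 9 14,
 .nb [[1, 3, 5]],
 .nb [[1, 33, 1]],
 .fx 7 10,
 .nb [[3, 1, 37]],
 .nb [[1, 5, 1]],
 .nb [[1, 3, 45], [1, 3, 7, 45]],
 .nb [[1, 3, 4]],
 .nb [[1, 3, 28]],
 .nb [[3, 1, 38]],
 .nb [[1, 2, 47, 3]],
 .nb [[2, 28, 1]],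
 .nb [[1, 3, 30]],
 .nb [[1, 3, 24]],
 .nb [[1, 3, 4, 28]]]),
 ((nat_lit 0x1de18ef074edcc1f33c58d11ce840), [.nb [[]],
 .fx 6 56,
 .nb [[3, 1, 15]],
 .fx 21 12,
 .nb [[1, 24, 3]],
 .fx 90 2,
 .nb [[1, 3, 23]],
 .nb [[1, 36, 3], [3, 1, 22], [1, 3, 6, 39], [2, 12, 3], [2, 38, 3], [2, 4, 3], [1, 3, 9], [3, 1, 36]],
 .nb [[1, 54, 2]],
 .nb [[1, 43, 2]],
 .nb [[2, 43, 1]],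
 .nb [[2, 5, 3]],
 .nb [[1, 4, 27]],
 .fx 52 2,
 .nb [[1, 12, 2]],
 .nb [[1, 3, 8]],
 .nb [[1, 3, 5, 8]],
 .nb [[3, 1, 28]],
 .nb [[1, 9, 3]],
 .nb [[1, 3, 12]],
 .nb [[1, 0, 13, 3]]]),
 ((nat_lit 0x903612fa98233a3fa9933ee24bbc), [.nb [[]],
 .fx 2 56,
 .nb [[1, 3, 47]],
 .fx 7 10,
 .nb [[3, 1, 37]],
 .fx 106 2,
 .nb [[1, 9, 3]],
 .fx 26 9,
 .nb [[1, 3, 26]],
 .nb [[1, 3, 30]],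
 .nb [[3, 1], [1, 4, 1]],
 .nb [[1, 5, 1]],
 .nb [[1, 47, 3]],
 .nb [[1, 12, 2]],
 .nb [[1, 41, 3]],
 .nb [[1, 2, 47, 3]],
 .nb [[3, 1, 12]],
 .nb [[2, 12, 3]],
 .nb [[2, 28, 1]],
 .nb [[1, 3, 44]]]),
 ((nat_lit 0x19036a2825e139b3b385937f2eb2c), [.nb [[]],
 .fx 2 56,
 .nb [[1, 3, 47]],
 .fx 26 10,
 .nb [[1, 3, 26]],
 .nb [[1, 3, 30]],
 .nb [[2, 12, 3], [1, 12, 2], [1, 3, 10], [1, 3, 12], [1, 7, 1], [1, 41, 3], [1, 33, 1], [1, 47, 2]],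
 .nb [[1, 3, 5, 17]],
 .nb [[3, 1]],
 .nb [[1, 12, 2]],
 .nb [[1, 3, 43]],
 .nb [[1, 5, 45]],
 .fx 74 2,
 .nb [[1, 3, 12]],
 .nb [[2, 43, 1]],
 .nb [[1, 47, 2]],
 .nb [[3, 1, 28]],
 .nb [[1, 3, 4, 28]],
 .nb [[1, 0, 24, 3]],
 .nb [[1, 33, 1]]])]
theorem ex_32 : exAll 275 9 nx D 20160 ex2_32 = true := by decide +kernel
noncomputable def ex2_33 : List (ℕ × List Ins) := [((nat_lit 0x19012b2face32a337b9da3d50ea90), [.nb [[]],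
 .fx 4 56,
 .nb [[1, 23, 2]],
 .fx 23 14,
 .nb [[1, 3, 51]],
 .nb [[1, 7, 1]],
 .fx 13 12,
 .nb [[1, 2, 14, 1]],
 .nb [[1, 3, 13]],
 .nb [[2, 31, 3], [1, 49, 2], [1, 3, 12]],
 .nb [[1, 5, 1]],
 .nb [[1, 3, 6, 39]],
 .nb [[3, 1, 32]],
 .nb [[1, 0, 13, 3]],
 .nb [[1, 3, 6, 53]],
 .nb [[1, 41, 3]],
 .nb [[1, 3, 6]],
 .nb [[2, 28, 1]]]),
 ((nat_lit 0xde3e0f8618035afb2c1176ee4b2c), [.nb [[]],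
 .fx 2 56,
 .nb [[1, 3, 47]],
 .fx 7 14,
 .nb [[3, 1, 37]],
 .nb [[1, 9, 3]],
 .fx 29 12,
 .nb [[1, 0, 31, 1]],
 .nb [[1, 15, 2]],
 .nb [[3, 1], [1, 3, 5], [1, 3, 6, 9]],
 .nb [[2, 47, 1]],
 .nb [[1, 3]],
 .nb [[1, 12, 2]],
 .nb [[1, 3, 8]],
 .nb [[2, 12, 3]],
 .nb [[1, 43, 2]],
 .nb [[1, 47, 3]],
 .nb [[1, 3, 30]],
 .nb [[1, 3, 4, 50]]]),
 ((nat_lit 0xde1a1ffe882262f7ad927c4c4a90), [.nb [[]],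
 .fx 4 56,
 .nb [[1, 23, 2]],
 .fx 23 14,
 .nb [[1, 3, 51]],
 .nb [[3, 1, 23]],
 .fx 7 9,
 .nb [[3, 1, 37]],
 .nb [[1, 3, 9, 3], [1, 47, 2]],
 .nb [[1, 9, 3]],
 .nb [[3, 1, 28]],
 .nb [[2, 28, 1]],
 .nb [[1, 3, 28]],
 .nb [[1, 3, 5]],
 .nb [[1, 33, 1]],
 .nb [[2, 43, 1]],
 .nb [[1, 3, 33]],
 .nb [[1, 3, 13]],
 .nb [[1, 54, 2]]]),
 ((nat_lit 0x1de1aaf864e12c3f33c58755cea00), [.nb [[]],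
 .fx 9 56,
 .nb [[1, 3, 5]],
 .fx 4 12,
 .nb [[1, 23, 2]],
 .nb [[1, 33, 1]],
 .fx 17 10,
 .nb [[1, 3, 45]],
 .nb [[1, 2, 33, 3]],
 .nb [[2, 47, 3]],
 .nb [[1, 7, 1]],
 .nb [[1, 3, 4, 37]],
 .nb [[3, 1, 23]],
 .nb [[1, 3, 4, 28]],
 .nb [[1, 54, 2]],
 .nb [[1, 3, 8, 3]],
 .nb [[1, 15, 2]],
 .nb [[1, 3, 33]],
 .nb [[1, 11, 3]]]),
 ((nat_lit 0x9037428338cf1a3b6a15b6e25f6e), [.nb [[]],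
 .fx 1 56,
 .nb [[1, 22, 3]],
 .fx 5 12,
 .nb [[1, 0, 24, 3]],
 .fx 109 2,
 .nb [[1, 3, 17]],
 .fx 26 9,
 .nb [[1, 3, 26]],
 .nb [[1, 3, 4, 28]],
 .nb [[1, 49, 2], [1, 3, 12]],
 .nb [[1, 3, 24]],
 .nb [[1, 0, 13, 3]],
 .nb [[1, 3, 9, 3]],
 .nb [[1, 3, 8, 3]],
 .nb [[1, 3]],
 .nb [[1, 2, 47, 1]],
 .nb [[1, 12, 2]],
 .nb [[1, 3, 25]]]),
 ((nat_lit 0x901352fba8ee2237eb96bc405ed2), [.fx 1 56,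
 .nb [[1, 22, 3]],
 .fx 33 12,
 .nb [[2, 33, 2]],
 .nb [[1, 3, 5], [3, 1, 10], [2, 38, 3], [1, 5, 1], [1, 51, 3], [3, 37, 1], [1, 3, 19], [1, 2, 33, 3], [1, 15, 2], [1, 3, 6], [1, 3, 6, 53], [1, 3, 13], [1, 41, 3]],
 .nb [[1, 0, 5], [1, 0, 35], [1, 0, 26]],
 .nb [[1, 3, 11], [1, 3, 24], [1, 3, 40]],
 .fx 49 2,
 .nb [[1, 5, 1]],
 .nb [[1, 41, 3]],
 .fx 40 3,
 .nb [[1, 3, 28]],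
 .nb [[1, 3, 40]],
 .nb [[2, 35, 3]],
 .nb [[1, 22, 2]],
 .nb [[1, 4, 1]],
 .nb [[1, 3, 5, 8]],
 .nb [[1, 0, 26]],
 .nb [[1, 3, 5, 17]],
 .nb [[2, 28, 1]],
 .nb [[1, 3, 11]],
 .nb [[1, 3, 13]]]),
 ((nat_lit 0x19013e2836ede83337a5cb550fe42), [.nb [[]],
 .fx 1 56,
 .nb [[1, 22, 3]],
 .fx 24 12,
 .nb [[1, 3, 5, 10]],
 .nb [[1, 7, 1]],
 .fx 52 10,
 .nb [[1, 12, 2]],
 .nb [[1, 3, 11]],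
 .nb [[2, 31, 3], [1, 3, 26], [1, 2, 33, 3]],
 .nb [[1, 3, 7, 45]],
 .nb [[1, 3, 5, 8]],
 .nb [[1, 3, 14]],
 .nb [[1, 3, 24]],
 .nb [[1, 3, 2]],
 .nb [[1, 3, 40]],
 .nb [[1, 3, 8, 3]],
 .nb [[1, 41, 3]],
 .nb [[1, 3, 4, 28]]]),
 ((nat_lit 0xde1b4f8728ce42f36e14f44c5e42), [.fx 1 56,
 .nb [[1, 22, 3]],
 .fx 52 12,
 .nb [[1, 12, 2]],
 .nb [[1, 3, 11]],
 .fx 54 10,
 .nb [[1, 3, 11, 4]],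
 .nb [[1, 3, 5, 17], [3, 1, 22]],
 .nb [[1, 4, 1]],
 .nb [[3, 1, 23]],
 .nb [[1, 3, 40]],
 .nb [[1, 3, 8, 3]],
 .nb [[1, 54, 2]],
 .nb [[1, 3, 30]],
 .nb [[1, 3, 24]],
 .nb [[1, 3, 23]],
 .nb [[1, 3, 9]],
 .nb [[1, 3, 19]],
 .nb [[1, 3, 33]]]),
 ((nat_lit 0xa1f51278b9213c1dc3b71aa315be), [.nb [[]],
 .fx 1 56,
 .nb [[1, 22, 3]],
 .fx 24 12,
 .nb [[1, 3, 5, 10]],
 .nb [[1, 3, 41]],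
 .fx 54 10,
 .nb [[1, 3, 11, 4]],
 .nb [[2, 43, 1], [1, 49, 2], [1, 4, 1]],
 .nb [[1, 3, 7, 45]],
 .nb [[1, 3, 31]],
 .nb [[1, 3, 6]],
 .nb [[2, 35, 3]],
 .nb [[1, 0, 13, 3]],
 .nb [[1, 12, 2]],
 .nb [[2, 28, 1]],
 .nb [[3, 1, 12]],
 .nb [[1, 3, 7]],
 .nb [[2, 33, 2]]]),
 ((nat_lit 0x1a1f5a2007f119d19527d13b3b52e), [.nb [[]],
 .fx 1 56,
 .nb [[1, 22, 3]],
 .fx 33 12,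
 .nb [[2, 33, 2]],
 .fx 40 10,
 .nb [[1, 3, 28]],
 .nb [[1, 3, 8, 3]],
 .nb [[1, 24, 3], [3, 1, 12]],
 .nb [[1, 22, 2]],
 .nb [[2, 38, 3]],
 .nb [[1, 2, 33, 3]],
 .nb [[1, 4, 7]],
 .fx 72 2,
 .nb [[1, 3, 7]],
 .nb [[1, 3, 25]],
 .nb [[1, 3, 12]],
 .nb [[1, 3, 5, 10]],
 .nb [[1, 3, 41]],
 .nb [[1, 0, 13, 3]],
 .nb [[3, 1, 39]],
 .nb [[1, 3]]]),
 ((nat_lit 0x1a1d1b278ef30a515d3fe1911b492), [.nb [[]],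
 .fx 1 56,
 .nb [[1, 22, 3]],
 .fx 5 12,
 .nb [[1, 0, 24, 3]],
 .nb [[1, 3, 17]],
 .fx 51 10,
 .nb [[1, 3, 25]],
 .nb [[1, 3, 7]],
 .nb [[1, 3, 9, 30], [1, 3, 4, 28]],
 .nb [[3, 1, 36]],
 .nb [[1, 3, 9, 30]],
 .nb [[1, 3, 5, 10]],
 .nb [[1, 3, 6]],
 .nb [[1, 47, 2]],
 .nb [[2, 28, 1]],
 .nb [[1, 3, 16]],
 .nb [[1, 0, 13, 3]],
 .nb [[1, 3, 30]]]),
 ((nat_lit 0xeffd0f0439015cd9463552af152e), [.nb [[]],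
 .fx 1 56,
 .nb [[1, 22, 3]],
 .fx 24 12,
 .nb [[1, 3, 5, 10]],
 .nb [[1, 3, 41]],
 .fx 33 10,
 .nb [[2, 33, 2]],
 .nb [[1, 3, 30]],
 .nb [[1, 3, 47], [1, 3, 5, 14]],
 .nb [[1, 3, 7, 45]],
 .nb [[2, 38, 3]],
 .nb [[2, 35, 3]],
 .nb [[1, 3, 4, 28]],
 .nb [[1, 2, 33, 3]],
 .nb [[1, 0, 19]],
 .nb [[2, 5, 2]],
 .nb [[1, 0, 24, 3]],
 .nb [[3, 1, 12]],
 .nb [[1, 3, 7]]]),
 ((nat_lit 0xefd91f7ca92064d5c7b6580d1492), [.nb [[]],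
 .fx 1 56,
 .nb [[1, 22, 3]],
 .fx 5 12,
 .nb [[1, 0, 24, 3]],
 .fx 109 2,
 .nb [[1, 3, 17]],
 .nb [[1, 11, 3], [1, 2, 47, 3], [2, 41, 1], [2, 38, 3], [1, 51, 3], [3, 1, 39], [3, 1, 38], [1, 3, 13]],
 .nb [[1, 3, 16]],
 .nb [[1, 3, 5, 14]],
 .nb [[1, 2, 47, 1]],
 .nb [[2, 47, 3]],
 .nb [[2, 35]],
 .fx 37 2,
 .nb [[1, 3, 32]],
 .nb [[1, 3, 33]],
 .nb [[1, 3, 9, 30]],
 .nb [[2, 28, 1]],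
 .nb [[1, 12, 2]],
 .nb [[1, 43, 2]],
 .nb [[1, 3, 31]]]),
 ((nat_lit 0x1efd9af046f10c5d1567c511db402), [.nb [[]],
 .fx 1 56,
 .nb [[1, 22, 3]],
 .fx 5 12,
 .nb [[1, 0, 24, 3]],
 .fx 109 2,
 .nb [[1, 3, 17]],
 .nb [[1, 2, 14, 1], [1, 49, 2], [1, 11, 3], [2, 41, 1], [2, 38, 3], [3, 1, 39], [3, 1, 32], [1, 3, 12]],
 .nb [[1, 3, 5, 14]],
 .nb [[1, 3, 11, 4]],
 .nb [[1, 3, 16]],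
 .nb [[1, 3, 7, 45]],
 .nb [[2, 35]],
 .fx 100 2,
 .nb [[1, 0, 13, 3]],
 .nb [[1, 3, 4, 37]],
 .nb [[1, 7, 1]],
 .nb [[1, 3, 32]],
 .nb [[1, 3, 33]],
 .nb [[3, 1, 36]],
 .nb [[1, 12, 2]]]),
 ((nat_lit 0xa1f4527999ed3c1d81b39aa301fc), [.nb [[]],
 .fx 2 56,
 .nb [[1, 3, 47]],
 .fx 7 10,
 .nb [[3, 1, 37]],
 .fx 106 2,
 .nb [[1, 9, 3]],
 .fx 27 9,
 .nb [[3, 1, 10]],
 .nb [[3, 1, 28], [3, 1, 32], [1, 3, 29]],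
 .nb [[3, 1, 12]],
 .nb [[1, 3, 7]],
 .nb [[1, 3, 21]],
 .nb [[2, 34, 1]],
 .nb [[1, 23, 2]],
 .nb [[1, 3]],
 .nb [[1, 0, 26]],
 .nb [[1, 2, 47, 3]],
 .nb [[2, 28, 1]],
 .nb [[1, 12, 2]],
 .nb [[1, 3, 9, 30]]]),
 ((nat_lit 0x1a1f4e2015fdd9d19107993b3a16c), [.nb [[]],
 .fx 2 56,
 .nb [[1, 3, 47]],
 .fx 52 10,
 .nb [[1, 12, 2]],
 .fx 62 2,
 .nb [[1, 3, 8]],
 .fx 68 9,
 .nb [[1, 3, 10]],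
 .nb [[2, 41, 1], [2, 11, 2]],
 .nb [[1, 3, 7, 45]],
 .nb [[3, 1, 36]],
 .nb [[1, 3, 24]],
 .nb [[1, 3, 12]],
 .nb [[1, 3, 6, 39]],
 .nb [[1, 3, 40]],
 .nb [[1, 47, 2]],
 .nb [[1, 7, 1]],
 .nb [[1, 3, 14]]])]
theorem ex_33 : exAll 275 9 nx D 20160 ex2_33 = true := by decide +kernel
noncomputable def ex2_34 : List (ℕ × List Ins) := [((nat_lit 0x1a1d0f279cffca51591fa9911a0d0), [.nb [[]],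
 .fx 4 56,
 .nb [[1, 23, 2]],
 .fx 9 14,
 .nb [[1, 3, 5]],
 .nb [[1, 3, 16]],
 .nb [[3, 1, 37], [1, 2, 14, 1], [3, 1, 10], [1, 32, 2], [3, 37, 1], [1, 3, 12], [3, 1, 36]],
 .nb [[1, 31]],
 .nb [[1, 10, 32]],
 .nb [[3, 1, 10]],
 .nb [[1, 3, 17]],
 .nb [[2, 43, 1]],
 .fx 93 2,
 .nb [[1, 7, 1]],
 .nb [[1, 36, 3]],
 .nb [[3, 1, 32]],
 .nb [[1, 3, 30]],
 .nb [[1, 3, 9]],
 .nb [[1, 12, 2]],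
 .nb [[2, 28, 1]]]),
 ((nat_lit 0xeffc4f0519cd5cd90431d2af016c), [.nb [[]],
 .fx 2 56,
 .nb [[1, 3, 47]],
 .fx 7 14,
 .nb [[3, 1, 37]],
 .nb [[1, 9, 3]],
 .fx 36 12,
 .nb [[1, 11, 3]],
 .nb [[1, 3, 9, 3]],
 .nb [[3, 1, 10], [1, 3, 12]],
 .nb [[2, 5, 2]],
 .nb [[1, 3, 4, 37]],
 .nb [[1, 3, 17]],
 .nb [[1, 0, 13, 3]],
 .nb [[2, 47, 1]],
 .nb [[1, 3, 4, 50]],
 .nb [[1, 3, 40]],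
 .nb [[1, 3, 4]],
 .nb [[1, 3, 8]],
 .nb [[1, 3, 24]],
 .nb [[1, 3, 33]]]),
 ((nat_lit 0xefd85f7d89ec64d585b2d80d00d0), [.nb [[]],
 .fx 4 56,
 .nb [[1, 23, 2]],
 .fx 9 14,
 .nb [[1, 3, 5]],
 .nb [[1, 3, 16]],
 .nb [[3, 1, 37], [1, 3, 5, 14], [3, 1, 10], [1, 3, 11, 4], [3, 37, 1], [1, 3, 8], [1, 43, 2]],
 .nb [[3, 1, 24]],
 .nb [[1, 3, 7]],
 .nb [[1, 3, 17]],
 .nb [[1, 41, 3]],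
 .nb [[2, 41]],
 .fx 83 2,
 .nb [[1, 3, 6]],
 .nb [[1, 2, 47, 3]],
 .nb [[2, 33, 2]],
 .nb [[3, 1, 23]],
 .nb [[1, 9, 3]],
 .nb [[1, 3, 4, 28]],
 .nb [[1, 3, 24]]]),
 ((nat_lit 0x1efd8ef054fdcc5d11478d11da040), [.nb [[]],
 .fx 6 56,
 .nb [[3, 1, 15]],
 .fx 38 12,
 .nb [[1, 32, 2]],
 .nb [[1, 7, 1]],
 .fx 52 10,
 .nb [[1, 12, 2]],
 .nb [[3, 1, 32], [1, 3, 14], [1, 54, 2]],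
 .nb [[3, 1, 36]],
 .nb [[3, 1, 32]],
 .nb [[1, 3, 30]],
 .nb [[1, 9, 3]],
 .nb [[1, 3, 5, 8]],
 .nb [[1, 3, 10]],
 .nb [[1, 54, 2]],
 .nb [[1, 3, 9, 3]],
 .nb [[1, 43, 2]],
 .nb [[1, 49, 2]]]),
 ((nat_lit 0xa1f612f899233e1d81b33ee303bc), [.nb [[]],
 .fx 2 56,
 .nb [[1, 3, 47]],
 .fx 7 10,
 .nb [[3, 1, 37]],
 .fx 106 2,
 .nb [[1, 9, 3]],
 .fx 26 9,
 .nb [[1, 3, 26]],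
 .nb [[1, 3, 30]],
 .nb [[3, 1], [1, 4, 1]],
 .nb [[1, 3, 17]],
 .nb [[1, 0, 31, 1]],
 .nb [[1, 12, 2]],
 .nb [[1, 41, 3]],
 .nb [[3, 1, 10]],
 .nb [[3, 1, 12]],
 .nb [[1, 3, 7]],
 .nb [[1, 3, 13]],
 .nb [[1, 3, 45]]]),
 ((nat_lit 0x1a1f6a2805f139f19107937f3a32c), [.fx 2 56,
 .nb [[1, 3, 47]],
 .fx 26 10,
 .nb [[1, 3, 26]],
 .nb [[1, 3, 30]],
 .nb [[1, 12, 2], [1, 3, 10], [1, 3, 7], [1, 3, 12], [1, 7, 1], [1, 41, 3], [1, 3, 7, 45], [1, 47, 2]],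
 .nb [[1, 3, 5, 17]],
 .nb [[3, 1]],
 .nb [[1, 41, 3]],
 .nb [[1, 3, 43]],
 .nb [[2, 38, 3]],
 .nb [[1, 5, 45]],
 .fx 74 2,
 .nb [[1, 3, 12]],
 .nb [[1, 3, 32]],
 .nb [[1, 3, 10]],
 .nb [[1, 3, 16]],
 .nb [[1, 3, 8, 3]],
 .nb [[3, 1, 12]],
 .nb [[1, 3, 7]]]),
 ((nat_lit 0x1a1d2b2f8cf32a71591fa3d51a290), [.nb [[]],
 .fx 4 56,
 .nb [[1, 23, 2]],
 .fx 14 14,
 .nb [[2, 43, 1]],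
 .fx 97 2,
 .nb [[1, 41, 3]],
 .fx 7 10,
 .nb [[3, 1, 37]],
 .nb [[1, 0, 31, 1]],
 .nb [[1, 3, 28], [2, 28, 1], [1, 3, 16]],
 .nb [[3, 1, 39]],
 .nb [[1, 3, 16]],
 .nb [[2, 13]],
 .nb [[1, 3, 6, 39]],
 .nb [[1, 51, 3]],
 .nb [[1, 3, 6, 53]],
 .nb [[2, 4, 3]],
 .nb [[1, 3, 30]],
 .nb [[3, 1, 32]]]),
 ((nat_lit 0xeffe0f8419035ed9043176ef032c), [.nb [[]],
 .fx 2 56,
 .nb [[1, 3, 47]],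
 .fx 7 14,
 .nb [[3, 1, 37]],
 .nb [[1, 9, 3]],
 .fx 29 12,
 .nb [[1, 0, 31, 1]],
 .nb [[1, 3, 17]],
 .nb [[1, 24, 3], [2, 47, 3], [1, 4, 1]],
 .nb [[1, 12, 2]],
 .nb [[1, 3, 7]],
 .nb [[1, 3, 4]],
 .nb [[1, 3, 30]],
 .nb [[2, 47, 1]],
 .nb [[2, 34, 1]],
 .nb [[1, 3, 11, 4]],
 .nb [[1, 3]]]),
 ((nat_lit 0xefda1ffc892266d585b27c4d0290), [.nb [[]],
 .fx 4 56,
 .nb [[1, 23, 2]],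
 .fx 14 14,
 .nb [[2, 43, 1]],
 .fx 97 2,
 .nb [[1, 41, 3]],
 .fx 7 10,
 .nb [[3, 1, 37]],
 .nb [[1, 0, 31, 1]],
 .nb [[2, 31, 3], [2, 5, 3], [1, 3, 27]],
 .nb [[1, 3, 16]],
 .nb [[2, 47, 1]],
 .nb [[1, 3, 5]],
 .nb [[1, 3, 13]],
 .nb [[1, 3, 28]],
 .nb [[2, 28, 1]],
 .nb [[2, 38, 3]],
 .nb [[1, 54, 2]],
 .nb [[1, 3, 7]]]),
 ((nat_lit 0x1efdaaf844f12c7d11478755da200), [.nb [[]],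
 .fx 9 56,
 .nb [[1, 3, 5]],
 .fx 4 12,
 .nb [[1, 23, 2]],
 .fx 17 10,
 .nb [[1, 3, 45]],
 .nb [[1, 2, 47, 3], [3, 1, 38], [1, 2, 47, 1]],
 .nb [[1, 3, 10]],
 .nb [[2, 4, 3]],
 .nb [[1, 9, 3]],
 .nb [[1, 3, 41]],
 .nb [[2, 38, 3]],
 .nb [[1, 47, 2]],
 .nb [[3, 1, 22]],
 .nb [[1, 3, 4]],
 .nb [[2, 5, 2]],
 .nb [[1, 3, 30]],
 .nb [[1, 54, 2]]]),
 ((nat_lit 0xa1f7428139cf1e194235b6e3176e), [.nb [[]],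
 .fx 1 56,
 .nb [[1, 22, 3]],
 .fx 24 12,
 .nb [[1, 3, 5, 10]],
 .nb [[1, 3, 41]],
 .fx 33 10,
 .nb [[2, 33, 2]],
 .nb [[1, 3, 49], [3, 1, 39], [1, 3, 19]],
 .nb [[2, 35, 3]],
 .nb [[1, 3, 27]],
 .nb [[1, 3, 8, 3]],
 .nb [[1, 3, 40]],
 .nb [[1, 41, 3]],
 .nb [[1, 0, 13, 3]],
 .nb [[1, 3, 25]],
 .nb [[1, 3, 11]],
 .nb [[2, 38, 3]],
 .nb [[1, 3]]]),
 ((nat_lit 0xa1d352f9a9ee2615c3b6bc4116d2), [.nb [[]],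
 .fx 1 56,
 .nb [[1, 22, 3]],
 .fx 5 12,
 .nb [[1, 0, 24, 3]],
 .nb [[1, 3, 17]],
 .fx 24 10,
 .nb [[1, 3, 5, 10]],
 .nb [[1, 3, 41]],
 .nb [[3, 1, 22], [1, 3, 19], [3, 1, 24]],
 .nb [[1, 3, 29]],
 .nb [[3, 1, 22]],
 .nb [[3, 1, 37]],
 .nb [[1, 3, 16]],
 .nb [[1, 3, 26]],
 .nb [[1, 0, 13, 3]],
 .nb [[1, 3, 28]],
 .nb [[2, 28, 1]],
 .nb [[1, 12, 2]]]),
 ((nat_lit 0x1a1d3e2816fde8711527cb551b642), [.nb [[]],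
 .fx 1 56,
 .nb [[1, 22, 3]],
 .fx 5 12,
 .nb [[1, 0, 24, 3]],
 .nb [[1, 3, 17]],
 .fx 33 10,
 .nb [[2, 33, 2]],
 .nb [[1, 3, 19], [3, 1, 36], [1, 3, 7, 45]],
 .nb [[1, 2, 47, 1]],
 .nb [[1, 3, 9, 3]],
 .nb [[1, 12, 2]],
 .nb [[1, 3, 40]],
 .nb [[1, 3, 8, 3]],
 .nb [[1, 3, 7, 45]],
 .nb [[1, 3, 5, 10]],
 .nb [[1, 3, 5, 8]],
 .nb [[1, 3, 19]],
 .nb [[1, 0, 13, 3]]]),
 ((nat_lit 0xefdb4f8529ce46d14634f44d1642), [.nb [[]],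
 .fx 1 56,
 .nb [[1, 22, 3]],
 .fx 5 12,
 .nb [[1, 0, 24, 3]],
 .fx 109 2,
 .nb [[1, 3, 17]],
 .nb [[3, 1, 15], [1, 3, 5], [1, 3, 18], [1, 11, 3], [2, 41, 1], [2, 38, 3], [3, 1, 39], [1, 47, 3]],
 .nb [[1, 2, 47, 1]],
 .nb [[1, 3, 7, 45]],
 .nb [[1, 3, 16]],
 .nb [[1, 3, 11, 4]],
 .nb [[1, 2, 33, 3]],
 .nb [[2, 35]],
 .fx 52 2,
 .nb [[1, 12, 2]],
 .nb [[1, 3, 29]],
 .nb [[1, 3, 7]],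
 .nb [[1, 3, 31]],
 .nb [[1, 3, 33]],
 .nb [[1, 3, 8]],
 .nb [[1, 3, 9, 3]]]),
 ((nat_lit 0xb1f4127a99213c3fa9b31aa349bc), [.nb [[]],
 .fx 2 56,
 .nb [[1, 3, 47]],
 .fx 7 10,
 .nb [[3, 1, 37]],
 .fx 106 2,
 .nb [[1, 9, 3]],
 .fx 27 9,
 .nb [[3, 1, 10]],
 .nb [[3, 1, 32], [1, 3, 11], [1, 3, 29]],
 .nb [[3, 1, 39]],
 .nb [[2, 12, 3]],
 .nb [[1, 33, 1]],
 .nb [[1, 3]],
 .nb [[1, 3, 16]],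
 .nb [[1, 3, 28]],
 .nb [[1, 3, 6, 53]],
 .nb [[1, 2, 47, 3]],
 .nb [[2, 28, 1]],
 .nb [[1, 3, 21]]]),
 ((nat_lit 0x1b1f4a2025f119d3b387913b3e92c), [.nb [[]],
 .fx 2 56,
 .nb [[1, 3, 47]],
 .fx 45 10,
 .nb [[2, 12, 3]],
 .fx 71 2,
 .nb [[1, 3, 24]],
 .fx 52 9,
 .nb [[1, 12, 2]],
 .nb [[3, 1, 32]],
 .nb [[1, 3, 7, 45]],
 .nb [[1, 32, 2]],
 .nb [[3, 1, 36]],
 .nb [[1, 3, 10]],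
 .nb [[1, 3, 5, 8]],
 .nb [[1, 47, 2]],
 .nb [[1, 7, 1]],
 .nb [[1, 3, 12]],
 .nb [[1, 3, 7]],
 .nb [[1, 3, 32]]])]
theorem ex_34 : exAll 275 9 nx D 20160 ex2_34 = true := by decide +kernel
noncomputable def ex2_35 : List (ℕ × List Ins) := [((nat_lit 0x1b1d0b27acf30a537b9fa1911e890), [.nb [[]],
 .fx 4 56,
 .nb [[1, 23, 2]],
 .fx 9 14,
 .nb [[1, 3, 5]],
 .nb [[1, 3, 45], [1, 3, 43], [1, 3, 44], [1, 3, 4], [1, 54, 2], [1, 3], [1, 3, 4, 37], [2, 5, 2]],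
 .nb [[1, 41, 3]],
 .nb [[3, 1, 10], [1, 51, 3]],
 .nb [[3, 6]],
 .nb [[1, 3, 6, 53], [2, 28, 1]],
 .nb [[3, 1, 28]],
 .nb [[2, 31, 3]],
 .nb [[2, 8]],
 .fx 84 2,
 .nb [[1, 3, 6, 53]],
 .nb [[3, 1, 38]],
 .nb [[1, 0, 13, 3]],
 .nb [[1, 11, 3]],
 .nb [[1, 15, 2]],
 .nb [[1, 7, 1]],
 .nb [[2, 4, 3]]]),
 ((nat_lit 0xfffc0f0619015cfb2c3152af492c), [.nb [[]],
 .fx 2 56,
 .nb [[1, 3, 47]],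
 .fx 7 14,
 .nb [[3, 1, 37]],
 .nb [[1, 9, 3]],
 .fx 36 12,
 .nb [[1, 11, 3]],
 .nb [[1, 24, 3], [1, 3, 6, 9]],
 .nb [[1, 3, 33]],
 .nb [[1, 33, 1]],
 .nb [[1, 3, 7, 45]],
 .nb [[1, 3, 4, 50]],
 .nb [[1, 3, 23]],
 .nb [[1, 3, 7]],
 .nb [[2, 47, 1]],
 .nb [[3, 1, 12]],
 .nb [[1, 3]],
 .nb [[1, 15, 2]]]),
 ((nat_lit 0xffd81f7e892064f7adb2580d4890), [.nb [[]],
 .fx 4 56,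
 .nb [[1, 23, 2]],
 .fx 9 14,
 .nb [[1, 3, 5]],
 .nb [[1, 3, 45], [1, 36, 3], [2, 4, 3], [1, 3, 43], [1, 3, 10], [1, 3, 44], [1, 3], [1, 47, 2]],
 .nb [[1, 41, 3]],
 .nb [[3, 6]],
 .nb [[2, 8]],
 .nb [[1, 3, 17]],
 .nb [[3, 1, 28]],
 .nb [[1, 51, 3]],
 .fx 84 2,
 .nb [[1, 3, 6, 53]],
 .nb [[3, 1, 38]],
 .nb [[1, 0, 13, 3]],
 .nb [[2, 47, 1]],
 .nb [[1, 11, 3]],
 .nb [[2, 5, 2]],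
 .nb [[2, 38, 3]]]),
 ((nat_lit 0x1ffd8af064f10c5f33c78511de800), [.nb [[]],
 .fx 11 56,
 .nb [[2, 31, 3]],
 .fx 37 12,
 .nb [[1, 3, 32]],
 .fx 79 2,
 .nb [[3, 1, 24]],
 .nb [[1, 3, 47], [3, 1], [1, 23, 2], [1, 3, 21], [2, 33, 2], [1, 3, 27], [1, 3, 9, 30]],
 .nb [[3, 1, 10]],
 .nb [[1, 3, 16]],
 .nb [[1, 3, 7]],
 .nb [[1, 3, 17]],
 .nb [[2, 41]],
 .fx 44 2,
 .nb [[1, 45, 3]],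
 .nb [[1, 47, 2]],
 .nb [[1, 54, 2]],
 .nb [[3, 1, 36]],
 .nb [[1, 3, 4]],
 .nb [[2, 47, 1]],
 .nb [[1, 3, 33]]]),
 ((nat_lit 0xb1f5420339cd1c3b6a3592a35d6e), [.nb [[]],
 .fx 1 56,
 .nb [[1, 22, 3]],
 .fx 24 12,
 .nb [[1, 3, 5, 10]],
 .nb [[1, 3, 41]],
 .fx 33 10,
 .nb [[2, 33, 2]],
 .nb [[2, 38, 3], [3, 1, 12], [1, 3, 7, 45]],
 .nb [[2, 35, 3]],
 .nb [[1, 3, 11]],
 .nb [[1, 3, 27]],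
 .nb [[1, 3, 7, 45]],
 .nb [[1, 0, 24, 3]],
 .nb [[1, 3, 32]],
 .nb [[2, 38, 3]],
 .nb [[1, 3, 24]],
 .nb [[1, 3, 40]]]),
 ((nat_lit 0xb1d1527ba9ec2437ebb698015cd2), [.nb [[]],
 .fx 1 56,
 .nb [[1, 22, 3]],
 .fx 5 12,
 .nb [[1, 0, 24, 3]],
 .nb [[1, 3, 17]],
 .fx 24 10,
 .nb [[1, 3, 5, 10]],
 .nb [[1, 3, 41]],
 .nb [[3, 1, 22], [1, 3, 19], [3, 1, 24]],
 .nb [[1, 33, 1]],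
 .nb [[1, 3, 19]],
 .nb [[3, 37, 1]],
 .nb [[1, 3, 16]],
 .nb [[1, 5, 1]],
 .nb [[1, 3, 40]],
 .nb [[2, 11, 2]],
 .nb [[2, 33, 2]],
 .nb [[1, 3, 9, 3]]]),
 ((nat_lit 0x1b1d1e2036fdc85337a7c9111fc42), [.nb [[]],
 .fx 1 56,
 .nb [[1, 22, 3]],
 .fx 5 12,
 .nb [[1, 0, 24, 3]],
 .nb [[1, 3, 17]],
 .fx 33 10,
 .nb [[2, 33, 2]],
 .nb [[2, 38, 3], [3, 1, 39], [1, 3, 12]],
 .nb [[1, 2, 47, 1]],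
 .nb [[1, 3, 9, 3]],
 .nb [[1, 3, 7, 45]],
 .nb [[1, 3, 5, 8]],
 .nb [[1, 3, 5, 10]],
 .nb [[1, 3, 11]],
 .nb [[1, 3, 19]],
 .nb [[1, 0, 13, 3]],
 .nb [[1, 3, 8, 3]],
 .nb [[1, 3, 16]]]),
 ((nat_lit 0xffd94f0729cc44f36e34d00d5c42), [.nb [[]],
 .fx 1 56,
 .nb [[1, 22, 3]],
 .fx 5 12,
 .nb [[1, 0, 24, 3]],
 .fx 109 2,
 .nb [[1, 3, 17]],
 .nb [[3, 1, 15], [2, 31, 3], [1, 3, 18], [1, 11, 3], [2, 5, 3], [2, 41, 1], [2, 38, 3], [3, 1, 39]],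
 .nb [[1, 2, 47, 1]],
 .nb [[1, 3, 7, 45]],
 .nb [[1, 3, 16]],
 .nb [[1, 3, 11, 4]],
 .nb [[2, 47, 3]],
 .nb [[1, 2, 33, 3]],
 .nb [[2, 35]],
 .fx 71 2,
 .nb [[1, 3, 24]],
 .nb [[1, 5, 1]],
 .nb [[1, 3, 7]],
 .nb [[1, 3, 41]],
 .nb [[1, 3, 33]],
 .nb [[1, 43, 2]],
 .nb [[1, 3, 8, 3]]]),
 ((nat_lit 0xb1f7028239031e3b6a3536e35f2e), [.fx 1 56,
 .nb [[1, 22, 3]],
 .fx 5 14,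
 .nb [[1, 0, 24, 3]],
 .nb [[1, 3, 17]],
 .nb [[1, 3, 26], [3, 1, 22], [1, 5, 1], [1, 3, 29], [1, 3, 4, 28], [1, 2, 47, 1], [1, 3, 7, 45], [1, 33, 1]],
 .nb [[1, 3, 16]],
 .nb [[1, 3, 27]],
 .nb [[1, 3, 7, 45]],
 .nb [[1, 2, 47, 1]],
 .nb [[2, 35]],
 .fx 37 2,
 .nb [[1, 3, 32]],
 .nb [[1, 3, 26]],
 .nb [[1, 3, 41]],
 .nb [[1, 3, 8, 3]],
 .nb [[1, 33, 1]],
 .nb [[1, 41, 3]],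
 .nb [[1, 0, 13, 3]]]),
 ((nat_lit 0xb1d312faa9222637ebb63c415e92), [.nb [[]],
 .fx 1 56,
 .nb [[1, 22, 3]],
 .fx 16 14,
 .nb [[1, 3, 31]],
 .fx 95 2,
 .nb [[1, 3, 5, 8]],
 .fx 25 10,
 .nb [[1, 3, 49]],
 .nb [[1, 2, 47, 1]],
 .nb [[1, 0, 31, 1], [2, 12, 3], [3, 1, 24]],
 .nb [[3, 1, 22]],
 .nb [[2, 28, 1]],
 .nb [[1, 12, 2]],
 .nb [[1, 3, 8, 3]],
 .nb [[2, 4, 2]],
 .nb [[2, 33, 2]],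
 .nb [[1, 3, 17]],
 .nb [[2, 11, 2]],
 .nb [[1, 41, 3]]]),
 ((nat_lit 0x1b1d3a2826f1287337a7c3551fe02), [.fx 1 56,
 .nb [[1, 22, 3]],
 .nb [[1, 3, 31], [1, 3, 5, 10], [1, 3, 32], [1, 12, 2], [1, 3, 7], [1, 3, 8, 3], [1, 7, 1], [1, 3, 5, 8], [1, 0, 13, 3], [1, 3, 41], [1, 3, 16], [1, 3, 17], [1, 3, 30], [1, 47, 2]],
 .nb [[3, 34]],
 .nb [[1, 2, 33, 3]],
 .fx 16 2,
 .nb [[1, 3, 31]],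
 .fx 95 2,
 .nb [[1, 3, 5, 8]],
 .nb [[1, 3, 7, 45]],
 .nb [[1, 3, 5, 10]],
 .nb [[3, 1, 32]],
 .nb [[1, 13, 11]],
 .fx 104 2,
 .nb [[1, 3, 16]],
 .nb [[1, 47, 3]],
 .nb [[1, 3, 32]],
 .nb [[1, 12, 2]],
 .nb [[1, 3, 29]],
 .nb [[1, 3, 30]],
 .nb [[2, 5, 3]]]),
 ((nat_lit 0xffdb0f86290246f36e34744d5e02), [.nb [[]],
 .fx 1 56,
 .nb [[1, 22, 3]],
 .fx 16 14,
 .nb [[1, 3, 31]],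
 .fx 95 2,
 .nb [[1, 3, 5, 8]],
 .fx 25 10,
 .nb [[1, 3, 49]],
 .nb [[1, 3, 9], [3, 1, 38]],
 .nb [[1, 12, 2]],
 .nb [[1, 2, 47, 1]],
 .nb [[1, 3, 41]],
 .nb [[1, 3, 17]],
 .nb [[2, 5, 2]],
 .nb [[1, 3, 23]],
 .nb [[1, 3, 5, 53]],
 .nb [[1, 3, 16]],
 .nb [[1, 3, 11, 4]],
 .nb [[2, 41, 1]]]),
 ((nat_lit 0xb1f6428319cf1e3b2831b6e34b6c), [.fx 2 56,
 .nb [[1, 3, 47]],
 .fx 26 10,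
 .nb [[1, 3, 26]],
 .nb [[1, 3, 30]],
 .nb [[2, 12, 3], [1, 12, 2], [1, 3, 24], [1, 3, 7], [1, 3, 40], [1, 41, 3], [1, 3, 7, 45], [1, 33, 1]],
 .nb [[1, 3, 5, 17]],
 .nb [[3, 1]],
 .nb [[1, 41, 3]],
 .nb [[1, 12, 2]],
 .nb [[1, 5, 45]],
 .fx 45 2,
 .nb [[2, 12, 3]],
 .nb [[1, 3, 24]],
 .nb [[1, 3, 4, 28]],
 .nb [[1, 0, 13, 3]],
 .nb [[3, 1, 12]],
 .nb [[1, 3, 7]],
 .nb [[3, 1, 28]]]),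
 ((nat_lit 0xb1d252fb89ee2637a9b2bc414ad0), [.nb [[]],
 .fx 4 56,
 .nb [[1, 23, 2]],
 .fx 23 14,
 .nb [[1, 3, 51]],
 .fx 93 2,
 .nb [[1, 7, 1]],
 .fx 35 11,
 .nb [[1, 3, 6, 39]],
 .nb [[1, 3, 9, 3], [1, 0, 13, 3]],
 .nb [[3, 1, 37]],
 .nb [[1, 54, 2]],
 .nb [[1, 3, 32]],
 .nb [[1, 4, 27]],
 .nb [[1, 3, 11]],
 .nb [[1, 33, 1]],
 .nb [[1, 3, 5]],
 .nb [[2, 38, 3]],
 .nb [[1, 3, 24]],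
 .nb [[1, 3, 9, 3]],
 .nb [[1, 0, 31, 1]]]),
 ((nat_lit 0x1b1d2e2834fde87333878b551ea40), [.fx 6 56,
 .nb [[3, 1, 15]],
 .nb [[2, 31, 3], [2, 43, 1], [1, 32, 2], [1, 5, 1], [1, 12, 2], [3, 1, 28], [1, 3, 10], [1, 15, 2], [1, 3, 4, 28], [1, 7, 1], [1, 3, 5, 8], [1, 0, 13, 3], [1, 33, 1], [1, 3, 30]],
 .nb [[3, 6]],
 .nb [[1, 3, 40]],
 .fx 49 2,
 .nb [[1, 5, 1]],
 .fx 68 2,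
 .nb [[1, 3, 10]],
 .nb [[2, 5, 3]],
 .nb [[1, 36, 3]],
 .nb [[1, 7]],
 .fx 14 2,
 .nb [[2, 43, 1]],
 .nb [[1, 41, 3]],
 .nb [[2, 31, 3]],
 .nb [[1, 3, 4, 28]],
 .nb [[1, 47, 3]],
 .nb [[1, 12, 2]],
 .nb [[1, 3, 7]]]),
 ((nat_lit 0xffda4f8709ce46f32c30f44d4a40), [.fx 6 56,
 .nb [[3, 1, 15]],
 .fx 11 14,
 .nb [[2, 31, 3]],
 .nb [[2, 5, 2]],
 .nb [[1, 3, 5], [1, 3, 18], [1, 11, 3], [2, 5, 3], [2, 38, 3], [3, 1, 39], [1, 47, 3], [1, 3, 17]],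
 .nb [[3, 1, 28]],
 .nb [[1, 9, 3]],
 .nb [[3, 1, 23]],
 .nb [[1, 3, 40]],
 .nb [[1, 12, 28]],
 .nb [[1, 0, 35]],
 .fx 49 2,
 .nb [[1, 5, 1]],
 .nb [[1, 3, 5, 17]],
 .nb [[1, 33, 1]],
 .nb [[1, 3, 4, 28]],
 .nb [[1, 3, 16]],
 .nb [[1, 3, 41]],
 .nb [[1, 3, 9, 3]]])]
theorem ex_35 : exAll 275 9 nx D 20160 ex2_35 = true := by decide +kernel
noncomputable def ex2 : List (List (ℕ × List Ins)) := [ex2_0, ex2_1, ex2_2, ex2_3, ex2_4, ex2_5, ex2_6, ex2_7, ex2_8, ex2_9, ex2_10, ex2_11, ex2_12, ex2_13, ex2_14, ex2_15, ex2_16, ex2_17, ex2_18, ex2_19, ex2_20, ex2_21, ex2_22, ex2_23, ex2_24, ex2_25, ex2_26, ex2_27, ex2_28, ex2_29, ex2_30, ex2_31, ex2_32, ex2_33, ex2_34, ex2_35]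
theorem exs : ∀ exs ∈ ex2, exAll 275 9 nx D 20160 exs = true := (List.forall_mem_cons.2 ⟨ex_0, (List.forall_mem_cons.2 ⟨ex_1, (List.forall_mem_cons.2 ⟨ex_2, (List.forall_mem_cons.2 ⟨ex_3, (List.forall_mem_cons.2 ⟨ex_4, (List.forall_mem_cons.2 ⟨ex_5, (List.forall_mem_cons.2 ⟨ex_6, (List.forall_mem_cons.2 ⟨ex_7, (List.forall_mem_cons.2 ⟨ex_8, (List.forall_mem_cons.2 ⟨ex_9, (List.forall_mem_cons.2 ⟨ex_10, (List.forall_mem_cons.2 ⟨ex_11, (List.forall_mem_cons.2 ⟨ex_12, (List.forall_mem_cons.2 ⟨ex_13, (List.forall_mem_cons.2 ⟨ex_14, (List.forall_mem_cons.2 ⟨ex_15, (List.forall_mem_cons.2 ⟨ex_16, (List.forall_mem_cons.2 ⟨ex_17, (List.forall_mem_cons.2 ⟨ex_18, (List.forall_mem_cons.2 ⟨ex_19, (List.forall_mem_cons.2 ⟨ex_20, (List.forall_mem_cons.2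 ⟨ex_21, (List.forall_mem_cons.2 ⟨ex_22, (List.forall_mem_cons.2 ⟨ex_23, (List.forall_mem_cons.2 ⟨ex_24, (List.forall_mem_cons.2 ⟨ex_25, (List.forall_mem_cons.2 ⟨ex_26, (List.forall_mem_cons.2 ⟨ex_27, (List.forall_mem_cons.2 ⟨ex_28, (List.forall_mem_cons.2 ⟨ex_29, (List.forall_mem_cons.2 ⟨ex_30, (List.forall_mem_cons.2 ⟨ex_31, (List.forall_mem_cons.2 ⟨ex_32, (List.forall_mem_cons.2 ⟨ex_33, (List.forall_mem_cons.2 ⟨ex_34, (List.forall_mem_cons.2 ⟨ex_35, (fun _ h => absurd h List.not_mem_nil)⟩)⟩)⟩)⟩)⟩)⟩)⟩)⟩)⟩)⟩)⟩)⟩)⟩)⟩)⟩)⟩)⟩)⟩)⟩)⟩)⟩)⟩)⟩)⟩)⟩)⟩)⟩)⟩)⟩)⟩)⟩)⟩)⟩)⟩)⟩)⟩)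
def wl : List (List ℕ) := [[42], [44], [46], [48], [50], [52], [54]]
def eqs : List (List ℕ × List ℕ) := [([1, 1], [0]), ([4, 4], [2]), ([5, 5], [4, 0]), ([6, 6], [3, 2])]
def dat : List (ℕ × List (List ℕ) × ℕ × List ℕ) := [(0, [[0], [1], [2], [3], [4], [5]], 1, [1, 2, 4, 6, 13, 16, 18]),
 (2, [[0], [2], [3], [4], [5], [6]], 1, [1, 4, 6, 16, 2, 5, 13, 18, 19, 20]),
 (32, [[0], [1], [2], [3], [4], [6]], 1, [1, 2, 4, 6, 16, 18, 13, 15]),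
 (34, [[0], [2], [3], [4], [6], [5, 1]], 1, [1, 2, 16, 18, 4, 6, 7, 11, 13, 15]),
 (64, [[0], [1], [2], [3], [4], [5]], 1, [1, 2, 4, 6, 13, 16, 18]),
 (66, [[0], [2], [3], [4], [5], [6, 1]], 1, [1, 2, 4, 13, 16, 18, 6, 31]),
 (96, [[0], [1], [2], [3], [4], [6, 5]], 1, [2, 4, 13, 18, 1, 6, 9, 11, 16, 28]),
 (98, [[0], [2], [3], [4], [5, 1], [6, 1]], 1, [1, 2, 4, 6, 13, 16, 18])]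
theorem h3 : and2 (and2 (fixL nx (pcL D2) 0) (allL wl fun w => allL w fun c => memL c (pcL D2)))
      (allL eqs fun q => allN 9 fun j => chkEq 275 9 (wNets nx wl) q.1 q.2 j) = true := by decide +kernel
theorem a2 : allN 128 (chkHalf 275 9 nx D 56 wl eqs dat fun U => or2 (isRowP 275 nx D ps gs U) (inEx ex2 U)) = true := by decide +kernel

end H10.McR
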