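import Mathlib

/-! Poisson summation for Gaussians on `ℤ ^ n`, by induction on `n` from the one-dimensional
formula. -/

namespace H10.Th

open Matrix Complex Finset
open scoped Real

variable {n : ℕ}

/-- positive definite rational symmetric matrices. -/
structure PD (A : Matrix (Fin n) (Fin n) ℚ) : Prop where
  symm : ∀ i j, A i j = A j i
  pos : ∀ x : Fin n → ℚ, x ≠ 0 → 0 < x ⬝ᵥ A *ᵥ x

section alg

variable {R : Type*} [CommRing R]

theorem dot_symm {A : Matrix (Fin n) (Fin n) R} (hs : ∀ i j, A i j = A j i) (v w : Fin n → R) :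
    v ⬝ᵥ A *ᵥ w = w ⬝ᵥ A *ᵥ v := by
  simp only [dotProduct, mulVec, Finset.mul_sum]
  rw [Finset.sum_comm]
  exact Finset.sum_congr rfl fun i _ => Finset.sum_congr rfl fun j _ => by rw [hs j i]; ring

theorem inv_symm {A C : Matrix (Fin n) (Fin n) R} (hs : ∀ i j, A i j = A j i) (h : A * C = 1)
    (i j : Fin n) : C i j = C j i := by
  have hA : Aᵀ = A := by ext i j; exact hs j i
  have h1 : Cᵀ * A = 1 := by
    have := congrArg transpose h
    rwa [transpose_mul, hA, transpose_one] at this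
  have h2 : Cᵀ = C := by
    calc Cᵀ = Cᵀ * (A * C) := by rw [h, Matrix.mul_one]
      _ = C := by rw [← Matrix.mul_assoc, h1, Matrix.one_mul]
  exact (congrFun (congrFun h2 j) i)

/-- lower right block. -/
def lr (A : Matrix (Fin (n + 1)) (Fin (n + 1)) R) : Matrix (Fin n) (Fin n) R :=
  A.submatrix Fin.succ Fin.succ

/-- first row without the corner. -/
def fr (A : Matrix (Fin (n + 1)) (Fin (n + 1)) R) : Fin n → R := fun i => A 0 i.succ

theorem mulVec_cons {A : Matrix (Fin (n + 1)) (Fin (n + 1)) R} (hs : ∀ i j, A i j = A j i)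
    (a : R) (x : Fin n → R) :
    A *ᵥ (Fin.cons a x : Fin (n + 1) → R) =
      Fin.cons (A 0 0 * a + fr A ⬝ᵥ x) (a • fr A + lr A *ᵥ x) := by
  funext i
  refine Fin.cases ?_ (fun i => ?_) i
  · simp [mulVec, dotProduct, Fin.sum_univ_succ, fr]
  · simp only [mulVec, dotProduct, Fin.sum_univ_succ, fr, lr, Fin.cons_zero, Fin.cons_succ,
      Pi.add_apply, Pi.smul_apply, smul_eq_mul, submatrix_apply]
    rw [hs i.succ 0]; ring

theorem dot_cons (a b : R) (x y : Fin n → R) :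
    (Fin.cons a x : Fin (n + 1) → R) ⬝ᵥ (Fin.cons b y) = a * b + x ⬝ᵥ y := by
  simp [dotProduct, Fin.sum_univ_succ]

theorem qf_cons {A : Matrix (Fin (n + 1)) (Fin (n + 1)) R} (hs : ∀ i j, A i j = A j i)
    (a : R) (x : Fin n → R) :
    (Fin.cons a x : Fin (n + 1) → R) ⬝ᵥ A *ᵥ (Fin.cons a x) =
      A 0 0 * a ^ 2 + 2 * a * (fr A ⬝ᵥ x) + x ⬝ᵥ lr A *ᵥ x := by
  rw [mulVec_cons hs, dot_cons, dotProduct_add, dotProduct_smul, dotProduct_comm x (fr A),
    smul_eq_mul]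
  ring

theorem qf_add {A : Matrix (Fin n) (Fin n) R} (hs : ∀ i j, A i j = A j i) (v w : Fin n → R) :
    (v + w) ⬝ᵥ A *ᵥ (v + w) = v ⬝ᵥ A *ᵥ v + 2 * (v ⬝ᵥ A *ᵥ w) + w ⬝ᵥ A *ᵥ w := by
  rw [mulVec_add, add_dotProduct, dotProduct_add, dotProduct_add, dot_symm hs w v]
  ring

theorem qf_inv_cons {K : Type*} [Field K] {A C : Matrix (Fin (n + 1)) (Fin (n + 1)) K}
    {C' : Matrix (Fin n) (Fin n) K} (hs : ∀ i j, A i j = A j i) (h : A * C = 1)
    (h' : lr A * C' = 1) {s : K} (hs1 : s = A 0 0 - fr A ⬝ᵥ C' *ᵥ fr A) (hs0 : s ≠ 0)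
    (a : K) (w : Fin n → K) :
    (Fin.cons a w : Fin (n + 1) → K) ⬝ᵥ C *ᵥ (Fin.cons a w) =
      (a - fr A ⬝ᵥ C' *ᵥ w) ^ 2 / s + w ⬝ᵥ C' *ᵥ w := by
  have hC' : ∀ i j, C' i j = C' j i := inv_symm (fun i j => hs i.succ j.succ) h'
  set v0 := (a - fr A ⬝ᵥ C' *ᵥ w) / s with hv0
  have e : A *ᵥ (Fin.cons v0 (C' *ᵥ w - v0 • C' *ᵥ fr A) : Fin (n + 1) → K) = Fin.cons a w := by
    rw [mulVec_cons hs]
    congr 1
    · rw [dotProduct_sub, dotProduct_smul, smul_eq_mul]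
      have : v0 * s = a - fr A ⬝ᵥ C' *ᵥ w := by rw [hv0]; field_simp
      rw [hs1] at this
      linear_combination this
    · rw [mulVec_sub, mulVec_smul, mulVec_mulVec, mulVec_mulVec, h', one_mulVec, one_mulVec]
      abel
  have e2 : C *ᵥ (Fin.cons a w : Fin (n + 1) → K) =
      Fin.cons v0 (C' *ᵥ w - v0 • C' *ᵥ fr A) := by
    rw [← e, mulVec_mulVec, mul_eq_one_comm.1 h, one_mulVec]
  rw [e2, dot_cons, dotProduct_sub, dotProduct_smul, smul_eq_mul, dot_symm hC' w (fr A), hv0]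
  field_simp
  ring

end alg

namespace PD

variable {A C : Matrix (Fin n) (Fin n) ℚ}

theorem nonneg (h : PD A) (x : Fin n → ℚ) : 0 ≤ x ⬝ᵥ A *ᵥ x := by
  by_cases hx : x = 0
  · simp [hx]
  · exact (h.pos x hx).le

theorem exists_inv (h : PD A) : ∃ C, A * C = 1 := by
  have : IsUnit A := by
    rw [← mulVec_injective_iff_isUnit]
    intro x y e
    by_contra hne
    have := h.pos (x - y) (sub_ne_zero.2 hne)
    rw [mulVec_sub, show A *ᵥ x = A *ᵥ y from e, sub_self, dotProduct_zero] at this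
    exact lt_irrefl _ this
  exact this.exists_right_inv

theorem inv (h : PD A) (hC : A * C = 1) : PD C := by
  refine ⟨inv_symm h.symm hC, fun x hx => ?_⟩
  have e : A *ᵥ (C *ᵥ x) = x := by rw [mulVec_mulVec, hC, one_mulVec]
  have := h.pos (C *ᵥ x) (fun h0 => hx (by rw [← e, h0, mulVec_zero]))
  rwa [e, dotProduct_comm] at this

theorem lr {A : Matrix (Fin (n + 1)) (Fin (n + 1)) ℚ} (h : PD A) : PD (lr A) := by
  refine ⟨fun i j => h.symm _ _, fun x hx => ?_⟩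
  have := h.pos (Fin.cons 0 x) (fun h0 => hx (funext fun i => congrFun h0 i.succ))
  rw [qf_cons h.symm] at this
  simpa using this

theorem schur {A : Matrix (Fin (n + 1)) (Fin (n + 1)) ℚ} (h : PD A)
    {C' : Matrix (Fin n) (Fin n) ℚ} (h' : Th.lr A * C' = 1) :
    0 < A 0 0 - fr A ⬝ᵥ C' *ᵥ fr A := by
  have := h.pos (Fin.cons 1 (-(C' *ᵥ fr A))) (fun h0 => by simpa using congrFun h0 0)
  rw [qf_cons h.symm, mulVec_neg, mulVec_mulVec, h', one_mulVec, neg_dotProduct, dotProduct_neg,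
    dotProduct_neg, dotProduct_comm (C' *ᵥ fr A)] at this
  linarith

theorem coercive (h : PD A) : ∃ ε : ℚ, 0 < ε ∧ ∀ x : Fin n → ℚ, ε * ∑ i, x i ^ 2 ≤ x ⬝ᵥ A *ᵥ x := by
  obtain ⟨C, hC⟩ := h.exists_inv
  have hP := h.inv hC
  have hd : ∀ i, 0 < C i i := fun i => by
    have := hP.pos (Pi.single i 1) (by simp)
    simpa using this
  have key : ∀ (x : Fin n → ℚ) i, x i ^ 2 ≤ C i i * (x ⬝ᵥ A *ᵥ x) := by
    intro x i
    have e : A *ᵥ (C *ᵥ Pi.single i 1) = Pi.single i 1 := by rw [mulVec_mulVec, hC, one_mulVec]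
    have := h.nonneg (x + (-(x i / C i i)) • (C *ᵥ Pi.single i 1))
    rw [qf_add h.symm, mulVec_smul, e, dotProduct_smul, dotProduct_smul, smul_dotProduct] at this
    simp only [dotProduct_single, mul_one, smul_eq_mul, mulVec_single_one, col_apply] at this
    have h1 := hd i
    have h2 : x ⬝ᵥ A *ᵥ x + 2 * (-(x i / C i i) * x i) + -(x i / C i i) * (-(x i / C i i) * C i i)
        = x ⬝ᵥ A *ᵥ x - x i ^ 2 / C i i := by field_simp; ring
    rw [h2, sub_nonneg, div_le_iff₀ h1] at this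
    linarith
  have hT : 0 ≤ ∑ i, C i i := Finset.sum_nonneg fun i _ => (hd i).le
  refine ⟨1 / (∑ i, C i i + 1), by positivity, fun x => ?_⟩
  have h1 : ∑ i, x i ^ 2 ≤ (∑ i, C i i) * (x ⬝ᵥ A *ᵥ x) := by
    rw [Finset.sum_mul]; exact Finset.sum_le_sum fun i _ => key x i
  have h2 := h.nonneg x
  rw [one_div, inv_mul_le_iff₀ (by positivity)]
  nlinarith

end PD

/-- a rational matrix as a complex one. -/
noncomputable def cm (A : Matrix (Fin n) (Fin n) ℚ) : Matrix (Fin n) (Fin n) ℂ := A.map (Rat.castHom ℂ)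

/-- an integer vector as a complex one. -/
def zc (x : Fin n → ℤ) : Fin n → ℂ := fun i => x i

theorem cm_mul {A C : Matrix (Fin n) (Fin n) ℚ} (h : A * C = 1) : cm A * cm C = 1 := by
  rw [cm, cm, ← Matrix.map_mul, h, Matrix.map_one _ (map_zero _) (map_one _)]

theorem cm_symm {A : Matrix (Fin n) (Fin n) ℚ} (hs : ∀ i j, A i j = A j i) (i j : Fin n) :
    cm A i j = cm A j i := by
  simp only [cm, map_apply, hs i j]

theorem qf_zc (A : Matrix (Fin n) (Fin n) ℚ) (x : Fin n → ℤ) :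
    zc x ⬝ᵥ cm A *ᵥ zc x = (((fun i => (x i : ℚ)) ⬝ᵥ A *ᵥ (fun i => (x i : ℚ)) : ℚ) : ℂ) := by
  simp [dotProduct, mulVec, zc, cm]

theorem summable_pi (n : ℕ) : ∀ f : Fin n → ℤ → ℝ, (∀ i x, 0 ≤ f i x) → (∀ i, Summable (f i)) →
    Summable fun x : Fin n → ℤ => ∏ i, f i (x i) := by
  induction n with
  | zero => intro f _ _; exact Summable.of_finite
  | succ n ih =>
    intro f h0 hs
    rw [← (Fin.consEquiv fun _ : Fin (n + 1) => ℤ).summable_iff]
    have := (hs 0).mul_of_nonneg (ih (fun i => f i.succ) (fun i => h0 _) (fun i => hs _))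
      (fun x => h0 _ x) (fun x => Finset.prod_nonneg fun i _ => h0 _ _)
    refine this.congr fun p => ?_
    simp [Fin.prod_univ_succ, Fin.consEquiv]

theorem summable_one {a : ℝ} (ha : 0 < a) (b : ℝ) :
    Summable fun x : ℤ => Real.exp (-π * a * x ^ 2 + 2 * π * b * x) := by
  refine (summable_pow_mul_jacobiTheta₂_term_bound |b| ha 0).of_nonneg_of_le
    (fun _ => (Real.exp_pos _).le) fun x => ?_
  rw [pow_zero, one_mul, Real.exp_le_exp]
  have h1 : b * x ≤ |b| * |(x : ℝ)| := by rw [← abs_mul]; exact le_abs_self _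
  have := Real.pi_pos
  push_cast
  nlinarith

theorem summable_lin {A : Matrix (Fin n) (Fin n) ℚ} (h : PD A) {t : ℂ} (ht : 0 < t.re)
    (b : Fin n → ℂ) : Summable fun x : Fin n → ℤ =>
      ‖cexp (-π * t * (zc x ⬝ᵥ cm A *ᵥ zc x) + 2 * π * (b ⬝ᵥ zc x))‖ := by
  obtain ⟨ε, hε, hc⟩ := h.coercive
  have hε' : (0 : ℝ) < ε := by exact_mod_cast hε
  refine (summable_pi n (fun i x => Real.exp (-π * (t.re * ε) * x ^ 2 + 2 * π * (b i).re * x))
    (fun _ _ => (Real.exp_pos _).le) fun i => summable_one (mul_pos ht hε') _).of_nonneg_of_le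
    (fun _ => norm_nonneg _) fun x => ?_
  rw [norm_exp, ← Real.exp_sum, Real.exp_le_exp, qf_zc]
  have h1 : (ε : ℝ) * ∑ i, (x i : ℝ) ^ 2 ≤
      (((fun i => (x i : ℚ)) ⬝ᵥ A *ᵥ (fun i => (x i : ℚ)) : ℚ) : ℝ) := by
    exact_mod_cast hc fun i => (x i : ℚ)
  generalize ((fun i => (x i : ℚ)) ⬝ᵥ A *ᵥ (fun i => (x i : ℚ)) : ℚ) = Q at h1 ⊢
  have h2 : (b ⬝ᵥ zc x).re = ∑ i, (b i).re * x i := by
    simp [dotProduct, zc, re_sum]
  rw [Finset.sum_add_distrib, ← Finset.mul_sum]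
  simp only [mul_assoc (2 * π), ← Finset.mul_sum]
  simp only [add_re, mul_re, neg_re, ofReal_re, neg_im, ofReal_im, ratCast_re, ratCast_im, mul_im,
    re_ofNat, im_ofNat, h2]
  have h3 := mul_le_mul_of_nonneg_left h1 (mul_pos Real.pi_pos ht).le
  nlinarith

theorem summable_shift {A : Matrix (Fin n) (Fin n) ℚ} (h : PD A) {t : ℂ} (ht : 0 < t.re)
    (d : Fin n → ℂ) : Summable fun x : Fin n → ℤ =>
      ‖cexp (-π / t * ((zc x + d) ⬝ᵥ cm A *ᵥ (zc x + d)))‖ := by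
  have ht' : 0 < (t⁻¹).re := by
    rw [inv_re]; exact div_pos ht (normSq_pos.2 fun h0 => by simp [h0] at ht)
  refine ((summable_lin h ht' (-t⁻¹ • cm A *ᵥ d)).mul_right
    ‖cexp (-π / t * (d ⬝ᵥ cm A *ᵥ d))‖).congr fun x => ?_
  rw [← norm_mul, ← exp_add, qf_add (cm_symm h.symm), smul_dotProduct,
    dotProduct_comm (cm A *ᵥ d), smul_eq_mul]
  congr 2
  ring

theorem zc_cons (a : ℤ) (x : Fin n → ℤ) :
    zc (Fin.cons a x : Fin (n + 1) → ℤ) = Fin.cons (a : ℂ) (zc x) := by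
  funext i; refine Fin.cases rfl (fun i => rfl) i

theorem tsum_cons {f : (Fin (n + 1) → ℤ) → ℂ} (hf : Summable fun x => ‖f x‖) :
    ∑' x, f x = ∑' a : ℤ, ∑' x : Fin n → ℤ, f (Fin.cons a x) := by
  rw [← (Fin.consEquiv fun _ : Fin (n + 1) => ℤ).tsum_eq]
  exact (((Fin.consEquiv fun _ : Fin (n + 1) => ℤ).summable_iff.2 hf.of_norm)).tsum_prod

theorem tsum_cons' {f : (Fin (n + 1) → ℤ) → ℂ} (hf : Summable fun x => ‖f x‖) :
    ∑' x, f x = ∑' x : Fin n → ℤ, ∑' a : ℤ, f (Fin.cons a x) := by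
  rw [tsum_cons hf]
  exact (Summable.tsum_comm (f := fun (a : ℤ) (x : Fin n → ℤ) => f (Fin.cons a x))
    ((Fin.consEquiv fun _ : Fin (n + 1) => ℤ).summable_iff.2 hf.of_norm)).symm

theorem sqrt_mul {s : ℝ} (hs : 0 < s) {t : ℂ} (ht : t ≠ 0) :
    (t * s) ^ (1 / 2 : ℂ) = t ^ (1 / 2 : ℂ) * (s : ℂ) ^ (1 / 2 : ℂ) := by
  have hs' : (s : ℂ) ≠ 0 := by exact_mod_cast hs.ne'
  rw [cpow_def_of_ne_zero (mul_ne_zero ht hs'), cpow_def_of_ne_zero ht, cpow_def_of_ne_zero hs',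
    log_mul_ofReal s hs t ht, ← exp_add, ← ofReal_log hs.le]
  congr 1; ring

theorem poisson (n : ℕ) : ∀ (A C : Matrix (Fin n) (Fin n) ℚ), PD A → A * C = 1 →
    ∃ κ : ℂ, ∀ t : ℂ, 0 < t.re → ∀ b : Fin n → ℂ,
      ∑' x : Fin n → ℤ, cexp (-π * t * (zc x ⬝ᵥ cm A *ᵥ zc x) + 2 * π * (b ⬝ᵥ zc x)) =
      κ / (t ^ (1 / 2 : ℂ)) ^ n *
        ∑' y : Fin n → ℤ, cexp (-π / t * ((zc y + I • b) ⬝ᵥ cm C *ᵥ (zc y + I • b))) := by
  induction n with
  | zero =>
    intro A C _ _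
    refine ⟨1, fun t _ b => ?_⟩
    simp [dotProduct]
  | succ n ih =>
    intro A C hA hC
    obtain ⟨C', hC'⟩ := hA.lr.exists_inv
    obtain ⟨κ, hκ⟩ := ih _ _ hA.lr hC'
    have hs := hA.schur hC'
    obtain ⟨s, hs1⟩ : ∃ s : ℚ, s = A 0 0 - fr A ⬝ᵥ C' *ᵥ fr A := ⟨_, rfl⟩
    rw [← hs1] at hs
    have hs' : (0 : ℝ) < s := by exact_mod_cast hs
    have hsc : (s : ℂ) = cm A 0 0 - fr (cm A) ⬝ᵥ cm C' *ᵥ fr (cm A) := by
      rw [hs1]; simp [dotProduct, mulVec, cm, fr]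
    have hs0 : (s : ℂ) ≠ 0 := by exact_mod_cast hs.ne'
    have hP' := hA.lr.inv hC'
    refine ⟨κ / ((s : ℝ) : ℂ) ^ (1 / 2 : ℂ), fun t ht b => ?_⟩
    have ht0 : t ≠ 0 := fun h0 => by simp [h0] at ht
    obtain ⟨b0, b', rfl⟩ : ∃ b0 b', b = (Fin.cons b0 b' : Fin (n + 1) → ℂ) :=
      ⟨b 0, Fin.tail b, (Fin.cons_self_tail b).symm⟩
    set u := fr (cm A) with hu
    -- the mixed term
    let H : ℤ → (Fin n → ℤ) → ℂ := fun a y =>
      cexp (-π * (t * s) * a ^ 2 + 2 * π * (b0 + I * (u ⬝ᵥ cm C' *ᵥ (zc y + I • b'))) * a) *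
        cexp (-π / t * ((zc y + I • b') ⬝ᵥ cm C' *ᵥ (zc y + I • b')))
    have hts : 0 < (t * s).re := by
      simp only [mul_re, ratCast_re, ratCast_im, mul_zero, sub_zero]; exact mul_pos ht hs'
    have hH : Summable (Function.uncurry H) := by
      refine Summable.of_norm ?_
      have := (summable_one hts (b0 - u ⬝ᵥ cm C' *ᵥ b').re).mul_of_nonneg
        (summable_shift hP' ht (I • b')) (fun _ => (Real.exp_pos _).le) (fun _ => norm_nonneg _)
      refine this.congr fun p => ?_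
      simp only [Function.uncurry, H, norm_mul, norm_exp]
      congr 2
      have h1 : (u ⬝ᵥ cm C' *ᵥ zc p.2).im = 0 := by
        simp [dotProduct, mulVec, hu, fr, cm, zc, im_sum, re_sum]
      rw [mulVec_add, dotProduct_add, mulVec_smul, dotProduct_smul, smul_eq_mul]
      generalize u ⬝ᵥ cm C' *ᵥ zc p.2 = X at h1
      generalize u ⬝ᵥ cm C' *ᵥ b' = Y
      generalize t * s = T
      simp [h1, pow_two]
      left
      ring
    rw [tsum_cons (summable_lin hA ht _), tsum_cons' (summable_shift (hA.inv hC) ht _)]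
    have e1 : ∀ a : ℤ, ∑' x : Fin n → ℤ, cexp (-π * t * (zc (Fin.cons a x) ⬝ᵥ cm A *ᵥ
        zc (Fin.cons a x)) + 2 * π * ((Fin.cons b0 b' : Fin (n + 1) → ℂ) ⬝ᵥ zc (Fin.cons a x))) =
        κ / (t ^ (1 / 2 : ℂ)) ^ n * ∑' y, H a y := by
      intro a
      have := hκ t ht (b' - (t * a) • u)
      calc _ = cexp (-π * t * (cm A 0 0 * a ^ 2) + 2 * π * (b0 * a)) * ∑' x : Fin n → ℤ,
            cexp (-π * t * (zc x ⬝ᵥ cm (lr A) *ᵥ zc x) + 2 * π * ((b' - (t * a) • u) ⬝ᵥ zc x)) := by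
            rw [← tsum_mul_left]
            refine tsum_congr fun x => ?_
            rw [zc_cons, qf_cons (cm_symm hA.symm), dot_cons, ← exp_add, sub_dotProduct,
              smul_dotProduct, smul_eq_mul]
            congr 1
            change _ = _ + (_ * (zc x ⬝ᵥ lr (cm A) *ᵥ zc x) + _)
            ring
        _ = _ := by
            rw [this, mul_left_comm, ← tsum_mul_left]
            congr 1
            refine tsum_congr fun y => ?_
            simp only [H]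
            rw [← exp_add, ← exp_add, smul_sub, ← add_sub_assoc, sub_eq_add_neg (zc y + I • b'),
              qf_add (cm_symm hP'.symm), smul_smul, ← neg_smul, mulVec_smul, dotProduct_smul,
              dotProduct_smul, smul_dotProduct, dot_symm (cm_symm hP'.symm) (zc y + I • b') u, hsc]
            congr 1
            simp only [smul_eq_mul]
            generalize (zc y + I • b') ⬝ᵥ cm C' *ᵥ (zc y + I • b') = W
            generalize u ⬝ᵥ cm C' *ᵥ (zc y + I • b') = X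
            generalize u ⬝ᵥ cm C' *ᵥ u = Y
            field_simp
            ring_nf
            rw [I_sq]
            ring
    simp only [e1]
    rw [tsum_mul_left, ← hH.tsum_comm, pow_succ, div_div, mul_comm (((s : ℝ) : ℂ) ^ _), mul_assoc,
      ← sqrt_mul hs' ht0, ← div_div, div_eq_mul_one_div (κ / _), mul_assoc]
    congr 1
    rw [← tsum_mul_left]
    refine tsum_congr fun y => ?_
    simp only [H]
    rw [tsum_mul_right, tsum_exp_neg_quadratic hts, mul_assoc, ← tsum_mul_right]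
    congr 1
    refine tsum_congr fun a => ?_
    have e2 : zc (Fin.cons a y : Fin (n + 1) → ℤ) + I • (Fin.cons b0 b' : Fin (n + 1) → ℂ) =
        Fin.cons (a + I * b0) (zc y + I • b') := by
      funext i; refine Fin.cases rfl (fun i => rfl) i
    rw [e2, qf_inv_cons (cm_symm hA.symm) (cm_mul hC) (cm_mul hC') hsc hs0, ← exp_add]
    congr 1
    generalize (zc y + I • b') ⬝ᵥ cm C' *ᵥ (zc y + I • b') = W
    rw [← hu]
    generalize u ⬝ᵥ cm C' *ᵥ (zc y + I • b') = X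
    have : (a : ℂ) + I * (b0 + I * X) = a + I * b0 - X := by
      rw [mul_add, ← mul_assoc, I_mul_I]; ring
    rw [this]
    field_simp
    ring

end H10.Th
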