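import Mathlib
import Cfsg.Agent.H10.Small
import Cfsg.Agent.H10.U35P
import Cfsg.Agent.H10.U43P
import Cfsg.Agent.H10.U62P

/-! Unitary groups as stabilisers in `Co0`. -/

set_option autoImplicit false

namespace H10

open Cfsg H9 MulAction

theorem S_U43 : Nonempty (U43P.S ≃* U43) :=
  U43P.co (fun M hM => isU43_spec (List.all_eq_true.1
    (show U43P.lc.all isU43 = true by decide +kernel) M hM)) card_U43

theorem U43_psu (F : Type) [Field F] [Fintype F] (hF : Fintype.card F = 9) :
    Nonempty (U43 ≃* PSU 4 F 3) :=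
  ⟨S_U43.some.symm.trans (U43P.psu F hF).some⟩

/-- the stabiliser of `U` and `X`. -/
noncomputable abbrev U62 : Subgroup G0 := C2 ⊓ stabilizer G0 vX

theorem card_U62 : Nat.card U62 = 9196830720 := by
  have := card_of_class C2 vX {y | sqNorm (y : V) = 32 ∧ dU y = 16} (n := 4600)
    (ncard_of_P _ (fun a _ _ => decide (a = 16)) (by decide +kernel) (by simp))
    (fun g hg => ⟨(co_norm g _).trans norm_vX, (dot_of_fix hg _).trans dU_vX⟩)
    (fun y hy => tr_C2 _ _ norm_vX hy.1 (dU_vX.trans hy.2.symm))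
  rw [card_C2] at this
  exact Nat.eq_of_mul_eq_mul_left (show 0 < 4600 by norm_num) this.symm

theorem U62_psu (F : Type) [Field F] [Fintype F] (hF : Fintype.card F = 4) :
    Nonempty (U62 ≃* PSU 6 F 2) := by
  refine ⟨(U62P.co (fun M hM => ?_) card_U62).some.symm.trans (U62P.psu F hF).some⟩
  have h := U62P.lc_co M hM
  have := List.all_eq_true.1 (show U62P.lc.all
    (fun M => Nat.beq (app M cU) cU && Nat.beq (app M cX0) cX0) = true by decide +kernel) M hM
  simp only [Bool.and_eq_true, beq_iff] at this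
  exact ⟨h, coM_fixU h this.1, coM_fix h vX_eq (by rw [norm_vX]; norm_num) this.2⟩

/-- code of a vector of the 352-orbit. -/
def cZ : ℕ := 0x00100010001000100010001000100010001000100010000e0010000e00100010000e00100010000e000e000e000e000e

/-- a vector of the 352-orbit. -/
noncomputable def vZ : L := lv cZ

theorem vZ_eq : (vZ : V) = vc cZ := lv_coe (by decide +kernel)
theorem norm_vZ : sqNorm (vZ : V) = 32 := (norm_of vZ_eq).trans (by decide +kernel)
theorem dU'_vZ : dU' vZ = 8 := (dU'_of vZ_eq).trans (by decide +kernel)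
theorem dV_vZ : dV vZ = 16 := (dV_of vZ_eq).trans (by decide +kernel)

/-- the stabiliser of `U'`, `V` and `Z`. -/
noncomputable abbrev U35 : Subgroup G0 := Hs ⊓ stabilizer G0 vZ

theorem card_U35 : Nat.card U35 = 126000 := by
  have := card_of_class Hs vZ {y | sqNorm (y : V) = 32 ∧ dU' y = 8 ∧ dV y = 16} (n := 352)
    (ncard_of_P _ (fun _ b c => decide (b = 8 ∧ c = 16)) (by decide +kernel) (by simp))
    (fun g hg => ⟨(co_norm g _).trans norm_vZ, (dot_of_fix hg.1 _).trans dU'_vZ,
      (dot_of_fix hg.2 _).trans dV_vZ⟩)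
    (fun y hy => tr_Hs _ _ norm_vZ hy.1 (Or.inl (by rw [dU'_vZ]; norm_num))
      (dU'_vZ.trans hy.2.1.symm) (dV_vZ.trans hy.2.2.symm))
  rw [card_Hs] at this
  exact Nat.eq_of_mul_eq_mul_left (show 0 < 352 by norm_num) this.symm

theorem U35_psu (F : Type) [Field F] [Fintype F] (hF : Fintype.card F = 25) :
    Nonempty (U35 ≃* PSU 3 F 5) := by
  refine ⟨(U35P.co (fun M hM => ?_) card_U35).some.symm.trans (U35P.psu F hF).some⟩
  have h := U35P.lc_co M hM
  have := List.all_eq_true.1 (show U35P.lc.all (fun M => Nat.beq (app M cU') cU' &&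
    Nat.beq (app M cV) cV && Nat.beq (app M cZ) cZ) = true by decide +kernel) M hM
  simp only [Bool.and_eq_true, beq_iff] at this
  exact ⟨h, ⟨coM_fixU' h this.1.1, coM_fixV h this.1.2⟩,
    coM_fix h vZ_eq (by rw [norm_vZ]; norm_num) this.2⟩

end H10
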