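import Mathlib
import Cfsg.Agent.H29.Cert

/-!
# Invariant sets: a checker for upper bounds on groups of graph automorphisms
-/

set_option autoImplicit false
set_option linter.all false

namespace H10.R3

open H29

/-- number of bits. -/
noncomputable def cnt (s : ℕ) : ℕ := {i | s.testBit i = true}.ncard

theorem finite_bits (s : ℕ) : {i | s.testBit i = true}.Finite :=
  (Set.finite_lt_nat s).subset fun i hi => by
    have := Nat.ge_two_pow_of_testBit hi
    exact lt_of_lt_of_le Nat.lt_two_pow_self this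

theorem exists_bits {S : Set ℕ} (h : S.Finite) : ∃ s : ℕ, ∀ i, s.testBit i = true ↔ i ∈ S := by
  induction S, h using Set.Finite.induction_on with
  | empty => exact ⟨0, by simp⟩
  | @insert a S _ _ ih =>
    obtain ⟨s, hs⟩ := ih
    exact ⟨s ||| bit a, fun i => by
      rw [Nat.testBit_or, Bool.or_eq_true, hs, testBit_bit, decide_eq_true_eq, Set.mem_insert_iff,
        or_comm, eq_comm]⟩

theorem cnt_eq {s : ℕ} {S : Set ℕ} (h : ∀ i, s.testBit i = true ↔ i ∈ S) : cnt s = S.ncard :=
  congrArg Set.ncard (Set.ext h)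

theorem popc_eq_cnt {N k s : ℕ} (hk : N ≤ 2 ^ k) (h : ∀ i, s.testBit i = true → i < N) :
    popc k s = cnt s := by
  rw [popc_eq, cnt, ← Set.ncard_coe_finset]
  congr 1
  ext i
  simp only [Finset.coe_filter, Finset.mem_range, Set.mem_ofPred_eq, and_iff_right_iff_imp]
  exact fun hi => (h i hi).trans_le hk

theorem lt_of_sub_ones {N s : ℕ} (h : sub s (ones N) = true) (i : ℕ) (hi : s.testBit i = true) :
    i < N := by simpa [testBit_ones] using sub_true h hi

theorem cnt_or {a b : ℕ} (h : ∀ i, a.testBit i = true → b.testBit i = false) :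
    cnt (a ||| b) = cnt a + cnt b := by
  rw [cnt, cnt, cnt, ← Set.ncard_union_eq _ (finite_bits a) (finite_bits b)]
  · congr 1; ext i; simp
  · rw [Set.disjoint_left]
    intro i h1 h2
    rw [Set.mem_ofPred_eq, h i h1] at h2
    exact absurd h2 (by simp)

theorem cnt_bit (x : ℕ) : cnt (bit x) = 1 := by
  rw [cnt_eq (S := {x}) fun i => by simp [testBit_bit, eq_comm], Set.ncard_singleton]

theorem cnt_le {a b : ℕ} (h : ∀ i, a.testBit i = true → b.testBit i = true) : cnt a ≤ cnt b :=
  Set.ncard_le_ncard h (finite_bits b)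

theorem cnt_ones (N : ℕ) : cnt (ones N) = N := by
  rw [cnt_eq (S := Set.Iio N) fun i => by simp [testBit_ones]]; simp

/-- `r` is invariant under `K`. -/
def Inv (K : Subgroup (Equiv.Perm ℕ)) (r : ℕ) : Prop :=
  ∀ σ ∈ K, ∀ i, r.testBit (σ i) = r.testBit i

/-- `K` consists of automorphisms of the graph `A` which commute with the letters `cs`. -/
structure Ctx (N : ℕ) (nets : ℕ → Net) (A : ℕ → ℕ → Prop) (cs : List ℕ)
    (K : Subgroup (Equiv.Perm ℕ)) : Prop where
  fix : ∀ σ ∈ K, ∀ i, N ≤ i → σ i = i
  adj : ∀ σ ∈ K, ∀ x y, A x y → A (σ x) (σ y)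
  comm : ∀ σ ∈ K, ∀ c ∈ cs, ∀ i, σ (sg nets c i) = sg nets c (σ i)

theorem Ctx.mono {N : ℕ} {nets : ℕ → Net} {A : ℕ → ℕ → Prop} {cs : List ℕ}
    {K K' : Subgroup (Equiv.Perm ℕ)} (h : Ctx N nets A cs K) (h' : K' ≤ K) : Ctx N nets A cs K' :=
  ⟨fun σ hσ => h.fix σ (h' hσ), fun σ hσ => h.adj σ (h' hσ), fun σ hσ => h.comm σ (h' hσ)⟩

theorem finite_of_fix {N : ℕ} {K : Subgroup (Equiv.Perm ℕ)} (h : ∀ σ ∈ K, ∀ i, N ≤ i → σ i = i) :
    Finite K := by
  refine Finite.of_injective (fun σ : K => fun i : Fin N =>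
    (⟨σ.1 i, lt_of_fix (h σ σ.2) i.2⟩ : Fin N)) fun σ τ e => Subtype.ext (Equiv.ext fun i => ?_)
  by_cases hi : i < N
  · exact congrArg Fin.val (congrFun e ⟨i, hi⟩)
  · rw [h σ σ.2 i (by omega), h τ τ.2 i (by omega)]

theorem inv_ones {N : ℕ} {K : Subgroup (Equiv.Perm ℕ)} (h : ∀ σ ∈ K, ∀ i, N ≤ i → σ i = i) :
    Inv K (ones N) := fun σ hσ i => by
  rw [testBit_ones, testBit_ones]
  by_cases hi : i < N
  · simp [hi, lt_of_fix (h σ hσ) hi]
  · rw [h σ hσ i (by omega)]

theorem inv_bit {K : Subgroup (Equiv.Perm ℕ)} {x : ℕ} (h : ∀ σ ∈ K, σ x = x) : Inv K (bit x) :=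
  fun σ hσ i => by
    rw [testBit_bit, testBit_bit]
    congr 1
    exact propext ⟨fun e => σ.injective ((h σ hσ).trans e), fun e => e ▸ (h σ hσ).symm⟩

theorem inv_one {K : Subgroup (Equiv.Perm ℕ)} (h : ∀ σ ∈ K, σ 0 = 0) : Inv K 1 := inv_bit h

/-- The cell of the partition given by `regs` that contains `b`. -/
noncomputable def cell (b : ℕ) (regs : List ℕ) : ℕ → ℕ :=
  List.rec (motive := fun _ => ℕ → ℕ) (fun a => a) (fun r _ ih a =>
    Bool.rec (seqN (Nat.land a r) ih) (seqN (Nat.xor a (Nat.land a r)) ih) (disj b r)) regs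

theorem inv_cell {K : Subgroup (Equiv.Perm ℕ)} (b : ℕ) : ∀ (regs : List ℕ) (a : ℕ),
    (∀ r ∈ regs, Inv K r) → Inv K a → Inv K (cell b regs a)
  | [], _, _, h => h
  | r :: regs, a, h, ha => by
    have hr := h r (by simp)
    have h' : ∀ r ∈ regs, Inv K r := fun r hr => h r (by simp [hr])
    rw [show cell b (r :: regs) a = Bool.rec (seqN (Nat.land a r) (cell b regs))
      (seqN (Nat.xor a (Nat.land a r)) (cell b regs)) (disj b r) from rfl]
    cases disj b r
    · change Inv K (seqN _ _)
      rw [seqN_eq]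
      exact inv_cell b regs _ h' fun σ hσ i => by simp [land_eq, ha σ hσ, hr σ hσ]
    · change Inv K (seqN _ _)
      rw [seqN_eq]
      exact inv_cell b regs _ h' fun σ hσ i => by simp [land_eq, xor_eq, ha σ hσ, hr σ hσ]

theorem cell_sub (b : ℕ) : ∀ (regs : List ℕ) (a i : ℕ), (cell b regs a).testBit i = true →
    a.testBit i = true
  | [], _, _, h => h
  | r :: regs, a, i, h => by
    rw [show cell b (r :: regs) a = Bool.rec (seqN (Nat.land a r) (cell b regs))
      (seqN (Nat.xor a (Nat.land a r)) (cell b regs)) (disj b r) from rfl] at h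
    cases hd : disj b r
    · rw [hd] at h
      change (seqN _ _ : ℕ).testBit i = true at h
      rw [seqN_eq] at h
      have := cell_sub b regs _ i h
      simp only [land_eq, Nat.testBit_and, Bool.and_eq_true] at this
      exact this.1
    · rw [hd] at h
      change (seqN _ _ : ℕ).testBit i = true at h
      rw [seqN_eq] at h
      have := cell_sub b regs _ i h
      simp only [land_eq, xor_eq, Nat.testBit_and, Nat.testBit_xor] at this
      revert this
      cases a.testBit i <;> simp

/-- Add a bit vector to a bit-sliced counter. -/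
noncomputable def addP {α : Type} (P : List ℕ) : ℕ → (List ℕ → α) → α :=
  List.rec (motive := fun _ => ℕ → (List ℕ → α) → α)
    (fun x k => Bool.rec (k [x]) (k []) (Nat.beq x 0))
    (fun p ps ih x k => Bool.rec
      (seqN (Nat.xor p x) fun a => seqN (Nat.land p x) fun c => ih c fun Q => k (a :: Q))
      (k (p :: ps)) (Nat.beq x 0)) P

theorem addP_spec {α : Type} : ∀ (P : List ℕ) (x : ℕ), ∃ Q : List ℕ,
    (∀ k : List ℕ → α, addP P x k = k Q) ∧ ∀ i, val Q i = val P i + (x.testBit i).toNat
  | [], x => by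
    cases h : Nat.beq x 0
    · exact ⟨[x], fun k => by
        rw [show addP [] x k = Bool.rec (k [x]) (k []) (Nat.beq x 0) from rfl, h],
        fun i => by simp [val]⟩
    · exact ⟨[], fun k => by
        rw [show addP [] x k = Bool.rec (k [x]) (k []) (Nat.beq x 0) from rfl, h],
        fun i => by simp [val, beq_true.1 h]⟩
  | p :: ps, x => by
    have e : ∀ k : List ℕ → α, addP (p :: ps) x k = Bool.rec
      (seqN (Nat.xor p x) fun a => seqN (Nat.land p x) fun c => addP ps c fun Q => k (a :: Q))
      (k (p :: ps)) (Nat.beq x 0) := fun _ => rfl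
    cases h : Nat.beq x 0
    · obtain ⟨Q, h1, h2⟩ := addP_spec (α := α) ps (Nat.land p x)
      refine ⟨Nat.xor p x :: Q, fun k => ?_, fun i => ?_⟩
      · rw [e, h]
        change seqN _ _ = _
        rw [seqN_eq, seqN_eq, h1]
      · simp only [val, h2, land_eq, xor_eq, Nat.testBit_and, Nat.testBit_xor]
        cases p.testBit i <;> cases x.testBit i <;> simp <;> ring
    · exact ⟨p :: ps, fun k => by rw [e, h], fun i => by simp [beq_true.1 h]⟩

theorem val_inj : ∀ (P : List ℕ) {i j : ℕ}, val P i = val P j →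
    ∀ p ∈ P, p.testBit i = p.testBit j
  | [], _, _, _ => by simp
  | a :: P, i, j, h => by
    simp only [val] at h
    have h1 : a.testBit i = a.testBit j ∧ val P i = val P j := by
      revert h
      cases a.testBit i <;> cases a.testBit j <;> simp <;> omega
    intro p hp
    rcases List.mem_cons.1 hp with rfl | hp
    · exact h1.1
    · exact val_inj P h1.2 p hp

/-- Count the neighbours in the set of the points sent to `0` by the words `us`. -/
noncomputable def nbLoop (nets : ℕ → Net) (D : ℕ) (us : List (List ℕ)) :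
    ℕ → List ℕ → (ℕ → List ℕ → Bool) → Bool :=
  List.rec (motive := fun _ => ℕ → List ℕ → (ℕ → List ℕ → Bool) → Bool) (fun B P k => k B P)
    (fun u _ ih B P k => seqN (pullW nets u 1) fun bx => and2 (disj bx B)
      (seqN (pullW nets u D) fun r => addP P r fun Q => seqN (Nat.lor B bx) fun B' => ih B' Q k)) us

/-- The rows of the graph `A` are the images of `D`. -/
def RowOK (nets : ℕ → Net) (D : ℕ) (A : ℕ → ℕ → Prop) : Prop :=
  ∀ (u : List ℕ) (x y : ℕ), ev (sg nets) u x = 0 → (A x y ↔ D.testBit (ev (sg nets) u y) = true)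

theorem pullW_one {N : ℕ} {nets : ℕ → Net} (hn : NetsOK N nets) (u : List ℕ) :
    pullW nets u 1 = bit ((ev (sg nets) u)⁻¹ 0) := by
  apply Nat.eq_of_testBit_eq
  intro i
  rw [testBit_pullW hn, testBit_bit, Bool.eq_iff_iff, Nat.testBit_one_eq_true_iff_self_eq_zero,
    decide_eq_true_eq, Equiv.Perm.inv_eq_iff_eq, eq_comm]

theorem nbLoop_sound {N D : ℕ} {nets : ℕ → Net} {A : ℕ → ℕ → Prop} (hn : NetsOK N nets)
    (hA : RowOK nets D A) : ∀ (us : List (List ℕ)) (B : ℕ) (P : List ℕ) (k : ℕ → List ℕ → Bool),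
    (∀ y, val P y = {x | B.testBit x = true ∧ A x y}.ncard) → nbLoop nets D us B P k = true →
    ∃ B' P', (∀ y, val P' y = {x | B'.testBit x = true ∧ A x y}.ncard) ∧ k B' P' = true
  | [], B, P, _, h, hc => ⟨B, P, h, hc⟩
  | u :: us, B, P, k, h, hc => by
    rw [show nbLoop nets D (u :: us) B P k = seqN (pullW nets u 1) fun bx => and2 (disj bx B)
      (seqN (pullW nets u D) fun r => addP P r fun Q => seqN (Nat.lor B bx) fun B' =>
        nbLoop nets D us B' Q k) from rfl, seqN_eq, and2_true, seqN_eq] at hc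
    obtain ⟨Q, h1, h2⟩ := addP_spec (α := Bool) P (pullW nets u D)
    rw [h1, seqN_eq, pullW_one hn] at hc
    refine nbLoop_sound hn hA us _ Q k (fun y => ?_) hc.2
    set x0 := (ev (sg nets) u)⁻¹ 0
    have hx : B.testBit x0 = false := disj_true hc.1 (by simp [testBit_bit])
    have h3 := hA u x0 y (by simp [x0])
    rw [h2, h, testBit_pullW hn]
    cases h4 : D.testBit (ev (sg nets) u y)
    · rw [h4] at h3
      simp only [Bool.toNat_false, add_zero]
      congr 1
      ext x
      simp only [Set.mem_ofPred_eq, lor_eq, Nat.testBit_or, testBit_bit, Bool.or_eq_true,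
        decide_eq_true_eq]
      constructor
      · exact fun h => ⟨Or.inl h.1, h.2⟩
      · rintro ⟨h5 | rfl, h6⟩
        · exact ⟨h5, h6⟩
        · exact absurd (h3.1 h6) (by simp)
    · rw [h4] at h3
      rw [Bool.toNat_true, ← Set.ncard_insert_of_notMem (a := x0) (by simp [hx])
        ((finite_bits B).subset fun _ h => h.1)]
      congr 1
      ext x
      simp only [Set.mem_insert_iff, Set.mem_ofPred_eq, lor_eq, Nat.testBit_or, testBit_bit,
        Bool.or_eq_true, decide_eq_true_eq]
      constructor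
      · rintro (rfl | h)
        · exact ⟨Or.inr rfl, h3.2 rfl⟩
        · exact ⟨Or.inl h.1, h.2⟩
      · rintro ⟨h5 | rfl, h6⟩
        · exact Or.inr ⟨h5, h6⟩
        · exact Or.inl rfl

theorem inv_planes {K : Subgroup (Equiv.Perm ℕ)} {A : ℕ → ℕ → Prop}
    (hK : ∀ σ ∈ K, ∀ x y, A x y → A (σ x) (σ y)) {B : ℕ} (hB : Inv K B) {P : List ℕ}
    (h : ∀ y, val P y = {x | B.testBit x = true ∧ A x y}.ncard) : ∀ p ∈ P, Inv K p := by
  intro p hp σ hσ i
  refine val_inj P ?_ p hp
  rw [h, h, ← Set.ncard_image_of_injective {x | B.testBit x = true ∧ A x i} σ.injective]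
  congr 1
  ext x
  constructor
  · rintro ⟨h1, h2⟩
    exact ⟨σ⁻¹ x, ⟨by rw [hB _ (K.inv_mem hσ), h1], by simpa using hK _ (K.inv_mem hσ) _ _ h2⟩,
      by simp⟩
  · rintro ⟨y, ⟨h1, h2⟩, rfl⟩
    exact ⟨by rw [hB _ hσ, h1], hK _ hσ _ _ h2⟩

/-- At most one bit. -/
def le1 (S : ℕ) : Bool := Nat.beq (Nat.land S (Nat.pred S)) 0

theorem le1_spec {S : ℕ} (h : le1 S = true) {x y : ℕ} (hx : S.testBit x = true)
    (hy : S.testBit y = true) : x = y := by
  have key : ∀ x y, S.testBit x = true → S.testBit y = true → ¬ x < y := by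
    intro x y hx hy hxy
    have h1 : S % 2 ^ y ≠ 0 := fun e => by
      have := congrArg (fun n => Nat.testBit n x) e
      simp [Nat.testBit_mod_two_pow, hx, hxy] at this
    have h2 : (S - 1) / 2 ^ y = S / 2 ^ y := by
      have h3 := Nat.div_add_mod S (2 ^ y)
      have h4 := Nat.mod_lt S (Nat.two_pow_pos y)
      refine Nat.div_eq_of_lt_le ?_ ?_
      · rw [mul_comm]; omega
      · rw [add_mul, mul_comm]; omega
    have h5 := congrArg (fun n => Nat.testBit n y) (beq_true.1 h)
    simp only [land_eq, Nat.testBit_and, hy, Nat.pred_eq_sub_one, Bool.true_and,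
      Nat.zero_testBit] at h5
    rw [Nat.testBit_eq_decide_div_mod_eq, h2, ← Nat.testBit_eq_decide_div_mod_eq, hy] at h5
    exact absurd h5 (by simp)
  have := key x y hx hy
  have := key y x hy hx
  omega

/-- The sets `regs` separate the points of `S`. -/
noncomputable def sep (regs : List ℕ) : ℕ → Bool :=
  List.rec (motive := fun _ => ℕ → Bool) le1 (fun r _ ih S => Bool.rec
    (seqN (Nat.land S r) fun a => and2 (ih a) (seqN (Nat.xor S a) ih)) true (le1 S)) regs

theorem sep_spec : ∀ (regs : List ℕ) {S : ℕ}, sep regs S = true → ∀ {x y : ℕ},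
    S.testBit x = true → S.testBit y = true → (∀ r ∈ regs, r.testBit x = r.testBit y) → x = y
  | [], _, h, _, _, hx, hy, _ => le1_spec h hx hy
  | r :: regs, S, h, x, y, hx, hy, hr => by
    rw [show sep (r :: regs) S = Bool.rec (seqN (Nat.land S r) fun a => and2 (sep regs a)
      (seqN (Nat.xor S a) (sep regs))) true (le1 S) from rfl] at h
    cases h1 : le1 S
    · rw [h1] at h
      change seqN _ _ = true at h
      rw [seqN_eq, and2_true, seqN_eq] at h
      have h2 := hr r (by simp)
      have h3 : ∀ r ∈ regs, r.testBit x = r.testBit y := fun r h => hr r (by simp [h])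
      cases h4 : r.testBit y
      · exact sep_spec regs h.2 (by simp [land_eq, xor_eq, hx, h2, h4])
          (by simp [land_eq, xor_eq, hy, h4]) h3
      · exact sep_spec regs h.1 (by simp [land_eq, hx, h2, h4]) (by simp [land_eq, hy, h4]) h3
    · exact le1_spec h1 hx hy

/-- The positions where two families of planes differ. -/
noncomputable def difP (A : List ℕ) : List ℕ → ℕ :=
  List.rec (motive := fun _ => List ℕ → ℕ) (fun _ => 0)
    (fun a _ ih B => List.rec (motive := fun _ => ℕ) 0
      (fun b B' _ => Nat.lor (Nat.xor a b) (ih B')) B) A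

theorem testBit_difP : ∀ (A B : List ℕ) (i : ℕ), A.length = B.length →
    ((difP A B).testBit i = false ↔ val A i = val B i)
  | [], [], i, _ => by simp [val, show difP [] [] = 0 from rfl]
  | [], _ :: _, _, h => by simp at h
  | _ :: _, [], _, h => by simp at h
  | a :: A, b :: B, i, h => by
    rw [show difP (a :: A) (b :: B) = Nat.lor (Nat.xor a b) (difP A B) from rfl, lor_eq,
      Nat.testBit_or, Bool.or_eq_false_iff, testBit_difP A B i (by simpa using h), xor_eq,
      Nat.testBit_xor, val, val]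
    cases a.testBit i <;> cases b.testBit i <;> simp <;> omega

/-- The points moved by a network. -/
noncomputable def mov (N k : ℕ) (n : Net) : ℕ :=
  Nat.land (difP (idPl N k) (mapPull n (idPl N k))) (ones N)

theorem testBit_mov {N k : ℕ} (hk : N ≤ 2 ^ k) {n : Net} (hn : n.valid N = true) (i : ℕ) :
    (mov N k n).testBit i = false ↔ n.perm i = i := by
  rw [mov, land_eq, Nat.testBit_and, testBit_ones]
  by_cases hi : i < N
  · rw [decide_eq_true hi, Bool.and_true, testBit_difP _ _ _ (mapPull_length _ _).symm,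
      val_mapPull hn, val_idPl hk hi, val_idPl hk (lt_of_fix (fun i hi => Net.perm_fix hn hi) hi),
      eq_comm]
  · simp [hi, Net.perm_fix hn (not_lt.1 hi)]

/-- Instructions. -/
inductive Ins : Type
  | nb (us : List (List ℕ))
  | fx (x n : ℕ)
  | img (c r : ℕ)
  | cel (x : ℕ)
  | fxd (c : ℕ)

/-- Run a program. -/
noncomputable def run (N k : ℕ) (nets : ℕ → Net) (D : ℕ) (cs : List ℕ) (prog : List Ins) :
    List ℕ → Bool :=
  List.rec (motive := fun _ => List ℕ → Bool) (fun regs => sep regs (ones N))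
    (fun ins _ ih regs => Ins.rec (motive := fun _ => Bool)
      (fun us => nbLoop nets D us 0 [] fun B P =>
        and2 (Nat.beq (cell B regs (ones N)) B) (ih (List.append P regs)))
      (fun x n => seqN (bit x) fun b => seqN (cell b regs (ones N)) fun C =>
        and2 (and2 (sub b C) (Nat.ble (popc k C) n)) (ih (b :: regs)))
      (fun c r => and2 (memL c cs) (seqN ((nets c).pull (nth 0 regs r)) fun a => ih (a :: regs)))
      (fun x => seqN (cell (bit x) regs (ones N)) fun a => ih (a :: regs))
      (fun c => and2 (memL c cs) (seqN (mov N k (nets c)) fun a => ih (a :: regs))) ins) prog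

/-- The bound proved by a program. -/
def bound : List Ins → ℕ
  | [] => 1
  | .fx _ n :: l => n * bound l
  | .nb _ :: l => bound l
  | .img _ _ :: l => bound l
  | .cel _ :: l => bound l
  | .fxd _ :: l => bound l

theorem card_le_of_orbit (K : Subgroup (Equiv.Perm ℕ)) (x : ℕ) :
    Nat.card K = (MulAction.orbit K x).ncard *
      Nat.card ↥(K ⊓ MulAction.stabilizer (Equiv.Perm ℕ) x) := by
  rw [← MulAction.index_stabilizer, ← (MulAction.stabilizer K x).index_mul_card]
  congr 1
  rw [← Subgroup.card_map_of_injective K.subtype_injective]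
  congr 3
  ext σ
  simp only [Subgroup.mem_map, Subgroup.mem_inf]
  exact ⟨by rintro ⟨τ, h, rfl⟩; exact ⟨τ.2, h⟩, fun h => ⟨⟨σ, h.1⟩, h.2, rfl⟩⟩

theorem run_sound {N k D : ℕ} {nets : ℕ → Net} {A : ℕ → ℕ → Prop} {cs : List ℕ}
    (hn : NetsOK N nets) (hk : N ≤ 2 ^ k) (hA : RowOK nets D A) :
    ∀ (prog : List Ins) (regs : List ℕ) (K : Subgroup (Equiv.Perm ℕ)), Ctx N nets A cs K →
      (∀ r ∈ regs, Inv K r) → run N k nets D cs prog regs = true → Nat.card K ≤ bound prog
  | [], regs, K, hK, hr, h => by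
    have : K = ⊥ := by
      rw [Subgroup.eq_bot_iff_forall]
      intro σ hσ
      ext i
      by_cases hi : i < N
      · exact sep_spec regs h (by simp [testBit_ones, lt_of_fix (hK.fix σ hσ) hi])
          (by simp [testBit_ones, hi]) fun r h => hr r h σ hσ i
      · exact hK.fix σ hσ i (by omega)
    simp [this, bound]
  | .nb us :: l, regs, K, hK, hr, h => by
    obtain ⟨B, P, h1, h2⟩ := nbLoop_sound hn hA us 0 [] _ (by simp [val]) h
    rw [and2_true, H29.beq_true] at h2
    refine run_sound hn hk hA l _ K hK (fun r h => ?_) h2.2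
    rcases List.mem_append.1 h with h | h
    · exact inv_planes hK.adj (h2.1 ▸ inv_cell B regs _ hr (inv_ones hK.fix)) h1 r h
    · exact hr r h
  | .fx x n :: l, regs, K, hK, hr, h => by
    rw [show run N k nets D cs (.fx x n :: l) regs = seqN (bit x) fun b =>
      seqN (cell b regs (ones N)) fun C => and2 (and2 (sub b C) (Nat.ble (popc k C) n))
        (run N k nets D cs l (b :: regs)) from rfl, seqN_eq, seqN_eq, and2_true, and2_true,
      ble_true, popc_eq_cnt hk fun i hi => by simpa [testBit_ones] using cell_sub _ _ _ _ hi] at h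
    rw [card_le_of_orbit K x, bound]
    refine Nat.mul_le_mul (le_trans (Set.ncard_le_ncard ?_ (finite_bits _)) h.1.2)
      (run_sound hn hk hA l _ _ (hK.mono inf_le_left) (fun r h => ?_) h.2)
    · rintro _ ⟨σ, rfl⟩
      exact (inv_cell _ regs _ hr (inv_ones hK.fix) σ σ.2 x).trans
        (sub_true h.1.1 (by simp [testBit_bit]))
    · rcases List.mem_cons.1 h with rfl | h
      · exact inv_bit fun σ hσ => hσ.2
      · exact fun σ hσ => hr r h σ hσ.1
  | .img c j :: l, regs, K, hK, hr, h => by
    rw [show run N k nets D cs (.img c j :: l) regs = and2 (memL c cs)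
      (seqN ((nets c).pull (nth 0 regs j)) fun a => run N k nets D cs l (a :: regs)) from rfl,
      and2_true, seqN_eq, memL_true] at h
    refine run_sound hn hk hA l _ K hK (fun r h' => ?_) h.2
    rcases List.mem_cons.1 h' with rfl | h'
    · intro σ hσ i
      rw [Net.testBit_pull (hn c), Net.testBit_pull (hn c)]
      have := hK.comm σ hσ c h.1 i
      rw [sg] at this
      rw [← this]
      exact nth_forall (p := Inv K) (fun _ _ _ => by simp) hr j σ hσ _
    · exact hr r h'
  | .cel x :: l, regs, K, hK, hr, h => by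
    rw [show run N k nets D cs (.cel x :: l) regs = seqN (cell (bit x) regs (ones N))
      fun a => run N k nets D cs l (a :: regs) from rfl, seqN_eq] at h
    refine run_sound hn hk hA l _ K hK (fun r h' => ?_) h
    rcases List.mem_cons.1 h' with rfl | h'
    · exact inv_cell _ regs _ hr (inv_ones hK.fix)
    · exact hr r h'
  | .fxd c :: l, regs, K, hK, hr, h => by
    rw [show run N k nets D cs (.fxd c :: l) regs = and2 (memL c cs)
      (seqN (mov N k (nets c)) fun a => run N k nets D cs l (a :: regs)) from rfl,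
      and2_true, seqN_eq, memL_true] at h
    refine run_sound hn hk hA l _ K hK (fun r h' => ?_) h.2
    rcases List.mem_cons.1 h' with rfl | h'
    · intro σ hσ i
      rw [Bool.eq_iff_iff, ← not_iff_not, Bool.not_eq_true, Bool.not_eq_true,
        testBit_mov hk (hn c), testBit_mov hk (hn c)]
      have := hK.comm σ hσ c h.1 i
      rw [sg] at this
      rw [← this]
      exact σ.injective.eq_iff
    · exact hr r h'

end H10.R3
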