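import Mathlib
import Cfsg.Agent.H10.R3Chk

/-!
# Unions of orbits; polycyclic certificates; Sylow arguments
-/

set_option autoImplicit false
set_option linter.all false

namespace H10.R3

open H29

/-- Short-circuit disjunction. -/
noncomputable def or2 (a b : Bool) : Bool := Bool.rec b true a

@[simp] theorem or2_true {a b : Bool} : or2 a b = true ↔ a = true ∨ b = true := by
  cases a <;> cases b <;> simp [or2]

/-- Some member passes the test. -/
noncomputable def anyL {α : Type} (l : List α) (f : α → Bool) : Bool :=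
  List.rec (motive := fun _ => Bool) false (fun a _ ih => or2 (f a) ih) l

theorem anyL_true {α : Type} {l : List α} {f : α → Bool} :
    anyL l f = true ↔ ∃ a ∈ l, f a = true := by
  induction l with
  | nil => simp [anyL]
  | cons a t ih =>
    have : anyL (a :: t) f = or2 (f a) (anyL t f) := rfl
    rw [this, or2_true, ih]; simp

theorem eq_of_bits {a b : ℕ} (h : ∀ i, a.testBit i = true ↔ b.testBit i = true) : a = b :=
  Nat.eq_of_testBit_eq fun i => Bool.eq_iff_iff.2 (h i)

theorem disj_of {a b : ℕ} (h : ∀ i, a.testBit i = true → b.testBit i = false) :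
    disj a b = true := by
  rw [disj, H29.beq_true]
  apply Nat.eq_of_testBit_eq
  intro i
  rw [land_eq, Nat.testBit_and, Nat.zero_testBit]
  cases h1 : a.testBit i
  · rfl
  · rw [h i h1]; rfl

/-- The packed numbers of common points with the sets `ts`. -/
noncomputable def stat (w : ℕ) : List ℕ → ℕ → ℕ
  | [], _ => 0
  | t :: ts, S => cnt (S &&& t) + 2 ^ w * stat w ts S

/-- Kernel version of `stat`. -/
noncomputable def statK (k w : ℕ) (ts : List ℕ) (S : ℕ) : ℕ :=
  List.rec (motive := fun _ => ℕ) 0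
    (fun t _ ih => Nat.add (popc k (Nat.land S t)) (Nat.shiftLeft ih w)) ts

theorem statK_eq {N k : ℕ} (hk : N ≤ 2 ^ k) (w : ℕ) {S : ℕ} (h : ∀ i, S.testBit i = true → i < N) :
    ∀ ts : List ℕ, statK k w ts S = stat w ts S
  | [] => rfl
  | t :: ts => by
    rw [show statK k w (t :: ts) S = popc k (S &&& t) + (statK k w ts S) <<< w from rfl,
      statK_eq hk w h ts, stat, Nat.shiftLeft_eq, mul_comm,
      popc_eq_cnt hk fun i hi => h i (by simp at hi; exact hi.1)]

theorem stat_or (w : ℕ) {a b : ℕ} (h : ∀ i, a.testBit i = true → b.testBit i = false) :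
    ∀ ts : List ℕ, stat w ts (a ||| b) = stat w ts a + stat w ts b
  | [] => rfl
  | t :: ts => by
    rw [stat, stat, stat, stat_or w h ts, Nat.and_or_distrib_right, cnt_or]
    · ring
    · intro i hi
      simp only [Nat.testBit_and, Bool.and_eq_true] at hi
      simp [h i hi.1]

/-- The possible sizes of unions of blocks. -/
noncomputable def reach (it : List (ℕ × ℕ × ℕ)) : ℕ :=
  List.rec (motive := fun _ => ℕ) 1 (fun a _ ih => Nat.lor ih (Nat.shiftLeft ih a.2.1)) it

/-- The union of the blocks. -/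
noncomputable def uni (it : List (ℕ × ℕ × ℕ)) : ℕ :=
  List.rec (motive := fun _ => ℕ) 0 (fun a _ ih => Nat.lor a.1 ih) it

/-- The blocks are disjoint from each other and from `W`. -/
noncomputable def chkDisj (it : List (ℕ × ℕ × ℕ)) : ℕ → Bool :=
  List.rec (motive := fun _ => ℕ → Bool) (fun _ => true)
    (fun a _ ih W => and2 (disj W a.1) (seqN (Nat.lor W a.1) ih)) it

/-- Test all unions of blocks whose size is allowed by `AL`. -/
noncomputable def allSub (AL : ℕ) (f : ℕ → ℕ → ℕ → Bool) (it : List (ℕ × ℕ × ℕ)) :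
    ℕ → ℕ → ℕ → Bool :=
  List.rec (motive := fun _ => ℕ → ℕ → ℕ → Bool)
    (fun U s v => or2 (disj (bit s) AL) (f U s v))
    (fun a l ih U s v => or2 (disj (Nat.shiftLeft (reach (a :: l)) s) AL)
      (and2 (ih U s v) (lit (Nat.add s a.2.1) fun s' => lit (Nat.add v a.2.2) fun v' =>
        ih (Nat.lor U a.1) s' v'))) it

theorem allSub_sound {AL w S : ℕ} {ts : List ℕ} {f : ℕ → ℕ → ℕ → Bool}
    (hAL : AL.testBit (cnt S) = true) : ∀ (it : List (ℕ × ℕ × ℕ)) (U W : ℕ),
    (∀ a ∈ it, a.2.1 = cnt a.1 ∧ a.2.2 = stat w ts a.1 ∧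
      ∀ i j, a.1.testBit i = true → a.1.testBit j = true → S.testBit i = S.testBit j) →
    chkDisj it W = true → (∀ i, U.testBit i = true → W.testBit i = true) →
    (∀ i, U.testBit i = true → S.testBit i = true) →
    (∀ i, S.testBit i = true → U.testBit i = true ∨ (uni it).testBit i = true) →
    (∃ t, (reach it).testBit t = true ∧ cnt S = cnt U + t) ∧
      (allSub AL f it U (cnt U) (stat w ts U) = true → f S (cnt S) (stat w ts S) = true)
  | [], U, W, _, _, _, h4, h5 => by
    have : S = U := eq_of_bits fun i => ⟨fun h => (h5 i h).elim id fun h => by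
      simp [show uni [] = 0 from rfl] at h, h4 i⟩
    subst this
    refine ⟨⟨0, rfl, rfl⟩, fun h => ?_⟩
    rcases or2_true.1 h with h | h
    · rw [disj_true h (by simp [testBit_bit])] at hAL
      exact absurd hAL (by simp)
    · exact h
  | a :: l, U, W, h1, h2, h3, h4, h5 => by
    rw [show chkDisj (a :: l) W = and2 (disj W a.1) (seqN (Nat.lor W a.1) (chkDisj l)) from rfl,
      and2_true, seqN_eq] at h2
    obtain ⟨a1, a2, a3⟩ := h1 a (by simp)
    have h1' : ∀ a ∈ l, a.2.1 = cnt a.1 ∧ a.2.2 = stat w ts a.1 ∧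
      ∀ i j, a.1.testBit i = true → a.1.testBit j = true → S.testBit i = S.testBit j :=
      fun b hb => h1 b (by simp [hb])
    have e1 : reach (a :: l) = reach l ||| (reach l <<< a.2.1) := rfl
    have e2 : uni (a :: l) = a.1 ||| uni l := rfl
    have key : (∃ t, (reach (a :: l)).testBit t = true ∧ cnt S = cnt U + t) ∧
        (allSub AL f l U (cnt U) (stat w ts U) = true →
          allSub AL f l (U ||| a.1) (cnt U + a.2.1) (stat w ts U + a.2.2) = true →
          f S (cnt S) (stat w ts S) = true) := by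
      by_cases hc : ∃ i, a.1.testBit i = true ∧ S.testBit i = true
      · obtain ⟨i, hi1, hi2⟩ := hc
        have hd : ∀ i, U.testBit i = true → a.1.testBit i = false :=
          fun i hi => disj_true h2.1 (h3 i hi)
        obtain ⟨⟨t, t1, t2⟩, h7⟩ := allSub_sound (f := f) hAL l (U ||| a.1) (W ||| a.1) h1' h2.2
          (fun j hj => by
            simp only [Nat.testBit_or, Bool.or_eq_true] at hj ⊢
            exact hj.imp (h3 j) id)
          (fun j hj => by
            simp only [Nat.testBit_or, Bool.or_eq_true] at hj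
            exact hj.elim (h4 j) fun hj => (a3 j i hj hi1).trans hi2)
          (fun j hj => by
            have := h5 j hj
            simp only [e2, Nat.testBit_or, Bool.or_eq_true] at this ⊢
            exact or_assoc.2 this)
        rw [cnt_or hd, stat_or w hd, ← a1, ← a2] at h7
        rw [cnt_or hd, ← a1] at t2
        refine ⟨⟨a.2.1 + t, ?_, by omega⟩, fun _ h => h7 h⟩
        simp [e1, Nat.testBit_shiftLeft, t1]
      · obtain ⟨⟨t, t1, t2⟩, h7⟩ := allSub_sound (f := f) hAL l U (W ||| a.1) h1' h2.2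
          (fun j hj => by simp [h3 j hj]) h4
          (fun j hj => by
            have := h5 j hj
            simp only [e2, Nat.testBit_or, Bool.or_eq_true] at this
            rcases this with h | h | h
            · exact Or.inl h
            · exact absurd ⟨j, h, hj⟩ hc
            · exact Or.inr h)
        exact ⟨⟨t, by simp [e1, t1], t2⟩, fun h _ => h7 h⟩
    refine ⟨key.1, fun h => ?_⟩
    rw [show allSub AL f (a :: l) U (cnt U) (stat w ts U) =
      or2 (disj (Nat.shiftLeft (reach (a :: l)) (cnt U)) AL)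
      (and2 (allSub AL f l U (cnt U) (stat w ts U)) (lit (Nat.add (cnt U) a.2.1) fun s' =>
        lit (Nat.add (stat w ts U) a.2.2) fun v' =>
        allSub AL f l (Nat.lor U a.1) s' v')) from rfl, or2_true, and2_true] at h
    rcases h with h | h
    · obtain ⟨t, t1, t2⟩ := key.1
      rw [disj_true h (i := cnt S) (by simp [shl_eq, Nat.testBit_shiftLeft, t2, t1])] at hAL
      exact absurd hAL (by simp)
    · exact key.2 h.1 h.2

/-- The orbits of the sets `bs`, with their sizes and statistics. -/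
noncomputable def mkIt (k w : ℕ) (nets : ℕ → Net) (L : List ℕ) (r : ℕ) (ts bs : List ℕ) :
    (List (ℕ × ℕ × ℕ) → Bool) → Bool :=
  List.rec (motive := fun _ => (List (ℕ × ℕ × ℕ) → Bool) → Bool) (fun c => c [])
    (fun b _ ih c => lit (orb nets L r b) fun o => lit (popc k o) fun s =>
      lit (statK k w ts o) fun v => ih fun l => c ((o, s, v) :: l)) bs

theorem mkIt_eq (k w : ℕ) (nets : ℕ → Net) (L : List ℕ) (r : ℕ) (ts : List ℕ) :
    ∀ (bs : List ℕ) (c : List (ℕ × ℕ × ℕ) → Bool), mkIt k w nets L r ts bs c =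
      c (bs.map fun b => (orb nets L r b, popc k (orb nets L r b), statK k w ts (orb nets L r b)))
  | [], _ => rfl
  | _ :: bs, _ => mkIt_eq k w nets L r ts bs _

theorem sub_uni : ∀ {it : List (ℕ × ℕ × ℕ)} {a : ℕ × ℕ × ℕ}, a ∈ it → ∀ i,
    a.1.testBit i = true → (uni it).testBit i = true
  | b :: l, a, h, i, hi => by
    rw [show uni (b :: l) = b.1 ||| uni l from rfl, Nat.testBit_or, Bool.or_eq_true]
    rcases List.mem_cons.1 h with rfl | h
    · exact Or.inl hi
    · exact Or.inr (sub_uni h i hi)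

/-- Test all sets between `U` and `W` that are invariant under the letters `L`. -/
noncomputable def chkSub (N k w : ℕ) (nets : ℕ → Net) (L : List ℕ) (r : ℕ) (ts bs : List ℕ)
    (U W AL : ℕ) (f : ℕ → ℕ → ℕ → Bool) : Bool :=
  mkIt k w nets L r ts bs fun it => and2 (and2 (allL bs le1) (chkDisj it U))
    (and2 (and2 (sub W (Nat.lor U (uni it))) (sub (Nat.lor U (uni it)) (ones N)))
      (lit (popc k U) fun s => lit (statK k w ts U) fun v => allSub AL f it U s v))

theorem ev_inv {nets : ℕ → Net} {L : List ℕ} {S : ℕ}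
    (h : ∀ c ∈ L, ∀ i, S.testBit (sg nets c i) = S.testBit i) :
    ∀ w : List ℕ, (∀ c ∈ w, c ∈ L) → ∀ i, S.testBit (ev (sg nets) w i) = S.testBit i
  | [], _, _ => rfl
  | c :: w, hw, i => by
    rw [ev_cons, Equiv.Perm.mul_apply, h c (hw c (by simp)),
      ev_inv h w (fun c hc => hw c (by simp [hc]))]

theorem chkSub_sound {N k w r U W AL : ℕ} {nets : ℕ → Net} {L ts bs : List ℕ}
    {f : ℕ → ℕ → ℕ → Bool} (hn : NetsOK N nets) (hk : N ≤ 2 ^ k)
    (h : chkSub N k w nets L r ts bs U W AL f = true) {S : ℕ}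
    (h1 : ∀ c ∈ L, ∀ i, S.testBit (sg nets c i) = S.testBit i)
    (h2 : ∀ i, U.testBit i = true → S.testBit i = true)
    (h3 : ∀ i, S.testBit i = true → W.testBit i = true) (h4 : AL.testBit (cnt S) = true) :
    f S (cnt S) (stat w ts S) = true := by
  rw [chkSub, mkIt_eq] at h
  simp only [and2_true, lit_eq] at h
  obtain ⟨⟨a1, a2⟩, ⟨a3, a4⟩, a5⟩ := h
  have b1 := lt_of_sub_ones a4
  simp only [lor_eq, Nat.testBit_or, Bool.or_eq_true] at b1
  rw [popc_eq_cnt hk fun i hi => b1 i (Or.inl hi), statK_eq hk w fun i hi => b1 i (Or.inl hi)] at a5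
  refine (allSub_sound h4 _ U U (fun a ha => ?_) a2 (fun _ h => h) h2 fun i hi => ?_).2 a5
  · have b2 := fun i hi => b1 i (Or.inr (sub_uni ha i hi))
    obtain ⟨b, hb, rfl⟩ := List.mem_map.1 ha
    refine ⟨popc_eq_cnt hk b2, statK_eq hk w b2 ts, fun i j hi hj => ?_⟩
    obtain ⟨u, hu, e1⟩ := (Reach.refl nets L b).orb hn r i hi
    obtain ⟨v, hv, e2⟩ := (Reach.refl nets L b).orb hn r j hj
    rw [← ev_inv h1 u hu i, ← ev_inv h1 v hv j, le1_spec (allL_true.1 a1 b hb) e1 e2]
  · simpa using sub_true a3 (h3 i hi)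

/-- Digit number `i` is `d` whenever the set number `i` meets `U`. -/
noncomputable def reg (w U d : ℕ) (bs : List ℕ) : ℕ → Bool :=
  List.rec (motive := fun _ => ℕ → Bool) (fun _ => true)
    (fun b _ ih v => and2 (or2 (Nat.beq (Nat.land v (ones w)) d) (disj U b))
      (lit (Nat.shiftRight v w) ih)) bs

theorem cnt_lt {N w S : ℕ} (hw : N < 2 ^ w) (h : ∀ i, S.testBit i = true → i < N) (t : ℕ) :
    cnt (S &&& t) < 2 ^ w := by
  refine lt_of_le_of_lt (cnt_le (b := ones N) fun i hi => ?_) (by rwa [cnt_ones])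
  simp only [Nat.testBit_and, Bool.and_eq_true] at hi
  simp [testBit_ones, h i hi.1]

theorem ones_eq (w : ℕ) : ones w = 2 ^ w - 1 := by simp [ones, Nat.shiftLeft_eq]

theorem stat_low {N w S : ℕ} (hw : N < 2 ^ w) (h : ∀ i, S.testBit i = true → i < N) (t : ℕ)
    (ts : List ℕ) : Nat.land (stat w (t :: ts) S) (ones w) = cnt (S &&& t) := by
  rw [land_eq, ones_eq, Nat.and_two_pow_sub_one_eq_mod, stat, Nat.add_mul_mod_self_left,
    Nat.mod_eq_of_lt (cnt_lt hw h t)]

theorem stat_high {N w S : ℕ} (hw : N < 2 ^ w) (h : ∀ i, S.testBit i = true → i < N) (t : ℕ)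
    (ts : List ℕ) : Nat.shiftRight (stat w (t :: ts) S) w = stat w ts S := by
  rw [shr_eq, Nat.shiftRight_eq_div_pow, stat, Nat.add_mul_div_left _ _ (Nat.two_pow_pos w),
    Nat.div_eq_of_lt (cnt_lt hw h t), zero_add]

theorem reg_of {α : Type} {N w S d : ℕ} (hw : N < 2 ^ w) (h : ∀ i, S.testBit i = true → i < N)
    (fb ft : α → ℕ) : ∀ l : List α,
    (∀ a ∈ l, ∀ i, S.testBit i = true → (fb a).testBit i = true → cnt (S &&& ft a) = d) →
    reg w S d (l.map fb) (stat w (l.map ft) S) = true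
  | [], _ => rfl
  | a :: l, hl => by
    rw [List.map_cons, List.map_cons, show ∀ v, reg w S d (fb a :: l.map fb) v =
      and2 (or2 (Nat.beq (Nat.land v (ones w)) d) (disj S (fb a)))
      (lit (Nat.shiftRight v w) (reg w S d (l.map fb))) from fun _ => rfl, and2_true, or2_true,
      lit_eq, stat_low hw h, stat_high hw h, H29.beq_true]
    refine ⟨?_, reg_of hw h fb ft l fun b hb => hl b (by simp [hb])⟩
    by_cases hc : ∃ i, S.testBit i = true ∧ (fb a).testBit i = true
    · obtain ⟨i, h1, h2⟩ := hc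
      exact Or.inl (hl a (by simp) i h1 h2)
    · exact Or.inr (disj_of fun i hi => by
        by_contra h2
        exact hc ⟨i, hi, by simpa using h2⟩)

/-! ### Polycyclic presentations -/

section Pc

variable {G : Type*} [Group G]

/-- The letters of a polycyclic certificate. -/
noncomputable def pcL (D : List (ℕ × List ℕ × List (List ℕ))) : List ℕ :=
  List.rec (motive := fun _ => List ℕ) [] (fun a _ ih => a.1 :: ih) D

/-- The conjugation relators. -/
noncomputable def cjR (iv : ℕ → ℕ) (s : ℕ) (L : List ℕ) : List (List ℕ) → List (List ℕ) :=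
  List.rec (motive := fun _ => List (List ℕ) → List (List ℕ)) (fun _ => [])
    (fun c _ ih ws => (s :: c :: iv s :: invW iv (nth [] ws 0)) :: ih ws.tail) L

/-- The relators of a polycyclic certificate. -/
noncomputable def pcR (iv : ℕ → ℕ) (p : ℕ) (D : List (ℕ × List ℕ × List (List ℕ))) :
    List (List ℕ) :=
  List.rec (motive := fun _ => List (List ℕ)) [] (fun a l ih =>
    (powW p [a.1] ++ invW iv a.2.1) :: (cjR iv a.1 (pcL l) a.2.2 ++ ih)) D

/-- The right-hand sides use later letters only. -/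
noncomputable def pcOK (D : List (ℕ × List ℕ × List (List ℕ))) : Bool :=
  List.rec (motive := fun _ => Bool) true (fun a l ih =>
    and2 (allL (a.2.1 :: a.2.2) fun w => allL w fun c => memL c (pcL l)) ih) D

theorem cjR_spec {e : ℕ → G} {iv : ℕ → ℕ} (hiv : IvOK e iv) (s : ℕ) {H : Subgroup G} :
    ∀ (L : List ℕ) (ws : List (List ℕ)), (∀ w ∈ ws, ev e w ∈ H) →
      (∀ r ∈ cjR iv s L ws, ev e r = 1) → ∀ c ∈ L, e s * e c * (e s)⁻¹ ∈ H
  | [], _, _, _ => by simp
  | c :: L, ws, h1, h2 => by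
    rw [show cjR iv s (c :: L) ws = (s :: c :: iv s :: invW iv (nth [] ws 0)) :: cjR iv s L ws.tail
      from rfl] at h2
    intro d hd
    rcases List.mem_cons.1 hd with rfl | hd
    · have := h2 _ List.mem_cons_self
      rw [ev_cons, ev_cons, ev_cons, ev_invW hiv, hiv, ← mul_assoc, ← mul_assoc,
        mul_inv_eq_one] at this
      rw [this]
      exact nth_forall (d := []) (p := fun w => ev e w ∈ H) H.one_mem h1 0
    · exact cjR_spec hiv s L ws.tail (fun w hw => h1 w (List.mem_of_mem_tail hw))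
        (fun r hr => h2 r (List.mem_cons_of_mem _ hr)) d hd

theorem gen_cons (e : ℕ → G) (c : ℕ) (L : List ℕ) :
    gen e (c :: L) = Subgroup.zpowers (e c) ⊔ gen e L := by
  apply le_antisymm
  · refine gen_le.2 fun d hd => ?_
    rcases List.mem_cons.1 hd with rfl | hd
    · exact Subgroup.mem_sup_left (Subgroup.mem_zpowers _)
    · exact Subgroup.mem_sup_right (mem_gen hd)
  · exact sup_le (Subgroup.zpowers_le.2 (mem_gen (by simp))) (gen_mono fun c hc => by simp [hc])

theorem isPGroup_pc [Finite G] {e : ℕ → G} {iv : ℕ → ℕ} (hiv : IvOK e iv) (p : ℕ) :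
    ∀ D : List (ℕ × List ℕ × List (List ℕ)), pcOK D = true → (∀ r ∈ pcR iv p D, ev e r = 1) →
      IsPGroup p (gen e (pcL D))
  | [], _, _ => by
    rw [show pcL [] = [] from rfl, gen_nil]; exact IsPGroup.of_bot
  | a :: l, h1, h2 => by
    rw [show pcOK (a :: l) = and2 (allL (a.2.1 :: a.2.2) fun w => allL w fun c => memL c (pcL l))
      (pcOK l) from rfl, and2_true] at h1
    rw [show pcR iv p (a :: l) = (powW p [a.1] ++ invW iv a.2.1) ::
      (cjR iv a.1 (pcL l) a.2.2 ++ pcR iv p l) from rfl] at h2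
    have ih := isPGroup_pc hiv p l h1.2 fun r hr => h2 r (by simp [hr])
    have hw : ∀ w ∈ a.2.1 :: a.2.2, ev e w ∈ gen e (pcL l) := fun w hw =>
      ev_mem_gen fun c hc => memL_true.1 (allL_true.1 (allL_true.1 h1.1 w hw) c hc)
    have h3 := h2 _ List.mem_cons_self
    rw [ev_append, ev_powW, ev_invW hiv, mul_inv_eq_one, ev_cons, ev_nil, mul_one] at h3
    have h4 := cjR_spec hiv a.1 (pcL l) a.2.2 (fun w h => hw w (by simp [h]))
      fun r hr => h2 r (by simp [hr])
    rw [show pcL (a :: l) = a.1 :: pcL l from rfl, gen_cons]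
    refine IsPGroup.to_sup_of_normal_right' ?_ ih ?_
    · obtain ⟨k, hk⟩ := ih ⟨_, h3 ▸ hw _ List.mem_cons_self⟩
      have hk' : e a.1 ^ p ^ (k + 1) = 1 := by
        rw [pow_succ', pow_mul]; exact congrArg Subtype.val hk
      rintro ⟨_, n, rfl⟩
      refine ⟨k + 1, Subtype.ext ?_⟩
      change (e a.1 ^ n) ^ p ^ (k + 1) = 1
      rw [← zpow_natCast, ← zpow_mul, mul_comm, zpow_mul, zpow_natCast, hk', one_zpow]
    · rw [Subgroup.zpowers_le]
      refine Subgroup.mem_normalizer_fintype fun g hg => ?_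
      have : gen e (pcL l) ≤ (gen e (pcL l)).comap (MulAut.conj (e a.1)).toMonoidHom :=
        gen_le.2 h4
      exact this hg

/-- A subgroup whose order has the full `p`-part contains a conjugate of each `p`-subgroup. -/
theorem exists_conj_le [Finite G] {p a : ℕ} (hp : p.Prime) {H K P : Subgroup G} (hK : K ≤ H)
    (hP : P ≤ H) (h1 : IsPGroup p P) (h2 : p ^ a ∣ Nat.card K) (h3 : ¬ p ^ (a + 1) ∣ Nat.card H) :
    ∃ h ∈ H, ∀ x ∈ P, h⁻¹ * x * h ∈ K := by
  have := Fact.mk hp
  obtain ⟨Q, hQ⟩ := Sylow.exists_subgroup_card_pow_prime p (G := K.subgroupOf H) (n := a)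
    (by rwa [Nat.card_congr (Subgroup.subgroupOfEquivOfLe hK).toEquiv])
  have hQ' : Nat.card (Q.map (K.subgroupOf H).subtype) = p ^ a := by
    rw [Subgroup.card_map_of_injective (Subgroup.subtype_injective _), hQ]
  obtain ⟨S, hS⟩ := (IsPGroup.of_card hQ').exists_le_sylow
  obtain ⟨T, hT⟩ := (h1.comap_subtype (K := H)).exists_le_sylow
  obtain ⟨g, rfl⟩ := MulAction.exists_smul_eq H S T
  have e : Q.map (K.subgroupOf H).subtype = S := by
    refine Subgroup.eq_of_le_of_card_ge hS ?_
    obtain ⟨n, hn⟩ := S.2.exists_card_eq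
    rw [hQ', hn]
    refine Nat.pow_le_pow_right hp.pos (not_lt.1 fun h => h3 ?_)
    exact (pow_dvd_pow p h).trans (hn ▸ Subgroup.card_subgroup_dvd_card S.1)
  refine ⟨g, g.2, fun x hx => ?_⟩
  have h4 := hT (x := ⟨x, hP hx⟩) hx
  rw [Sylow.coe_subgroup_smul, Subgroup.mem_pointwise_smul_iff_inv_smul_mem, ← e] at h4
  obtain ⟨y, -, hy⟩ := h4
  have h5 := y.2
  rw [Subgroup.mem_subgroupOf] at h5
  have h6 := congrArg Subtype.val hy
  simp only [Subgroup.coe_subtype, MulAut.smul_def, MulAut.conj_inv_apply, Subgroup.coe_mul,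
    Subgroup.coe_inv] at h6
  rwa [← h6]

/-- The parity of a word for the signs `v`. -/
noncomputable def par (v : ℕ) (w : List ℕ) : Bool :=
  List.rec (motive := fun _ => Bool) false (fun c _ ih => Bool.xor (Nat.testBit v c) ih) w

open scoped Pointwise in
theorem exists_half [Finite G] {a : ℕ} {H K P : Subgroup G} (hK : K ≤ H) (hP : P ≤ H)
    (h1 : IsPGroup 2 P) (h2 : 2 ^ a ∣ Nat.card K) (h3 : ¬ 2 ^ (a + 2) ∣ Nat.card H) :
    ∃ h ∈ H, ∃ Q : Subgroup G, (∀ x ∈ P, ∀ y ∈ P, x * y ∈ Q ↔ (x ∈ Q ↔ y ∈ Q)) ∧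
      ∀ x ∈ Q, h⁻¹ * x * h ∈ K := by
  obtain ⟨Q, hQ⟩ := Sylow.exists_subgroup_card_pow_prime 2 (G := K.subgroupOf H) (n := a)
    (by rwa [Nat.card_congr (Subgroup.subgroupOfEquivOfLe hK).toEquiv])
  have hQ' : Nat.card (Q.map (K.subgroupOf H).subtype) = 2 ^ a := by
    rw [Subgroup.card_map_of_injective (Subgroup.subtype_injective _), hQ]
  obtain ⟨S, hS⟩ := (IsPGroup.of_card hQ').exists_le_sylow
  obtain ⟨T, hT⟩ := (h1.comap_subtype (K := H)).exists_le_sylow
  obtain ⟨g, hg⟩ := MulAction.exists_smul_eq H S T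
  set Q1 : Subgroup H := (Q.map (K.subgroupOf H).subtype).map (MulAut.conj g).toMonoidHom with hQ1
  have c1 : Nat.card Q1 = 2 ^ a := by
    rw [hQ1, Subgroup.card_map_of_injective (MulAut.conj g).injective, hQ']
  have l1 : Q1 ≤ T := by
    rintro _ ⟨x, hx, rfl⟩
    rw [← hg, Sylow.coe_subgroup_smul]
    exact Subgroup.smul_mem_pointwise_smul _ _ _ (hS hx)
  obtain ⟨n, hn⟩ := T.2.exists_card_eq
  have i1 := (Q1.subgroupOf T).index_mul_card
  rw [Nat.card_congr (Subgroup.subgroupOfEquivOfLe l1).toEquiv, c1, hn] at i1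
  have n1 : n ≤ a + 1 := not_lt.1 fun h => h3
    ((pow_dvd_pow 2 h).trans (hn ▸ Subgroup.card_subgroup_dvd_card T.1))
  have i2 : (Q1.subgroupOf T).index ∣ 2 := by
    have : (Q1.subgroupOf T).index * 2 ^ a ∣ 2 * 2 ^ a := by
      rw [i1, ← pow_succ']; exact pow_dvd_pow 2 n1
    exact Nat.dvd_of_mul_dvd_mul_right (Nat.two_pow_pos a) this
  refine ⟨g, g.2, Q1.map H.subtype, fun x hx y hy => ?_, ?_⟩
  · have key : ∀ z : T, (z.1.1 ∈ Q1.map H.subtype ↔ z ∈ Q1.subgroupOf T) := fun z =>
      Subgroup.mem_map_iff_mem (f := H.subtype) H.subtype_injective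
    let x' : T := ⟨⟨x, hP hx⟩, hT hx⟩
    let y' : T := ⟨⟨y, hP hy⟩, hT hy⟩
    refine (key (x' * y')).trans (Iff.trans ?_ (iff_congr (key x').symm (key y').symm))
    rcases (Nat.dvd_prime Nat.prime_two).1 i2 with h | h
    · simp [Subgroup.index_eq_one.1 h]
    · exact Subgroup.mul_mem_iff_of_index_two h
  · rintro _ ⟨_, ⟨_, ⟨y, -, rfl⟩, rfl⟩, rfl⟩
    have h5 := y.2
    rw [Subgroup.mem_subgroupOf] at h5
    simpa [mul_assoc] using h5

/-- A subgroup whose order has half the full `2`-part. -/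
theorem exists_conj_half [Finite G] {a n : ℕ} {H K : Subgroup G} (hK : K ≤ H) {e : ℕ → G}
    {P : Subgroup G} (hP : P ≤ H) (he : ∀ c, e c ∈ P) (h1 : IsPGroup 2 P)
    (hn : ∀ c, n ≤ c → e c = 1) (h2 : 2 ^ a ∣ Nat.card K) (h3 : ¬ 2 ^ (a + 2) ∣ Nat.card H) :
    ∃ h ∈ H, ∃ v < 2 ^ n, (∀ u w, ev e u = ev e w → par v u = par v w) ∧
      ∀ w, par v w = false → h⁻¹ * ev e w * h ∈ K := by
  obtain ⟨h, hh, Q, q1, q2⟩ := exists_half hK hP h1 h2 h3
  obtain ⟨v, hv⟩ := exists_bits (S := {c | e c ∉ Q}) ((Set.finite_lt_nat n).subset fun c hc => by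
    by_contra h4
    exact hc (by rw [hn c (not_lt.1 h4)]; exact Q.one_mem))
  have key : ∀ w, (par v w = false ↔ ev e w ∈ Q) := by
    intro w
    induction w with
    | nil => simpa [show par v [] = false from rfl] using Q.one_mem
    | cons c w ih =>
      rw [show par v (c :: w) = Bool.xor (Nat.testBit v c) (par v w) from rfl, ev_cons,
        q1 _ (he c) _ (ev_mem fun c _ => he c), ← ih]
      have := hv c
      rw [Set.mem_ofPred_eq] at this
      by_cases h5 : e c ∈ Q
      · have h6 : v.testBit c = false := by simpa [h5] using this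
        simp [h5, h6]
      · simp [h5, this.2 h5]
  refine ⟨h, hh, v, Nat.lt_pow_two_of_testBit v fun i hi => ?_, fun u w huw => ?_,
    fun w hw => q2 _ ((key w).1 hw)⟩
  · by_contra h4
    exact (hv i).1 (by simpa using h4) (by rw [hn i hi]; exact Q.one_mem)
  · have := key u
    rw [huw, ← key w] at this
    revert this
    cases par v u <;> cases par v w <;> simp

end Pc

/-- Fixed points of a permutation of prime order. -/
theorem cnt_modEq {p : ℕ} (hp : p.Prime) {σ : Equiv.Perm ℕ} (h : σ ^ p = 1) {S : ℕ}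
    (hS : ∀ i, S.testBit (σ i) = S.testBit i) :
    cnt S ≡ {i | S.testBit i = true ∧ σ i = i}.ncard [MOD p] := by
  classical
  have := Fact.mk hp
  have := (finite_bits S).fintype
  let τ : Equiv.Perm {i | S.testBit i = true} :=
    σ.subtypePerm fun i => by simp [hS]
  have h1 : τ ^ p ^ 1 = 1 := by
    ext i
    rw [pow_one, Equiv.Perm.subtypePerm_pow]
    simp [h]
  have h2 := Equiv.Perm.card_compl_support_modEq h1
  rw [cnt, ← Nat.card_coe_set_eq, Nat.card_eq_fintype_card]
  have h3 : {i | S.testBit i = true ∧ σ i = i} = 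
      Subtype.val '' (↑(τ.supportᶜ) : Set {i | S.testBit i = true}) := by
    ext i
    constructor
    · exact fun h => ⟨⟨i, h.1⟩, by simpa using Subtype.ext h.2, rfl⟩
    · rintro ⟨j, hj, rfl⟩
      exact ⟨j.2, congrArg Subtype.val (show τ j = j by simpa using hj)⟩
  rw [h3, Set.ncard_image_of_injective _ Subtype.val_injective, Set.ncard_coe_finset]
  exact h2.symm

end H10.R3
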