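import Mathlib
import Cfsg.Agent.H10.R3Sub
import Cfsg.Agent.H9.HSRank3

/-!
# Recognition of rank 3 groups from a concrete model
-/

set_option autoImplicit false
set_option linter.all false

namespace H10.R3

open H29 MulAction

section Model

variable {G0 : Type*} [Group G0]

/-- The orbital graph given by the set `D` of the neighbours of `0`. -/
def Adj (ρ : G0 →* Equiv.Perm ℕ) (D x y : ℕ) : Prop :=
  ∃ g : G0, ρ g x = 0 ∧ D.testBit (ρ g y) = true

/-- The points not adjacent to `0`. -/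
def Far (N D x : ℕ) : Prop := x < N ∧ x ≠ 0 ∧ D.testBit x = false

/-- A concrete rank 3 group. -/
structure Model (ρ : G0 →* Equiv.Perm ℕ) (N D k l b0 c0 : ℕ) : Prop where
  tr : Trans ρ N
  fix : ∀ g i, N ≤ i → ρ g i = i
  inj : Function.Injective ρ
  inv : ∀ g, ρ g 0 = 0 → ∀ y, D.testBit (ρ g y) = D.testBit y
  lt : ∀ y, D.testBit y = true → y < N
  zero : D.testBit 0 = false
  card : cnt D = k
  sum : N = 1 + k + l
  hb : D.testBit b0 = true
  hc : Far N D c0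
  tr1 : ∀ x, D.testBit x = true → ∃ g, ρ g 0 = 0 ∧ ρ g b0 = x
  tr2 : ∀ x, Far N D x → ∃ g, ρ g 0 = 0 ∧ ρ g c0 = x
  sym0 : Adj ρ D b0 0

variable {ρ : G0 →* Equiv.Perm ℕ} {N D k l b0 c0 : ℕ}

theorem adj_smul (g : G0) (x y : ℕ) : Adj ρ D (ρ g x) (ρ g y) ↔ Adj ρ D x y :=
  ⟨fun ⟨h, h1, h2⟩ => ⟨h * g, by simpa using h1, by simpa using h2⟩,
    fun ⟨h, h1, h2⟩ => ⟨h * g⁻¹, by simpa using h1, by simpa using h2⟩⟩

namespace Model

theorem adj_zero (M : Model ρ N D k l b0 c0) (y : ℕ) : Adj ρ D 0 y ↔ D.testBit y = true :=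
  ⟨fun ⟨g, h1, h2⟩ => by rwa [M.inv g h1] at h2, fun h => ⟨1, by simp, by simpa using h⟩⟩

theorem adj_iff (M : Model ρ N D k l b0 c0) {g : G0} {x : ℕ} (h : ρ g x = 0) (y : ℕ) :
    Adj ρ D x y ↔ D.testBit (ρ g y) = true := by
  rw [← adj_smul g, h, M.adj_zero]

theorem symm (M : Model ρ N D k l b0 c0) {x y : ℕ} (h : Adj ρ D x y) : Adj ρ D y x := by
  obtain ⟨g, h1, h2⟩ := h
  obtain ⟨h, h3, h4⟩ := M.tr1 _ h2
  rw [← adj_smul g, h1, ← h4, ← h3, adj_smul]
  exact M.sym0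

theorem rowOK (M : Model ρ N D k l b0 c0) {e : ℕ → G0} {nets : ℕ → Net}
    (hρ : ∀ c, ρ (e c) = sg nets c) : RowOK nets D (Adj ρ D) := fun u x y h => by
  rw [← map_ev_sg fun c _ => hρ c] at h ⊢
  exact M.adj_iff h y

theorem far_smul (M : Model ρ N D k l b0 c0) {g : G0} (h : ρ g 0 = 0) {x : ℕ} (hx : Far N D x) :
    Far N D (ρ g x) :=
  ⟨M.tr.lt g x hx.1, fun e => hx.2.1 ((ρ g).injective (e.trans h.symm)),
    (M.inv g h x).trans hx.2.2⟩

theorem ncard_far (M : Model ρ N D k l b0 c0) : {x | Far N D x}.ncard = l := by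
  have h1 : Set.Iio N = insert 0 ({x | D.testBit x = true} ∪ {x | Far N D x}) := by
    ext x
    simp only [Set.mem_Iio, Set.mem_insert_iff, Set.mem_union, Set.mem_ofPred_eq, Far]
    constructor
    · intro h
      by_cases h0 : x = 0
      · exact Or.inl h0
      · cases h2 : D.testBit x <;> simp [h, h0]
    · rintro (rfl | h | h)
      · exact M.tr.pos
      · exact M.lt x h
      · exact h.1
  have hf : {x | Far N D x}.Finite := (Set.finite_lt_nat N).subset fun x hx => hx.1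
  have h2 := congrArg Set.ncard h1
  rw [Set.ncard_insert_of_notMem (by simp [M.zero, Far]) ((finite_bits D).union hf),
    Set.ncard_union_eq (Set.disjoint_left.2 fun x h h' => by
      rw [Set.mem_ofPred_eq, h'.2.2] at h; exact absurd h (by simp)) (finite_bits D) hf] at h2
  have h3 := M.card
  have h4 := M.sum
  rw [cnt] at h3
  simp only [Set.ncard_Iio_nat] at h2
  omega

theorem finite (M : Model ρ N D k l b0 c0) : Finite G0 :=
  have := finite_of_fix (K := ρ.range) (by rintro _ ⟨g, rfl⟩; exact M.fix g)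
  Finite.of_equiv _ (MonoidHom.ofInjective M.inj).symm.toEquiv

end Model

/-- The automorphism group of the graph. -/
def AutG (ρ : G0 →* Equiv.Perm ℕ) (N D : ℕ) : Subgroup (Equiv.Perm ℕ) where
  carrier := {σ | (∀ i, N ≤ i → σ i = i) ∧ ∀ x y, Adj ρ D (σ x) (σ y) ↔ Adj ρ D x y}
  one_mem' := by simp
  mul_mem' := fun {a b} ha hb => ⟨fun i hi => by rw [Equiv.Perm.mul_apply, hb.1 i hi, ha.1 i hi],
    fun x y => by rw [Equiv.Perm.mul_apply, Equiv.Perm.mul_apply, ha.2, hb.2]⟩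
  inv_mem' := fun {a} ha => ⟨fun i hi => by rw [Equiv.Perm.inv_eq_iff_eq, ha.1 i hi],
    fun x y => by rw [← ha.2]; simp⟩

theorem ctx_autG (nets : ℕ → Net) : Ctx N nets (Adj ρ D) [] (AutG ρ N D) :=
  ⟨fun _ h => h.1, fun _ h x y => (h.2 x y).2, by simp⟩

theorem Model.range_le (M : Model ρ N D k l b0 c0) : ρ.range ≤ AutG ρ N D := by
  rintro _ ⟨g, rfl⟩
  exact ⟨M.fix g, adj_smul g⟩

/-- Subgroups of index `k` fix a neighbour. -/
def A1 (ρ : G0 →* Equiv.Perm ℕ) (D k : ℕ) : Prop :=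
  ∀ K : Subgroup G0, K ≤ stab ρ 0 → Nat.card K * k = Nat.card (stab ρ 0) →
    ∃ b, D.testBit b = true ∧ ∀ g ∈ K, ρ g b = b

/-- The graph on the neighbours is determined. -/
def U1 (ρ : G0 →* Equiv.Perm ℕ) (D k l b0 lam : ℕ) : Prop :=
  ∀ s : ℕ, (∀ i, s.testBit i = true → D.testBit i = true) → s.testBit b0 = false →
    (∀ g, ρ g 0 = 0 → ρ g b0 = b0 → ∀ i, s.testBit (ρ g i) = s.testBit i) →
    l ∣ k * (k - cnt s - 1) → cnt s + 1 < k →
    cnt s = lam ∧ ∀ y, D.testBit y = true → (s.testBit y = true ↔ Adj ρ D b0 y)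

/-- The conclusion of `A2`. -/
def Nice (ρ : G0 →* Equiv.Perm ℕ) (N D m : ℕ) : Prop :=
  ∃ (α : stab ρ 0 ≃* stab ρ 0) (π : Equiv.Perm ℕ) (c : ℕ), Far N D c ∧
    (∀ x, D.testBit x = true → D.testBit (π x) = true) ∧
    (∀ (h : stab ρ 0) x, D.testBit x = true → π (ρ h x) = ρ (α h) (π x)) ∧
    ∀ x, D.testBit x = true → (m.testBit x = true ↔ Adj ρ D c (π x))

/-- Sets of size `mu` with stabiliser of index `l` are standard. -/
def A2 (ρ : G0 →* Equiv.Perm ℕ) (N D l mu : ℕ) : Prop :=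
  ∀ (K : Subgroup G0) (m : ℕ), K ≤ stab ρ 0 → Nat.card K * l = Nat.card (stab ρ 0) →
    (∀ i, m.testBit i = true → D.testBit i = true) → cnt m = mu →
    (∀ g ∈ K, ∀ i, m.testBit (ρ g i) = m.testBit i) → Nice ρ N D m

/-- The graph on the non-neighbours is determined. -/
def U2 (ρ : G0 →* Equiv.Perm ℕ) (N D k c0 mu : ℕ) : Prop :=
  ∀ s : ℕ, (∀ i, s.testBit i = true → Far N D i) → s.testBit c0 = false →
    (∀ g, ρ g 0 = 0 → ρ g c0 = c0 → ∀ i, s.testBit (ρ g i) = s.testBit i) →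
    cnt s + mu = k → ∀ y, Far N D y → (s.testBit y = true ↔ Adj ρ D c0 y)

/-- A non-neighbour is determined by its neighbours in `D`. -/
def U3 (ρ : G0 →* Equiv.Perm ℕ) (N D c0 : ℕ) : Prop :=
  ∀ c, Far N D c → (∀ x, D.testBit x = true → Adj ρ D c0 x → Adj ρ D c x) → c = c0

section Transfer

variable {H Ω : Type*} [Group H] [MulAction H Ω] (e : H ≃* stab ρ 0)

theorem card_stab_mul [Finite H] (y : Ω) :
    Nat.card (((stabilizer H y).map e.toMonoidHom).map (stab ρ 0).subtype) * (orbit H y).ncard =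
      Nat.card (stab ρ 0) := by
  rw [Subgroup.card_map_of_injective (Subgroup.subtype_injective _),
    Subgroup.card_map_of_injective e.injective, ← index_stabilizer, mul_comm,
    Subgroup.index_mul_card, Nat.card_congr e.toEquiv]

theorem good_of_card [Finite H] {y : Ω} {y0 : ℕ} {S : Set ℕ}
    (hS : ∀ x ∈ S, ∃ g, ρ g 0 = 0 ∧ ρ g y0 = x) (hc : (orbit H y).ncard = S.ncard)
    (h : ∀ g : H, g • y = y → ρ (e g) y0 = y0) (g : H) : g • y = y ↔ ρ (e g) y0 = y0 := by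
  let φ : H →* Equiv.Perm ℕ := ρ.comp ((stab ρ 0).subtype.comp e.toMonoidHom)
  have h1 : stabilizer H y ≤ stab φ y0 := h
  let _ : MulAction H ℕ := MulAction.compHom ℕ φ
  have h2 : S ⊆ orbit H y0 := fun x hx => by
    obtain ⟨g, h1, h2⟩ := hS x hx
    exact ⟨e.symm ⟨g, h1⟩, by simpa [φ, MulAction.compHom_smul_def] using h2⟩
  have h3 := Set.ncard_le_ncard h2 (Set.finite_range _)
  rw [← hc, ← index_stabilizer, ← index_stabilizer] at h3
  have h4 : stabilizer H y0 = stab φ y0 := rfl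
  rw [h4] at h3
  have h5 : stabilizer H y = stab φ y0 := by
    refine Subgroup.eq_of_le_of_card_ge h1 ?_
    have a1 := (stabilizer H y).index_mul_card
    have a2 := (stab φ y0).index_mul_card
    have a3 : 0 < (stab φ y0).index := Nat.pos_of_ne_zero Subgroup.index_ne_zero_of_finite
    refine Nat.le_of_mul_le_mul_left ?_ a3
    rw [a2, ← a1]
    exact Nat.mul_le_mul_right _ h3
  exact SetLike.ext_iff.1 h5 g

theorem exists_transfer {y : Ω} {y0 : ℕ} (h : ∀ g : H, g • y = y ↔ ρ (e g) y0 = y0) :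
    ∃ f : Ω → ℕ, (∀ g : H, f (g • y) = ρ (e g) y0) ∧ Set.InjOn f (orbit H y) := by
  classical
  have key : ∀ g g' : H, g • y = g' • y ↔ ρ (e g) y0 = ρ (e g') y0 := fun g g' => by
    rw [← inv_smul_eq_iff, smul_smul, h, map_mul, map_inv, Subgroup.coe_mul, Subgroup.coe_inv,
      map_mul, map_inv, Equiv.Perm.mul_apply, Equiv.Perm.inv_eq_iff_eq]
  have h1 : ∀ g : H, (if hz : ∃ g' : H, g' • y = g • y then ρ (e hz.choose) y0 else 0) =
      ρ (e g) y0 := fun g => by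
    have hz : ∃ g' : H, g' • y = g • y := ⟨g, rfl⟩
    rw [dif_pos hz]
    exact (key _ _).1 hz.choose_spec
  refine ⟨fun z => if hz : ∃ g' : H, g' • y = z then ρ (e hz.choose) y0 else 0, h1, ?_⟩
  rintro _ ⟨g, rfl⟩ _ ⟨g', rfl⟩ h2
  exact (key g g').2 ((h1 g).symm.trans (h2.trans (h1 g')))

/-- Transfer a subset of an orbit. -/
theorem exists_set [Finite Ω] {y : Ω} {y0 : ℕ} (h : ∀ g : H, g • y = y ↔ ρ (e g) y0 = y0)
    (T : Set Ω) : ∃ s : ℕ, cnt s = (orbit H y ∩ T).ncard ∧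
      (∀ g : H, s.testBit (ρ (e g) y0) = true ↔ g • y ∈ T) ∧
      (∀ i, s.testBit i = true → ∃ g : H, ρ (e g) y0 = i) ∧
      ∀ g : H, (∀ z, g • z ∈ T ↔ z ∈ T) → ∀ i, s.testBit (ρ (e g) i) = s.testBit i := by
  obtain ⟨f, f1, f2⟩ := exists_transfer e h
  obtain ⟨s, hs⟩ := exists_bits ((Set.toFinite (orbit H y ∩ T)).image f)
  have a1 : ∀ g : H, s.testBit (ρ (e g) y0) = true ↔ g • y ∈ T := fun g => by
    rw [hs, ← f1]
    exact ⟨fun ⟨z, hz, e1⟩ => f2 hz.1 (mem_orbit y g) e1 ▸ hz.2,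
      fun h => ⟨_, ⟨mem_orbit y g, h⟩, rfl⟩⟩
  have a2 : ∀ i, s.testBit i = true → ∃ g : H, ρ (e g) y0 = i := fun i hi => by
    obtain ⟨_, ⟨⟨g, rfl⟩, -⟩, rfl⟩ := (hs i).1 hi
    exact ⟨g, (f1 g).symm⟩
  have a3 : ∀ g : H, (∀ z, g • z ∈ T ↔ z ∈ T) → ∀ i, s.testBit i = true →
      s.testBit (ρ (e g) i) = true := fun g hg i hi => by
    obtain ⟨g', rfl⟩ := a2 i hi
    rw [← Equiv.Perm.mul_apply, ← map_mul, ← Subgroup.coe_mul, ← map_mul, a1, mul_smul, hg, ← a1]
    exact hi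
  refine ⟨s, ?_, a1, a2, fun g hg i => Bool.eq_iff_iff.2 ⟨fun hi => ?_, a3 g hg i⟩⟩
  · rw [cnt_eq hs, Set.InjOn.ncard_image (f2.mono Set.inter_subset_left)]
  · simpa using a3 g⁻¹ (fun z => by rw [← hg, smul_inv_smul]) _ hi

end Transfer

theorem rank3_of_orbits {Γ X : Type*} [Group Γ] [MulAction Γ X] [Finite X] [IsPretransitive Γ X]
    {a b c : X} (hX : Nat.card X = 1 + k + l) (h1 : 1 < k) (h2 : k < l)
    (hb : (orbit (stabilizer Γ a) b).ncard = k) (hc : (orbit (stabilizer Γ a) c).ncard = l) :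
    H9.Rank3 Γ a (orbit (stabilizer Γ a) b) (orbit (stabilizer Γ a) c) ∧
      Disjoint (orbit (stabilizer Γ a) b) (orbit (stabilizer Γ a) c) := by
  have hn : ∀ y, 1 < (orbit (stabilizer Γ a) y).ncard → a ∉ orbit (stabilizer Γ a) y := by
    intro y hy ha
    have : orbit (stabilizer Γ a) a = {a} :=
      Set.eq_singleton_iff_unique_mem.2 ⟨mem_orbit_self a, by rintro _ ⟨g, rfl⟩; exact g.2⟩
    rw [← orbit_eq_iff.2 ha, this] at hy
    simp at hy
  have htr : ∀ y : X, ∀ u ∈ orbit (stabilizer Γ a) y, ∀ v ∈ orbit (stabilizer Γ a) y,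
      ∃ g : Γ, g • a = a ∧ g • u = v := by
    rintro y _ ⟨g, rfl⟩ _ ⟨k, rfl⟩
    refine ⟨(k * g⁻¹).1, (k * g⁻¹).2, ?_⟩
    change (k * g⁻¹) • g • y = k • y
    rw [mul_smul, inv_smul_smul]
  have h1 := hn b (by omega)
  have h2 := hn c (by omega)
  have hd : Disjoint (orbit (stabilizer Γ a) b) (orbit (stabilizer Γ a) c) := by
    rw [Set.disjoint_left]
    intro y hy hy'
    rw [← orbit_eq_iff.2 hy, orbit_eq_iff.2 hy'] at hb
    omega
  refine ⟨⟨fun y => exists_smul_eq Γ a y, ?_, h1, h2, htr b, htr c⟩, hd⟩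
  have := Set.eq_of_subset_of_ncard_le (Set.subset_univ (insert a (orbit (stabilizer Γ a) b ∪
    orbit (stabilizer Γ a) c))) (by
      rw [Set.ncard_insert_of_notMem (by simp [h1, h2]), Set.ncard_union_eq hd, Set.ncard_univ]
      omega)
  intro y
  simpa using (this ▸ Set.mem_univ y : y ∈ insert a (orbit (stabilizer Γ a) b ∪ _))

/-- The last step: an isomorphism of graphs gives an isomorphism of groups. -/
theorem iso_of_graph (M : Model ρ N D k l b0 c0) (hs : IsSimpleGroup G0) (h2 : 2 < Nat.card G0)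
    (hB : Nat.card (AutG ρ N D) ≤ 2 * Nat.card G0) {G Ω : Type*} [Group G] [MulAction G Ω]
    [FaithfulSMul G Ω] (hG : Nat.card G = Nat.card G0) (hΩ : Nat.card Ω = N) {f : Ω → ℕ}
    (f1 : Function.Injective f) (f2 : ∀ y, f y < N)
    (f3 : ∀ (g : G) x y, Adj ρ D (f (g • x)) (f (g • y)) ↔ Adj ρ D (f x) (f y)) :
    Nonempty (G ≃* G0) := by
  classical
  have : Finite Ω := Nat.finite_of_card_ne_zero (by have := M.tr.pos; omega)
  have : Finite {i // i < N} := (Set.finite_lt_nat N).to_subtype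
  let F : Ω ≃ {i // i < N} := Equiv.ofBijective (fun y => ⟨f y, f2 y⟩)
    ((Nat.bijective_iff_injective_and_card _).2 ⟨fun x y h => f1 (congrArg Subtype.val h), by
      rw [hΩ]; exact (Set.ncard_Iio_nat N).symm⟩)
  let τ : G →* Equiv.Perm ℕ := (Equiv.Perm.extendDomainHom F).comp (toPermHom G Ω)
  have t1 : Function.Injective τ :=
    (Equiv.Perm.extendDomainHom_injective F).comp toPerm_injective
  have t2 : ∀ g y, τ g (f y) = f (g • y) := fun g y =>
    Equiv.Perm.extendDomain_apply_image (toPerm g) F y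
  have t3 : ∀ g i, N ≤ i → τ g i = i := fun g i hi =>
    Equiv.Perm.extendDomain_apply_not_subtype _ F (not_lt.2 hi)
  have na : ∀ x y, Adj ρ D x y → x < N := by
    rintro x y ⟨g, h1, -⟩
    by_contra hx
    rw [M.fix g x (not_lt.1 hx)] at h1
    exact hx (h1 ▸ M.tr.pos)
  have sj : ∀ x < N, ∃ y, f y = x := fun x hx =>
    ⟨F.symm ⟨x, hx⟩, congrArg Subtype.val (F.apply_symm_apply ⟨x, hx⟩)⟩
  have t4 : τ.range ≤ AutG ρ N D := by
    rintro _ ⟨g, rfl⟩
    refine ⟨t3 g, fun x y => ?_⟩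
    by_cases hx : x < N
    · by_cases hy : y < N
      · obtain ⟨x, rfl⟩ := sj x hx
        obtain ⟨y, rfl⟩ := sj y hy
        rw [t2, t2, f3]
      · rw [t3 g y (not_lt.1 hy)]
        exact ⟨fun h => absurd (na _ _ (M.symm h)) hy, fun h => absurd (na _ _ (M.symm h)) hy⟩
    · rw [t3 g x (not_lt.1 hx)]
      exact ⟨fun h => absurd (na _ _ h) hx, fun h => absurd (na _ _ h) hx⟩
  have : Finite (AutG ρ N D) := finite_of_fix fun _ h => h.1
  have e1 := (MonoidHom.ofInjective t1).trans (Subgroup.subgroupOfEquivOfLe t4).symm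
  have e2 := (MonoidHom.ofInjective M.inj).trans (Subgroup.subgroupOfEquivOfLe M.range_le).symm
  have c1 := Nat.card_congr e1.toEquiv
  have c2 := Nat.card_congr e2.toEquiv
  have key : τ.range.subgroupOf (AutG ρ N D) = ρ.range.subgroupOf (AutG ρ N D) := by
    obtain ⟨m, hm⟩ := Subgroup.card_subgroup_dvd_card (ρ.range.subgroupOf (AutG ρ N D))
    have hp : 0 < Nat.card (AutG ρ N D) := Nat.card_pos
    rw [hm, ← c2, mul_comm 2] at hB
    have m1 := Nat.le_of_mul_le_mul_left hB (by omega)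
    have m0 : m ≠ 0 := by rintro rfl; omega
    rcases (show m = 1 ∨ m = 2 by omega) with rfl | rfl
    · rw [Subgroup.eq_top_of_card_eq (τ.range.subgroupOf _) (by omega),
        Subgroup.eq_top_of_card_eq (ρ.range.subgroupOf _) (by omega)]
    · exact H9.eq_of_index_two (e2.symm.isSimpleGroup) (by omega) (by omega) (by omega)
  exact ⟨(e1.trans (MulEquiv.subgroupCongr key)).trans e2.symm⟩

theorem recog (M : Model ρ N D k l b0 c0) {lam mu p : ℕ} (hk : 1 < k) (hkl : k < l)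
    (hp : p.Prime) (hp1 : p ∣ k + 1) (hp2 : ¬ p ∣ N) (hmu : k * (k - lam - 1) = l * mu)
    (a1 : A1 ρ D k) (u1 : U1 ρ D k l b0 lam) (a2 : A2 ρ N D l mu) (u2 : U2 ρ N D k c0 mu)
    (u3 : U3 ρ N D c0) (hs : IsSimpleGroup G0) (hG2 : 2 < Nat.card G0)
    (hB : Nat.card (AutG ρ N D) ≤ 2 * Nat.card G0)
    {G Ω : Type*} [Group G] [MulAction G Ω] [FaithfulSMul G Ω] [IsPretransitive G Ω]
    (hΩ : Nat.card Ω = N) {a b c : Ω} (e : stabilizer G a ≃* stab ρ 0)
    (hb : (orbit (stabilizer G a) b).ncard = k) (hc : (orbit (stabilizer G a) c).ncard = l) :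
    Nonempty (G ≃* G0) := by
  classical
  have : Finite Ω := Nat.finite_of_card_ne_zero (by have := M.tr.pos; omega)
  have := M.finite
  have : Finite (stabilizer G a) := Finite.of_equiv _ e.symm.toEquiv
  obtain ⟨R, hd⟩ := rank3_of_orbits (hΩ.trans M.sum) hk hkl hb hc
  obtain ⟨Γ, l', m', g1, g2, g3⟩ := R.exists_srg
    (by rintro g hg _ ⟨k, rfl⟩; exact ⟨⟨g, hg⟩ * k, mul_smul _ _ _⟩) (by omega)
    ⟨b, mem_orbit_self b⟩
  rw [hΩ, hb] at g3
  have g2' : ∀ (g : stabilizer G a) y z, Γ.Adj (g • y) (g • z) ↔ Γ.Adj y z := fun g => g2 g.1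
  have hpar : k * (k - l' - 1) = l * m' := by
    have := Fintype.ofFinite Ω
    have := (H9.srg_iff.2 g3).param_eq Γ M.tr.pos
    rwa [show N - k - 1 = l by have := M.sum; omega] at this
  -- the graph on the neighbours
  have stepB : ∀ (e : stabilizer G a ≃* stab ρ 0) (b' : Ω), b' ∈ orbit (stabilizer G a) b →
      (∀ g, g • b' = b' ↔ ρ (e g) b0 = b0) →
      l' = lam ∧ ∀ g, Γ.Adj b' (g • b') ↔ Adj ρ D b0 (ρ (e g) b0) := by
    intro e b' hb' hg
    obtain ⟨s, s1, s2, s3, s4⟩ := exists_set e hg {z | Γ.Adj b' z}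
    have hD : ∀ g : stabilizer G a, D.testBit (ρ (e g) b0) = true := fun g =>
      (M.inv _ (e g).2 b0).trans M.hb
    have s5 : cnt s = l' := by
      rw [s1, ← g3.adj a b' ((g1 b').2 hb'), orbit_eq_iff.2 hb']
      congr 1
      ext z
      simp [g1]
    have s6 : s.testBit b0 = false := by
      have := s2 1
      simpa using this
    have s7 : ∀ i, s.testBit i = true → D.testBit i = true := fun i hi => by
      obtain ⟨g, rfl⟩ := s3 i hi
      exact hD g
    have s8 : cnt s + 1 ≤ k := by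
      rw [← cnt_bit b0, ← cnt_or, ← M.card]
      · refine cnt_le fun i hi => ?_
        rw [Nat.testBit_or, Bool.or_eq_true, testBit_bit, decide_eq_true_eq] at hi
        exact hi.elim (s7 i) fun e => e ▸ M.hb
      · intro i hi
        rw [testBit_bit, decide_eq_false_iff_not]
        rintro rfl
        rw [s6] at hi
        exact absurd hi (by simp)
    have s9 : cnt s + 1 ≠ k := fun h => by
      have hm : m' = 0 := by
        rw [show k - l' - 1 = 0 by omega, mul_zero] at hpar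
        exact (Nat.mul_eq_zero.1 hpar.symm).resolve_left (by omega)
      have hp1' : (p : ℤ) ∣ k + 1 := by exact_mod_cast hp1
      have := g3.trace_dvd p hp 1 0 (by simpa [hm] using hp1')
        (by rw [hm, show (l' : ℤ) - (0 : ℕ) + 2 * 1 = k + 1 by omega]; exact hp1') (by simp [hm])
      exact hp2 (by simpa [Int.natCast_dvd_natCast] using this)
    obtain ⟨r1, r2⟩ := u1 s s7 s6 (fun g h1 h2 i => by
      have := s4 (e.symm ⟨g, h1⟩) (fun z => by
        have h3 := (hg (e.symm ⟨g, h1⟩)).2 (by simpa using h2)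
        rw [Set.mem_ofPred_eq, Set.mem_ofPred_eq, ← g2' (e.symm ⟨g, h1⟩) b' z, h3]) i
      simpa using this) (by rw [s5, hpar]; exact dvd_mul_right _ _) (by omega)
    exact ⟨s5.symm.trans r1, fun g => (s2 g).symm.trans (r2 _ (hD g))⟩
  have good1 : ∀ (e : stabilizer G a ≃* stab ρ 0) (b' : Ω), b' ∈ orbit (stabilizer G a) b →
      ∀ b1, D.testBit b1 = true → (∀ g, g • b' = b' → ρ (e g) b1 = b1) →
      ∃ h : stabilizer G a, ρ (e h) b0 = b1 ∧ ∀ g, g • h⁻¹ • b' = h⁻¹ • b' ↔ ρ (e g) b0 = b0 := by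
    intro e b' hb' b1 hb1 hg
    obtain ⟨h, h1, h2⟩ := M.tr1 b1 hb1
    refine ⟨e.symm ⟨h, h1⟩, by simpa using h2, good_of_card e (S := {i | D.testBit i = true})
      M.tr1 ?_ fun g h3 => ?_⟩
    · rw [orbit_smul, orbit_eq_iff.2 hb', hb, ← M.card, cnt]
    · have := hg (e.symm ⟨h, h1⟩ * g * (e.symm ⟨h, h1⟩)⁻¹) (by
        rw [mul_smul, mul_smul, h3, smul_inv_smul])
      simpa [← h2] using this
  obtain ⟨b1, hb1, k1⟩ := a1 _ (Subgroup.map_subtype_le _) (hb ▸ card_stab_mul e b)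
  obtain ⟨h1, -, k2⟩ := good1 e b (mem_orbit_self b) b1 hb1 fun g hg =>
    k1 _ ⟨_, ⟨g, hg, rfl⟩, rfl⟩
  have hb2 : h1⁻¹ • b ∈ orbit (stabilizer G a) b := mem_orbit _ _
  generalize h1⁻¹ • b = b2 at k2 hb2
  have hl := (stepB e b2 hb2 k2).1
  have hm : m' = mu := by
    rw [hl, hmu] at hpar
    exact (Nat.eq_of_mul_eq_mul_left (by omega) hpar).symm
  have hac : ∀ c' ∈ orbit (stabilizer G a) c, ¬ Γ.Adj a c' := fun c' h h' =>
    Set.disjoint_left.1 hd ((g1 c').1 h') h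
  have hne : ∀ c' ∈ orbit (stabilizer G a) c, a ≠ c' := fun c' h h' => R.not₂ (h' ▸ h)
  obtain ⟨m, m1, m2, m3, m4⟩ := exists_set e k2 {z | Γ.Adj c z}
  have hD : ∀ (e : stabilizer G a ≃* stab ρ 0) (g : stabilizer G a),
      D.testBit (ρ (e g) b0) = true := fun e g => (M.inv _ (e g).2 b0).trans M.hb
  obtain ⟨α, π, c1, n1, n2, n3, n4⟩ := a2 _ m (Subgroup.map_subtype_le _) (hc ▸ card_stab_mul e c)
    (fun i hi => by obtain ⟨g, rfl⟩ := m3 i hi; exact hD e g)
    (by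
      rw [m1, ← hm, ← g3.nadj a c (hne c (mem_orbit_self c)) (hac c (mem_orbit_self c)),
        orbit_eq_iff.2 hb2]
      congr 1
      ext z
      simp [g1])
    (by
      rintro _ ⟨_, ⟨g, hg, rfl⟩, rfl⟩
      exact m4 g fun z => by
        rw [Set.mem_ofPred_eq, Set.mem_ofPred_eq, ← g2' g c z, show g • c = c from hg])
  obtain ⟨h2, k3, k4⟩ := good1 (e.trans α) b2 hb2 (π b0) (n2 _ M.hb) fun g hg => by
    rw [MulEquiv.trans_apply, ← n3 _ _ M.hb, (k2 g).1 hg]
  obtain ⟨h3', k5, k6⟩ := M.tr2 c1 n1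
  obtain ⟨h3, k7⟩ := (e.trans α).surjective ⟨h3', k5⟩
  have h12 : ∀ g : stabilizer G a, Γ.Adj (h3⁻¹ • c) (g • h2⁻¹ • b2) ↔
      Adj ρ D c0 (ρ ((e.trans α) g) b0) := fun g => by
    have := (m2 (h3 * g * h2⁻¹)).symm.trans (n4 _ (hD e _))
    rw [n3 _ _ M.hb, ← k3, ← k6, ← MulEquiv.trans_apply, map_mul, map_mul, map_inv, k7] at this
    simp only [Subgroup.coe_mul, Subgroup.coe_inv, map_mul, map_inv, Equiv.Perm.mul_apply,
      Equiv.Perm.coe_inv, Equiv.symm_apply_apply, adj_smul] at this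
    rw [← this, ← g2' h3, smul_inv_smul, Set.mem_ofPred_eq, mul_smul, mul_smul]
  have hb3 : h2⁻¹ • b2 ∈ orbit (stabilizer G a) b := by
    rw [← orbit_eq_iff.2 hb2]; exact mem_orbit _ _
  have hc3 : h3⁻¹ • c ∈ orbit (stabilizer G a) c := mem_orbit _ _
  generalize h2⁻¹ • b2 = b3 at k4 h12 hb3
  generalize h3⁻¹ • c = c3 at h12 hc3
  generalize e.trans α = e3 at k4 h12
  have h11 := (stepB e3 b3 hb3 k4).2
  have hF : ∀ g : stabilizer G a, Far N D (ρ (e3 g) c0) := fun g => M.far_smul (e3 g).2 M.hc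
  have k8 : ∀ g, g • c3 = c3 ↔ ρ (e3 g) c0 = c0 := good_of_card e3 (S := {i | Far N D i}) M.tr2
    (by rw [orbit_eq_iff.2 hc3, hc, M.ncard_far]) fun g hg => u3 _ (hF g) fun x hx h => by
      obtain ⟨h', r1, rfl⟩ := M.tr1 x hx
      obtain ⟨h'', r2⟩ := e3.surjective ⟨h', r1⟩
      have r3 : h' = e3 h'' := by rw [r2]
      rw [r3, ← h12, ← hg, ← smul_inv_smul g (h'' • b3), g2', smul_smul, h12,
        ← adj_smul (e3 g : G0)] at h
      simpa [r3] using h
  obtain ⟨s, s1, s2, s3, s4⟩ := exists_set e3 k8 {z | Γ.Adj c3 z}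
  have h22 : ∀ g : stabilizer G a, Γ.Adj c3 (g • c3) ↔ Adj ρ D c0 (ρ (e3 g) c0) := fun g =>
    (s2 g).symm.trans (u2 s (fun i hi => by obtain ⟨g, rfl⟩ := s3 i hi; exact hF g)
      (by simpa using s2 1)
      (fun g h1 h2 i => by
        have := s4 (e3.symm ⟨g, h1⟩) (fun z => by
          have h3 := (k8 (e3.symm ⟨g, h1⟩)).2 (by simpa using h2)
          rw [Set.mem_ofPred_eq, Set.mem_ofPred_eq, ← g2' (e3.symm ⟨g, h1⟩) c3 z, h3]) i
        simpa using this)
      (by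
        rw [s1, ← hm, ← g3.nadj a c3 (hne c3 hc3) (hac c3 hc3), ← g3.deg c3, orbit_eq_iff.2 hc3,
          ← Set.ncard_union_eq (Set.disjoint_left.2 fun z h h' => hac z h.1 h'.1)]
        congr 1
        ext z
        simp only [Set.mem_union, Set.mem_inter_iff, Set.mem_ofPred_eq, g1]
        refine ⟨fun h => h.elim And.right And.right, fun h => ?_⟩
        rcases R.cover z with rfl | h' | h'
        · exact absurd h.symm (hac c3 hc3)
        · exact Or.inr ⟨h', h⟩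
        · exact Or.inl ⟨h', h⟩) _ (hF g))
  obtain ⟨f1, p1, q1⟩ := exists_transfer e3 k4
  obtain ⟨f2, p2, q2⟩ := exists_transfer e3 k8
  have eb := orbit_eq_iff.2 hb3
  have ec := orbit_eq_iff.2 hc3
  rw [← eb, ← ec] at R hd
  rw [← eb] at g1
  rw [← ec] at hac
  let f : Ω → ℕ := fun y => if y ∈ orbit (stabilizer G a) b3 then f1 y
    else if y ∈ orbit (stabilizer G a) c3 then f2 y else 0
  have fa : f a = 0 := by simp [f, R.not₁, R.not₂]
  have fb : ∀ g : stabilizer G a, f (g • b3) = ρ (e3 g) b0 := fun g => by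
    simp only [f, mem_orbit, if_true, p1]
  have fc : ∀ g : stabilizer G a, f (g • c3) = ρ (e3 g) c0 := fun g => by
    simp only [f, mem_orbit, if_true, p2, if_neg (Set.disjoint_right.1 hd (mem_orbit c3 g))]
  have cov : ∀ y, y = a ∨ (∃ g : stabilizer G a, g • b3 = y) ∨ ∃ g : stabilizer G a, g • c3 = y :=
    R.cover
  have feq : ∀ (g : stabilizer G a) y, f (g • y) = ρ (e3 g) (f y) := fun g y => by
    rcases cov y with rfl | ⟨h, rfl⟩ | ⟨h, rfl⟩
    · rw [show g • y = y from g.2, fa]; exact (e3 g).2.symm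
    · rw [smul_smul, fb, fb]; simp
    · rw [smul_smul, fc, fc]; simp
  have psm : ∀ (g : stabilizer G a) x y, (Γ.Adj x y ↔ Adj ρ D (f x) (f y)) →
      (Γ.Adj (g • x) (g • y) ↔ Adj ρ D (f (g • x)) (f (g • y))) := fun g x y h => by
    rw [g2', feq, feq, adj_smul, h]
  have psy : ∀ x y, (Γ.Adj x y ↔ Adj ρ D (f x) (f y)) → (Γ.Adj y x ↔ Adj ρ D (f y) (f x)) :=
    fun x y h => ⟨fun h' => M.symm (h.1 h'.symm), fun h' => (h.2 (M.symm h')).symm⟩
  have pa : ∀ y, Γ.Adj a y ↔ Adj ρ D (f a) (f y) := fun y => by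
    rw [fa, M.adj_zero]
    rcases cov y with rfl | ⟨h, rfl⟩ | ⟨h, rfl⟩
    · simp [fa, M.zero]
    · simp [fb, hD, g1]
    · simp [fc, (hF h).2.2, hac]
  have fb0 : f b3 = b0 := by simpa using fb 1
  have fc0 : f c3 = c0 := by simpa using fc 1
  have pc : ∀ y, Γ.Adj c3 y ↔ Adj ρ D (f c3) (f y) := fun y => by
    rcases cov y with rfl | ⟨h, rfl⟩ | ⟨h, rfl⟩
    · exact psy _ _ (pa _)
    · rw [fb, fc0, h12]
    · rw [fc, fc0, h22]
  have pc' : ∀ (g : stabilizer G a) y, Γ.Adj (g • c3) y ↔ Adj ρ D (f (g • c3)) (f y) :=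
    fun g y => by simpa using psm g _ _ (pc (g⁻¹ • y))
  have pb : ∀ y, Γ.Adj b3 y ↔ Adj ρ D (f b3) (f y) := fun y => by
    rcases cov y with rfl | ⟨h, rfl⟩ | ⟨h, rfl⟩
    · exact psy _ _ (pa _)
    · rw [fb, fb0, h11]
    · exact psy _ _ (pc' _ _)
  have pall : ∀ x y, Γ.Adj x y ↔ Adj ρ D (f x) (f y) := fun x y => by
    rcases cov x with rfl | ⟨h, rfl⟩ | ⟨h, rfl⟩
    · exact pa y
    · simpa using psm h _ _ (pb (h⁻¹ • y))
    · exact pc' h y
  refine iso_of_graph M hs hG2 hB (f := f) ?_ hΩ (fun x y h => ?_) (fun y => ?_)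
    fun g x y => by rw [← pall, ← pall, g2]
  · rw [R.card_eq, M.tr.card_eq, hΩ, Nat.card_congr e.toEquiv]
  · have z1 : ∀ g : stabilizer G a, ρ (e3 g) b0 ≠ 0 := fun g h => by
      have := hD e3 g
      rw [h, M.zero] at this
      exact absurd this (by simp)
    have z2 : ∀ g g' : stabilizer G a, ρ (e3 g) b0 ≠ ρ (e3 g') c0 := fun g g' h => by
      have := hD e3 g
      rw [h, (hF g').2.2] at this
      exact absurd this (by simp)
    rcases cov x with rfl | ⟨u, rfl⟩ | ⟨u, rfl⟩ <;> rcases cov y with rfl | ⟨v, rfl⟩ | ⟨v, rfl⟩ <;>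
      simp only [fa, fb, fc] at h
    · rfl
    · exact absurd h.symm (z1 _)
    · exact absurd h.symm (hF _).2.1
    · exact absurd h (z1 _)
    · exact q1 (mem_orbit _ _) (mem_orbit _ _) (by rw [p1, p1, h])
    · exact absurd h (z2 _ _)
    · exact absurd h (hF _).2.1
    · exact absurd h.symm (z2 _ _)
    · exact q2 (mem_orbit _ _) (mem_orbit _ _) (by rw [p2, p2, h])
  · rcases cov y with rfl | ⟨u, rfl⟩ | ⟨u, rfl⟩
    · rw [fa]; exact M.tr.pos
    · rw [fb]; exact M.lt _ (hD _ _)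
    · rw [fc]; exact (hF _).1

end Model

end H10.R3
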