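import Mathlib
import Cfsg.Agent.H10.R3Main

/-!
# Certificates for the hypotheses of the rank 3 recognition theorem
-/

set_option autoImplicit false
set_option linter.all false

namespace H10.R3

open H29

variable {G0 : Type*} [Group G0] {ρ : G0 →* Equiv.Perm ℕ} {N D k l b0 c0 kk : ℕ}
  {e : ℕ → G0} {nets : ℕ → Net}

/-- The letters of `L` fix the point `b`. -/
noncomputable def fixL (nets : ℕ → Net) (L : List ℕ) (b : ℕ) : Bool :=
  allL L fun c => sub (bit b) ((nets c).pull (bit b))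

theorem fixL_spec (hn : NetsOK N nets) {L : List ℕ} {b : ℕ} (h : fixL nets L b = true) :
    ∀ c ∈ L, sg nets c b = b := fun c hc => by
  have := sub_true (allL_true.1 h c hc) (i := b) (by simp [testBit_bit])
  rw [Net.testBit_pull (hn c), testBit_bit, decide_eq_true_eq] at this
  exact this.symm

theorem gen_le_stab (hn : NetsOK N nets) (hρ : ∀ c, ρ (e c) = sg nets c) {L : List ℕ} {b : ℕ}
    (h : fixL nets L b = true) : gen e L ≤ stab ρ b :=
  gen_le.2 fun c hc => by rw [mem_stab, hρ, fixL_spec hn h c hc]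

/-- The set of the points not adjacent to `0`. -/
def far (N D : ℕ) : ℕ := Nat.xor (ones N) (Nat.lor D 1)

theorem testBit_far (h : ∀ y, D.testBit y = true → y < N) (h0 : 0 < N) (x : ℕ) :
    (far N D).testBit x = true ↔ Far N D x := by
  rw [far, xor_eq, lor_eq, Nat.testBit_xor, Nat.testBit_or, testBit_ones, Far]
  have := h x
  by_cases h1 : x = 0
  · subst h1; simp [h0]
  · have h2 : Nat.testBit 1 x = false := by
      rw [← Bool.not_eq_true, Nat.testBit_one_eq_true_iff_self_eq_zero]; exact h1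
    rw [h2]
    cases h3 : D.testBit x
    · simp [h1]
    · simp [this h3]

theorem Model.far_iff (M : Model ρ N D k l b0 c0) (x : ℕ) :
    (far N D).testBit x = true ↔ Far N D x := testBit_far M.lt M.tr.pos x

/-- The word `u` sends `x` to `0`. -/
noncomputable def toZ (nets : ℕ → Net) (u : List ℕ) (x : ℕ) : Bool := sub (bit x) (pullW nets u 1)

theorem toZ_spec (hn : NetsOK N nets) {u : List ℕ} {x : ℕ} (h : toZ nets u x = true) :
    ev (sg nets) u x = 0 := by
  have := sub_true h (i := x) (by simp [testBit_bit])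
  rwa [testBit_pullW hn, Nat.testBit_one_eq_true_iff_self_eq_zero] at this

theorem Model.row (M : Model ρ N D k l b0 c0) (hn : NetsOK N nets) (hρ : ∀ c, ρ (e c) = sg nets c)
    {u : List ℕ} {x : ℕ} (h : ev (sg nets) u x = 0) (y : ℕ) :
    (pullW nets u D).testBit y = true ↔ Adj ρ D x y := by
  rw [testBit_pullW hn, M.rowOK hρ u x y h]

/-- Test of the model. -/
noncomputable def chkModel (N kk : ℕ) (nets : ℕ → Net) (D k l b0 c0 : ℕ) (L : List ℕ) (r : ℕ)
    (u : List ℕ) : Bool :=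
  and2 (and2 (and2 (sub D (ones N)) (disj 1 D)) (and2 (Nat.beq (popc kk D) k)
      (Nat.beq N (1 + k + l))))
    (and2 (and2 (and2 (sub (bit b0) D) (sub (bit c0) (far N D))) (and2 (fixL nets L 0)
      (and2 (toZ nets u b0) (sub 1 (pullW nets u D)))))
      (and2 (sub D (orb nets L r (bit b0))) (sub (far N D) (orb nets L r (bit c0)))))

theorem model_of_chk (hn : NetsOK N nets) (hk : N ≤ 2 ^ kk) (hρ : ∀ c, ρ (e c) = sg nets c)
    (tr : Trans ρ N) (fix : ∀ g i, N ≤ i → ρ g i = i) (inj : Function.Injective ρ)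
    (inv : ∀ g, ρ g 0 = 0 → ∀ y, D.testBit (ρ g y) = D.testBit y) {L u : List ℕ} {r : ℕ}
    (h : chkModel N kk nets D k l b0 c0 L r u = true) : Model ρ N D k l b0 c0 := by
  simp only [chkModel, and2_true, H29.beq_true] at h
  obtain ⟨⟨⟨h1, h2⟩, h3, h4⟩, ⟨⟨h5, h6⟩, h7, h8, h9⟩, h10, h11⟩ := h
  have a1 := lt_of_sub_ones h1
  have a2 := testBit_far a1 tr.pos
  refine ⟨tr, fix, inj, inv, a1, disj_true h2 rfl, by rw [← popc_eq_cnt hk a1, h3], h4,
    sub_true h5 (by simp [testBit_bit]), (a2 _).1 (sub_true h6 (by simp [testBit_bit])),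
    fun x hx => ?_, fun x hx => ?_, ev e u, ?_, ?_⟩
  · obtain ⟨g, g1, g2⟩ := (reach_of_chk hn h10).exists_bit (fun c _ => hρ c) hx
    exact ⟨g, gen_le_stab hn hρ h7 g1, g2⟩
  · obtain ⟨g, g1, g2⟩ := (reach_of_chk hn h11).exists_bit (fun c _ => hρ c) ((a2 x).2 hx)
    exact ⟨g, gen_le_stab hn hρ h7 g1, g2⟩
  · rw [map_ev_sg fun c _ => hρ c]; exact toZ_spec hn h8
  · rw [map_ev_sg fun c _ => hρ c, ← testBit_pullW hn]; exact sub_true h9 rfl

/-- Test of `U1`. -/
noncomputable def chkU1 (N kk : ℕ) (nets : ℕ → Net) (D k l b0 lam : ℕ) (L : List ℕ) (r : ℕ)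
    (u xs : List ℕ) (AL : ℕ) : Bool :=
  and2 (and2 (and2 (fixL nets L 0) (fixL nets L b0)) (toZ nets u b0))
    (and2 (allN k fun s => or2 (Nat.ble 1 (Nat.mod (k * (k - s - 1)) l))
        (or2 (Nat.ble k (Nat.succ s)) (sub (bit s) AL)))
      (chkSub N kk 0 nets L r [] (xs.map bit) 0 (Nat.xor D (bit b0)) AL fun U s _ =>
        and2 (Nat.beq s lam) (Nat.beq U (Nat.land (pullW nets u D) D))))

theorem u1_of_chk (M : Model ρ N D k l b0 c0) (hn : NetsOK N nets) (hk : N ≤ 2 ^ kk)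
    (hρ : ∀ c, ρ (e c) = sg nets c) {lam r AL : ℕ} {L u xs : List ℕ}
    (h : chkU1 N kk nets D k l b0 lam L r u xs AL = true) : U1 ρ D k l b0 lam := by
  simp only [chkU1, and2_true, allN_true, or2_true, ble_true] at h
  obtain ⟨⟨⟨h1, h2⟩, h3⟩, h4, h5⟩ := h
  intro s s1 s2 s3 s4 s5
  have := chkSub_sound hn hk h5 (S := s) (fun c hc i => by
      rw [← hρ]
      exact s3 _ (by rw [hρ, fixL_spec hn h1 c hc]) (by rw [hρ, fixL_spec hn h2 c hc]) i)
    (by simp) (fun i hi => by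
      rw [xor_eq, Nat.testBit_xor, s1 i hi, testBit_bit]
      have : b0 ≠ i := by rintro rfl; rw [s2] at hi; exact absurd hi (by simp)
      simp [this])
    (by
      rcases h4 (cnt s) (by omega) with h | h | h
      · rw [show ∀ a b, Nat.mod a b = a % b from fun _ _ => rfl, Nat.mod_eq_zero_of_dvd s4] at h
        omega
      · omega
      · exact sub_true h (by simp [testBit_bit]))
  rw [and2_true, H29.beq_true, H29.beq_true] at this
  refine ⟨this.1, fun y hy => ?_⟩
  rw [this.2, land_eq, Nat.testBit_and, hy, Bool.and_true, M.row hn hρ (toZ_spec hn h3)]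

/-- Test of `U2`. -/
noncomputable def chkU2 (N kk : ℕ) (nets : ℕ → Net) (D k c0 mu : ℕ) (L : List ℕ) (r : ℕ)
    (u xs : List ℕ) : Bool :=
  and2 (and2 (and2 (fixL nets L 0) (fixL nets L c0)) (toZ nets u c0))
    (chkSub N kk 0 nets L r [] (xs.map bit) 0 (Nat.xor (far N D) (bit c0)) (bit (k - mu))
      fun U _ _ => Nat.beq U (Nat.land (pullW nets u D) (far N D)))

theorem u2_of_chk (M : Model ρ N D k l b0 c0) (hn : NetsOK N nets) (hk : N ≤ 2 ^ kk)
    (hρ : ∀ c, ρ (e c) = sg nets c) {mu r : ℕ} {L u xs : List ℕ}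
    (h : chkU2 N kk nets D k c0 mu L r u xs = true) : U2 ρ N D k c0 mu := by
  simp only [chkU2, and2_true] at h
  obtain ⟨⟨⟨h1, h2⟩, h3⟩, h5⟩ := h
  intro s s1 s2 s3 s4 y hy
  have := chkSub_sound hn hk h5 (S := s) (fun c hc i => by
      rw [← hρ]
      exact s3 _ (by rw [hρ, fixL_spec hn h1 c hc]) (by rw [hρ, fixL_spec hn h2 c hc]) i)
    (by simp) (fun i hi => by
      rw [xor_eq, Nat.testBit_xor, (M.far_iff i).2 (s1 i hi), testBit_bit]
      have : c0 ≠ i := by rintro rfl; rw [s2] at hi; exact absurd hi (by simp)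
      simp [this])
    (by rw [testBit_bit, decide_eq_true_eq]; omega)
  rw [H29.beq_true] at this
  rw [this, land_eq, Nat.testBit_and, (M.far_iff y).2 hy, Bool.and_true,
    M.row hn hρ (toZ_spec hn h3)]

/-- Intersect the rows of points of `m`. -/
noncomputable def capR (nets : ℕ → Net) (D m t : ℕ) (us : List (List ℕ)) : ℕ → Bool :=
  List.rec (motive := fun _ => ℕ → Bool) (fun a => sub a t)
    (fun u _ ih a => and2 (sub (pullW nets u 1) m) (seqN (Nat.land a (pullW nets u D)) ih)) us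

theorem capR_spec (M : Model ρ N D k l b0 c0) (hn : NetsOK N nets)
    (hρ : ∀ c, ρ (e c) = sg nets c) {m t c : ℕ} (hc : ∀ x, m.testBit x = true → Adj ρ D x c) :
    ∀ (us : List (List ℕ)) (a : ℕ), capR nets D m t us a = true → a.testBit c = true →
      t.testBit c = true
  | [], _, h, ha => sub_true h ha
  | u :: us, a, h, ha => by
    rw [show capR nets D m t (u :: us) a = and2 (sub (pullW nets u 1) m)
      (seqN (Nat.land a (pullW nets u D)) (capR nets D m t us)) from rfl, and2_true, seqN_eq,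
      pullW_one hn] at h
    refine capR_spec M hn hρ hc us _ h.2 ?_
    rw [land_eq, Nat.testBit_and, ha, Bool.true_and,
      M.row hn hρ (x := (ev (sg nets) u)⁻¹ 0) (by simp)]
    exact hc _ (sub_true h.1 (by simp [testBit_bit]))

theorem u3_of_chk (M : Model ρ N D k l b0 c0) (hn : NetsOK N nets)
    (hρ : ∀ c, ρ (e c) = sg nets c) {u : List ℕ} {us : List (List ℕ)}
    (h : and2 (toZ nets u c0) (capR nets D (Nat.land (pullW nets u D) D) (bit c0) us (far N D)) =
      true) : U3 ρ N D c0 := by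
  rw [and2_true] at h
  intro c hc h1
  have := capR_spec M hn hρ (c := c) (fun x hx => by
    rw [land_eq, Nat.testBit_and, Bool.and_eq_true, M.row hn hρ (toZ_spec hn h.1)] at hx
    exact M.symm (h1 x hx.2 hx.1)) us _ h.2 ((M.far_iff c).2 hc)
  rw [testBit_bit, decide_eq_true_eq] at this
  exact this.symm

theorem aut_le (M : Model ρ N D k l b0 c0) (hn : NetsOK N nets) (hk : N ≤ 2 ^ kk)
    (hρ : ∀ c, ρ (e c) = sg nets c) {prog : List Ins} {n : ℕ}
    (h : and2 (run N kk nets D [] prog []) (Nat.ble (bound prog) n) = true) :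
    Nat.card (AutG ρ N D) ≤ n := by
  rw [and2_true, ble_true] at h
  exact (run_sound hn hk (M.rowOK hρ) prog [] _ (ctx_autG nets) (by simp) h.1).trans h.2

/-- A bound for a subgroup with given invariant sets which centralises some letters. -/
theorem card_le_run (M : Model ρ N D k l b0 c0) (hn : NetsOK N nets) (hk : N ≤ 2 ^ kk)
    (hρ : ∀ c, ρ (e c) = sg nets c) {prog : List Ins} {cs regs : List ℕ} {K : Subgroup G0}
    (h1 : ∀ g ∈ K, ∀ c ∈ cs, g * e c = e c * g)
    (h2 : ∀ r ∈ regs, ∀ g ∈ K, ∀ i, r.testBit (ρ g i) = r.testBit i)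
    (h : run N kk nets D cs prog regs = true) : Nat.card K ≤ bound prog := by
  rw [← Subgroup.card_map_of_injective M.inj]
  refine run_sound hn hk (M.rowOK hρ) prog regs _ ⟨?_, ?_, ?_⟩ ?_ h
  · rintro _ ⟨g, -, rfl⟩; exact M.fix g
  · rintro _ ⟨g, -, rfl⟩ x y; exact (adj_smul g x y).2
  · rintro _ ⟨g, hg, rfl⟩ c hc i
    rw [← hρ, ← Equiv.Perm.mul_apply, ← map_mul, h1 g hg c hc, map_mul, Equiv.Perm.mul_apply]
  · rintro r hr _ ⟨g, hg, rfl⟩; exact h2 r hr g hg

theorem inv_zero {K : Subgroup G0} (hK : K ≤ stab ρ 0) :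
    ∀ g ∈ K, ∀ i, Nat.testBit 1 (ρ g i) = Nat.testBit 1 i := fun g hg i =>
  inv_one (K := K.map ρ) (by rintro _ ⟨g, hg, rfl⟩; exact hK hg) _ ⟨g, hg, rfl⟩ i

/-- The set `U` is in the list and its stabiliser has order less than `n`. -/
noncomputable def excl (N kk : ℕ) (nets : ℕ → Net) (D n : ℕ) (exs : List (ℕ × List Ins)) (U : ℕ) :
    Bool :=
  anyL exs fun ex => and2 (Nat.beq ex.1 U)
    (and2 (run N kk nets D [] ex.2 [ex.1, 1]) (Nat.ble (Nat.succ (bound ex.2)) n))

theorem excl_spec (M : Model ρ N D k l b0 c0) (hn : NetsOK N nets) (hk : N ≤ 2 ^ kk)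
    (hρ : ∀ c, ρ (e c) = sg nets c) {n U : ℕ} {exs : List (ℕ × List Ins)}
    (h : excl N kk nets D n exs U = true) {K : Subgroup G0} (hK : K ≤ stab ρ 0)
    (hU : ∀ g ∈ K, ∀ i, U.testBit (ρ g i) = U.testBit i) : Nat.card K < n := by
  obtain ⟨ex, -, h⟩ := anyL_true.1 h
  rw [and2_true, and2_true, H29.beq_true, ble_true] at h
  refine lt_of_le_of_lt (card_le_run M hn hk hρ (by simp) ?_ h.2.1) h.2.2
  simp only [List.mem_cons, List.not_mem_nil, or_false, forall_eq_or_imp, forall_eq, h.1]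
  exact ⟨hU, inv_zero hK⟩

theorem cnt_smul {a b : ℕ} (σ : Equiv.Perm ℕ) (h : ∀ i, a.testBit (σ i) = true ↔ b.testBit i = true) :
    cnt a = cnt b := by
  rw [cnt, cnt, ← Set.ncard_image_of_injective {i | b.testBit i = true} σ.injective]
  congr 1
  ext i
  exact ⟨fun hi => ⟨σ⁻¹ i, (h _).1 (by simpa using hi), by simp⟩,
    by rintro ⟨j, hj, rfl⟩; exact (h j).2 hj⟩

theorem exists_smul_bits (σ : Equiv.Perm ℕ) (m : ℕ) :
    ∃ m' : ℕ, ∀ i, m'.testBit (σ i) = m.testBit i := by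
  obtain ⟨s, hs⟩ := exists_bits ((finite_bits m).image σ)
  exact ⟨s, fun i => Bool.eq_iff_iff.2 (by rw [hs, σ.injective.mem_set_image]; rfl)⟩

/-- The conjugate subgroup. -/
def cj (h : G0) (K : Subgroup G0) : Subgroup G0 := K.map (MulAut.conj h).toMonoidHom

theorem mem_cj {h x : G0} {K : Subgroup G0} : x ∈ cj h K ↔ h⁻¹ * x * h ∈ K :=
  ⟨by rintro ⟨y, hy, rfl⟩; simpa [mul_assoc] using hy, fun hx => ⟨_, hx, by simp [mul_assoc]⟩⟩

theorem card_cj (h : G0) (K : Subgroup G0) : Nat.card (cj h K) = Nat.card K :=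
  Subgroup.card_map_of_injective (MulAut.conj h).injective

theorem cj_le {h : G0} {K H : Subgroup G0} (hh : h ∈ H) (hK : K ≤ H) : cj h K ≤ H := by
  rintro _ ⟨y, hy, rfl⟩
  exact H.mul_mem (H.mul_mem hh (hK hy)) (H.inv_mem hh)

theorem inv_cj {h : G0} {K : Subgroup G0} {m m' : ℕ} (h1 : ∀ i, m'.testBit (ρ h i) = m.testBit i)
    (h2 : ∀ g ∈ K, ∀ i, m.testBit (ρ g i) = m.testBit i) :
    ∀ g ∈ cj h K, ∀ i, m'.testBit (ρ g i) = m'.testBit i := fun g hg i => by
  have := h2 _ (mem_cj.1 hg) (ρ h⁻¹ i)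
  rw [← h1, ← h1] at this
  simpa using this

/-- Test of `A1`. -/
noncomputable def chkA1 (N kk w : ℕ) (nets : ℕ → Net) (D k nK : ℕ) (L : List ℕ) (r : ℕ)
    (u0 : List ℕ) (us : List (List ℕ)) (AL : ℕ) (ex : ℕ → Bool) (exs : List (ℕ × List Ins)) :
    Bool :=
  and2 (and2 (fixL nets L 0) (sub (pullW nets u0 1) D))
    (and2 (allN (Nat.succ k) fun s => or2 (Nat.ble 1 (Nat.mod nK s))
        (or2 (Bool.not (ex s)) (sub (bit s) AL)))
      (chkSub N kk w nets L r (pullW nets u0 D :: us.map fun u => pullW nets u D)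
        (us.map fun u => pullW nets u 1) (pullW nets u0 1) D AL fun U _ v =>
        or2 (Nat.beq U (pullW nets u0 1))
          (or2 (Bool.not (reg w U (Nat.land v (ones w)) (us.map fun u => pullW nets u 1)
            (Nat.shiftRight v w))) (excl N kk nets D nK exs U))))

theorem a1_of_chk (M : Model ρ N D k l b0 c0) (hn : NetsOK N nets) (hk : N ≤ 2 ^ kk)
    (hρ : ∀ c, ρ (e c) = sg nets c) {w nK r AL p a : ℕ} {L u0 : List ℕ} {us : List (List ℕ)}
    {ex : ℕ → Bool} {exs : List (ℕ × List Ins)} (hw : N < 2 ^ w)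
    (hH : Nat.card (stab ρ 0) = nK * k) (hp : p.Prime) (hP : IsPGroup p (gen e L))
    (h1 : p ^ a ∣ nK) (h2 : ¬ p ^ (a + 1) ∣ nK * k)
    (hex : ∀ K : Subgroup G0, K ≤ stab ρ 0 → Nat.card K = nK → ∀ S : ℕ,
      (∀ i, S.testBit i = true → D.testBit i = true) →
      (∀ g ∈ K, ∀ i, S.testBit (ρ g i) = S.testBit i) → ex (cnt S) = true)
    (h : chkA1 N kk w nets D k nK L r u0 us AL ex exs = true) : A1 ρ D k := by
  have := M.finite
  simp only [chkA1, and2_true, allN_true, or2_true, ble_true] at h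
  obtain ⟨⟨h3, h4⟩, h5, h6⟩ := h
  rw [pullW_one hn] at h4 h6
  set x0 := (ev (sg nets) u0)⁻¹ 0
  have hx0 : D.testBit x0 = true := sub_true h4 (by simp [testBit_bit])
  have core : ∀ K : Subgroup G0, K ≤ stab ρ 0 → Nat.card K = nK → gen e L ≤ K →
      ∀ g ∈ K, ρ g x0 = x0 := by
    intro K hK hc hL
    let _ : MulAction K ℕ := MulAction.compHom ℕ (ρ.comp K.subtype)
    obtain ⟨S, hS⟩ := exists_bits (Set.finite_range fun g : K => g • x0)
    have s1 : ∀ i, S.testBit i = true → D.testBit i = true := fun i hi => by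
      obtain ⟨g, rfl⟩ := (hS i).1 hi
      exact (M.inv g (hK g.2) x0).trans hx0
    have s2 : ∀ g ∈ K, ∀ i, S.testBit (ρ g i) = S.testBit i := fun g hg i =>
      Bool.eq_iff_iff.2 (by
        rw [hS, hS]
        exact ⟨fun ⟨g', h'⟩ => ⟨(⟨g, hg⟩ : K)⁻¹ * g', by
            change ((⟨g, hg⟩ : K)⁻¹ * g') • x0 = i
            rw [mul_smul, show g' • x0 = (⟨g, hg⟩ : K) • i from h', inv_smul_smul]⟩,
          fun ⟨g', h'⟩ => ⟨⟨g, hg⟩ * g', by
            change ((⟨g, hg⟩ : K) * g') • x0 = (⟨g, hg⟩ : K) • i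
            rw [mul_smul, show g' • x0 = i from h']⟩⟩)
    have s3 : cnt S ∣ nK := by
      rw [cnt_eq hS, ← hc]
      change (MulAction.orbit K x0).ncard ∣ _
      rw [← MulAction.index_stabilizer]
      exact Subgroup.index_dvd_card _
    have s4 : S.testBit x0 = true := (hS x0).2 (MulAction.mem_orbit_self x0)
    have s5 : ∀ i, S.testBit i = true → i < N := fun i hi => M.lt i (s1 i hi)
    have := chkSub_sound hn hk h6 (S := S) (fun c hc => hρ c ▸ s2 _ (hL (mem_gen hc)))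
      (fun i hi => by rw [testBit_bit, decide_eq_true_eq] at hi; exact hi ▸ s4) s1 (by
        rcases h5 (cnt S) (Nat.lt_succ_of_le (M.card ▸ cnt_le s1)) with h | h | h
        · rw [show ∀ a b, Nat.mod a b = a % b from fun _ _ => rfl, Nat.mod_eq_zero_of_dvd s3] at h
          omega
        · rw [hex K hK hc S s1 s2] at h
          exact absurd h (by simp)
        · exact sub_true h (by simp [testBit_bit]))
    rw [or2_true, or2_true, stat_low hw s5, stat_high hw s5, H29.beq_true] at this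
    rcases this with h | h | h
    · intro g hg
      have := (s2 g hg x0).trans s4
      rw [h, testBit_bit, decide_eq_true_eq] at this
      exact this.symm
    · rw [reg_of hw s5] at h
      · exact absurd h (by simp)
      intro u _ i hi h7
      rw [pullW_one hn, testBit_bit, decide_eq_true_eq] at h7
      obtain ⟨g, hg⟩ := (hS i).1 hi
      refine cnt_smul (ρ g) fun j => ?_
      rw [Nat.testBit_and, Nat.testBit_and, s2 g g.2, Bool.and_eq_true, Bool.and_eq_true,
        M.row hn hρ (x := i) (by simp [← h7]), M.row hn hρ (x := x0) (by simp [x0]), ← hg]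
      exact and_congr_right' (adj_smul g.1 x0 j)
    · exact absurd (excl_spec M hn hk hρ h hK s2) (by omega)
  intro K hK hc
  have hk0 : 0 < k := Nat.pos_of_ne_zero (by rintro rfl; simp at h2)
  have hc' : Nat.card K = nK := Nat.eq_of_mul_eq_mul_right hk0 (hc.trans hH)
  obtain ⟨h, hh, h7⟩ := exists_conj_le hp hK (gen_le_stab hn hρ h3) hP (hc' ▸ h1) (hH ▸ h2)
  refine ⟨ρ h⁻¹ x0, (M.inv _ ((stab ρ 0).inv_mem hh) x0).trans hx0, fun g hg => ?_⟩
  have := core (cj h K) (cj_le hh hK) ((card_cj h K).trans hc') (fun x hx => mem_cj.2 (h7 x hx))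
    (h * g * h⁻¹) (mem_cj.2 (by simpa [mul_assoc] using hg))
  rw [map_mul, map_mul, Equiv.Perm.mul_apply, Equiv.Perm.mul_apply] at this
  apply (ρ h).injective
  rw [this]
  simp

/-- Sizes of invariant sets modulo a prime. -/
theorem res_of_chk (M : Model ρ N D k l b0 c0) (hn : NetsOK N nets) (hk : N ≤ 2 ^ kk)
    (hρ : ∀ c, ρ (e c) = sg nets c) {p y t nK : ℕ} (hp : p.Prime) (hy : e y ^ p = 1)
    (h1 : p ∣ nK) (h2 : ¬ p ^ 2 ∣ Nat.card (stab ρ 0))
    (h : and2 (fixL nets [y] 0) (Nat.ble (popc kk (Nat.xor D (Nat.land D (mov N kk (nets y))))) t)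
      = true) (K : Subgroup G0) (hK : K ≤ stab ρ 0) (hc : Nat.card K = nK) (S : ℕ)
    (s1 : ∀ i, S.testBit i = true → D.testBit i = true)
    (s2 : ∀ g ∈ K, ∀ i, S.testBit (ρ g i) = S.testBit i) :
    Nat.ble (Nat.mod (cnt S) p) t = true := by
  have := M.finite
  rw [and2_true, ble_true, popc_eq_cnt hk fun i hi => M.lt i (by
    revert hi
    simp only [xor_eq, land_eq, Nat.testBit_xor, Nat.testBit_and]
    cases D.testBit i <;> simp)] at h
  have hP : IsPGroup p (gen e [y]) := by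
    rw [gen_cons, gen_nil, sup_bot_eq]
    rintro ⟨_, n, rfl⟩
    refine ⟨1, Subtype.ext ?_⟩
    change (e y ^ n) ^ p ^ 1 = 1
    rw [pow_one, ← zpow_natCast, ← zpow_mul, mul_comm, zpow_mul, zpow_natCast, hy, one_zpow]
  obtain ⟨g, hg, h3⟩ := exists_conj_le (a := 1) hp hK (gen_le_stab hn hρ h.1) hP
    (by rwa [pow_one, hc]) h2
  have h4 := cnt_modEq hp (σ := ρ (g⁻¹ * e y * g)) (S := S)
    (by rw [← map_pow, show g⁻¹ * e y * g = g⁻¹ * e y * g⁻¹⁻¹ by simp, conj_pow, hy]; simp)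
    (s2 _ (h3 _ (mem_gen (by simp))))
  rw [ble_true, show Nat.mod (cnt S) p = cnt S % p from rfl, h4]
  refine (Nat.mod_le _ _).trans (le_trans ?_ h.2)
  rw [← Set.ncard_image_of_injective _ (ρ g).injective]
  refine Set.ncard_le_ncard ?_ (finite_bits _)
  rintro _ ⟨i, ⟨i1, i2⟩, rfl⟩
  have h5 : (mov N kk (nets y)).testBit (ρ g i) = false := by
    rw [testBit_mov hk (hn y)]
    change sg nets y _ = _
    rw [← hρ]
    conv_rhs => rw [← i2]
    simp
  simp [h5, M.inv g hg, s1 i i1]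

theorem nice_of_smul (M : Model ρ N D k l b0 c0) {h : G0} (hh : h ∈ stab ρ 0) {m m' : ℕ}
    (h1 : ∀ i, m'.testBit (ρ h i) = m.testBit i) (h2 : Nice ρ N D m') : Nice ρ N D m := by
  obtain ⟨α, π, c, n1, n2, n3, n4⟩ := h2
  have hD := M.inv h hh
  refine ⟨(MulAut.conj (⟨h, hh⟩ : stab ρ 0)).trans α, π * ρ h, c, n1,
    fun x hx => n2 _ ((hD x).trans hx), fun g x hx => ?_,
    fun x hx => by rw [← h1]; exact n4 _ ((hD x).trans hx)⟩
  rw [MulEquiv.trans_apply, Equiv.Perm.mul_apply, Equiv.Perm.mul_apply,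
    ← n3 _ _ ((hD x).trans hx)]
  simp

theorem nice_row (M : Model ρ N D k l b0 c0) (hn : NetsOK N nets) (hρ : ∀ c, ρ (e c) = sg nets c)
    {u : List ℕ} (h : sub (pullW nets u 1) (far N D) = true) :
    Nice ρ N D (Nat.land (pullW nets u D) D) := by
  rw [pullW_one hn] at h
  exact ⟨MulEquiv.refl _, 1, (ev (sg nets) u)⁻¹ 0,
    (M.far_iff _).1 (sub_true h (by simp [testBit_bit])), fun _ h => h, fun _ _ _ => rfl,
    fun x hx => by
      rw [land_eq, Nat.testBit_and, hx, Bool.and_true, M.row hn hρ (x := (ev (sg nets) u)⁻¹ 0)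
        (by simp), Equiv.Perm.one_apply]⟩

/-- `U` is the set of the common neighbours of `0` and another point. -/
noncomputable def isRow (N : ℕ) (nets : ℕ → Net) (D : ℕ) (gs : List (List ℕ)) (U : ℕ) : Bool :=
  anyL gs fun u => and2 (Nat.beq U (Nat.land (pullW nets u D) D)) (sub (pullW nets u 1) (far N D))

theorem isRow_spec (M : Model ρ N D k l b0 c0) (hn : NetsOK N nets)
    (hρ : ∀ c, ρ (e c) = sg nets c) {gs : List (List ℕ)} {U : ℕ}
    (h : isRow N nets D gs U = true) : Nice ρ N D U := by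
  obtain ⟨u, -, h⟩ := anyL_true.1 h
  rw [and2_true, H29.beq_true] at h
  exact h.1 ▸ nice_row M hn hρ h.2

/-- Reduction of `A2` to subgroups containing a given `p`-subgroup. -/
theorem a2_of_pgroup (M : Model ρ N D k l b0 c0) (hn : NetsOK N nets) (hk : N ≤ 2 ^ kk)
    (hρ : ∀ c, ρ (e c) = sg nets c) {nK r mu p a : ℕ} {L xs : List ℕ} {gs : List (List ℕ)}
    {exs : List (ℕ × List Ins)} (hH : Nat.card (stab ρ 0) = nK * l) (hp : p.Prime)
    (hP : IsPGroup p (gen e L)) (h1 : p ^ a ∣ nK) (h2 : ¬ p ^ (a + 1) ∣ nK * l)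
    (h : and2 (fixL nets L 0) (chkSub N kk 0 nets L r [] (xs.map bit) 0 D (bit mu) fun U _ _ =>
      or2 (isRow N nets D gs U) (excl N kk nets D nK exs U)) = true) : A2 ρ N D l mu := by
  have := M.finite
  rw [and2_true] at h
  intro K m hK hc m1 m2 m3
  have hk0 : 0 < l := Nat.pos_of_ne_zero (by rintro rfl; simp at h2)
  have hc' : Nat.card K = nK := Nat.eq_of_mul_eq_mul_right hk0 (hc.trans hH)
  obtain ⟨g, hg, h7⟩ := exists_conj_le hp hK (gen_le_stab hn hρ h.1) hP (hc' ▸ h1) (hH ▸ h2)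
  obtain ⟨m', hm'⟩ := exists_smul_bits (ρ g) m
  have i1 := inv_cj hm' m3
  refine nice_of_smul M hg hm' ?_
  have := chkSub_sound hn hk h.2 (S := m')
    (fun c hc => hρ c ▸ i1 _ (mem_cj.2 (h7 _ (mem_gen hc)))) (by simp)
    (fun i hi => by
      have := hm' (ρ g⁻¹ i)
      rw [← M.inv _ ((stab ρ 0).inv_mem hg) i]
      exact m1 _ (by rw [← this]; simpa using hi))
    (by rw [cnt_smul (ρ g) fun i => by rw [hm'], m2]; simp [testBit_bit])
  rcases or2_true.1 this with h | h
  · exact isRow_spec M hn hρ h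
  · have := excl_spec M hn hk hρ h (cj_le hg hK) i1
    rw [card_cj] at this
    omega

end H10.R3
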