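import Mathlib
import Cfsg.Agent.H10.R3Cert

/-!
# Actions on lists, outer automorphisms, subgroups with half a Sylow subgroup
-/

set_option autoImplicit false
set_option linter.all false

namespace H10.R3

open H29

/-- The action on an enumerated invariant set. -/
theorem exists_rho {G X : Type*} [Group G] [MulAction G X] {S : Set X} {N : ℕ}
    (hS : ∀ (g : G), ∀ x ∈ S, g • x ∈ S) (hc : S.Finite ∧ S.ncard ≤ N) {f : ℕ → X}
    (hf : ∀ i < N, ∀ j < N, f i = f j → i = j) (hm : ∀ i < N, f i ∈ S) :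
    ∃ ρ : G →* Equiv.Perm ℕ, (∀ g i, N ≤ i → ρ g i = i) ∧ (∀ g, ∀ i < N, f (ρ g i) = g • f i) ∧
      ∀ x ∈ S, ∃ i < N, f i = x := by
  classical
  have h1 : f '' Set.Iio N = S := Set.eq_of_subset_of_ncard_le
    (by rintro _ ⟨i, hi, rfl⟩; exact hm i hi)
    (by rw [Set.InjOn.ncard_image (s := Set.Iio N) fun i hi j hj => hf i hi j hj]; simpa using hc.2) hc.1
  have h2 : ∀ x ∈ S, ∃ i < N, f i = x := fun x hx => by rwa [← h1] at hx
  choose φ h3 h4 using fun (g : G) (i : ℕ) (hi : i < N) => h2 _ (hS g _ (hm i hi))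
  let ψ : G → ℕ → ℕ := fun g i => if hi : i < N then φ g i hi else i
  have a1 : ∀ g, ∀ i < N, ψ g i < N ∧ f (ψ g i) = g • f i := fun g i hi => by
    simp only [ψ, dif_pos hi]; exact ⟨h3 g i hi, h4 g i hi⟩
  have a2 : ∀ g i, N ≤ i → ψ g i = i := fun g i hi => dif_neg (not_lt.2 hi)
  have a3 : ∀ g h i, ψ (g * h) i = ψ g (ψ h i) := fun g h i => by
    by_cases hi : i < N
    · refine hf _ (a1 _ i hi).1 _ (a1 _ _ (a1 h i hi).1).1 ?_
      rw [(a1 _ i hi).2, (a1 _ _ (a1 h i hi).1).2, (a1 h i hi).2, mul_smul]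
    · rw [a2 _ _ (not_lt.1 hi), a2 _ _ (not_lt.1 hi), a2 _ _ (not_lt.1 hi)]
  have a4 : ∀ i, ψ 1 i = i := fun i => by
    by_cases hi : i < N
    · exact hf _ (a1 _ i hi).1 _ hi (by rw [(a1 _ i hi).2, one_smul])
    · exact a2 _ _ (not_lt.1 hi)
  exact ⟨MonoidHom.mk' (fun g => ⟨ψ g, ψ g⁻¹, fun i => by rw [← a3, inv_mul_cancel, a4],
    fun i => by rw [← a3, mul_inv_cancel, a4]⟩) fun g h => Equiv.ext (a3 g h), a2,
    fun g i hi => (a1 g i hi).2, h2⟩

theorem rho_eq {G X : Type*} [Group G] [MulAction G X] {N : ℕ} {f : ℕ → X}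
    (hf : ∀ i < N, ∀ j < N, f i = f j → i = j) {ρ : G →* Equiv.Perm ℕ}
    (h1 : ∀ g i, N ≤ i → ρ g i = i) (h2 : ∀ g, ∀ i < N, f (ρ g i) = g • f i) {g : G}
    {σ : Equiv.Perm ℕ} (h3 : ∀ i, N ≤ i → σ i = i) (h4 : ∀ i < N, f (σ i) = g • f i) : ρ g = σ := by
  ext i
  by_cases hi : i < N
  · exact hf _ (lt_of_fix (h1 g) hi) _ (lt_of_fix h3 hi) (by rw [h2 g i hi, h4 i hi])
  · rw [h1 g i (not_lt.1 hi), h3 i (not_lt.1 hi)]

/-- Kernel version of `val`. -/
noncomputable def valK (P : List ℕ) (i : ℕ) : ℕ :=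
  List.rec (motive := fun _ => ℕ) 0
    (fun a _ ih => Nat.add (Nat.land (Nat.shiftRight a i) 1) (Nat.mul 2 ih)) P

theorem valK_eq : ∀ (P : List ℕ) (i : ℕ), valK P i = val P i
  | [], _ => rfl
  | a :: P, i => by
    rw [show valK (a :: P) i = ((a >>> i) &&& 1) + 2 * valK P i from rfl, valK_eq P i, val,
      Nat.and_one_is_mod, Nat.toNat_testBit, Nat.shiftRight_eq_div_pow]

/-- Test `f i (σ i)` for all points. -/
noncomputable def allPt (N k : ℕ) (n : Net) (f : ℕ → ℕ → Bool) : Bool :=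
  seqL (mapPull n (idPl N k)) fun P => allN N fun i => lit (valK P i) (f i)

theorem allPt_spec {N k : ℕ} (hk : N ≤ 2 ^ k) {n : Net} (hn : n.valid N = true)
    {f : ℕ → ℕ → Bool} (h : allPt N k n f = true) : ∀ i < N, f i (n.perm i) = true := by
  intro i hi
  rw [allPt, seqL_eq, allN_true] at h
  have := h i hi
  rwa [lit_eq, valK_eq, val_mapPull hn,
    val_idPl hk (lt_of_fix (fun i hi => Net.perm_fix hn hi) hi)] at this

variable {G0 : Type*} [Group G0] {ρ : G0 →* Equiv.Perm ℕ} {N D k l b0 c0 kk : ℕ}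
  {e : ℕ → G0} {nets : ℕ → Net}

theorem faith_D (M : Model ρ N D k l b0 c0) (u3 : U3 ρ N D c0) {h : G0} (h0 : ρ h 0 = 0)
    (h1 : ∀ x, D.testBit x = true → ρ h x = x) : h = 1 := by
  apply M.inj
  ext x
  rw [map_one, Equiv.Perm.one_apply]
  by_cases a1 : N ≤ x
  · exact M.fix h x a1
  by_cases a2 : x = 0
  · rw [a2, h0]
  cases a3 : D.testBit x
  · obtain ⟨g, g1, rfl⟩ := M.tr2 x ⟨not_le.1 a1, a2, a3⟩
    have g2 : ρ g⁻¹ 0 = 0 := by rw [map_inv, Equiv.Perm.inv_eq_iff_eq, g1]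
    have := u3 _ (M.far_smul g2 (M.far_smul h0 (M.far_smul g1 M.hc))) fun y hy h2 => by
      rw [← adj_smul g, ← adj_smul h, h1 _ ((M.inv g g1 y).trans hy), ← adj_smul g⁻¹] at h2
      simpa using h2
    rwa [map_inv, Equiv.Perm.inv_eq_iff_eq] at this
  · exact h1 x a3

/-- `π` normalises the action of the point stabiliser on `D`. -/
def PiOK (ρ : G0 →* Equiv.Perm ℕ) (D : ℕ) (π : Equiv.Perm ℕ) : Prop :=
  (∀ x, D.testBit x = true → D.testBit (π x) = true) ∧ ∃ α : stab ρ 0 ≃* stab ρ 0,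
    ∀ (h : stab ρ 0) x, D.testBit x = true → π (ρ h x) = ρ (α h) (π x)

theorem piOK_of_gen (M : Model ρ N D k l b0 c0) (u3 : U3 ρ N D c0) {π : Equiv.Perm ℕ}
    (h1 : ∀ x, D.testBit (π x) = D.testBit x) {L : List ℕ} (hL : stab ρ 0 ≤ gen e L)
    (hL' : gen e L ≤ stab ρ 0)
    (h2 : ∀ c ∈ L, ∃ g ∈ stab ρ 0, ∀ x, D.testBit x = true → π (ρ (e c) x) = ρ g (π x)) :
    PiOK ρ D π := by
  have := M.finite
  have a1 : ∀ h ∈ gen e L, ∃ g ∈ stab ρ 0, ∀ x, D.testBit x = true → π (ρ h x) = ρ g (π x) := by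
    intro h hh
    induction hh using Subgroup.closure_induction with
    | mem x hx => obtain ⟨c, hc, rfl⟩ := hx; exact h2 c hc
    | one => exact ⟨1, one_mem _, by simp⟩
    | mul x y _ hy' hx hy =>
      obtain ⟨a, a1, a2⟩ := hx
      obtain ⟨b, b1, b2⟩ := hy
      refine ⟨a * b, mul_mem a1 b1, fun z hz => ?_⟩
      rw [map_mul, map_mul, Equiv.Perm.mul_apply, Equiv.Perm.mul_apply,
        a2 _ ((M.inv y (hL' hy') z).trans hz), b2 z hz]
    | inv x hx' hx =>
      obtain ⟨a, a1, a2⟩ := hx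
      refine ⟨a⁻¹, inv_mem a1, fun z hz => ?_⟩
      have := a2 (ρ x⁻¹ z) ((M.inv _ (hL' (inv_mem hx')) z).trans hz)
      rw [map_inv ρ a, Equiv.Perm.eq_inv_iff_eq, ← this]
      simp
  choose φ φ1 φ2 using fun h : stab ρ 0 => a1 h (hL h.2)
  have a2 : ∀ g g' : stab ρ 0, (∀ x, D.testBit x = true → ρ g (π x) = ρ g' (π x)) → g = g' := by
    intro g g' h
    have := faith_D M u3 (h := (g'⁻¹ * g : stab ρ 0)) (g'⁻¹ * g).2 fun x hx => by
      have := h (π⁻¹ x) (by rw [← h1]; simpa using hx)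
      simp only [Equiv.Perm.coe_inv, Equiv.apply_symm_apply] at this
      simp [this]
    exact (inv_mul_eq_one.1 (Subtype.ext this)).symm
  let α : stab ρ 0 →* stab ρ 0 := MonoidHom.mk' (fun h => ⟨φ h, φ1 h⟩) fun a b =>
    a2 _ _ fun x hx => by
      rw [← φ2 _ x hx, Subgroup.coe_mul, Subgroup.coe_mul, map_mul, map_mul, Equiv.Perm.mul_apply,
        Equiv.Perm.mul_apply, φ2 a _ ((M.inv _ b.2 x).trans hx), φ2 b x hx]
  have a3 : Function.Injective α := (injective_iff_map_eq_one α).2 fun h hh =>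
    Subtype.ext (faith_D M u3 h.2 fun x hx => π.injective (by
      rw [φ2 h x hx, show φ h = 1 from congrArg Subtype.val hh]; simp))
  exact ⟨fun x hx => (h1 x).trans hx,
    MulEquiv.ofBijective α (Finite.injective_iff_bijective.1 a3), φ2⟩

/-- Test of `PiOK`. -/
noncomputable def chkPi (N kk : ℕ) (nets : ℕ → Net) (D : ℕ) (L : List ℕ) (p : Net)
    (ws : List (List ℕ)) : Bool :=
  and2 (and2 (p.valid N) (Nat.beq (p.pull D) D)) (allN L.length fun i =>
    and2 (toZ nets (nth [] ws i) 0) (allN kk fun j => Nat.beq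
      (Nat.land ((nets (nth 0 L i)).pull (p.pull (idK N kk j))) D)
      (Nat.land (p.pull (pullW nets (nth [] ws i) (idK N kk j))) D)))

theorem piOK_of_chk (M : Model ρ N D k l b0 c0) (u3 : U3 ρ N D c0) (hn : NetsOK N nets)
    (hk : N ≤ 2 ^ kk) (hρ : ∀ c, ρ (e c) = sg nets c) {L : List ℕ} (hL : stab ρ 0 = gen e L)
    {p : Net} {ws : List (List ℕ)} (h : chkPi N kk nets D L p ws = true) : PiOK ρ D p.perm := by
  simp only [chkPi, and2_true, allN_true, H29.beq_true] at h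
  obtain ⟨⟨h1, h2⟩, h3⟩ := h
  have a1 : ∀ x, D.testBit (p.perm x) = D.testBit x := fun x => by
    rw [← Net.testBit_pull h1, h2]
  refine piOK_of_gen M u3 a1 hL.le hL.ge fun c hc => ?_
  obtain ⟨i, hi, rfl⟩ := List.getElem_of_mem hc
  obtain ⟨h4, h5⟩ := h3 i hi
  rw [nth_eq, List.getD_eq_getElem _ _ hi] at h5
  refine ⟨ev e (nth [] ws i), by rw [mem_stab, map_ev_sg fun c _ => hρ c, toZ_spec hn h4],
    fun x hx => ?_⟩
  rw [map_ev_sg fun c _ => hρ c, hρ]
  have b1 := M.lt x hx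
  have b2 : p.perm (sg nets L[i] x) < N := lt_of_fix (fun i hi => Net.perm_fix h1 hi)
    (lt_of_fix (fun i hi => Net.perm_fix (hn _) hi) b1)
  have b3 : ev (sg nets) (nth [] ws i) (p.perm x) < N := lt_of_fix (fun i hi => ev_sg_fix hn _ hi)
    (lt_of_fix (fun i hi => Net.perm_fix h1 hi) b1)
  apply Nat.eq_of_testBit_eq
  intro j
  by_cases hj : j < kk
  · have := congrArg (fun y => Nat.testBit y x) (h5 j hj)
    simp only [land_eq, Nat.testBit_and, hx, Bool.and_true, Net.testBit_pull h1,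
      Net.testBit_pull (hn _), testBit_pullW hn, testBit_idK hk] at this
    simpa [b3, show p.perm ((nets L[i]).perm x) < N from b2, sg] using this
  · have : 2 ^ kk ≤ 2 ^ j := Nat.pow_le_pow_right (by norm_num) (by omega)
    rw [Nat.testBit_lt_two_pow (by omega), Nat.testBit_lt_two_pow (by omega)]

/-- `U` is the image of a row under one of the permutations `ps`. -/
noncomputable def isRowP (N : ℕ) (nets : ℕ → Net) (D : ℕ) (ps : List Net)
    (gs : List (ℕ × List ℕ)) (U : ℕ) : Bool :=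
  anyL gs fun a => and2 (Nat.beq U (Nat.land ((nth Net.nil ps a.1).pull (pullW nets a.2 D)) D))
    (sub (pullW nets a.2 1) (far N D))

theorem isRowP_spec (M : Model ρ N D k l b0 c0) (hn : NetsOK N nets)
    (hρ : ∀ c, ρ (e c) = sg nets c) {ps : List Net}
    (hp : ∀ p ∈ ps, p.valid N = true ∧ PiOK ρ D p.perm) {gs : List (ℕ × List ℕ)} {U : ℕ}
    (h : isRowP N nets D ps gs U = true) : Nice ρ N D U := by
  obtain ⟨a, -, h⟩ := anyL_true.1 h
  rw [and2_true, H29.beq_true, pullW_one hn] at h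
  obtain ⟨p1, p2, α, p3⟩ := nth_forall (d := Net.nil)
    (p := fun p => p.valid N = true ∧ PiOK ρ D p.perm)
    ⟨rfl, fun _ h => h, MulEquiv.refl _, fun _ _ _ => rfl⟩ hp a.1
  refine ⟨α, _, (ev (sg nets) a.2)⁻¹ 0, (M.far_iff _).1 (sub_true h.2 (by simp [testBit_bit])),
    p2, p3, fun x hx => ?_⟩
  rw [h.1, land_eq, Nat.testBit_and, hx, Bool.and_true, Net.testBit_pull p1,
    M.row hn hρ (x := (ev (sg nets) a.2)⁻¹ 0) (by simp)]

/-- Test for the sign vector `v`. -/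
noncomputable def chkHalf (N kk : ℕ) (nets : ℕ → Net) (D mu : ℕ) (wl : List (List ℕ))
    (eqs : List (List ℕ × List ℕ)) (dat : List (ℕ × List (List ℕ) × ℕ × List ℕ))
    (f : ℕ → Bool) (v : ℕ) : Bool :=
  or2 (anyL eqs fun q => Bool.xor (par v q.1) (par v q.2))
    (anyL dat fun a => and2 (and2 (Nat.beq a.1 v) (allL a.2.1 fun w => Bool.not (par v w)))
      (chkSub N kk 0 (wNets (wNets nets wl) a.2.1) (List.range a.2.1.length) a.2.2.1 []
        (a.2.2.2.map bit) 0 D (bit mu) fun U _ _ => f U))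

/-- Reduction of `A2` to subgroups containing half of a given `2`-subgroup. -/
theorem a2_of_half (M : Model ρ N D k l b0 c0) (hn : NetsOK N nets) (hk : N ≤ 2 ^ kk)
    (hρ : ∀ c, ρ (e c) = sg nets c) {nK mu a : ℕ} {L : List ℕ} {wl : List (List ℕ)}
    {eqs : List (List ℕ × List ℕ)} {dat : List (ℕ × List (List ℕ) × ℕ × List ℕ)} {f : ℕ → Bool}
    (hH : Nat.card (stab ρ 0) = nK * l) (hP : IsPGroup 2 (gen e L)) (h1 : 2 ^ a ∣ nK)
    (h2 : ¬ 2 ^ (a + 2) ∣ nK * l)
    (hf : ∀ U, f U = true → Nice ρ N D U ∨ ∀ K : Subgroup G0, K ≤ stab ρ 0 →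
      (∀ g ∈ K, ∀ i, U.testBit (ρ g i) = U.testBit i) → Nat.card K < nK)
    (h3 : and2 (and2 (fixL nets L 0) (allL wl fun w => allL w fun c => memL c L))
      (allL eqs fun q => allN kk fun j => chkEq N kk (wNets nets wl) q.1 q.2 j) = true)
    (h : ∀ v < 2 ^ wl.length, chkHalf N kk nets D mu wl eqs dat f v = true) : A2 ρ N D l mu := by
  have := M.finite
  simp only [and2_true, allL_true, allN_true, memL_true] at h3
  intro K m hK hc m1 m2 m3
  have hk0 : 0 < l := Nat.pos_of_ne_zero (by rintro rfl; simp at h2)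
  have hc' : Nat.card K = nK := Nat.eq_of_mul_eq_mul_right hk0 (hc.trans hH)
  obtain ⟨g, hg, v, hv, v1, v2⟩ := exists_conj_half (e := wE e wl) (n := wl.length) hK
    (gen_le_stab hn hρ h3.1.1)
    (fun c => ev_mem_gen (nth_forall (p := fun w => ∀ c ∈ w, c ∈ L) (by simp) h3.1.2 c)) hP
    (fun c hc => by rw [wE, nth_default _ hc]; rfl) (hc' ▸ h1) (hH ▸ h2)
  obtain ⟨m', hm'⟩ := exists_smul_bits (ρ g) m
  have i1 := inv_cj hm' m3
  refine nice_of_smul M hg hm' ?_
  have hρ' := map_wE hρ wl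
  rcases or2_true.1 (h v hv) with h | h
  · obtain ⟨q, hq, h⟩ := anyL_true.1 h
    have := ev_eq_of_planeEq (hn.wNets wl) hk fun j hj =>
      chkEq_sound (hn.wNets wl) hk (h3.2 q hq j hj)
    rw [← map_ev_sg fun c _ => hρ' c, ← map_ev_sg fun c _ => hρ' c] at this
    rw [v1 _ _ (M.inj this)] at h
    simp at h
  obtain ⟨b, -, h⟩ := anyL_true.1 h
  rw [and2_true, and2_true, allL_true] at h
  have := chkSub_sound ((hn.wNets wl).wNets _) hk h.2 (S := m')
    (fun c _ => by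
      rw [← map_wE hρ']
      exact i1 _ (mem_cj.2 (v2 _ (nth_forall (d := []) (p := fun w => par v w = false) rfl
        (fun w hw => by simpa using h.1.2 w hw) c)))) (by simp)
    (fun i hi => by
      have := hm' (ρ g⁻¹ i)
      rw [← M.inv _ ((stab ρ 0).inv_mem hg) i]
      exact m1 _ (by rw [← this]; simpa using hi))
    (by rw [cnt_smul (ρ g) fun i => by rw [hm'], m2]; simp [testBit_bit])
  rcases hf _ this with h | h
  · exact h
  · have := h _ (cj_le hg hK) i1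
    rw [card_cj] at this
    omega

/-- All programs of the list succeed. -/
noncomputable def exAll (N kk : ℕ) (nets : ℕ → Net) (D n : ℕ) (exs : List (ℕ × List Ins)) : Bool :=
  allL exs fun ex => excl N kk nets D n [ex] ex.1

/-- `U` is in one of the lists. -/
noncomputable def inEx (l : List (List (ℕ × List Ins))) (U : ℕ) : Bool :=
  anyL l fun exs => anyL exs fun ex => Nat.beq ex.1 U

theorem inEx_spec (M : Model ρ N D k l b0 c0) (hn : NetsOK N nets) (hk : N ≤ 2 ^ kk)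
    (hρ : ∀ c, ρ (e c) = sg nets c) {n U : ℕ} {l : List (List (ℕ × List Ins))}
    (h1 : ∀ exs ∈ l, exAll N kk nets D n exs = true) (h : inEx l U = true) (K : Subgroup G0)
    (hK : K ≤ stab ρ 0) (hU : ∀ g ∈ K, ∀ i, U.testBit (ρ g i) = U.testBit i) : Nat.card K < n := by
  obtain ⟨exs, h2, h⟩ := anyL_true.1 h
  obtain ⟨ex, h3, h⟩ := anyL_true.1 h
  exact excl_spec M hn hk hρ (H29.beq_true.1 h ▸ allL_true.1 (h1 exs h2) ex h3) hK hU

theorem stab_eq_gen [Finite G0] (hn : NetsOK N nets) (hρ : ∀ c, ρ (e c) = sg nets c)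
    (hf : Function.Injective ρ) (fix : ∀ g i, N ≤ i → ρ g i = i) {L : List ℕ}
    {ch : List (ℕ × ℕ × ℕ × List ℕ)} {b : ℕ}
    (h : and2 (fixL nets L b) (chkChain N kk nets ch L) = true)
    (hc : Nat.card (stab ρ b) ≤ (ch.map fun a => a.2.2.1).prod) : stab ρ b = gen e L := by
  rw [and2_true] at h
  refine (Subgroup.eq_of_le_of_card_ge (gen_le_stab hn hρ h.1) (hc.trans
    (le_card_gen_of_chain hn (fun g hg => hf ?_) (fun c _ => hρ c) h.2))).symm
  ext i
  by_cases hi : i < N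
  · simp [hg i hi]
  · simp [fix g i (not_lt.1 hi)]

end H10.R3
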