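import Mathlib
import Cfsg.Agent.H10.R3Half

/-!
# Normalisers of cyclic subgroups in a concrete rank 3 group
-/

set_option autoImplicit false
set_option linter.all false

namespace H10.R3

open H29

variable {G0 : Type*} [Group G0] {ρ : G0 →* Equiv.Perm ℕ} {N D k l b0 c0 kk : ℕ}
  {e : ℕ → G0} {nets : ℕ → Net}

/-- The stabiliser of `0` and of the set `F`. -/
def StabS (ρ : G0 →* Equiv.Perm ℕ) (F : ℕ) : Subgroup G0 where
  carrier := {g | ρ g 0 = 0 ∧ ∀ i, F.testBit (ρ g i) = F.testBit i}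
  one_mem' := by simp
  mul_mem' := fun {a b} ha hb => ⟨by rw [map_mul, Equiv.Perm.mul_apply, hb.1, ha.1],
    fun i => by rw [map_mul, Equiv.Perm.mul_apply, ha.2, hb.2]⟩
  inv_mem' := fun {a} ha => ⟨by rw [map_inv, Equiv.Perm.inv_eq_iff_eq, ha.1],
    fun i => by rw [← ha.2]; simp⟩

theorem stabS_le (F : ℕ) : StabS ρ F ≤ stab ρ 0 := fun _ h => h.1

theorem card_stabS (M : Model ρ N D k l b0 c0) (hn : NetsOK N nets) (hk : N ≤ 2 ^ kk)
    (hρ : ∀ c, ρ (e c) = sg nets c) {prog : List Ins} {F n : ℕ}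
    (h : and2 (run N kk nets D [] prog [F, 1]) (Nat.ble (bound prog) n) = true) :
    Nat.card (StabS ρ F) ≤ n := by
  rw [and2_true, ble_true] at h
  refine (card_le_run M hn hk hρ (by simp) ?_ h.1).trans h.2
  simp only [List.mem_cons, List.not_mem_nil, or_false, forall_eq_or_imp, forall_eq]
  exact ⟨fun g hg => hg.2, inv_zero (stabS_le F)⟩

theorem gen_le_stabS (hn : NetsOK N nets) (hρ : ∀ c, ρ (e c) = sg nets c) {L : List ℕ} {F : ℕ}
    (h : and2 (fixL nets L 0) (chkInv nets L F) = true) : gen e L ≤ StabS ρ F := fun g hg =>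
  ⟨gen_le_stab hn hρ (and2_true.1 h).1 hg, inv_of_chk hn (fun c _ => hρ c) (and2_true.1 h).2 hg⟩

theorem mem_stabS (hn : NetsOK N nets) (hk : N ≤ 2 ^ kk) (hρ : ∀ c, ρ (e c) = sg nets c) {c : ℕ}
    {g : G0} (h0 : g ∈ stab ρ 0) (hg : g ∈ Subgroup.normalizer (Subgroup.zpowers (e c) : Set G0)) :
    g ∈ StabS ρ (mov N kk (nets c)) := by
  have key : ∀ g ∈ Subgroup.normalizer (Subgroup.zpowers (e c) : Set G0), ∀ i,
      ρ (e c) i = i → ρ (e c) (ρ g i) = ρ g i := fun g hg i hi => by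
    obtain ⟨n, h1⟩ := (Subgroup.mem_normalizer_iff.1 (inv_mem hg) (e c)).1
      (Subgroup.mem_zpowers _)
    have h2 : ρ (e c ^ n) i = i := by
      rw [map_zpow]; exact Equiv.Perm.zpow_apply_eq_self_of_apply_eq_self hi n
    rw [show e c ^ n = g⁻¹ * e c * g⁻¹⁻¹ from h1, inv_inv, map_mul, map_mul, map_inv,
      Equiv.Perm.mul_apply, Equiv.Perm.mul_apply, Equiv.Perm.inv_eq_iff_eq] at h2
    exact h2
  refine ⟨h0, fun i => ?_⟩
  rw [Bool.eq_iff_iff, ← not_iff_not, Bool.not_eq_true, Bool.not_eq_true,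
    testBit_mov hk (hn c), testBit_mov hk (hn c)]
  change sg nets c _ = _ ↔ sg nets c _ = _
  rw [← hρ]
  exact ⟨fun h => by simpa using key _ (inv_mem hg) _ h, key g hg i⟩

/-- The union of the translates of a set. -/
noncomputable def uniW (nets : ℕ → Net) (O : ℕ) (W : List (List ℕ)) : ℕ → ℕ :=
  List.rec (motive := fun _ => ℕ → ℕ) (fun U => U)
    (fun w _ ih U => seqN (Nat.lor U (pullW nets w O)) ih) W

theorem testBit_uniW (hn : NetsOK N nets) {O i : ℕ} : ∀ (W : List (List ℕ)) (U : ℕ),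
    (uniW nets O W U).testBit i = true →
      U.testBit i = true ∨ ∃ w ∈ W, O.testBit (ev (sg nets) w i) = true
  | [], _, h => Or.inl h
  | w :: W, U, h => by
    rw [show uniW nets O (w :: W) U = seqN (Nat.lor U (pullW nets w O)) (uniW nets O W) from rfl,
      seqN_eq] at h
    rcases testBit_uniW hn W _ h with h | ⟨u, h1, h2⟩
    · rw [lor_eq, Nat.testBit_or, Bool.or_eq_true, testBit_pullW hn] at h
      exact h.imp id fun h => ⟨w, by simp, h⟩
    · exact Or.inr ⟨u, by simp [h1], h2⟩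

/-- The words `W` represent the cosets of the cyclic group generated by `z`. -/
noncomputable def chkWords (kk : ℕ) (nets : ℕ → Net) (F : ℕ) (L : List ℕ) (W : List (List ℕ))
    (z r x n : ℕ) : Bool :=
  and2 (and2 (and2 (fixL nets L 0) (chkInv nets L F))
    (and2 (memL z L) (allL W fun w => allL w fun c => memL c L)))
    (seqN (orb nets [z] r (bit x)) fun O => Nat.ble n (popc kk (uniW nets O W 0)))

theorem mem_words [Finite G0] (hn : NetsOK N nets) (hρ : ∀ c, ρ (e c) = sg nets c)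
    {F z r x n : ℕ} {L : List ℕ} {W : List (List ℕ)} (h : chkWords kk nets F L W z r x n = true)
    (hc : Nat.card (StabS ρ F) ≤ n) {u : G0} (hu : u ∈ StabS ρ F) :
    ∃ w ∈ W, ∃ v ∈ Subgroup.zpowers (e z), u = v * ev e w := by
  rw [chkWords, and2_true, and2_true, seqN_eq, ble_true] at h
  obtain ⟨⟨h1, h2⟩, h3⟩ := h
  have h4 := gen_le_stabS hn hρ h1
  simp only [and2_true, allL_true, memL_true] at h2
  let f : StabS ρ F → ℕ := fun g => ρ g⁻¹ x
  let T : Set (StabS ρ F) := {g | ∃ w ∈ W, ∃ v ∈ Subgroup.zpowers (e z), g.1 = v * ev e w}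
  have h5 := h3.trans (popc_le_ncard (s := f '' T) (Set.toFinite _) fun i hi => by
    rcases testBit_uniW hn W 0 hi with h | ⟨w, w1, w2⟩
    · simp at h
    obtain ⟨v, v1, v2⟩ := ((Reach.refl nets [z] (bit x)).orb hn r).exists_bit
      (fun c _ => hρ c) w2
    refine ⟨⟨v⁻¹ * ev e w, h4 (mul_mem (inv_mem (gen_mono (by simpa using h2.1) v1))
      (ev_mem_gen (h2.2 w w1)))⟩, ⟨w, w1, v⁻¹, inv_mem ?_, rfl⟩, ?_⟩
    · rwa [gen_cons, gen_nil, sup_bot_eq] at v1
    · rw [← map_ev_sg fun c _ => hρ c] at v2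
      change ρ (v⁻¹ * ev e w)⁻¹ x = i
      rw [map_inv, Equiv.Perm.inv_eq_iff_eq, map_mul, map_inv, Equiv.Perm.mul_apply, ← v2]
      simp)
  have h6 : T = Set.univ := Set.eq_of_subset_of_ncard_le (Set.subset_univ _)
    (by rw [Set.ncard_univ]; exact hc.trans (h5.trans (Set.ncard_image_le (Set.toFinite _))))
  exact (h6 ▸ Set.mem_univ (⟨u, hu⟩ : StabS ρ F) : _ ∈ T)

/-- Test for a coset representative. -/
noncomputable def chkW (N kk : ℕ) (nets : ℕ → Net) (D mu q y z : ℕ) (gs : List (List ℕ))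
    (a : List ℕ × ℕ × ℕ × List ℕ) : Bool :=
  or2 (List.rec (motive := fun _ => Bool) true (fun _ _ _ => false) a.1)
    (or2 (disj (bit a.2.1) (pullW nets (powW q a.1) (bit a.2.1)))
      (chkSub N kk 0 (wNets nets [[y], [z], a.1]) [0, 1, 2] a.2.2.1 [] (a.2.2.2.map bit) 0 D
        (bit mu) fun U _ _ => isRow N nets D gs U))

theorem ne_one_of_disj (hn : NetsOK N nets) (hρ : ∀ c, ρ (e c) = sg nets c) {w : List ℕ} {x : ℕ}
    (h : disj (bit x) (pullW nets w (bit x)) = true) : ev e w ≠ 1 := fun h1 => by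
  have := disj_true h (i := x) (by simp [testBit_bit])
  rw [testBit_pullW hn, ← map_ev_sg fun c _ => hρ c, h1] at this
  simp [testBit_bit] at this

theorem chkW_spec (M : Model ρ N D k l b0 c0) (hn : NetsOK N nets) (hk : N ≤ 2 ^ kk)
    (hρ : ∀ c, ρ (e c) = sg nets c) {mu q y z : ℕ} {gs : List (List ℕ)}
    {a : List ℕ × ℕ × ℕ × List ℕ} (h : chkW N kk nets D mu q y z gs a = true) (h1 : a.1 ≠ [])
    (h2 : ev e a.1 ^ q = 1) {K : Subgroup G0} (hy : e y ∈ K) (hz : e z ∈ K) (hw : ev e a.1 ∈ K)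
    {m : ℕ} (m1 : ∀ i, m.testBit i = true → D.testBit i = true) (m2 : cnt m = mu)
    (m3 : ∀ g ∈ K, ∀ i, m.testBit (ρ g i) = m.testBit i) : Nice ρ N D m := by
  obtain ⟨w, a⟩ := a
  rw [chkW, or2_true, or2_true] at h
  rcases h with h | h | h
  · cases w
    · exact absurd rfl h1
    · exact absurd h (by simp)
  · exact absurd (by rw [ev_powW]; exact h2) (ne_one_of_disj hn hρ h)
  refine isRow_spec M hn hρ (chkSub_sound (hn.wNets _) hk h (S := m) (fun c _ => ?_) (by simp) m1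
    (by rw [m2]; simp [testBit_bit]))
  rw [← map_wE hρ]
  exact m3 _ (nth_forall (d := []) (p := fun w => ev e w ∈ K) K.one_mem (by simp [hy, hz, hw]) c)

/-- Reduction of `Nice` along conjugation. -/
theorem nice_cj (M : Model ρ N D k l b0 c0) {K : Subgroup G0} {g : G0} (hg : g ∈ stab ρ 0)
    {m mu : ℕ} (m1 : ∀ i, m.testBit i = true → D.testBit i = true) (m2 : cnt m = mu)
    (m3 : ∀ g ∈ K, ∀ i, m.testBit (ρ g i) = m.testBit i)
    (h : ∀ m : ℕ, (∀ i, m.testBit i = true → D.testBit i = true) → cnt m = mu →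
      (∀ h ∈ cj g K, ∀ i, m.testBit (ρ h i) = m.testBit i) → Nice ρ N D m) : Nice ρ N D m := by
  obtain ⟨m', hm'⟩ := exists_smul_bits (ρ g) m
  refine nice_of_smul M hg hm' (h m' (fun i hi => ?_)
    (by rw [cnt_smul (ρ g) fun i => by rw [hm'], m2]) (inv_cj hm' m3))
  have := hm' (ρ g⁻¹ i)
  rw [← M.inv _ ((stab ρ 0).inv_mem hg) i]
  exact m1 _ (by rw [← this]; simpa using hi)

section Abs

variable {G : Type*} [Group G] [Finite G]

theorem isPGroup_zpowers {p a : ℕ} {y : G} (hy : y ^ p ^ a = 1) :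
    IsPGroup p (Subgroup.zpowers y) := by
  rintro ⟨_, n, rfl⟩
  refine ⟨a, Subtype.ext ?_⟩
  change (y ^ n) ^ p ^ a = 1
  rw [← zpow_natCast, ← zpow_mul, mul_comm, zpow_mul, zpow_natCast, hy, one_zpow]

/-- Sylow's count in a subgroup. -/
theorem sylow_count {p : ℕ} (hp : p.Prime) {K : Subgroup G} {y : G} (hy : y ∈ K)
    (ho : orderOf y = p) (h2 : ¬ p ^ 2 ∣ Nat.card K) :
    ∃ n, n % p = 1 % p ∧
      n * Nat.card ↥(K ⊓ Subgroup.normalizer (Subgroup.zpowers y : Set G)) = Nat.card K := by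
  have := Fact.mk hp
  let y' : K := ⟨y, hy⟩
  have h1 : Nat.card (Subgroup.zpowers y') = p ^ (Nat.card K).factorization p := by
    have o1 : orderOf y' = p := by rw [← ho]; exact (Subgroup.orderOf_coe y').symm
    have o2 : p ^ 1 ∣ Nat.card K := by rw [pow_one, ← o1]; exact orderOf_dvd_natCard y'
    have o3 := (hp.pow_dvd_iff_le_factorization Nat.card_pos.ne').1 o2
    have o4 := (hp.pow_dvd_iff_le_factorization (k := 2) (Nat.card_pos (α := K)).ne').not.1 h2
    rw [Nat.card_zpowers, o1, show (Nat.card K).factorization p = 1 by omega, pow_one]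
  let P : Sylow p K := Sylow.ofCard _ h1
  refine ⟨Nat.card (Sylow p K), card_sylow_modEq_one p K, ?_⟩
  rw [P.card_eq_index_normalizer, ← (Subgroup.normalizer (P : Set K)).index_mul_card]
  congr 1
  rw [← Subgroup.card_map_of_injective K.subtype_injective]
  refine congrArg (fun S : Subgroup G => Nat.card S) ?_
  have e1 : Subgroup.zpowers y' = (Subgroup.zpowers y).subgroupOf K := by
    ext x
    simp [Subgroup.mem_subgroupOf, Subgroup.mem_zpowers_iff, Subtype.ext_iff, y']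
  have e2 := Subgroup.subgroupOf_normalizer_eq (Subgroup.zpowers_le.2 hy)
  change _ = (Subgroup.normalizer (Subgroup.zpowers y' : Set K)).map K.subtype
  rw [e1, ← e2, Subgroup.subgroupOf_map_subtype, inf_comm]

/-- A subgroup of order `2 ^ a` in a group with a larger Sylow subgroup. -/
theorem exists_norm {a : ℕ} {K : Subgroup G} {z : G} (hz : z ∈ K) (ho : orderOf z = 2 ^ a)
    (h : 2 ^ (a + 1) ∣ Nat.card K) : ∃ u ∈ K, u ∉ Subgroup.zpowers z ∧
      u ∈ Subgroup.normalizer (Subgroup.zpowers z : Set G) ∧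
      ∀ v ∈ Subgroup.zpowers z, (v * u) ^ 2 ^ (a + 1) = 1 := by
  have hle : Subgroup.zpowers z ≤ K := Subgroup.zpowers_le.2 hz
  obtain ⟨Q, q1, q2⟩ := Sylow.exists_subgroup_card_pow_succ (G := K) (p := 2) h
    (H := (Subgroup.zpowers z).subgroupOf K)
    (by rw [Nat.card_congr (Subgroup.subgroupOfEquivOfLe hle).toEquiv, Nat.card_zpowers, ho])
  let Q' := Q.map K.subtype
  have c1 : Nat.card Q' = 2 ^ (a + 1) := by
    rw [Subgroup.card_map_of_injective K.subtype_injective, q1]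
  have l1 : Subgroup.zpowers z ≤ Q' := fun v hv => ⟨⟨v, hle hv⟩, q2 hv, rfl⟩
  have i1 := ((Subgroup.zpowers z).subgroupOf Q').index_mul_card
  rw [Nat.card_congr (Subgroup.subgroupOfEquivOfLe l1).toEquiv, Nat.card_zpowers, ho, c1,
    pow_succ'] at i1
  have i2 := Nat.eq_of_mul_eq_mul_right (Nat.two_pow_pos a) i1
  have n1 := (Subgroup.normal_subgroupOf_iff_le_normalizer l1).1 (Subgroup.normal_of_index_eq_two i2)
  obtain ⟨u, u1, u2⟩ : ∃ u ∈ Q', u ∉ Subgroup.zpowers z := by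
    by_contra h
    push Not at h
    rw [Subgroup.subgroupOf_eq_top.2 h] at i2
    simp at i2
  refine ⟨u, Subgroup.map_subtype_le Q u1, u2, n1 u1, fun v hv => ?_⟩
  have := pow_card_eq_one' (x := (⟨v * u, mul_mem (l1 hv) u1⟩ : Q'))
  rw [c1] at this
  exact congrArg Subtype.val this

end Abs

/-- Reduction of `A2` for subgroups of order `15600`. -/
theorem a2_of_norm (M : Model ρ N D k l b0 c0) (hn : NetsOK N nets) (hk : N ≤ 2 ^ kk)
    (hρ : ∀ c, ρ (e c) = sg nets c) {mu y z t r x : ℕ} {L : List ℕ} {gs : List (List ℕ)}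
    {pY pZ : List Ins} {ch : List (ℕ × ℕ × ℕ × List ℕ)} {W : List (List ℕ × ℕ × ℕ × List ℕ)}
    (hH : Nat.card (stab ρ 0) = 15600 * l) (hl : ¬ 13 ^ 2 ∣ 15600 * l)
    (hy : orderOf (e y) = 13) (hz : orderOf (e z) = 2 ^ 2)
    (n1 : e z * e y * (e z)⁻¹ ∈ Subgroup.zpowers (e y))
    (n2 : e t * e y * (e t)⁻¹ ∈ Subgroup.zpowers (e y))
    (rY : and2 (run N kk nets D [] pY [mov N kk (nets y), 1]) (Nat.ble (bound pY) 156) = true)
    (rZ : and2 (run N kk nets D [] pZ [mov N kk (nets z), 1]) (Nat.ble (bound pZ) 384) = true)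
    (cY : and2 (and2 (fixL nets [y, z, t] 0) (chkInv nets [y, z, t] (mov N kk (nets y))))
      (chkChain N kk nets ch [y, z, t]) = true) (hch : 156 ≤ (ch.map fun a => a.2.2.1).prod)
    (cW : chkWords kk nets (mov N kk (nets z)) L (W.map Prod.fst) z r x 384 = true)
    (hW : ∀ a ∈ W, chkW N kk nets D mu 8 y z gs a = true) : A2 ρ N D l mu := by
  have := M.finite
  intro K m hK hc m1 m2 m3
  have hk0 : 0 < l := Nat.pos_of_ne_zero (by rintro rfl; simp at hl)
  have hc' : Nat.card K = 15600 := Nat.eq_of_mul_eq_mul_right hk0 (hc.trans hH)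
  rw [and2_true] at cY
  have x1 := gen_le_stabS hn hρ cY.1
  have x2 := card_stabS M hn hk hρ rY
  have x3 := hch.trans (le_card_gen_of_chain hn (fun g hg => M.inj (by
    ext i
    by_cases hi : i < N
    · simp [hg i hi]
    · simp [M.fix g i (not_lt.1 hi)])) (fun c _ => hρ c) cY.2)
  have x4 := Subgroup.eq_of_le_of_card_ge x1 (x2.trans x3)
  have x5 : Nat.card (StabS ρ (mov N kk (nets y))) = 156 := le_antisymm x2 (x4 ▸ x3)
  have nrm : ∀ g : G0, g * e y * g⁻¹ ∈ Subgroup.zpowers (e y) →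
      g ∈ Subgroup.normalizer (Subgroup.zpowers (e y) : Set G0) := fun g hg =>
    Subgroup.mem_normalizer_fintype (by
      rintro _ ⟨n, rfl⟩
      change g * e y ^ n * g⁻¹ ∈ Subgroup.zpowers (e y)
      rw [← conj_zpow]
      exact zpow_mem hg n)
  have x6 : StabS ρ (mov N kk (nets y)) ≤ Subgroup.normalizer (Subgroup.zpowers (e y) : Set G0) := by
    rw [← x4, gen_le]
    simp only [List.mem_cons, List.not_mem_nil, or_false, forall_eq_or_imp, forall_eq]
    exact ⟨nrm _ (by simp), nrm _ n1, nrm _ n2⟩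
  have y0 : e y ∈ StabS ρ (mov N kk (nets y)) := x1 (mem_gen (by simp))
  have z0 : e z ∈ StabS ρ (mov N kk (nets y)) := x1 (mem_gen (by simp))
  obtain ⟨g, hg, h1⟩ := exists_conj_le (p := 13) (a := 1) (by norm_num) hK
    (Subgroup.zpowers_le.2 y0.1) (isPGroup_zpowers (a := 1) (by rw [pow_one, ← hy]; simp))
    (by rw [hc']; norm_num) (hH ▸ hl)
  refine nice_cj M hg m1 m2 m3 fun m m1 m2 m3 => ?_
  have k1 := cj_le hg hK
  have k2 := (card_cj g K).trans hc'
  have k3 : e y ∈ cj g K := mem_cj.2 (h1 _ (Subgroup.mem_zpowers _))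
  generalize cj g K = K at k1 k2 k3 m3
  obtain ⟨n, s1, s2⟩ := sylow_count (by norm_num) k3 hy (by rw [k2]; norm_num)
  have s3 : K ⊓ Subgroup.normalizer (Subgroup.zpowers (e y) : Set G0) ≤
      StabS ρ (mov N kk (nets y)) := fun g hg => mem_stabS hn hk hρ (k1 hg.1) hg.2
  have s4 := Subgroup.card_dvd_of_le s3
  rw [x5] at s4
  obtain ⟨h, hh, h2⟩ := exists_conj_le (p := 2) (a := 2) (by norm_num) s3
    (Subgroup.zpowers_le.2 z0) (isPGroup_zpowers (a := 2) (by rw [← hz]; simp))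
    (by
      rw [k2] at s2
      generalize Nat.card ↥(K ⊓ Subgroup.normalizer (Subgroup.zpowers (e y) : Set G0)) = d at s2 s4
      have : d ∈ Nat.divisors 156 := Nat.mem_divisors.2 ⟨s4, by norm_num⟩
      rw [show Nat.divisors 156 = {1, 2, 3, 4, 6, 12, 13, 26, 39, 52, 78, 156} by decide] at this
      simp only [Finset.mem_insert, Finset.mem_singleton] at this
      rcases this with h | h | h | h | h | h | h | h | h | h | h | h <;> subst h <;> omega) (by rw [x5]; norm_num)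
  refine nice_cj M hh.1 m1 m2 m3 fun m m1 m2 m3 => ?_
  have l1 := cj_le (K := K) (H := stab ρ 0) hh.1 k1
  have l2 := (card_cj h K).trans k2
  have l3 : e y ∈ cj h K := mem_cj.2 (Subgroup.zpowers_le.2 k3 (by
    simpa using (Subgroup.mem_normalizer_iff.1 (inv_mem (x6 hh)) (e y)).1 (Subgroup.mem_zpowers _)))
  have l4 : e z ∈ cj h K := mem_cj.2 (h2 _ (Subgroup.mem_zpowers _)).1
  generalize cj h K = K at l1 l2 l3 l4 m3
  obtain ⟨u, u1, u2, u3, u4⟩ := exists_norm l4 hz (by rw [l2]; norm_num)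
  obtain ⟨_, w1, v, v1, rfl⟩ := mem_words hn hρ cW (card_stabS M hn hk hρ rZ)
    (mem_stabS hn hk hρ (l1 u1) u3)
  obtain ⟨a, a1, rfl⟩ := List.mem_map.1 w1
  refine chkW_spec M hn hk hρ (hW a a1) (fun h => u2 (by simpa [h] using v1))
    (by simpa using u4 _ (inv_mem v1)) l3 l4 ?_ m1 m2 m3
  simpa using mul_mem (inv_mem (Subgroup.zpowers_le.2 l4 v1)) u1

end H10.R3
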