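import Mathlib
import Cfsg.Agent.H10.R3Half

/-!
# Bit-sliced integer linear algebra for families of vectors
-/

set_option autoImplicit false
set_option linter.all false

namespace H10.Ru

open H29 H10.R3
open Finset hiding val

theorem testBit_val : ∀ (P : List ℕ) (i j : ℕ), (val P i).testBit j = (nth 0 P j).testBit i
  | [], i, j => by simp [val, show nth 0 [] j = 0 from rfl]
  | a :: P, i, 0 => by
    rw [val, show nth 0 (a :: P) 0 = a from rfl, Nat.testBit_zero]
    cases a.testBit i <;> simp <;> omega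
  | a :: P, i, j + 1 => by
    rw [val, show nth 0 (a :: P) (j + 1) = nth 0 P j from rfl, Nat.testBit_succ,
      ← testBit_val P i j]
    congr 1
    cases a.testBit i <;> simp <;> omega

theorem nth_map {α β : Type} (f : α → β) (d : α) : ∀ (l : List α) (n : ℕ),
    nth (f d) (l.map f) n = f (nth d l n)
  | [], _ => rfl
  | _ :: _, 0 => rfl
  | _ :: l, n + 1 => nth_map f d l n

theorem nth_range (f : ℕ → ℕ) {n k : ℕ} (h : k < n) : nth 0 ((List.range n).map f) k = f k := by
  simp [nth_eq, List.getD_eq_getElem?_getD, h]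

/-- The bit as a number. -/
def bt (a i : ℕ) : ℕ := (a.testBit i).toNat

theorem bt_le (a i : ℕ) : bt a i ≤ 1 := Bool.toNat_le _

theorem bt_inj {a b i j : ℕ} (h : bt a i = bt b j) : a.testBit i = b.testBit j := by
  revert h; unfold bt; cases a.testBit i <;> cases b.testBit j <;> simp

theorem bt_xor (a b i : ℕ) : bt (a ^^^ b) i = (bt a i + bt b i) % 2 := by
  unfold bt; rw [Nat.testBit_xor]; cases a.testBit i <;> cases b.testBit i <;> simp

theorem bt_and (a b i : ℕ) : bt (a &&& b) i = bt a i * bt b i := by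
  unfold bt; rw [Nat.testBit_and]; cases a.testBit i <;> cases b.testBit i <;> simp

theorem bt_zero (a : ℕ) : bt a 0 = a % 2 := by
  unfold bt; rw [Nat.toNat_testBit]; simp

theorem bt_succ (a i : ℕ) : bt a (i + 1) = bt (a >>> 1) i := by
  unfold bt; rw [Nat.testBit_shiftRight, add_comm]

theorem bt_val (P : List ℕ) (i j : ℕ) : bt (val P i) j = bt (nth 0 P j) i := by
  unfold bt; rw [testBit_val]

theorem bt_of_true {a i : ℕ} (h : a.testBit i = true) : bt a i = 1 := by simp [bt, h]
theorem bt_of_false {a i : ℕ} (h : a.testBit i = false) : bt a i = 0 := by simp [bt, h]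

/-- The xor of the members of `l` selected by the bits of a number. -/
noncomputable def gA (l : List ℕ) : ℕ → ℕ :=
  List.rec (motive := fun _ => ℕ → ℕ) (fun _ => 0) (fun c _ ih a => lit (Nat.shiftRight a 1) fun b =>
    Bool.rec (Nat.xor c (ih b)) (ih b) (Nat.beq (Nat.land a 1) 0)) l

theorem gA_cons (c : ℕ) (l : List ℕ) (a : ℕ) : gA (c :: l) a =
    if a % 2 = 0 then gA l (a >>> 1) else c ^^^ gA l (a >>> 1) := by
  rw [show gA (c :: l) a = Bool.rec (Nat.xor c (gA l (a >>> 1))) (gA l (a >>> 1))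
    (Nat.beq (a &&& 1) 0) from rfl, Nat.and_one_is_mod]
  rcases Nat.mod_two_eq_zero_or_one a with h | h <;> rw [h] <;> rfl

theorem bt_gA : ∀ (l : List ℕ) (a i : ℕ),
    bt (gA l a) i = (∑ k ∈ range l.length, bt a k * bt (nth 0 l k) i) % 2
  | [], a, i => by simp [show gA [] a = 0 from rfl, bt]
  | c :: l, a, i => by
    rw [gA_cons, List.length_cons, sum_range_succ', bt_zero]
    simp only [bt_succ, show ∀ k, nth 0 (c :: l) (k + 1) = nth 0 l k from fun _ => rfl,
      show nth 0 (c :: l) 0 = c from rfl]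
    rcases Nat.mod_two_eq_zero_or_one a with h | h
    · rw [if_pos h, bt_gA l, h]; simp
    · rw [if_neg (by omega), bt_xor, bt_gA l, h]; omega

/-- The number of bits below `n`. -/
noncomputable def wt (n a : ℕ) : ℕ :=
  Nat.rec (motive := fun _ => ℕ) 0
    (fun k ih => Nat.add (Nat.land (Nat.shiftRight a k) 1) ih) n

theorem wt_eq (a : ℕ) : ∀ n, wt n a = ∑ k ∈ range n, bt a k
  | 0 => rfl
  | n + 1 => by
    rw [show wt (n + 1) a = (a >>> n &&& 1) + wt n a from rfl, wt_eq a n, sum_range_succ,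
      Nat.and_one_is_mod, add_comm, bt, Nat.toNat_testBit, Nat.shiftRight_eq_div_pow]

/-- No nonempty selection of at most `n` members of the list has xor `s`. -/
noncomputable def nr (n : ℕ) : List ℕ → ℕ → Bool :=
  Nat.rec (motive := fun _ => List ℕ → ℕ → Bool) (fun _ _ => true) (fun _ ih l =>
    List.rec (motive := fun _ => ℕ → Bool) (fun _ => true) (fun c l ih' s =>
      and2 (ih' s) (lit (Nat.xor s c) fun t => and2 (Bool.not (Nat.beq t 0)) (ih l t))) l) n

theorem gA_zero : ∀ (l : List ℕ) (T : ℕ), (∀ k < l.length, bt T k = 0) → gA l T = 0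
  | [], _, _ => rfl
  | c :: l, T, h => by
    rw [gA_cons, if_pos (by rw [← bt_zero]; exact h 0 (by simp)), gA_zero l]
    intro k hk
    rw [← bt_succ]; exact h _ (by simpa using hk)

theorem nr_spec : ∀ (n : ℕ) (l : List ℕ) (s T : ℕ), nr n l s = true → gA l T = s →
    ∑ k ∈ range l.length, bt T k ≤ n → ∀ k < l.length, bt T k = 0
  | 0, l, s, T, _, _, h => fun k hk =>
    Finset.sum_eq_zero_iff.1 (Nat.le_zero.1 h) k (mem_range.2 hk)
  | n + 1, [], s, T, _, _, _ => by simp
  | n + 1, c :: l, s, T, h1, h2, h3 => by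
    rw [show nr (n + 1) (c :: l) s = and2 (nr (n + 1) l s) (and2 (Bool.not (Nat.beq (s ^^^ c) 0))
      (nr n l (s ^^^ c))) from rfl, and2_true, and2_true] at h1
    rw [gA_cons] at h2
    rw [List.length_cons, sum_range_succ', bt_zero] at h3
    simp only [bt_succ] at h3
    rcases Nat.mod_two_eq_zero_or_one T with h | h
    · rw [if_pos h] at h2
      have := nr_spec (n + 1) l s _ h1.1 h2 (by omega)
      intro k hk
      cases k with
      | zero => rw [bt_zero, h]
      | succ k => rw [bt_succ]; exact this k (by simpa using hk)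
    · rw [if_neg (by omega)] at h2
      have h4 : gA l (T >>> 1) = s ^^^ c := by
        rw [← h2, Nat.xor_comm c, Nat.xor_assoc, Nat.xor_self, Nat.xor_zero]
      have := gA_zero l _ (nr_spec n l _ _ h1.2.2 h4 (by omega))
      rw [← h4, this] at h1
      exact absurd h1.2.1 (by decide)

/-- Add two bit-sliced numbers. -/
noncomputable def addL {α : Type} (Q : List ℕ) : List ℕ → (List ℕ → α) → α :=
  List.rec (motive := fun _ => List ℕ → (List ℕ → α) → α) (fun P k => k P)
    (fun q _ ih P k => addP P q fun P' => List.rec (motive := fun _ => α)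
      (ih [] fun R => k (0 :: R)) (fun p P'' _ => ih P'' fun R => k (p :: R)) P') Q

theorem addL_spec {α : Type} : ∀ (Q P : List ℕ), ∃ R : List ℕ,
    (∀ k : List ℕ → α, addL Q P k = k R) ∧ ∀ i, val R i = val P i + val Q i
  | [], P => ⟨P, fun _ => rfl, fun _ => rfl⟩
  | q :: Q, P => by
    obtain ⟨P', h1, h2⟩ := addP_spec (α := α) P q
    have e : ∀ k : List ℕ → α, addL (q :: Q) P k = addP P q fun P' =>
      List.rec (motive := fun _ => α) (addL Q [] fun R => k (0 :: R))
        (fun p P'' _ => addL Q P'' fun R => k (p :: R)) P' := fun _ => rfl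
    cases P' with
    | nil =>
      obtain ⟨R, h3, h4⟩ := addL_spec (α := α) Q []
      refine ⟨0 :: R, fun k => by rw [e, h1]; exact h3 _, fun i => ?_⟩
      have := h2 i
      simp only [val, h4, Nat.zero_testBit, Bool.toNat_false] at this ⊢
      omega
    | cons p P' =>
      obtain ⟨R, h3, h4⟩ := addL_spec (α := α) Q P'
      refine ⟨p :: R, fun k => by rw [e, h1]; exact h3 _, fun i => ?_⟩
      have := h2 i
      simp only [val, h4] at this ⊢
      omega

/-- Add the numbers `X j`, `j < n`, selected by the bits of `m`. -/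
noncomputable def sumSel {α : Type} (m : ℕ) (X : ℕ → List ℕ) (n : ℕ) :
    List ℕ → (List ℕ → α) → α :=
  Nat.rec (motive := fun _ => List ℕ → (List ℕ → α) → α) (fun P k => k P)
    (fun j ih P k => Bool.rec (addL (X j) P fun R => ih R k) (ih P k)
      (Nat.beq (Nat.land (Nat.shiftRight m j) 1) 0)) n

theorem sumSel_spec {α : Type} (m : ℕ) (X : ℕ → List ℕ) : ∀ (n : ℕ) (P : List ℕ), ∃ R : List ℕ,
    (∀ k : List ℕ → α, sumSel m X n P k = k R) ∧
      ∀ i, val R i = val P i + ∑ j ∈ range n, bt m j * val (X j) i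
  | 0, P => ⟨P, fun _ => rfl, fun _ => rfl⟩
  | n + 1, P => by
    have e : ∀ k : List ℕ → α, sumSel m X (n + 1) P k = Bool.rec
      (addL (X n) P fun R => sumSel m X n R k) (sumSel m X n P k)
      (Nat.beq (m >>> n &&& 1) 0) := fun _ => rfl
    have e2 : m >>> n &&& 1 = bt m n := by
      rw [Nat.and_one_is_mod, bt, Nat.toNat_testBit, Nat.shiftRight_eq_div_pow]
    rw [e2] at e
    rcases (show bt m n = 0 ∨ bt m n = 1 by have := bt_le m n; omega) with h | h
    · obtain ⟨R, h1, h2⟩ := sumSel_spec (α := α) m X n P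
      exact ⟨R, fun k => by rw [e, h]; exact h1 k, fun i => by rw [h2, sum_range_succ, h]; simp⟩
    · obtain ⟨Q, h1, h2⟩ := addL_spec (α := α) (X n) P
      obtain ⟨R, h3, h4⟩ := sumSel_spec (α := α) m X n Q
      exact ⟨R, fun k => by rw [e, h]; exact (h1 _).trans (h3 k),
        fun i => by rw [h4, h2, sum_range_succ, h]; ring⟩

/-- The sum of the products of the numbers `val A j` and `X j`. -/
noncomputable def mulSel {α : Type} (X : ℕ → List ℕ) (n : ℕ) (A : List ℕ) :
    (List ℕ → α) → α :=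
  List.rec (motive := fun _ => (List ℕ → α) → α) (fun k => k [])
    (fun a _ ih k => ih fun R => sumSel a X n (0 :: R) k) A

theorem mulSel_spec {α : Type} (X : ℕ → List ℕ) (n : ℕ) : ∀ A : List ℕ, ∃ R : List ℕ,
    (∀ k : List ℕ → α, mulSel X n A k = k R) ∧
      ∀ i, val R i = ∑ j ∈ range n, val A j * val (X j) i
  | [] => ⟨[], fun _ => rfl, fun _ => by simp [val]⟩
  | a :: A => by
    obtain ⟨Q, h1, h2⟩ := mulSel_spec (α := α) X n A
    obtain ⟨R, h3, h4⟩ := sumSel_spec (α := α) a X n (0 :: Q)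
    refine ⟨R, fun k => (h1 _).trans (h3 k), fun i => ?_⟩
    rw [h4, val, h2, mul_sum, Nat.zero_testBit, Bool.toNat_false, zero_add, ← sum_add_distrib]
    exact sum_congr rfl fun j _ => by rw [val, bt]; ring

/-- Equality of bit-sliced numbers. -/
noncomputable def eqV (A : List ℕ) : List ℕ → Bool :=
  List.rec (motive := fun _ => List ℕ → Bool) (fun B => allL B fun b => Nat.beq b 0)
    (fun a _ ih B => List.rec (motive := fun _ => Bool) (and2 (Nat.beq a 0) (ih []))
      (fun b B' _ => and2 (Nat.beq a b) (ih B')) B) A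

theorem eqV_spec : ∀ (A B : List ℕ), eqV A B = true → ∀ i, val A i = val B i
  | [], [], _, _ => rfl
  | [], b :: B, h, i => by
    rw [show eqV [] (b :: B) = and2 (Nat.beq b 0) (eqV [] B) from rfl, and2_true,
      H29.beq_true] at h
    simp [val, h.1, ← eqV_spec [] B h.2 i]
  | a :: A, [], h, i => by
    rw [show eqV (a :: A) [] = and2 (Nat.beq a 0) (eqV A []) from rfl, and2_true,
      H29.beq_true] at h
    simp [val, h.1, eqV_spec A [] h.2 i]
  | a :: A, b :: B, h, i => by
    rw [show eqV (a :: A) (b :: B) = and2 (Nat.beq a b) (eqV A B) from rfl, and2_true,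
      H29.beq_true] at h
    simp [val, h.1, eqV_spec A B h.2 i]

/-- A family of integer vectors: coordinate `k` has a positive and a negative part. -/
abbrev Fam : Type := ℕ → List ℕ × List ℕ

/-- Coordinate `k` of vector `j`. -/
def fv (F : Fam) (j k : ℕ) : ℤ := (val (F k).1 j : ℤ) - val (F k).2 j

/-- Matrix times vector; the columns of the matrix are the vectors of `T`. -/
def mv (T : Fam) (x : ℕ → ℤ) (q : ℕ) : ℤ := ∑ k ∈ range 56, fv T k q * x k

/-- Multiply by `2 ^ s`. -/
noncomputable def sh (s : ℕ) (P : List ℕ) : List ℕ :=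
  Nat.rec (motive := fun _ => List ℕ) P (fun _ ih => 0 :: ih) s

theorem val_sh (P : List ℕ) (i : ℕ) : ∀ s, val (sh s P) i = 2 ^ s * val P i
  | 0 => by simp [show sh 0 P = P from rfl]
  | s + 1 => by
    rw [show sh (s + 1) P = 0 :: sh s P from rfl, val, val_sh P i s]; simp; ring

/-- Test `T X = 2 ^ s Y`. -/
noncomputable def chkLin (T X Y : Fam) (s : ℕ) : Bool :=
  allN 56 fun q =>
    mulSel (fun k => (X k).1) 56 (T q).1 fun a => mulSel (fun k => (X k).2) 56 (T q).2 fun b =>
    mulSel (fun k => (X k).2) 56 (T q).1 fun c => mulSel (fun k => (X k).1) 56 (T q).2 fun d =>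
    addL a b fun u => addL (sh s (Y q).2) u fun l => addL c d fun v =>
    addL (sh s (Y q).1) v fun r => eqV l r

theorem chkLin_spec {T X Y : Fam} {s : ℕ} (h : chkLin T X Y s = true) (j : ℕ) :
    ∀ q < 56, mv T (fv X j) q = 2 ^ s * fv Y j q := by
  intro q hq
  have h1 := allN_true.1 h q hq
  obtain ⟨a, a1, a2⟩ := mulSel_spec (α := Bool) (fun k => (X k).1) 56 (T q).1
  obtain ⟨b, b1, b2⟩ := mulSel_spec (α := Bool) (fun k => (X k).2) 56 (T q).2
  obtain ⟨c, c1, c2⟩ := mulSel_spec (α := Bool) (fun k => (X k).2) 56 (T q).1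
  obtain ⟨d, d1, d2⟩ := mulSel_spec (α := Bool) (fun k => (X k).1) 56 (T q).2
  obtain ⟨u, u1, u2⟩ := addL_spec (α := Bool) a b
  obtain ⟨l, l1, l2⟩ := addL_spec (α := Bool) (sh s (Y q).2) u
  obtain ⟨v, v1, v2⟩ := addL_spec (α := Bool) c d
  obtain ⟨r, r1, r2⟩ := addL_spec (α := Bool) (sh s (Y q).1) v
  rw [a1, b1, c1, d1, u1, l1, v1, r1] at h1
  have h2 := eqV_spec _ _ h1 j
  rw [l2, r2, u2, v2, val_sh, val_sh, a2, b2, c2, d2] at h2
  have h3 := congrArg (Nat.cast : ℕ → ℤ) h2
  push_cast at h3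
  simp only [mv, fv, sub_mul, mul_sub, sum_sub_distrib]
  linarith

/-- Multiplication by `i` in real coordinates. -/
def cI (x : ℕ → ℤ) (q : ℕ) : ℤ := if q % 2 = 0 then -x (q + 1) else x (q - 1)

/-- The family multiplied by `i`. -/
noncomputable def famI (F : Fam) : Fam := fun q =>
  Bool.rec (F (Nat.pred q)) ((F (Nat.succ q)).2, (F (Nat.succ q)).1) (Nat.beq (Nat.mod q 2) 0)

theorem fv_famI (F : Fam) (j : ℕ) : fv (famI F) j = cI (fv F j) := by
  funext q
  rw [cI, fv, famI, show Nat.mod q 2 = q % 2 from rfl]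
  rcases Nat.mod_two_eq_zero_or_one q with h | h <;> rw [h]
  · simp [fv, show Nat.beq 0 0 = true from rfl]
  · simp [fv, show Nat.beq 1 0 = false from rfl]

/-- The family pulled back along a network. -/
noncomputable def famP (n : Net) (F : Fam) : Fam := fun q => (mapPull n (F q).1, mapPull n (F q).2)

theorem fv_famP {K : ℕ} {n : Net} (h : n.valid K = true) (F : Fam) (j : ℕ) :
    fv (famP n F) j = fv F (n.perm j) := by
  funext q; simp [fv, famP, val_mapPull h]

/-- All coordinates have three planes. -/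
def Len (F : Fam) : Prop := ∀ q, (F q).1.length = 3 ∧ (F q).2.length = 3

theorem Len.famI {F : Fam} (h : Len F) : Len (famI F) := fun q => by
  rw [H10.Ru.famI]
  cases Nat.beq (Nat.mod q 2) 0
  · exact h _
  · exact (h _).symm

theorem Len.famP {F : Fam} (h : Len F) (n : Net) : Len (famP n F) := fun q => by
  simpa [H10.Ru.famP, mapPull_length] using h q

/-- Choose between two families. -/
noncomputable def famS (m : ℕ) (F G : Fam) : Fam := fun q =>
  (selP m (F q).1 (G q).1, selP m (F q).2 (G q).2)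

theorem Len.famS {F G : Fam} (h : Len F) (h' : Len G) (m : ℕ) : Len (famS m F G) := fun q =>
  ⟨(selP_spec m _ _ ((h q).1.trans (h' q).1.symm)).1.trans (h q).1,
    (selP_spec m _ _ ((h q).2.trans (h' q).2.symm)).1.trans (h q).2⟩

theorem fv_famS {F G : Fam} (h : Len F) (h' : Len G) (m j : ℕ) :
    fv (famS m F G) j = if m.testBit j then fv G j else fv F j := by
  funext q
  rw [fv, famS, (selP_spec m _ _ ((h q).1.trans (h' q).1.symm)).2,
    (selP_spec m _ _ ((h q).2.trans (h' q).2.symm)).2]
  cases m.testBit j <;> simp [fv]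

/-- Multiply the vectors of a family by units. -/
noncomputable def famU (u v : ℕ) (F : Fam) : Fam :=
  famS v (famS u F (famI F)) (famI (famI (famS u F (famI F))))

theorem fv_famU {F : Fam} (h : Len F) (u v j : ℕ) : ∃ n : ℕ, fv (famU u v F) j = cI^[n] (fv F j) := by
  have h1 := h.famS h.famI u
  rw [famU, fv_famS h1 h1.famI.famI, fv_famI, fv_famI, fv_famS h h.famI, fv_famI]
  cases u.testBit j <;> cases v.testBit j
  · exact ⟨0, rfl⟩
  · exact ⟨2, rfl⟩
  · exact ⟨1, rfl⟩
  · exact ⟨3, rfl⟩

/-- A family with entries `0, ±1, ±4`. -/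
noncomputable def fam (a b c d : List ℕ) : Fam := fun k =>
  ([nth 0 a k, 0, nth 0 b k], [nth 0 c k, 0, nth 0 d k])

theorem len_fam (a b c d : List ℕ) : Len (fam a b c d) := fun _ => ⟨rfl, rfl⟩

theorem fv_fam (a b c d : List ℕ) (j k : ℕ) : fv (fam a b c d) j k =
    bt (nth 0 a k) j + 4 * bt (nth 0 b k) j - bt (nth 0 c k) j - 4 * bt (nth 0 d k) j := by
  simp [fv, fam, val, bt]; ring

/-- The transposed family. -/
noncomputable def famT (a b c d : List ℕ) : Fam := fun k =>
  ([valK a k, 0, valK b k], [valK c k, 0, valK d k])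

theorem fv_famT (a b c d : List ℕ) (j k : ℕ) :
    fv (famT a b c d) j k = fv (fam a b c d) k j := by
  simp [fv, fam, famT, val, valK_eq, testBit_val]

theorem norm_mv {a b c d : List ℕ}
    (h : chkLin (famT a b c d) (fam a b c d) (fun q => ([bit q], [])) 4 = true) (x : ℕ → ℤ) :
    ∑ q ∈ range 56, mv (fam a b c d) x q ^ 2 = 16 * ∑ q ∈ range 56, x q ^ 2 := by
  have h1 : ∀ k ∈ range 56, ∀ l, ∑ q ∈ range 56, fv (fam a b c d) k q * fv (fam a b c d) l q =
      if k = l then 16 else 0 := fun k hk l => by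
    have := chkLin_spec h l k (mem_range.1 hk)
    simp only [mv, fv_famT] at this
    rw [this]
    by_cases e : k = l <;> simp [fv, val, testBit_bit, e]
  calc _ = ∑ q ∈ range 56, ∑ k ∈ range 56, ∑ l ∈ range 56,
        x k * x l * (fv (fam a b c d) k q * fv (fam a b c d) l q) :=
      sum_congr rfl fun q _ => by
        rw [sq, mv, sum_mul_sum]
        exact sum_congr rfl fun k _ => sum_congr rfl fun l _ => by ring
    _ = ∑ k ∈ range 56, ∑ l ∈ range 56, x k * x l * if k = l then 16 else 0 := by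
      rw [sum_comm]
      refine sum_congr rfl fun k hk => ?_
      rw [sum_comm]
      exact sum_congr rfl fun l _ => by rw [← mul_sum, h1 k hk]
    _ = _ := by
      rw [mul_sum]
      refine sum_congr rfl fun k hk => ?_
      simp only [mul_ite, mul_zero, sum_ite_eq, if_pos hk]
      ring

/-- A monomial matrix. -/
noncomputable def famM (p : List ℕ) (s : ℕ) : Fam := fun q =>
  Bool.rec ([bit (nth 0 p q)], []) ([], [bit (nth 0 p q)]) (Nat.testBit s q)

theorem mv_famM (p : List ℕ) (s : ℕ) (x : ℕ → ℤ) {q : ℕ} (h : nth 0 p q < 56) :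
    mv (famM p s) x q = if s.testBit q then -x (nth 0 p q) else x (nth 0 p q) := by
  rw [mv, sum_eq_single_of_mem (nth 0 p q) (mem_range.2 h)]
  · rw [fv, famM]; cases s.testBit q <;> simp [val, testBit_bit]
  · intro k _ hk
    rw [fv, famM]; cases s.testBit q <;> simp [val, testBit_bit, hk.symm]

/-- The parity plane. -/
noncomputable def parF (F : Fam) (k : ℕ) : ℕ := Nat.xor (nth 0 (F k).1 0) (nth 0 (F k).2 0)

theorem val_mod_two (P : List ℕ) (j : ℕ) : val P j % 2 = bt (nth 0 P 0) j := by
  rw [← bt_zero, bt_val]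

theorem fv_mod_two (F : Fam) (j k : ℕ) : fv F j k % 2 = bt (parF F k) j := by
  rw [parF, xor_eq, bt_xor, ← val_mod_two, ← val_mod_two, fv]
  omega

end H10.Ru
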