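import Mathlib
import Cfsg.Prelude.Def_Spor_Ru
import Cfsg.Agent.H10.RuBits

/-!
# Real coordinates, lattices generated by a family, automorphisms from matrices
-/

set_option autoImplicit false
set_option linter.all false

namespace H10.Ru

open H29 H10.R3 Cfsg.Spor
open Finset hiding val

/-- The complex coordinate of a real one. -/
def ix (k : ℕ) : RuIdx := (Fin.ofNat 7 (k / 8), Fin.ofNat 4 (k / 2))

/-- Real coordinates. -/
def rc (v : RuVec) (k : ℕ) : ℤ := if k % 2 = 0 then (v (ix k)).re else (v (ix k)).im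

/-- The vector with given real coordinates. -/
def mkv (x : ℕ → ℤ) : RuVec := fun p => ⟨x (8 * p.1 + 2 * p.2), x (8 * p.1 + 2 * p.2 + 1)⟩

theorem ix_eq (p : RuIdx) : ix (8 * p.1 + 2 * p.2) = p ∧ ix (8 * p.1 + 2 * p.2 + 1) = p := by
  revert p; decide

theorem rc_re (v : RuVec) (p : RuIdx) : rc v (8 * p.1 + 2 * p.2) = (v p).re := by
  rw [rc, if_pos (by omega), (ix_eq p).1]

theorem rc_im (v : RuVec) (p : RuIdx) : rc v (8 * p.1 + 2 * p.2 + 1) = (v p).im := by
  rw [rc, if_neg (by omega), (ix_eq p).2]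

theorem rc_ext {v w : RuVec} (h : ∀ k < 56, rc v k = rc w k) : v = w := by
  funext p
  have := p.1.2
  have := p.2.2
  ext
  · rw [← rc_re, ← rc_re, h _ (by omega)]
  · rw [← rc_im, ← rc_im, h _ (by omega)]

theorem rc_mkv (x : ℕ → ℤ) {k : ℕ} (h : k < 56) : rc (mkv x) k = x k := by
  rw [rc, mkv, ix]
  simp only [Fin.val_ofNat]
  split_ifs <;> congr 1 <;> omega

theorem rc_add (v w : RuVec) (k : ℕ) : rc (v + w) k = rc v k + rc w k := by
  unfold rc; split_ifs <;> simp

theorem rc_neg (v : RuVec) (k : ℕ) : rc (-v) k = -rc v k := by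
  unfold rc; split_ifs <;> simp

theorem rc_zero (k : ℕ) : rc 0 k = 0 := by
  unfold rc; split_ifs <;> simp

theorem rc_I (v : RuVec) : rc (gI • v) = cI (rc v) := by
  funext k
  unfold cI rc
  by_cases h : k % 2 = 0
  · rw [if_pos h, if_pos h, if_neg (by omega), show ix (k + 1) = ix k by
      unfold ix; congr 2 <;> omega]
    simp [gI]
  · rw [if_neg h, if_neg h, if_pos (by omega), show ix (k - 1) = ix k by
      unfold ix; congr 2 <;> omega]
    simp [gI]

theorem cI_congr {x y : ℕ → ℤ} (h : ∀ k < 56, x k = y k) : ∀ k < 56, cI x k = cI y k := by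
  intro k hk
  unfold cI
  split_ifs
  · rw [h _ (by omega)]
  · rw [h _ (by omega)]

theorem rc_pow {v : RuVec} {x : ℕ → ℤ} (h : ∀ k < 56, rc v k = x k) :
    ∀ n : ℕ, ∀ k < 56, rc (gI ^ n • v) k = cI^[n] x k
  | 0 => by simpa using h
  | n + 1 => by
    rw [pow_succ', mul_smul, rc_I, Function.iterate_succ_apply']
    exact cI_congr (rc_pow h n)

theorem mv_congr (T : Fam) {x y : ℕ → ℤ} (h : ∀ k < 56, x k = y k) : mv T x = mv T y :=
  funext fun _ => sum_congr rfl fun k hk => by rw [h k (mem_range.1 hk)]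

theorem gI_sq : gI * gI = -1 := by decide

theorem gI_four : gI ^ 4 = 1 := by decide

theorem II (v : RuVec) : gI • gI • v = -v := by rw [smul_smul, gI_sq, neg_one_smul]

/-- The real inner product. -/
def dot (v w : RuVec) : ℤ := ∑ p, ((v p).re * (w p).re + (v p).im * (w p).im)

theorem dot_eq (v w : RuVec) : dot v w = ∑ k ∈ range 56, rc v k * rc w k := by
  simp only [dot, ← rc_re, ← rc_im, Fintype.sum_prod_type, Fin.sum_univ_seven, Fin.sum_univ_four,
    sum_range_succ, sum_range_zero]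
  norm_num
  abel

theorem norm_dot (v : RuVec) : ruNorm v = dot v v :=
  sum_congr rfl fun p _ => by simp [Zsqrtd.norm_def]

theorem norm_eq (v : RuVec) : ruNorm v = ∑ k ∈ range 56, rc v k ^ 2 := by
  simp only [norm_dot, dot_eq, sq]

theorem norm_add (v w : RuVec) : ruNorm (v + w) = ruNorm v + ruNorm w + 2 * dot v w := by
  simp only [norm_dot, dot_eq, rc_add, mul_sum, ← sum_add_distrib]
  exact sum_congr rfl fun _ _ => by ring

theorem norm_neg (v : RuVec) : ruNorm (-v) = ruNorm v := by simp [ruNorm]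

theorem norm_I (v : RuVec) : ruNorm (gI • v) = ruNorm v := by
  simp [ruNorm, show gI.norm = 1 by decide]

theorem norm_pow (v : RuVec) (n : ℕ) : ruNorm (gI ^ n • v) = ruNorm v := by
  induction n with
  | zero => simp
  | succ n ih => rw [pow_succ', mul_smul, norm_I, ih]

theorem eq_zero_of_norm {v : RuVec} (h : ruNorm v = 0) : v = 0 := by
  rw [norm_eq, sum_eq_zero_iff_of_nonneg fun _ _ => sq_nonneg _] at h
  exact rc_ext fun k hk => by rw [rc_zero]; simpa using h k (mem_range.2 hk)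

theorem dot_comm (v w : RuVec) : dot v w = dot w v := sum_congr rfl fun _ _ => by ring

theorem dot_add (u v w : RuVec) : dot (u + v) w = dot u w + dot v w := by
  simp only [dot_eq, rc_add, add_mul, sum_add_distrib]

theorem dot_neg (v w : RuVec) : dot (-v) w = -dot v w := by
  simp only [dot_eq, rc_neg, neg_mul, sum_neg_distrib]

theorem dot_I (v w : RuVec) : dot (gI • v) w = -dot v (gI • w) := by
  rw [dot, dot, ← sum_neg_distrib]
  exact sum_congr rfl fun _ _ => by simp [gI]

theorem dot_single (v : RuVec) (p : RuIdx) (c : GaussianInt) :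
    dot v (Pi.single p c) = (v p).re * c.re + (v p).im * c.im := by
  rw [dot, sum_eq_single p (fun q _ h => by simp [h]) (by simp)]; simp

/-- Equality up to a unit. -/
def Sim (v w : RuVec) : Prop := ∃ n : ℕ, w = gI ^ n • v

theorem Sim.refl (v : RuVec) : Sim v v := ⟨0, by simp⟩

theorem Sim.symm {v w : RuVec} : Sim v w → Sim w v := by
  rintro ⟨n, rfl⟩
  exact ⟨3 * n, by rw [smul_smul, ← pow_add, show 3 * n + n = 4 * n by ring, pow_mul, gI_four]; simp⟩

theorem Sim.trans {u v w : RuVec} : Sim u v → Sim v w → Sim u w := by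
  rintro ⟨n, rfl⟩ ⟨m, rfl⟩
  exact ⟨m + n, by rw [smul_smul, pow_add]⟩

theorem Sim.ind {P : RuVec → Prop} (h : ∀ v, P v → P (gI • v)) {v w : RuVec} (h1 : Sim v w)
    (h2 : P v) : P w := by
  obtain ⟨n, rfl⟩ := h1
  induction n with
  | zero => simpa using h2
  | succ n ih => rw [pow_succ', mul_smul]; exact h _ ih

theorem Sim.mem {v w : RuVec} (h : Sim v w) (h1 : v ∈ ruLattice) : w ∈ ruLattice :=
  h.ind (P := (· ∈ ruLattice)) (fun _ => gI_smul_mem_ruLattice) h1

/-- The module generated by a family. -/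
inductive InL (f : ℕ → RuVec) : RuVec → Prop
  | gen (j : ℕ) : InL f (f j)
  | zero : InL f 0
  | add {v w : RuVec} : InL f v → InL f w → InL f (v + w)
  | neg {v : RuVec} : InL f v → InL f (-v)
  | mulI {v : RuVec} : InL f v → InL f (gI • v)

theorem InL.map {f : ℕ → RuVec} {M : RuVec → RuVec} (h1 : ∀ v w, M (v + w) = M v + M w)
    (h2 : ∀ v, M (gI • v) = gI • M v) (h3 : ∀ j, ∃ k, Sim (f k) (M (f j))) {v : RuVec}
    (h : InL f v) : InL f (M v) := by
  induction h with
  | gen j => obtain ⟨k, hk⟩ := h3 j; exact hk.ind (P := InL f) (fun _ => InL.mulI) (InL.gen k)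
  | zero => rw [show M 0 = 0 from map_zero (AddMonoidHom.mk' M h1)]; exact InL.zero
  | add _ _ a b => rw [h1]; exact a.add b
  | neg _ a => rw [show M (-_) = -M _ from map_neg (AddMonoidHom.mk' M h1) _]; exact a.neg
  | mulI _ a => rw [h2]; exact a.mulI

/-- The four monomial maps. -/
noncomputable def mon (c : ℕ) : RuVec → RuVec := nth id [ruRj, ruRk, ruSign, ruShift] c

theorem mon_add (c : ℕ) (v w : RuVec) : mon c (v + w) = mon c v + mon c w := by
  refine nth_forall (p := fun M : RuVec → RuVec => M (v + w) = M v + M w) rfl ?_ c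
  simp only [List.mem_cons, List.not_mem_nil, or_false, forall_eq_or_imp, forall_eq]
  refine ⟨?_, ?_, ?_, rfl⟩ <;> funext ⟨n, t⟩
  · fin_cases t <;> simp [ruRj, mul_add, add_comm]
  · fin_cases t <;> simp [ruRk, mul_add, add_comm]
  · simp only [ruSign, Pi.add_apply]; split_ifs <;> simp [add_comm]

theorem mon_I (c : ℕ) (v : RuVec) : mon c (gI • v) = gI • mon c v := by
  refine nth_forall (d := id) (p := fun M : RuVec → RuVec => M (gI • v) = gI • M v) rfl ?_ c
  simp only [List.mem_cons, List.not_mem_nil, or_false, forall_eq_or_imp, forall_eq]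
  refine ⟨?_, ?_, ?_, rfl⟩ <;> funext ⟨n, t⟩
  · fin_cases t <;> simp [ruRj]
  · fin_cases t <;> simp [ruRk]
  · simp only [ruSign, Pi.smul_apply]; split_ifs <;> simp

theorem mon_mem (c : ℕ) {v : RuVec} (hv : v ∈ ruLattice) : mon c v ∈ ruLattice := by
  rw [ruLattice, AddSubgroup.mem_sInf] at hv ⊢
  intro L hL
  have := hL.2 v (hv L hL)
  refine nth_forall (p := fun M : RuVec → RuVec => M v ∈ L) (hv L hL) ?_ c
  simpa using this.2

theorem table_mem {v : RuVec} (hv : v ∈ ruTable) : v ∈ ruLattice := by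
  rw [ruLattice, AddSubgroup.mem_sInf]
  exact fun L hL => hL.1 v hv

theorem inL_of_mem {f : ℕ → RuVec} (h1 : ∀ v ∈ ruTable, ∃ j, v = f j)
    (h2 : ∀ c < 4, ∀ j, ∃ k, Sim (f k) (mon c (f j))) {v : RuVec} (hv : v ∈ ruLattice) :
    InL f v := by
  rw [ruLattice, AddSubgroup.mem_sInf] at hv
  refine hv ⟨⟨⟨{v | InL f v}, InL.add⟩, InL.zero⟩, InL.neg⟩ ⟨fun v hv => ?_, fun v hv => ?_⟩
  · obtain ⟨j, rfl⟩ := h1 v hv; exact InL.gen j
  · have := fun c hc => InL.map (mon_add c) (mon_I c) (h2 c hc) hv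
    exact ⟨InL.mulI hv, this 0 (by omega), this 1 (by omega), this 2 (by omega), this 3 (by omega)⟩

/-- The positions and the signs of the monomial maps. -/
noncomputable def monP (c q : ℕ) : ℕ := nth q [q ^^^ (3 - q / 4 % 2), q ^^^ (5 - q / 2 % 2), q, (q + 8) % 56] c

/-- See `monP`. -/
noncomputable def monS (c : ℕ) : ℕ := nth 0 [0xc5c5c5c5c5c5c5, 0x1d1d1d1d1d1d1d, 0xffff00ff0000ff, 0] c

theorem rc_mon {c : ℕ} (hc : c < 4) (v : RuVec) : ∀ q < 56,
    rc (mon c v) q = mv (famM ((List.range 56).map (monP c)) (monS c)) (rc v) q := by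
  intro q hq
  have h1 : ∀ c < 4, ∀ q < 56, monP c q < 56 := by decide
  rw [mv_famM _ _ _ (by rw [nth_range _ hq]; exact h1 c hc q hq), nth_range _ hq]
  interval_cases c <;> interval_cases q <;>
    simp +decide [mon, monP, monS, nth_eq, rc, ix, ruRj, ruRk, ruSign, ruShift, gI, Fin.ofNat]

theorem four_add (g : fourRu) (v w : ruLattice) :
    (g.1 (v + w) : RuVec) = (g.1 v : RuVec) + g.1 w := congrArg Subtype.val (g.2.1 v w)

theorem four_dot (g : fourRu) (v w : ruLattice) : dot (g.1 v) (g.1 w) = dot v w := by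
  have h1 := norm_add v w
  have h2 := norm_add (g.1 v) (g.1 w)
  rw [← four_add, g.2.2.2, g.2.2.2, g.2.2.2] at h2
  rw [← AddSubgroup.coe_add] at h1
  omega

theorem four_pow (g : fourRu) (n : ℕ) {v w : ruLattice} (h : (w : RuVec) = gI ^ n • (v : RuVec)) :
    (g.1 w : RuVec) = gI ^ n • (g.1 v : RuVec) := by
  induction n generalizing w with
  | zero => rw [show w = v from Subtype.ext (by simpa using h)]; simp
  | succ n ih =>
    let u : ruLattice := ⟨gI ^ n • (v : RuVec), Sim.mem ⟨n, rfl⟩ v.2⟩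
    rw [show w = ruI u from Subtype.ext (by rw [h, pow_succ', mul_smul]; rfl), g.2.2.1,
      pow_succ', mul_smul, ← ih (w := u) rfl]
    rfl

theorem four_sim (g : fourRu) {v w : ruLattice} (h : Sim v w) : Sim (g.1 v) (g.1 w) :=
  h.imp fun n hn => four_pow g n hn

/-- An element that fixes a coordinate line multiplies the coordinate by a unit. -/
theorem four_coord (g : fourRu) {y : ruLattice} {p : RuIdx} {n : ℕ}
    (h1 : (y : RuVec) = Pi.single p 4) (h2 : (g.1 y : RuVec) = gI ^ n • (y : RuVec))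
    (v : ruLattice) : (g.1 v : RuVec) p = gI ^ n * (v : RuVec) p := by
  have a1 := four_dot g v y
  have a2 := four_dot g v (ruI y)
  rw [g.2.2.1] at a2
  change dot _ (gI • (g.1 y : RuVec)) = dot _ (gI • (y : RuVec)) at a2
  have a3 : (gI ^ n).norm = 1 := by
    clear h2 a1 a2
    induction n with
    | zero => simp
    | succ n ih => rw [pow_succ, Zsqrtd.norm_mul, ih]; decide
  rw [h2, h1, ← Pi.single_smul', dot_single, dot_single] at a1
  rw [h2, h1, smul_smul, ← Pi.single_smul', ← Pi.single_smul', dot_single, dot_single] at a2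
  generalize gI ^ n = u at a1 a2 a3
  rw [Zsqrtd.norm_def] at a3
  simp [gI] at a1 a2
  generalize (g.1 v : RuVec) p = c at a1 a2
  generalize (v : RuVec) p = e at a1 a2
  ext
  · have : 4 * c.re = 4 * (u * e).re := by
      rw [Zsqrtd.re_mul]; linear_combination u.re * a1 - u.im * a2 - 4 * c.re * a3
    omega
  · have : 4 * c.im = 4 * (u * e).im := by
      rw [Zsqrtd.im_mul]; linear_combination u.im * a1 + u.re * a2 - 4 * c.im * a3
    omega

/-- A matrix that permutes the generators up to units gives an automorphism. -/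
theorem exists_aut {f : ℕ → ruLattice} (hf : ∀ v ∈ ruLattice, InL (fun j => f j) v) {T : Fam}
    (hT : ∀ x : ℕ → ℤ, ∑ q ∈ range 56, mv T x q ^ 2 = 16 * ∑ q ∈ range 56, x q ^ 2)
    (σ : Equiv.Perm ℕ) (h : ∀ j, ∃ w, Sim (f (σ j)) w ∧ (∀ q < 56, mv T (rc (f j)) q = 4 * rc w q) ∧
      ∀ q < 56, mv T (cI (rc (f j))) q = 4 * cI (rc w) q) :
    ∃ g : fourRu, ∀ j, Sim (f (σ j)) (g.1 (f j)) := by
  let R : RuVec → RuVec → Prop := fun v w => ∀ q < 56, mv T (rc v) q = 4 * rc w q
  have r1 : ∀ {v w w'}, R v w → R v w' → w = w' := fun h1 h2 => rc_ext fun k hk => by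
    have := (h1 k hk).symm.trans (h2 k hk)
    omega
  have r2 : ∀ {v w v' w'}, R v w → R v' w' → R (v + v') (w + w') := fun h1 h2 q hq => by
    rw [rc_add, mul_add, ← h1 q hq, ← h2 q hq]
    simp only [mv, rc_add, mul_add, sum_add_distrib]
  have r3 : ∀ {v w}, R v w → R (-v) (-w) := fun h1 q hq => by
    rw [rc_neg, mul_neg, ← h1 q hq]
    simp only [mv, rc_neg, mul_neg, sum_neg_distrib]
  have r4 : ∀ {v w}, R v w → ruNorm w = ruNorm v := fun {v w} h1 => by
    have := hT (rc v)
    rw [sum_congr rfl fun q hq => by rw [h1 q (mem_range.1 hq), mul_pow], ← mul_sum, ← norm_eq,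
      ← norm_eq] at this
    omega
  have r0 : R 0 0 := fun q _ => by simp [mv, rc_zero]
  have key : ∀ v : ruLattice, ∃ w : ruLattice, R v w ∧ R (gI • (v : RuVec)) (gI • (w : RuVec)) := by
    rintro ⟨v, hv⟩
    have := hf v hv
    change ∃ w : ruLattice, R v w ∧ R (gI • v) (gI • (w : RuVec))
    clear hv
    induction this with
    | gen j =>
      obtain ⟨w, h1, h2, h3⟩ := h j
      exact ⟨⟨w, h1.mem (f _).2⟩, h2, by simpa only [R, rc_I] using h3⟩
    | zero => exact ⟨0, r0, by simpa using r0⟩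
    | add _ _ a b =>
      obtain ⟨w, h1, h2⟩ := a
      obtain ⟨w', h3, h4⟩ := b
      exact ⟨w + w', r2 h1 h3, by simpa using r2 h2 h4⟩
    | neg _ a =>
      obtain ⟨w, h1, h2⟩ := a
      exact ⟨-w, r3 h1, by simpa using r3 h2⟩
    | mulI _ a =>
      obtain ⟨w, h1, h2⟩ := a
      exact ⟨ruI w, h2, by simpa only [ruI, II] using r3 h1⟩
  choose a a1 a2 using key
  have b1 : ∀ v w, a (v + w) = a v + a w := fun v w => Subtype.ext (r1 (a1 _) (r2 (a1 v) (a1 w)))
  have b2 : ∀ v, a (ruI v) = ruI (a v) := fun v => Subtype.ext (r1 (a1 _) (a2 v))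
  have b3 : ∀ j, Sim (f (σ j)) (a (f j)) := fun j => by
    obtain ⟨w, h1, h2, -⟩ := h j
    rwa [← r1 h2 (a1 _)]
  let A : ruLattice →+ ruLattice := AddMonoidHom.mk' a b1
  have b4 : Function.Injective a := (injective_iff_map_eq_zero A).2 fun v hv =>
    Subtype.ext (eq_zero_of_norm (by
      rw [← r4 (a1 v), show a v = 0 from hv]; simp [ruNorm]))
  have b6 : ∀ w : RuVec, (∃ v, (a v : RuVec) = w) → ∃ v, (a v : RuVec) = gI • w := by
    rintro _ ⟨v, rfl⟩
    exact ⟨ruI v, congrArg Subtype.val (b2 v)⟩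
  have b5 : Function.Surjective a := by
    rintro ⟨w, hw⟩
    suffices ∃ v, (a v : RuVec) = w from this.imp fun v h => Subtype.ext h
    have := hf w hw
    clear hw
    induction this with
    | gen j =>
      have := (b3 (σ⁻¹ j)).symm
      rw [show σ (σ⁻¹ j) = j by simp] at this
      exact this.ind b6 ⟨_, rfl⟩
    | zero => exact ⟨0, congrArg Subtype.val A.map_zero⟩
    | add _ _ x y =>
      obtain ⟨v, rfl⟩ := x
      obtain ⟨v', rfl⟩ := y
      exact ⟨v + v', congrArg Subtype.val (b1 v v')⟩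
    | neg _ x =>
      obtain ⟨v, rfl⟩ := x
      exact ⟨-v, congrArg Subtype.val (A.map_neg v)⟩
    | mulI _ x => exact b6 _ x
  exact ⟨⟨Equiv.ofBijective a ⟨b4, b5⟩, b1, b2, fun v => r4 (a1 v)⟩, b3⟩

end H10.Ru
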