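import Mathlib
import Cfsg.Agent.H10.RuVec

/-!
# Short vectors of the lattice through the residue code
-/

set_option autoImplicit false
set_option linter.all false

namespace H10.Ru

open H29 H10.R3 Cfsg.Spor
open Finset hiding val

/-- The lattice is integral. -/
def Int4 : Prop := ∀ v ∈ ruLattice, ∀ w ∈ ruLattice, 4 ∣ dot v w

/-- The pair of masks is a lattice vector modulo `4`. -/
def Is4 (a b : ℕ) : Prop := ∃ y ∈ ruLattice, ∀ k < 56, rc y k % 4 = bt a k + 2 * bt b k

theorem is4_zero : Is4 0 0 := ⟨0, zero_mem _, fun k _ => by simp [rc_zero, bt]⟩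

theorem Is4.add {a b c d : ℕ} : Is4 a b → Is4 c d → Is4 (a ^^^ c) (b ^^^ d ^^^ (a &&& c)) := by
  rintro ⟨y, hy, h1⟩ ⟨z, hz, h2⟩
  refine ⟨y + z, add_mem hy hz, fun k hk => ?_⟩
  rw [rc_add, Int.add_emod, h1 k hk, h2 k hk]
  simp only [bt, Nat.testBit_xor, Nat.testBit_and]
  cases a.testBit k <;> cases b.testBit k <;> cases c.testBit k <;> cases d.testBit k <;> rfl

/-- A sum of selected pairs. -/
noncomputable def comb (Z : List (ℕ × ℕ)) : ℕ → ℕ → ℕ → ℕ × ℕ :=
  List.rec (motive := fun _ => ℕ → ℕ → ℕ → ℕ × ℕ) (fun _ a b => (a, b)) (fun z _ ih s a b =>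
    lit (Nat.shiftRight s 1) fun t => Bool.rec
      (lit (Nat.xor a z.1) fun a' => lit (Nat.xor (Nat.xor b z.2) (Nat.land a z.1)) (ih t a'))
      (ih t a b) (Nat.beq (Nat.land s 1) 0)) Z

theorem is4_comb : ∀ (Z : List (ℕ × ℕ)) (s a b : ℕ), (∀ z ∈ Z, Is4 z.1 z.2) → Is4 a b →
    Is4 (comb Z s a b).1 (comb Z s a b).2
  | [], _, _, _, _, h => h
  | z :: Z, s, a, b, h1, h2 => by
    have h3 : ∀ z ∈ Z, Is4 z.1 z.2 := fun w hw => h1 w (by simp [hw])
    rw [show comb (z :: Z) s a b = Bool.rec (comb Z (s >>> 1) (a ^^^ z.1)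
      (b ^^^ z.2 ^^^ (a &&& z.1))) (comb Z (s >>> 1) a b) (Nat.beq (s &&& 1) 0) from rfl]
    cases Nat.beq (s &&& 1) 0
    · exact is4_comb Z _ _ _ h3 (h2.add (h1 z (by simp)))
    · exact is4_comb Z _ _ _ h3 h2

/-- `m` is the parity word of `v`. -/
def Par (v : RuVec) (m : ℕ) : Prop := ∀ k < 56, rc v k % 2 = bt m k

/-- `T` is the set of the coordinates that are `2` modulo `4`. -/
def Two (v : RuVec) (T : ℕ) : Prop := ∀ k < 56, bt T k = if rc v k % 4 = 2 then 1 else 0

theorem exists_two (v : RuVec) : ∃ T, Two v T := by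
  obtain ⟨T, hT⟩ := exists_bits (S := {k | k < 56 ∧ rc v k % 4 = 2})
    ((Set.finite_lt_nat 56).subset fun _ h => h.1)
  refine ⟨T, fun k hk => ?_⟩
  split_ifs with h
  · exact bt_of_true ((hT k).2 ⟨hk, h⟩)
  · exact bt_of_false (by rw [← Bool.not_eq_true, hT]; exact fun h' => h h'.2)

theorem par_rel (hi : Int4) {v : RuVec} (hv : v ∈ ruLattice) {m T a b : ℕ} (h1 : Par v m)
    (h2 : Two v T) (h3 : Is4 a b) (h4 : ∀ k, bt a k * bt m k = 0) :
    (∑ k ∈ range 56, bt T k * bt a k) % 2 = (∑ k ∈ range 56, bt (b &&& m) k) % 2 := by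
  obtain ⟨y, hy, h3⟩ := h3
  have h5 := hi v hv y hy
  have h6 : (4 : ℤ) ∣ ∑ k ∈ range 56,
      (rc v k * rc y k - 2 * ((bt T k * bt a k : ℕ) + (bt (b &&& m) k : ℕ))) := by
    refine dvd_sum fun k hk => ?_
    have hk := mem_range.1 hk
    have a1 := h1 k hk
    have a2 := h2 k hk
    have a3 := h3 k hk
    have a4 := h4 k
    have a5 := Int.mul_emod (rc v k) (rc y k) 4
    have a6 : rc v k % 4 = 0 ∨ rc v k % 4 = 1 ∨ rc v k % 4 = 2 ∨ rc v k % 4 = 3 := by omega
    rw [bt_and]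
    have := bt_le a k
    have := bt_le b k
    have := bt_le m k
    generalize bt a k = a, bt b k = b, bt m k = m, bt T k = t at *
    rcases a6 with h | h | h | h <;> rw [h, a3] at a5 <;> rw [h] at a2 <;> norm_num at a2 <;>
      subst a2 <;> interval_cases a <;> interval_cases b <;> interval_cases m <;> omega
  rw [sum_sub_distrib, ← dot_eq, ← mul_sum, sum_add_distrib, ← Nat.cast_sum, ← Nat.cast_sum] at h6
  omega

theorem norm_ge {v : RuVec} {m T : ℕ} (h1 : Par v m) (h2 : Two v T) (k : ℕ) (hk : k < 56) :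
    (bt m k : ℤ) + 4 * bt T k ≤ rc v k ^ 2 := by
  have a1 := h1 k hk
  rw [h2 k hk, ← a1]
  generalize rc v k = x
  rcases (show x ≤ -2 ∨ x = -1 ∨ x = 0 ∨ x = 1 ∨ 2 ≤ x by omega) with h | rfl | rfl | rfl | h
  · have : 4 ≤ x ^ 2 := by nlinarith
    split_ifs <;> omega
  · decide
  · decide
  · decide
  · have : 4 ≤ x ^ 2 := by nlinarith
    split_ifs <;> omega

theorem wt_le {v : RuVec} {m T : ℕ} (h1 : Par v m) (h2 : Two v T) :
    (wt 56 m : ℤ) + 4 * (∑ k ∈ range 56, bt T k : ℕ) ≤ ruNorm v := by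
  rw [norm_eq, wt_eq]
  push_cast
  rw [mul_sum, ← sum_add_distrib]
  exact sum_le_sum fun k hk => norm_ge h1 h2 k (mem_range.1 hk)

/-- Evaluate the members of a list to numerals. -/
noncomputable def litL {α : Type} (l : List ℕ) : (List ℕ → α) → α :=
  List.rec (motive := fun _ => (List ℕ → α) → α) (fun k => k [])
    (fun a _ ih k => lit a fun a' => ih fun l' => k (a' :: l')) l

theorem litL_eq {α : Type} : ∀ (l : List ℕ) (k : List ℕ → α), litL l k = k l
  | [], _ => rfl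
  | _ :: l, _ => litL_eq l _

/-- The test for vectors with parity word `m`. -/
noncomputable def chkT (Y : List (ℕ × ℕ)) (m n : ℕ) (f : ℕ → Bool) : Bool :=
  and2 (and2 (allL Y fun y => disj y.1 m) (Nat.ble 17 (wt 56 m + 4 * (n + 1))))
    (lit (valK (Y.map fun y => wt 56 (Nat.land y.2 m)) 0) fun s => and2 (f s)
      (litL ((List.range 56).map (valK (Y.map Prod.fst))) fun c => nr n c s))

theorem chkT_spec (hi : Int4) {Y : List (ℕ × ℕ)} (hY : ∀ y ∈ Y, Is4 y.1 y.2) {m n : ℕ}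
    {f : ℕ → Bool} (h : chkT Y m n f = true) {v : RuVec} (hv : v ∈ ruLattice) (h1 : Par v m)
    (h2 : ruNorm v ≤ 16) : f 0 = true ∧ ∀ k < 56, rc v k % 4 ≠ 2 := by
  obtain ⟨T, hT⟩ := exists_two v
  simp only [chkT, and2_true, lit_eq, litL_eq, allL_true, ble_true, valK_eq] at h
  obtain ⟨⟨a1, a2⟩, a3, a4⟩ := h
  have b1 : gA ((List.range 56).map (valK (Y.map Prod.fst))) T =
      val (Y.map fun y => wt 56 (Nat.land y.2 m)) 0 := by
    refine Nat.eq_of_testBit_eq fun t => bt_inj ?_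
    have := nth_forall (d := (0, 0)) (p := fun y : ℕ × ℕ => Is4 y.1 y.2 ∧ disj y.1 m = true)
      ⟨is4_zero, by simp [disj, land_eq]⟩ (fun y hy => ⟨hY y hy, a1 y hy⟩) t
    have c1 := nth_map (fun y : ℕ × ℕ => wt 56 (Nat.land y.2 m)) (0, 0) Y t
    rw [show wt 56 (Nat.land 0 m) = 0 by simp [land_eq, wt_eq, bt]] at c1
    have c2 := par_rel hi hv h1 hT this.1 fun k => by
      rw [← bt_and, ← land_eq, H29.beq_true.1 this.2]; simp [bt]
    change bt _ t = bt _ t
    rw [bt_gA, bt_val, c1, bt_zero, wt_eq, land_eq, ← c2, List.length_map, List.length_range]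
    refine congrArg (· % 2) (sum_congr rfl fun k hk => ?_)
    rw [nth_range _ (mem_range.1 hk), valK_eq, bt_val, nth_map Prod.fst (0, 0)]
  have b2 := wt_le h1 hT
  have b3 := nr_spec n _ _ T a4 b1 (by simp only [List.length_map, List.length_range]; omega)
  rw [gA_zero _ _ b3] at b1
  refine ⟨b1 ▸ a3, fun k hk h => ?_⟩
  have := b3 k (by simpa using hk)
  rw [hT k hk, if_pos h] at this
  omega

/-- Add the bits of a list. -/
noncomputable def maskA (l : List ℕ) : ℕ → ℕ :=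
  List.rec (motive := fun _ => ℕ → ℕ) (fun a => a)
    (fun x _ ih a => seqN (Nat.lor a (bit x)) ih) l

theorem testBit_maskA : ∀ (l : List ℕ) (a i : ℕ),
    (maskA l a).testBit i = true ↔ a.testBit i = true ∨ i ∈ l
  | [], a, i => by simp [show maskA [] a = a from rfl]
  | x :: l, a, i => by
    rw [show maskA (x :: l) a = seqN (Nat.lor a (bit x)) (maskA l) from rfl, seqN_eq,
      testBit_maskA l]
    rw [lor_eq, Nat.testBit_or, Bool.or_eq_true, testBit_bit, decide_eq_true_eq, List.mem_cons,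
      or_assoc, eq_comm (a := x)]

/-- The coordinates in `K` determine all coordinates in `m`. -/
noncomputable def car (Z : List (ℕ × ℕ)) (m : ℕ) (l : List ℕ) : ℕ → Bool :=
  List.rec (motive := fun _ => ℕ → Bool) (fun K => sub m K) (fun s _ ih K =>
    lit (Nat.land (comb Z s 0 0).1 m) fun r =>
      and2 (le1 (Nat.xor r (Nat.land r K))) (lit (Nat.lor K r) ih)) l

theorem car_spec (hi : Int4) {Z : List (ℕ × ℕ)} (hZ : ∀ z ∈ Z, Is4 z.1 z.2) {m T : ℕ} {v : RuVec}
    (hv : v ∈ ruLattice) (h1 : Par v 0) (h2 : Two v T)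
    (h3 : ∀ k < 56, T.testBit k = true → m.testBit k = true) : ∀ (l : List ℕ) (K : ℕ),
    car Z m l K = true → (∀ k < 56, K.testBit k = true → T.testBit k = false) →
    ∀ k < 56, T.testBit k = false
  | [], K, h, h' => fun k hk => by
    by_contra h4
    exact h4 (h' k hk (sub_true h (h3 k hk (by simpa using h4))))
  | s :: l, K, h, h' => by
    rw [show car Z m (s :: l) K = and2 (le1 (((comb Z s 0 0).1 &&& m) ^^^
      (((comb Z s 0 0).1 &&& m) &&& K))) (car Z m l (K ||| ((comb Z s 0 0).1 &&& m))) from rfl,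
      and2_true] at h
    refine car_spec hi hZ hv h1 h2 h3 l _ h.2 fun p hp h4 => ?_
    have h5 := par_rel hi hv h1 h2 (is4_comb Z s 0 0 hZ is4_zero) (by simp [bt])
    generalize (comb Z s 0 0).1 = a at h h4 h5
    by_contra h6
    have h7 : ∀ k < 56, T.testBit k = true → a.testBit k = true →
        ((a &&& m) ^^^ ((a &&& m) &&& K)).testBit k = true := fun k hk h8 h9 => by
      have : K.testBit k = false := by
        by_contra h10
        rw [h' k hk (by simpa using h10)] at h8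
        exact absurd h8 (by simp)
      simp [h9, h3 k hk h8, this]
    have h8 : T.testBit p = true := by simpa using h6
    have h9 : a.testBit p = true := by
      rw [Nat.testBit_or, Bool.or_eq_true, Nat.testBit_and, Bool.and_eq_true] at h4
      exact h4.elim (fun h => absurd (h' p hp h) h6) And.left
    rw [sum_eq_single_of_mem p (mem_range.2 hp), bt_of_true h8, bt_of_true h9] at h5
    · simp [bt] at h5
    · intro k hk hne
      by_contra h10
      rw [mul_eq_zero, not_or] at h10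
      exact hne (le1_spec h.1 (h7 k (mem_range.1 hk) (by simpa [bt] using h10.1)
        (by simpa [bt] using h10.2)) (h7 p hp h8 h9))

/-- The short vectors with parity word `m`. -/
def Sm (m : ℕ) : Set RuVec := {v | v ∈ ruLattice ∧ ruNorm v ≤ 16 ∧ Par v m}

theorem sq_of_wt {m : ℕ} (h : wt 56 m = 16) {v : RuVec} (hv : v ∈ Sm m) :
    ruNorm v = 16 ∧ ∀ k < 56, rc v k ^ 2 = bt m k := by
  obtain ⟨T, hT⟩ := exists_two v
  have h1 := wt_le hv.2.2 hT
  have h2 := hv.2.1
  have h3 : ruNorm v = 16 := by omega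
  refine ⟨h3, fun k hk => ?_⟩
  have h4 : ∀ k ∈ range 56, (bt m k : ℤ) ≤ rc v k ^ 2 := fun k hk => by
    have := norm_ge hv.2.2 hT k (mem_range.1 hk)
    omega
  refine ((sum_eq_sum_iff_of_le h4).1 ?_ k (mem_range.2 hk)).symm
  rw [← norm_eq, h3, ← Nat.cast_sum, ← wt_eq, h]; rfl

theorem ncard_sm (hi : Int4) {Z : List (ℕ × ℕ)} (hZ : ∀ z ∈ Z, Is4 z.1 z.2) {m : ℕ} {F l : List ℕ}
    (h1 : wt 56 m = 16) (h2 : car Z m l (maskA F 0) = true) :
    (Sm m).Finite ∧ (Sm m).ncard ≤ 2 ^ F.length := by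
  have key : Set.InjOn (fun (v : RuVec) (i : Fin F.length) => decide (rc v F[i] = 1)) (Sm m) := by
    intro v hv w hw h
    obtain ⟨T, hT⟩ := exists_two (v + -w)
    have a1 : ∀ k < 56, rc v k = rc w k ∨ (bt m k = 1 ∧ (rc v k = 1 ∧ rc w k = -1 ∨
        rc v k = -1 ∧ rc w k = 1)) := fun k hk => by
      have b1 := (sq_of_wt h1 hv).2 k hk
      have b2 := (sq_of_wt h1 hw).2 k hk
      rcases (show bt m k = 0 ∨ bt m k = 1 by have := bt_le m k; omega) with e | e
      · rw [e] at b1 b2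
        exact Or.inl ((pow_eq_zero_iff two_ne_zero).1 b1 |>.trans
          ((pow_eq_zero_iff two_ne_zero).1 b2).symm)
      · rw [e, Nat.cast_one, sq_eq_one_iff] at b1 b2
        omega
    have a2 : ∀ k < 56, T.testBit k = false ↔ rc v k = rc w k := fun k hk => by
      have b1 := hT k hk
      have b2 := a1 k hk
      rw [rc_add, rc_neg, bt] at b1
      revert b1
      cases T.testBit k <;> simp <;> omega
    refine rc_ext fun k hk => (a2 k hk).1 (car_spec hi hZ (add_mem hv.1 (neg_mem hw.1))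
      (fun k hk => ?_) hT (fun k hk h3 => ?_) l _ h2 (fun k hk h3 => ?_) k hk)
    · have := a1 k hk
      rw [rc_add, rc_neg, show bt 0 k = 0 by simp [bt]]
      omega
    · have b1 := (a1 k hk).resolve_left fun h => by simp [(a2 k hk).2 h] at h3
      simpa [bt] using b1.1
    · rw [testBit_maskA] at h3
      obtain ⟨i, hi, rfl⟩ := List.getElem_of_mem (h3.resolve_left (by simp))
      have b1 := congrFun h ⟨i, hi⟩
      have b2 := a1 _ hk
      simp only [Fin.getElem_fin, decide_eq_decide] at b1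
      rw [a2 _ hk]
      omega
  exact ⟨Set.Finite.of_injOn (fun _ _ => Set.mem_univ _) key Set.finite_univ,
    (Set.ncard_le_ncard_of_injOn _ (fun _ _ => Set.mem_univ _) key Set.finite_univ).trans
      (by simp [Set.ncard_univ])⟩

theorem ncard_le_sum {α β : Type*} (S : β → Set α) (n : β → ℕ) : ∀ l : List β,
    (∀ b ∈ l, (S b).Finite ∧ (S b).ncard ≤ n b) →
    {x | ∃ b ∈ l, x ∈ S b}.Finite ∧ {x | ∃ b ∈ l, x ∈ S b}.ncard ≤ (l.map n).sum
  | [], _ => by simp
  | b :: l, h => by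
    have h1 := ncard_le_sum S n l fun c hc => h c (by simp [hc])
    have h2 := h b (by simp)
    rw [show {x | ∃ c ∈ b :: l, x ∈ S c} = S b ∪ {x | ∃ c ∈ l, x ∈ S c} by ext; simp,
      List.map_cons, List.sum_cons]
    exact ⟨h2.1.union h1.1, (Set.ncard_union_le _ _).trans (Nat.add_le_add h2.2 h1.2)⟩

/-- The parity of a vector is determined by the information positions. -/
def Sys (B : List ℕ) (H : ℕ → ℕ) (x : ℕ → ℤ) : Prop :=
  ∀ k < 56, x k % 2 = (∑ j ∈ range B.length, bt (nth 0 B j) k * x (H j)) % 2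

/-- Bulk test of `Sys`. -/
noncomputable def chkSys (B : List ℕ) (H : ℕ → ℕ) (F : Fam) : Bool :=
  allN 56 fun k => Nat.beq (parF F k)
    (gA ((List.range B.length).map fun j => parF F (H j)) (valK B k))

theorem chkSys_spec {B : List ℕ} {H : ℕ → ℕ} {F : Fam} (h : chkSys B H F = true) (i : ℕ) :
    Sys B H (fv F i) := fun k hk => by
  rw [fv_mod_two, H29.beq_true.1 (allN_true.1 h k hk), bt_gA, List.length_map, List.length_range,
    sum_int_mod]
  push_cast
  rw [sum_int_mod]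
  congr 1
  refine sum_congr rfl fun j hj => ?_
  rw [nth_range _ (mem_range.1 hj), valK_eq, bt_val, ← fv_mod_two, Int.mul_emod, Int.emod_emod,
    ← Int.mul_emod]

theorem Sys.congr {B : List ℕ} {H : ℕ → ℕ} (hH : ∀ j, H j < 56) {x y : ℕ → ℤ}
    (h : ∀ k < 56, x k = y k) (h' : Sys B H y) : Sys B H x := fun k hk => by
  simp only [h _ hk, h _ (hH _)]; exact h' k hk

theorem sys_of_inL {B : List ℕ} {H : ℕ → ℕ} {f : ℕ → RuVec}
    (h : ∀ j, Sys B H (rc (f j)) ∧ Sys B H (cI (rc (f j)))) {v : RuVec} (hv : InL f v) :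
    Sys B H (rc v) := by
  have a1 : ∀ v w, Sys B H (rc v) → Sys B H (rc w) → Sys B H (rc (v + w)) := fun v w h1 h2 k hk => by
    have := h1 k hk
    have := h2 k hk
    simp only [rc_add, mul_add, sum_add_distrib]
    omega
  have a2 : ∀ v, Sys B H (rc v) → Sys B H (rc (-v)) := fun v h1 k hk => by
    have := h1 k hk
    simp only [rc_neg, mul_neg, sum_neg_distrib]
    omega
  have a3 : Sys B H (rc 0) := fun k hk => by simp [rc_zero]
  suffices Sys B H (rc v) ∧ Sys B H (rc (gI • v)) from this.1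
  induction hv with
  | gen j => rw [rc_I]; exact h j
  | zero => rw [smul_zero]; exact ⟨a3, a3⟩
  | add _ _ a b => rw [smul_add]; exact ⟨a1 _ _ a.1 b.1, a1 _ _ a.2 b.2⟩
  | neg _ a => rw [smul_neg]; exact ⟨a2 _ a.1, a2 _ a.2⟩
  | mulI _ a => rw [II]; exact ⟨a.2, a2 _ a.1⟩

theorem Sys.exists_par {B : List ℕ} {H : ℕ → ℕ} {v : RuVec} (h : Sys B H (rc v)) :
    ∃ a < 2 ^ B.length, Par v (gA B a) := by
  obtain ⟨a, ha⟩ := exists_bits (S := {j | j < B.length ∧ rc v (H j) % 2 = 1})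
    ((Set.finite_lt_nat _).subset fun _ h => h.1)
  refine ⟨a, Nat.lt_pow_two_of_testBit a fun i hi => ?_, fun k hk => ?_⟩
  · rw [← Bool.not_eq_true, ha]; exact fun h => absurd h.1 (by omega)
  · rw [h k hk, bt_gA, sum_int_mod]
    push_cast
    conv_rhs => rw [sum_int_mod]
    refine congrArg (· % 2) (sum_congr rfl fun j hj => ?_)
    have : rc v (H j) % 2 = bt a j := by
      rcases Int.emod_two_eq_zero_or_one (rc v (H j)) with e | e
      · rw [e, bt_of_false (by rw [← Bool.not_eq_true, ha]; exact fun h => by have := h.2; omega)]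
        rfl
      · rw [e, bt_of_true ((ha j).2 ⟨mem_range.1 hj, e⟩)]; rfl
    rw [← this, mul_comm, Int.mul_emod, Int.mul_emod (_ % 2) (bt _ _), Int.emod_emod]

/-- All words of weight at most `16` are in the list. -/
noncomputable def chkEnum (B l : List ℕ) : Bool :=
  sumSel (ones 56) (fun k => [gA (idPl (2 ^ B.length) B.length) (valK B k)]) 56 [] fun R =>
    and2 (Nat.beq R.length 6) (sub (ltP R (constP (ones (2 ^ B.length)) 6 17)) (maskA l 0))

theorem chkEnum_spec {B l : List ℕ} (h : chkEnum B l = true) {a : ℕ} (h1 : a < 2 ^ B.length)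
    (h2 : wt 56 (gA B a) ≤ 16) : a ∈ l := by
  obtain ⟨R, r1, r2⟩ := sumSel_spec (α := Bool) (ones 56)
    (fun k => [gA (idPl (2 ^ B.length) B.length) (valK B k)]) 56 []
  rw [chkEnum, r1, and2_true, H29.beq_true] at h
  obtain ⟨c1, c2⟩ := constP_spec (ones (2 ^ B.length)) 6 17
  refine ((testBit_maskA l 0 a).1 (sub_true h.2 ?_)).resolve_left (by simp)
  rw [testBit_ltP (h.1.trans c1.symm), c2 a (by simp [testBit_ones, h1]), r2, decide_eq_true_eq]
  refine lt_of_le_of_lt (le_of_eq_of_le ?_ h2) (by norm_num)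
  rw [wt_eq, val, zero_add]
  refine sum_congr rfl fun k hk => ?_
  rw [bt_of_true (by simpa [testBit_ones] using hk), one_mul, val, val, mul_zero, add_zero, ← bt,
    bt_gA, bt_gA, idPl, (idAux_spec le_rfl _ 0).1]
  congr 1
  refine sum_congr rfl fun j _ => ?_
  rw [valK_eq, bt_val, ← bt_val _ a, ← idPl, val_idPl le_rfl h1, mul_comm]

/-- Unpack a number. -/
noncomputable def unp (w n : ℕ) : ℕ → List ℕ :=
  Nat.rec (motive := fun _ => ℕ → List ℕ) (fun _ => [])
    (fun _ ih x => Nat.land x (ones w) :: lit (Nat.shiftRight x w) ih) n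

/-- The test for words without short vectors. -/
noncomputable def chkObs (B : List ℕ) (Z : List (ℕ × ℕ)) (o : ℕ × ℕ × List ℕ) : Bool :=
  lit (gA B o.1) fun m => chkT (o.2.2.map fun s => comb Z s 0 0) m o.2.1 fun s =>
    Bool.not (Nat.beq s 0)

/-- The test for words with short vectors. -/
noncomputable def chkCar (B : List ℕ) (Z : List (ℕ × ℕ)) (c : ℕ × List ℕ × ℕ) : Bool :=
  lit (gA B c.1) fun m => and2 (Nat.beq (wt 56 m) 16) (car Z m (unp 19 12 c.2.2) (maskA c.2.1 0))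

/-- The vectors with one coordinate `±4`. -/
def fr (a : Fin 56 × Bool) : RuVec := mkv fun k => if k = a.1 then if a.2 then 4 else -4 else 0

theorem frame_of {v : RuVec} (h1 : ∀ k < 56, rc v k % 4 = 0) (h2 : ruNorm v ≤ 16) (h3 : v ≠ 0) :
    ruNorm v = 16 ∧ v ∈ Set.range fr := by
  obtain ⟨k, hk, h4⟩ : ∃ k < 56, rc v k ≠ 0 := by
    by_contra h
    push Not at h
    exact h3 (rc_ext fun k hk => by rw [h k hk, rc_zero])
  have a1 := h1 k hk
  have a2 := add_sum_erase (range 56) (fun k => rc v k ^ 2) (mem_range.2 hk)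
  rw [← norm_eq] at a2
  have a3 : 0 ≤ ∑ l ∈ (range 56).erase k, rc v l ^ 2 := sum_nonneg fun _ _ => sq_nonneg _
  have a4 : 16 ≤ rc v k ^ 2 := by
    rcases (show rc v k ≤ -4 ∨ 4 ≤ rc v k by omega) with h | h <;> nlinarith
  have a5 : rc v k ^ 2 = 4 ^ 2 := by omega
  have a6 := (sum_eq_zero_iff_of_nonneg fun _ _ => sq_nonneg _).1
    (show ∑ l ∈ (range 56).erase k, rc v l ^ 2 = 0 by omega)
  refine ⟨by omega, (⟨k, hk⟩, decide (rc v k = 4)), rc_ext fun l hl => ?_⟩
  rw [fr, rc_mkv _ hl]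
  split_ifs with e1 e2
  · rw [e1]; exact (of_decide_eq_true e2).symm
  · rw [e1]; exact ((sq_eq_sq_iff_eq_or_eq_neg.1 a5).resolve_left (by simpa using e2)).symm
  · exact ((pow_eq_zero_iff two_ne_zero).1 (a6 l (by simp [hl]; exact e1))).symm

theorem short (hi : Int4) {B : List ℕ} {H : ℕ → ℕ} (hs : ∀ v ∈ ruLattice, Sys B H (rc v))
    {Z : List (ℕ × ℕ)} (hZ : ∀ z ∈ Z, Is4 z.1 z.2) {ob : List (ℕ × ℕ × List ℕ)}
    {ca : List (ℕ × List ℕ × ℕ)} (h1 : chkEnum B (0 :: (ob.map Prod.fst ++ ca.map Prod.fst)) = true)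
    (h2 : chkT Z 0 4 (fun _ => true) = true) (h3 : allL ob (chkObs B Z) = true)
    (h4 : allL ca (chkCar B Z) = true) :
    (∀ v ∈ ruLattice, v ≠ 0 → 16 ≤ ruNorm v) ∧ {v | v ∈ ruLattice ∧ ruNorm v = 16}.Finite ∧
      {v | v ∈ ruLattice ∧ ruNorm v = 16}.ncard ≤ 112 + (ca.map fun c => 2 ^ c.2.1.length).sum := by
  simp only [allL_true, chkObs, chkCar, lit_eq, and2_true, H29.beq_true] at h3 h4
  have key : ∀ v ∈ ruLattice, ruNorm v ≤ 16 → v ≠ 0 → ruNorm v = 16 ∧
      v ∈ Set.range fr ∪ {x | ∃ c ∈ ca, x ∈ Sm (gA B c.1)} := fun v hv a1 a2 => by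
    obtain ⟨a, a3, a4⟩ := (hs v hv).exists_par
    obtain ⟨T, hT⟩ := exists_two v
    have a5 := wt_le a4 hT
    have a6 := chkEnum_spec h1 a3 (by omega)
    simp only [List.mem_cons, List.mem_append, List.mem_map] at a6
    rcases a6 with rfl | ⟨o, ho, rfl⟩ | ⟨c, hc, rfl⟩
    · rw [gA_zero _ _ (by simp [bt])] at a4
      refine (frame_of (fun k hk => ?_) a1 a2).imp id Or.inl
      have := (chkT_spec hi hZ h2 hv a4 a1).2 k hk
      have := a4 k hk
      simp only [bt, Nat.zero_testBit, Bool.toNat_false] at this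
      omega
    · have := (chkT_spec hi (fun y hy => ?_) (h3 o ho) hv a4 a1).1
      · exact absurd this (by decide)
      · obtain ⟨s, -, rfl⟩ := List.mem_map.1 hy
        exact is4_comb Z s 0 0 hZ is4_zero
    · exact ⟨(sq_of_wt (h4 c hc).1 ⟨hv, a1, a4⟩).1, Or.inr ⟨c, hc, hv, a1, a4⟩⟩
  have b1 := ncard_le_sum (fun c : ℕ × List ℕ × ℕ => Sm (gA B c.1)) (fun c => 2 ^ c.2.1.length) ca
    fun c hc => ncard_sm hi hZ (h4 c hc).1 (h4 c hc).2
  have b2 := (Set.finite_range fr).union b1.1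
  have b3 : {v | v ∈ ruLattice ∧ ruNorm v = 16} ⊆ _ := fun v hv =>
    (key v hv.1 hv.2.le (by rintro rfl; simpa [ruNorm] using hv.2)).2
  refine ⟨fun v hv h => ?_, b2.subset b3, (Set.ncard_le_ncard b3 b2).trans
    ((Set.ncard_union_le _ _).trans (Nat.add_le_add ?_ b1.2))⟩
  · by_contra h5
    have := (key v hv (by omega) h).1
    omega
  · rw [← Set.image_univ]
    exact (Set.ncard_image_le Set.finite_univ).trans (by simp [Set.ncard_univ])

end H10.Ru
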