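import Mathlib
import Cfsg.Agent.H10.RuMin
import Cfsg.Agent.H10.RuD

/-!
# Kernel checks for the lattice of the Rudvalis group
-/

set_option autoImplicit false
set_option maxRecDepth 100000
set_option Elab.async false
set_option linter.all false

namespace H10.Ru

open H29 H10.R3 Cfsg.Spor H10.RuD

/-- The family of the representatives of the 4060 lines. -/
noncomputable def F : Fam := fam p0 p2 q0 []

/-- The representatives of the lines. -/
noncomputable def fz (j : ℕ) : RuVec := mkv (fv F j)

/-- The matrices. -/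
noncomputable def TM (c : ℕ) : Fam := fam (nth [] tA c) (nth [] tB c) (nth [] tC c) (nth [] tD c)

/-- The images of the representatives. -/
noncomputable def YM (c : ℕ) : Fam :=
  famU (nth 0 uu c) (nth 0 uv c) (famP (nth Net.nil nl (nth 0 [0, 1, 2, 4, 6] c)) F)

/-- The test of one matrix. -/
noncomputable def chkT1 (c : ℕ) : Bool :=
  and2 (chkLin (famT (nth [] tA c) (nth [] tB c) (nth [] tC c) (nth [] tD c)) (TM c)
    (fun q => ([bit q], [])) 4)
  (and2 (chkLin (TM c) F (YM c) 2) (chkLin (TM c) (famI F) (famI (YM c)) 2))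

theorem t0 : chkT1 0 = true := by decide +kernel
theorem t1 : chkT1 1 = true := by decide +kernel
theorem t2 : chkT1 2 = true := by decide +kernel
theorem t3 : chkT1 3 = true := by decide +kernel
theorem t4 : chkT1 4 = true := by decide +kernel

theorem cM : allN 4 (fun c => chkLin (famM ((List.range 56).map (monP c)) (monS c)) F
    (famU (nth 0 mu c) (nth 0 mw c) (famP (nth Net.nil ml c) F)) 0) = true := by decide +kernel

theorem cTab : ruTable = tab.map fz := by decide +kernel

theorem cExt : fz 308 = fz 1 + fz 183 + fz 1876 + -fz 1972 := by decide +kernel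

theorem cR1 : sub (maskA [1, 183, 1876, 1972] 0)
    (orb (fun c => (nth Net.nil ml c).rev) [0, 1, 2, 3] 8 (maskA tab 0)) = true := by
  decide +kernel

theorem cR2 : sub (ones 4060)
    (orb (fun c => (nth Net.nil ml c).rev) [0, 1, 2, 3] 8 (maskA (308 :: tab) 0)) = true := by
  decide +kernel

theorem cSub : allL (p0 ++ p2 ++ q0) (fun a => sub a (ones 4060)) = true := by decide +kernel

theorem cTr : sub (ones 4060) (orb (nth Net.nil nl) [0, 1, 2, 3, 4, 5, 6] 4 (bit 0)) = true := by
  decide +kernel

theorem cSys : and2 (chkSys B (nth 0 hs) F) (chkSys B (nth 0 hs) (famI F)) = true := by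
  decide +kernel

theorem cZ : Z = Zi.map fun j => (Nat.xor (valK p0 j) (valK q0 j),
    Nat.xor (valK q0 j) (Nat.land (valK q0 j) (valK p0 j))) := by decide +kernel

theorem cEnum : chkEnum B (0 :: (ob.map Prod.fst ++ ca.map Prod.fst)) = true := by decide +kernel

theorem cTor : chkT Z 0 4 (fun _ => true) = true := by decide +kernel

theorem cObs : allL ob (chkObs B Z) = true := by decide +kernel

theorem cCar : allL ca (chkCar B Z) = true := by decide +kernel

theorem cSum : (ca.map fun c => 2 ^ c.2.1.length).sum = 16128 := by decide +kernel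

theorem cFr : ∀ p : RuIdx, fz (nth 0 fi (4 * p.1 + p.2)) = Pi.single p 4 ∧
    fz (nth 0 li (4 * p.1 + p.2)) (0, 0) ≠ 0 ∧ fz (nth 0 li (4 * p.1 + p.2)) p ≠ 0 := by
  decide +kernel

theorem cP : nth 0 p2 0 = 1 ∧ nth 0 p2 1 = 0 := by decide +kernel

theorem cFix : sub (ones 4060) (1 ||| mov 4060 12 (nth Net.nil nl 0) ||| mov 4060 12 (nth Net.nil nl 1)
    ||| mov 4060 12 (nth Net.nil nl 2) ||| mov 4060 12 (nth Net.nil nl 4)) = true := by
  decide +kernel

end H10.Ru
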