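import Mathlib
import Cfsg.Agent.H10.RuChk

/-!
# The lattice of the Rudvalis group and the action on the 4060 lines
-/

set_option autoImplicit false
set_option linter.all false

namespace H10.Ru

open H29 H10.R3 Cfsg.Spor H10.RuD
open Finset hiding val

theorem rc_fz (j : ℕ) : ∀ k < 56, rc (fz j) k = fv F j k := fun _ hk => rc_mkv _ hk

theorem lenF : Len F := len_fam _ _ _ _

theorem fv_F (j k : ℕ) : fv F j k =
    bt (nth 0 p0 k) j + 4 * bt (nth 0 p2 k) j - bt (nth 0 q0 k) j := by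
  rw [F, fv_fam, show nth 0 [] k = 0 from rfl]; simp [bt]

theorem fz_zero {j : ℕ} (h : 4060 ≤ j) : fz j = 0 := by
  have h1 : ∀ l : List ℕ, (∀ a ∈ l, a ∈ p0 ++ p2 ++ q0) → ∀ k, bt (nth 0 l k) j = 0 :=
    fun l hl k => nth_forall (p := fun a => bt a j = 0) (by simp [bt]) (fun a ha => by
      refine bt_of_false ?_
      by_contra h2
      exact absurd (lt_of_sub_ones (allL_true.1 cSub a (hl a ha)) j (by simpa using h2))
        (by omega)) k
  refine rc_ext fun k hk => ?_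
  rw [rc_fz j k hk, fv_F, h1 p0 fun a h => by simp [h], h1 p2 fun a h => by simp [h],
    h1 q0 fun a h => by simp [h], rc_zero]
  rfl

theorem sim_U {n : Net} (hn : n.valid 4060 = true) (u v j : ℕ) :
    ∃ w, Sim (fz (n.perm j)) w ∧ ∀ q < 56, rc w q = fv (famU u v (famP n F)) j q := by
  obtain ⟨m, h⟩ := fv_famU (lenF.famP n) u v j
  exact ⟨_, ⟨m, rfl⟩, by rw [h, fv_famP hn]; exact rc_pow (rc_fz _) m⟩

theorem mon_sim {c : ℕ} (hc : c < 4) (j : ℕ) :
    Sim (fz (sg (nth Net.nil ml) c j)) (mon c (fz j)) := by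
  obtain ⟨w, h1, h2⟩ := sim_U (hm c) (nth 0 mu c) (nth 0 mw c) j
  rwa [show mon c (fz j) = w from rc_ext fun q hq => by
    rw [rc_mon hc _ q hq, mv_congr _ (rc_fz j), chkLin_spec (allN_true.1 cM c hc) j q hq, h2 q hq,
      pow_zero, one_mul]]

theorem mem_of_reach {l : List ℕ} {V r : ℕ} (h1 : ∀ j ∈ l, fz j ∈ ruLattice)
    (h : sub V (orb (fun c => (nth Net.nil ml c).rev) [0, 1, 2, 3] r (maskA l 0)) = true) {j : ℕ}
    (hj : V.testBit j = true) : fz j ∈ ruLattice := by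
  obtain ⟨w, hw, h2⟩ := reach_of_chk (K := 4060) (fun c => Net.rev_valid (hm c)) h j hj
  have h3 := h1 _ (((testBit_maskA _ _ _).1 h2).resolve_left (by simp))
  clear h2
  induction w with
  | nil => exact h3
  | cons c w ih =>
    refine ih (fun c hc => hw c (by simp [hc])) ?_
    have hc : c < 4 := by have := hw c (by simp); simp at this; omega
    have := (mon_sim hc _).symm.mem (mon_mem c h3)
    simpa [sg, Net.rev_perm] using this

theorem fz_mem (j : ℕ) : fz j ∈ ruLattice := by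
  by_cases h : j < 4060
  · have h1 : ∀ j ∈ tab, fz j ∈ ruLattice := fun j hj =>
      table_mem (cTab ▸ List.mem_map_of_mem hj)
    have h2 : ∀ j ∈ [1, 183, 1876, 1972], fz j ∈ ruLattice := fun j hj =>
      mem_of_reach h1 cR1 ((testBit_maskA _ _ _).2 (Or.inr hj))
    refine mem_of_reach (List.forall_mem_cons.2 ⟨?_, h1⟩) cR2 (by simp [testBit_ones, h])
    rw [cExt]
    exact add_mem (add_mem (add_mem (h2 _ (by simp)) (h2 _ (by simp))) (h2 _ (by simp)))
      (neg_mem (h2 _ (by simp)))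
  · rw [fz_zero (not_lt.1 h)]; exact zero_mem _

/-- The representatives of the lines as lattice vectors. -/
noncomputable def fL (j : ℕ) : ruLattice := ⟨fz j, fz_mem j⟩

theorem inL {v : RuVec} (hv : v ∈ ruLattice) : InL fz v :=
  inL_of_mem (fun v hv => by
    rw [cTab] at hv
    obtain ⟨j, -, rfl⟩ := List.mem_map.1 hv
    exact ⟨j, rfl⟩) (fun c hc j => ⟨_, mon_sim hc j⟩) hv

/-- `g` acts on the lines as `σ`. -/
def Act (g : fourRu) (σ : Equiv.Perm ℕ) : Prop := ∀ j, Sim (fz (σ j)) (g.1 (fL j))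

theorem Act.one : Act 1 1 := fun _ => Sim.refl _

theorem Act.mul {g h : fourRu} {σ τ : Equiv.Perm ℕ} (h1 : Act g σ) (h2 : Act h τ) :
    Act (g * h) (σ * τ) := fun j =>
  (h1 (τ j)).trans (four_sim g (v := fL (τ j)) (w := h.1 (fL j)) (h2 j))

theorem Act.inv {g : fourRu} {σ : Equiv.Perm ℕ} (h1 : Act g σ) : Act g⁻¹ σ⁻¹ := fun j => by
  have := four_sim g⁻¹ (v := fL (σ (σ⁻¹ j))) (h1 (σ⁻¹ j))
  simpa [fL] using this.symm

theorem act_mat {c : ℕ} (h : chkT1 c = true) (d : ℕ) (hd : nth 0 [0, 1, 2, 4, 6] c = d) :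
    ∃ g, Act g (sg (nth Net.nil nl) d) := by
  subst hd
  simp only [chkT1, and2_true] at h
  refine exists_aut (f := fL) (fun v hv => inL hv) (T := TM c) (norm_mv h.1) _ fun j => ?_
  obtain ⟨w, h1, h2⟩ := sim_U (hn (nth 0 [0, 1, 2, 4, 6] c)) (nth 0 uu c) (nth 0 uv c) j
  refine ⟨w, h1, fun q hq => ?_, fun q hq => ?_⟩
  · rw [h2 q hq]
    exact (congrFun (mv_congr _ (rc_fz j)) q).trans (chkLin_spec h.2.1 j q hq)
  · have := chkLin_spec h.2.2 j q hq
    rw [fv_famI, fv_famI] at this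
    rw [cI_congr h2 q hq]
    exact (congrFun (mv_congr _ (cI_congr (rc_fz j))) q).trans this

theorem exists_act (c : ℕ) : ∃ g, Act g (sg (nth Net.nil nl) c) := by
  have h2 : ∃ g, Act g (sg (nth Net.nil nl) 2) := act_mat t2 2 rfl
  have h4 : ∃ g, Act g (sg (nth Net.nil nl) 4) := act_mat t3 4 rfl
  by_cases h : c < 7
  · interval_cases c
    · exact act_mat t0 0 rfl
    · exact act_mat t1 1 rfl
    · exact h2
    · obtain ⟨g, hg⟩ := h2
      exact ⟨g⁻¹, by rw [← show ivOf ivl 2 = 3 from rfl, hiv]; exact hg.inv⟩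
    · exact h4
    · obtain ⟨g, hg⟩ := h4
      exact ⟨g⁻¹, by rw [← show ivOf ivl 4 = 5 from rfl, hiv]; exact hg.inv⟩
    · exact act_mat t4 6 rfl
  · rw [sg_nth_eq_one (not_lt.1 h)]; exact ⟨1, Act.one⟩

/-- The letters. -/
noncomputable def e4 (c : ℕ) : fourRu := (exists_act c).choose

theorem act_e4 (c : ℕ) : Act (e4 c) (sg (nth Net.nil nl) c) := (exists_act c).choose_spec

theorem act_ev : ∀ w, Act (ev e4 w) (ev (sg (nth Net.nil nl)) w)
  | [] => Act.one
  | c :: w => by rw [ev_cons, ev_cons]; exact (act_e4 c).mul (act_ev w)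

theorem to_zero {j : ℕ} (h : j < 4060) : ∃ w, ev (sg (nth Net.nil nl)) w j = 0 := by
  obtain ⟨w, -, h⟩ := reach_of_chk hn cTr j (by simp [testBit_ones, h])
  exact ⟨w, by simpa [testBit_bit, eq_comm] using h⟩

theorem fz0 : fz 0 = Pi.single (0, 0) 4 := (cFr (0, 0)).1

theorem sim_zero {j : ℕ} (h : j < 4060) : ∃ g : fourRu, Sim (fz 0) (g.1 (fL j)) := by
  obtain ⟨w, hw⟩ := to_zero h
  exact ⟨_, hw ▸ act_ev w j⟩

theorem norm_fz {j : ℕ} (h : j < 4060) : ruNorm (fz j) = 16 := by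
  obtain ⟨g, n, hg⟩ := sim_zero h
  have := g.2.2.2 (fL j)
  rw [hg, norm_pow, fz0, norm_dot, dot_single] at this
  exact this.symm.trans (by simp)

theorem int4 : Int4 := by
  intro v hv w hw
  have := inL hv
  clear hv
  induction this generalizing w with
  | gen j =>
    by_cases h : j < 4060
    · obtain ⟨g, n, hg⟩ := sim_zero h
      have := four_dot g (fL j) ⟨w, hw⟩
      rw [hg, fz0, ← Pi.single_smul', dot_comm, dot_single] at this
      change _ = dot (fz j) w at this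
      rw [← this]
      simp only [smul_eq_mul, Zsqrtd.re_mul, Zsqrtd.im_mul, Zsqrtd.re_ofNat, Zsqrtd.im_ofNat,
        mul_zero, add_zero, zero_add, ← mul_assoc]
      omega
    · rw [fz_zero (not_lt.1 h)]; simp [dot]
  | zero => simp [dot]
  | add _ _ a b => rw [dot_add]; exact dvd_add (a w hw) (b w hw)
  | neg _ a => rw [dot_neg]; exact (a w hw).neg_right
  | mulI _ a => rw [dot_I]; exact (a _ (gI_smul_mem_ruLattice hw)).neg_right

theorem mem_of_inL {v : RuVec} (h : InL fz v) : v ∈ ruLattice := by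
  induction h with
  | gen j => exact fz_mem j
  | zero => exact zero_mem _
  | add _ _ a b => exact add_mem a b
  | neg _ a => exact neg_mem a
  | mulI _ a => exact gI_smul_mem_ruLattice a

theorem eight_dvd {v : RuVec} (hv : v ∈ ruLattice) : 8 ∣ ruNorm v := by
  have := inL hv
  clear hv
  induction this with
  | gen j =>
    by_cases h : j < 4060
    · rw [norm_fz h]; norm_num
    · rw [fz_zero (not_lt.1 h)]; simp [ruNorm]
  | zero => simp [ruNorm]
  | add x y a b =>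
    have := int4 _ (mem_of_inL x) _ (mem_of_inL y)
    rw [norm_add]; omega
  | neg _ a => rwa [norm_neg]
  | mulI _ a => rwa [norm_I]

theorem is4_Z : ∀ z ∈ Z, Is4 z.1 z.2 := by
  rw [cZ]
  intro z hz
  obtain ⟨j, -, rfl⟩ := List.mem_map.1 hz
  refine ⟨fz j, fz_mem j, fun k hk => ?_⟩
  simp only [rc_fz j k hk, fv_F, valK_eq, xor_eq, land_eq, bt, Nat.testBit_xor, Nat.testBit_and,
    testBit_val]
  cases (nth 0 p0 k).testBit j <;> cases (nth 0 p2 k).testBit j <;>
    cases (nth 0 q0 k).testBit j <;> rfl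

theorem short' : (∀ v ∈ ruLattice, v ≠ 0 → 16 ≤ ruNorm v) ∧
    {v | v ∈ ruLattice ∧ ruNorm v = 16}.Finite ∧
      {v | v ∈ ruLattice ∧ ruNorm v = 16}.ncard ≤ 16240 := by
  have h1 : ∀ j, nth 0 hs j < 56 := nth_forall (p := (· < 56)) (by norm_num) (by decide)
  have h2 := and2_true.1 cSys
  have := short int4 (H := nth 0 hs) (fun v hv => sys_of_inL (fun j =>
    ⟨(chkSys_spec h2.1 j).congr h1 (rc_fz j), Sys.congr h1 (cI_congr (rc_fz j))
      (fv_famI F j ▸ chkSys_spec h2.2 j)⟩) (inL hv)) is4_Z cEnum cTor cObs cCar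
  rwa [cSum] at this

theorem eq_zero_of_sim {j : ℕ} (h : Sim (fz 0) (fz j)) : j = 0 := by
  obtain ⟨n, h⟩ := h
  by_contra h0
  have h1 := congrArg (fun v => ruNorm (Pi.single (0, 0) (v (0, 0)))) h
  simp only [fz0, ← Pi.single_smul', Pi.single_eq_same] at h1
  rw [Pi.single_smul', norm_pow, norm_dot, norm_dot, dot_single, dot_single] at h1
  have h2 := (rc_re (fz j) (0, 0)).symm.trans (rc_fz j 0 (by norm_num))
  have h3 := (rc_im (fz j) (0, 0)).symm.trans (rc_fz j 1 (by norm_num))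
  rw [fv_F, cP.1, bt_of_false (a := 1) (by
    rwa [← Bool.not_eq_true, Nat.testBit_one_eq_true_iff_self_eq_zero])] at h2
  rw [fv_F, cP.2, bt_of_false (a := 0) (by simp)] at h3
  simp only [Pi.single_eq_same, h2, h3] at h1
  have := bt_le (nth 0 p0 0) j
  have := bt_le (nth 0 p0 1) j
  have := bt_le (nth 0 q0 0) j
  have := bt_le (nth 0 q0 1) j
  generalize bt (nth 0 p0 0) j = a, bt (nth 0 p0 1) j = b, bt (nth 0 q0 0) j = c,
    bt (nth 0 q0 1) j = d at *
  interval_cases a <;> interval_cases b <;> interval_cases c <;> interval_cases d <;> simp at h1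

theorem eq_of_sim {j k : ℕ} (hj : j < 4060) (h : Sim (fz j) (fz k)) : j = k := by
  obtain ⟨w, hw⟩ := to_zero hj
  have h1 := act_ev w j
  rw [hw] at h1
  have := eq_zero_of_sim ((h1.trans (four_sim _ (v := fL j) (w := fL k) h)).trans (act_ev w k).symm)
  exact (ev (sg (nth Net.nil nl)) w).injective (hw.trans this.symm)

theorem fz_ne {j : ℕ} (hj : j < 4060) : fz j ≠ 0 := fun h => by
  simpa [h, ruNorm] using norm_fz hj

theorem exists_sim {v : RuVec} (h1 : v ∈ ruLattice) (h2 : ruNorm v = 16) :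
    ∃ j < 4060, Sim (fz j) v := by
  let φ : Fin 4 × Fin 4060 → RuVec := fun a => gI ^ a.1.1 • fz a.2
  have a1 : Function.Injective φ := by
    rintro ⟨a, j⟩ ⟨b, k⟩ h
    have h3 : j = k := Fin.ext (eq_of_sim j.2 (Sim.trans ⟨a, rfl⟩ (Sim.symm ⟨b, h⟩)))
    subst h3
    have h4 : gI ^ a.1 = gI ^ b.1 := smul_left_injective _ (fz_ne j.2) h
    have h5 : ∀ a b : Fin 4, gI ^ a.1 = gI ^ b.1 → a = b := by decide
    rw [h5 a b h4]
  have a2 : Set.range φ = {v | v ∈ ruLattice ∧ ruNorm v = 16} :=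
    Set.eq_of_subset_of_ncard_le (by
      rintro _ ⟨a, rfl⟩
      exact ⟨Sim.mem ⟨_, rfl⟩ (fz_mem _), (norm_pow _ _).trans (norm_fz a.2.2)⟩)
      (by rw [Set.ncard_range_of_injective a1]; simpa using short'.2.2) short'.2.1
  obtain ⟨a, rfl⟩ : v ∈ Set.range φ := a2 ▸ ⟨h1, h2⟩
  exact ⟨a.2, a.2.2, _, rfl⟩

/-- The line of a vector. -/
def ln (v : ruLattice) : Set ruLattice := {w | Sim v w}

theorem ln_eq {v w : ruLattice} : ln v = ln w ↔ Sim v w :=
  ⟨fun h => (h ▸ Sim.refl _ : w ∈ ln v),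
    fun h => Set.ext fun _ => ⟨fun h' => h.symm.trans h', fun h' => h.trans h'⟩⟩

open Pointwise in
theorem smul_ln (g : fourRu) (v : ruLattice) : g • ln v = ln (g.1 v) := by
  ext w
  rw [Set.mem_smul_set_iff_inv_smul_mem]
  exact ⟨fun h => by simpa [ln] using four_sim g (w := g⁻¹.1 w) h,
    fun h => by simpa [ln, Subgroup.smul_def] using four_sim g⁻¹ h⟩

open Pointwise in
theorem exists_rho4 : ∃ ρ : fourRu →* Equiv.Perm ℕ, (∀ g i, 4060 ≤ i → ρ g i = i) ∧
    ∀ g, Act g (ρ g) := by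
  have h1 : {s | ∃ v : ruLattice, ruNorm v = 16 ∧ ln v = s} ⊆
      (fun j => ln (fL j)) '' {j | j < 4060} := by
    rintro _ ⟨v, h, rfl⟩
    obtain ⟨j, hj, h⟩ := exists_sim v.2 h
    exact ⟨j, hj, ln_eq.2 h⟩
  have h2 := (Set.finite_lt_nat 4060).image fun j => ln (fL j)
  have h3 : ∀ g : fourRu, ∀ s ∈ {s | ∃ v : ruLattice, ruNorm v = 16 ∧ ln v = s},
      g • s ∈ {s | ∃ v : ruLattice, ruNorm v = 16 ∧ ln v = s} := by
    rintro g _ ⟨v, h, rfl⟩
    exact ⟨g.1 v, (g.2.2.2 v).trans h, (smul_ln g v).symm⟩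
  have h4 : ((fun j => ln (fL j)) '' {j | j < 4060}).ncard ≤ 4060 :=
    (Set.ncard_image_le (Set.finite_lt_nat _)).trans (Set.ncard_Iio_nat 4060).le
  obtain ⟨ρ, r1, r2, -⟩ := exists_rho (N := 4060) (f := fun j => ln (fL j)) h3
    ⟨h2.subset h1, (Set.ncard_le_ncard h1 h2).trans h4⟩
    (fun i hi j _ h => eq_of_sim hi (ln_eq.1 h)) fun i hi => ⟨fL i, norm_fz hi, rfl⟩
  refine ⟨ρ, r1, fun g j => ?_⟩
  by_cases h : j < 4060
  · exact ln_eq.1 ((r2 g j h).trans (smul_ln g _))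
  · have h3 : fL j = 0 := Subtype.ext (fz_zero (not_lt.1 h))
    rw [r1 g j (not_lt.1 h), fz_zero (not_lt.1 h), h3,
      show g.1 0 = 0 from map_zero (AddMonoidHom.mk' g.1 g.2.1)]
    exact Sim.refl _

/-- The action on the lines. -/
noncomputable def ρ4 : fourRu →* Equiv.Perm ℕ := exists_rho4.choose

theorem ρ4_fix (g : fourRu) (i : ℕ) (h : 4060 ≤ i) : ρ4 g i = i := exists_rho4.choose_spec.1 g i h

theorem act_ρ4 (g : fourRu) : Act g (ρ4 g) := exists_rho4.choose_spec.2 g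

theorem ρ4_eq {g : fourRu} {σ : Equiv.Perm ℕ} (h : Act g σ) (h' : ∀ i, 4060 ≤ i → σ i = i) :
    ρ4 g = σ := by
  ext i
  by_cases hi : i < 4060
  · exact eq_of_sim (lt_of_fix (ρ4_fix g) hi) ((act_ρ4 g i).trans (h i).symm)
  · rw [ρ4_fix g i (not_lt.1 hi), h' i (not_lt.1 hi)]

theorem ρ4_e4 (c : ℕ) : ρ4 (e4 c) = sg (nth Net.nil nl) c :=
  ρ4_eq (act_e4 c) fun _ hi => Net.perm_fix (hn c) hi

/-- Multiplication by `i`. -/
noncomputable def ι : fourRu :=
  ⟨⟨ruI, fun v => -ruI v, fun v => Subtype.ext (by simp [ruI, II]),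
    fun v => Subtype.ext (by simp [ruI, II])⟩,
    fun v w => Subtype.ext (smul_add _ _ _), fun _ => rfl, fun v => norm_I _⟩

theorem ι_pow (n : ℕ) (v : ruLattice) : ((ι ^ n).1 v : RuVec) = gI ^ n • (v : RuVec) := by
  induction n with
  | zero => simp
  | succ n ih => rw [pow_succ', pow_succ', mul_smul, ← ih]; rfl

theorem ι_mem : ι ∈ Subgroup.center fourRu :=
  Subgroup.mem_center_iff.2 fun g => Subtype.ext (Equiv.ext g.2.2.1)

theorem scalar_of_ker {g : fourRu} (h : ρ4 g = 1) : ∃ n : ℕ, g = ι ^ n := by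
  have h1 : ∀ j, Sim (fz j) (g.1 (fL j)) := fun j => by simpa [h] using act_ρ4 g j
  choose n hn using h1
  have h2 := fun p : RuIdx => four_coord g (y := fL _) (cFr p).1 (hn _)
  refine ⟨n 0, Subtype.ext (Equiv.ext fun v => Subtype.ext (funext fun p => ?_))⟩
  have h3 := (h2 p (fL _)).symm.trans (congrFun (hn (nth 0 li (4 * p.1 + p.2))) p)
  have h4 := (h2 (0, 0) (fL _)).symm.trans (congrFun (hn (nth 0 li (4 * p.1 + p.2))) (0, 0))
  rw [ι_pow, h2 p, mul_right_cancel₀ (cFr p).2.2 h3, ← mul_right_cancel₀ (cFr p).2.1 h4]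
  rfl

theorem ker_of_center {z : fourRu} (hz : z ∈ Subgroup.center fourRu) : ρ4 z = 1 := by
  have h1 : ∀ g i, ρ4 g (ρ4 z i) = ρ4 z (ρ4 g i) := fun g i => by
    rw [← Equiv.Perm.mul_apply, ← map_mul, Subgroup.mem_center_iff.1 hz g, map_mul]; rfl
  have h2 : ∀ c ∈ [0, 1, 2, 4], (mov 4060 12 (nth Net.nil nl c)).testBit (ρ4 z 0) = false :=
    fun c hc => by
      rw [testBit_mov (by norm_num) (hn c)]
      have := h1 (e4 c) 0
      rw [ρ4_e4, fixL_spec (L := [0, 1, 2, 4]) (b := 0) hn (by decide +kernel) c hc] at this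
      exact this
  have h3 := sub_true cFix (i := ρ4 z 0)
    (by simp [testBit_ones, lt_of_fix (ρ4_fix z) (show 0 < 4060 by norm_num)])
  simp only [Nat.testBit_or, h2 0 (by simp), h2 1 (by simp), h2 2 (by simp), h2 4 (by simp),
    Bool.or_false, Nat.testBit_one_eq_true_iff_self_eq_zero] at h3
  ext i
  by_cases hi : i < 4060
  · obtain ⟨w, hw⟩ := to_zero hi
    rw [← map_ev_sg (ρ := ρ4) fun c _ => ρ4_e4 c] at hw
    exact (ρ4 (ev e4 w)).injective (by rw [h1, hw, h3]; exact hw.symm)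
  · exact ρ4_fix z i (not_lt.1 hi)

theorem card_center : Nat.card (Subgroup.center fourRu) = 4 := by
  have h1 : Subgroup.center fourRu = Subgroup.zpowers ι := le_antisymm (fun z hz => by
    obtain ⟨n, rfl⟩ := scalar_of_ker (ker_of_center hz)
    exact Subgroup.npow_mem_zpowers _ n) (Subgroup.zpowers_le.2 ι_mem)
  rw [h1, Nat.card_zpowers]
  refine orderOf_eq_prime_pow (p := 2) (n := 1) (fun h => ?_)
    (Subtype.ext (Equiv.ext fun v => Subtype.ext (by
      rw [ι_pow, show gI ^ 2 ^ (1 + 1) = 1 from gI_four]; simp)))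
  have := congrFun (ι_pow (2 ^ 1) (fL 0)) (0, 0)
  rw [h] at this
  change fz 0 _ = (_ • fz 0) _ at this
  rw [fz0] at this
  revert this
  decide

/-- The action of the Rudvalis group on the lines. -/
noncomputable def ρ : Ru →* Equiv.Perm ℕ :=
  QuotientGroup.lift _ ρ4 fun _ hz => ker_of_center hz

/-- The letters. -/
noncomputable def e0 (c : ℕ) : Ru := e4 c

theorem ρ_e0 (c : ℕ) : ρ (e0 c) = sg (nth Net.nil nl) c := ρ4_e4 c

theorem ρ_fix (g : Ru) (i : ℕ) (h : 4060 ≤ i) : ρ g i = i := by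
  obtain ⟨g, rfl⟩ := QuotientGroup.mk_surjective g
  exact ρ4_fix g i h

theorem ρ_inj : Function.Injective ρ := (injective_iff_map_eq_one _).2 fun g h => by
  obtain ⟨g, rfl⟩ := QuotientGroup.mk_surjective g
  obtain ⟨n, rfl⟩ := scalar_of_ker h
  exact (QuotientGroup.eq_one_iff _).2 (pow_mem ι_mem n)

theorem ρ_trans : Trans ρ 4060 :=
  ⟨by norm_num, fun g _ hi => lt_of_fix (ρ_fix g) hi, fun i hi => by
    obtain ⟨g, -, h⟩ := (reach_of_chk hn cTr).exists_bit (fun c _ => ρ_e0 c)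
      (show (ones 4060).testBit i = true by simp [testBit_ones, hi])
    exact ⟨g, h⟩⟩

/-- The lines orthogonal to the first one. -/
def DD : ℕ := ones 1756 ^^^ 1

theorem cD : DD ||| nth 0 p0 0 ||| nth 0 p0 1 ||| nth 0 q0 0 ||| nth 0 q0 1 ||| 1 = ones 4060 ∧
    DD &&& (nth 0 p0 0 ||| nth 0 p0 1 ||| nth 0 q0 0 ||| nth 0 q0 1 ||| 1) = 0 ∧
    nth 0 p0 0 &&& nth 0 q0 0 = 0 ∧ nth 0 p0 1 &&& nth 0 q0 1 = 0 ∧ nth 0 q0 0 &&& 1 = 0 := by
  decide +kernel

theorem testBit_DD {j : ℕ} (hj : j < 4060) : DD.testBit j = true ↔ fz j (0, 0) = 0 := by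
  have h2 := (rc_re (fz j) (0, 0)).symm.trans (rc_fz j 0 (by norm_num))
  have h3 := (rc_im (fz j) (0, 0)).symm.trans (rc_fz j 1 (by norm_num))
  rw [fv_F, cP.1] at h2
  rw [fv_F, cP.2] at h3
  obtain ⟨a1, a2, a3, a4, a5⟩ := cD
  have b1 := congrArg (·.testBit j) a1
  have b2 := congrArg (·.testBit j) a2
  have b3 := congrArg (·.testBit j) a3
  have b4 := congrArg (·.testBit j) a4
  have b5 := congrArg (·.testBit j) a5
  simp only [Nat.testBit_or, Nat.testBit_and, testBit_ones, hj, Nat.zero_testBit] at b1 b2 b3 b4 b5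
  rw [Zsqrtd.ext_iff, h2, h3]
  simp only [bt, Nat.zero_testBit]
  revert b1 b2 b3 b4 b5
  cases DD.testBit j <;> cases (nth 0 p0 0).testBit j <;> cases (nth 0 p0 1).testBit j <;>
    cases (nth 0 q0 0).testBit j <;> cases (nth 0 q0 1).testBit j <;> cases Nat.testBit 1 j <;>
    decide

theorem DD_inv (g : Ru) (h : ρ g 0 = 0) (y : ℕ) : DD.testBit (ρ g y) = DD.testBit y := by
  by_cases hy : y < 4060
  · rw [Bool.eq_iff_iff, testBit_DD hy, testBit_DD (lt_of_fix (ρ_fix g) hy)]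
    obtain ⟨g, rfl⟩ := QuotientGroup.mk_surjective g
    obtain ⟨n, h1⟩ := act_ρ4 g 0
    obtain ⟨m, h2⟩ := act_ρ4 g y
    rw [show ρ4 g 0 = 0 from h] at h1
    have h3 := (four_coord g (y := fL 0) fz0 h1 (fL y)).symm.trans (congrFun h2 (0, 0))
    have h4 : gI ≠ 0 := by decide
    change _ * fz y _ = _ * fz (ρ g y) _ at h3
    exact ⟨fun h => by simpa [h, h4] using h3, fun h => by simpa [h, h4] using h3⟩
  · rw [ρ_fix g y (not_lt.1 hy)]

end H10.Ru
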