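import Mathlib
import Cfsg.Agent.H10.TA1

set_option autoImplicit false
set_option linter.all false
set_option maxRecDepth 100000

namespace H10.Mon.T

open Cfsg H9 H29 Cfsg.Spor H10.YW

variable {G : Type*} [Group G] {F : Nd → G}

namespace TA

def E13 : List Nd := YW.rep [.a, .b1, .b3, .b2, .c1, .c3, .d1] 9
def r356 : List Nd := [.a, .b1, .b2, .a, .b3, .a, .b2, .b1, .a]
def r256 : List Nd := [.c1, .d1, .b1, .c1, .a, .b1, .b2, .a, .b3, .a, .b2, .b1, .a, .c1, .b1, .d1, .c1]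
def r156 : List Nd := [.e1, .f1, .d1, .e1, .c1, .d1, .b1, .c1, .a, .b1, .b2, .a, .b3, .a, .b2, .b1, .a, .c1, .b1, .d1, .c1, .e1, .d1, .f1, .e1]
def r126 : List Nd := [.c1, .d1, .e1, .f1, .b1, .c1, .d1, .e1, .a, .b1, .c1, .d1, .b2, .a, .b1, .c1, .c2, .b2, .a, .b1, .d2, .c2, .b2, .a, .b3, .a, .b2, .c2, .d2, .b1, .a, .b2, .c2, .c1, .b1, .a, .b2, .d1, .c1, .b1, .a, .e1, .d1, .c1, .b1, .f1, .e1, .d1, .c1]
def r125 : List Nd := [.c1, .d1, .e1, .f1, .b1, .c1, .d1, .e1, .a, .b1, .c1, .d1, .b2, .a, .b1, .c1, .e2, .d2, .c2, .b2, .a, .b1, .f2, .e2, .d2, .c2, .b2, .a, .b3, .a, .b2, .c2, .d2, .e2, .f2, .b1, .a, .b2, .c2, .d2, .e2, .c1, .b1, .a, .b2, .d1, .c1, .b1, .a, .e1, .d1, .c1, .b1, .f1, .e1, .d1, .c1]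
def r124 : List Nd := [.c1, .d1, .e1, .f1, .b1, .c1, .d1, .e1, .c2, .b2, .a, .b1, .c1, .d1, .d2, .c2, .b2, .a, .b1, .c1, .e2, .d2, .c2, .b2, .a, .b1, .f2, .e2, .d2, .c2, .b2, .a, .b3, .a, .b2, .c2, .d2, .e2, .f2, .b1, .a, .b2, .c2, .d2, .e2, .c1, .b1, .a, .b2, .c2, .d2, .d1, .c1, .b1, .a, .b2, .c2, .e1, .d1, .c1, .b1, .f1, .e1, .d1, .c1]
def r346 : List Nd := [.c2, .b2, .a, .b1, .d2, .c2, .b2, .a, .b3, .a, .b2, .c2, .d2, .b1, .a, .b2, .c2]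
def r345 : List Nd := [.e2, .d2, .c2, .b2, .a, .b1, .f2, .e2, .d2, .c2, .b2, .a, .b3, .a, .b2, .c2, .d2, .e2, .f2, .b1, .a, .b2, .c2, .d2, .e2]
def r234 : List Nd := [.c2, .b2, .a, .b1, .c1, .d1, .d2, .c2, .b2, .a, .b1, .c1, .e2, .d2, .c2, .b2, .a, .b1, .f2, .e2, .d2, .c2, .b2, .a, .b3, .a, .b2, .c2, .d2, .e2, .f2, .b1, .a, .b2, .c2, .d2, .e2, .c1, .b1, .a, .b2, .c2, .d2, .d1, .c1, .b1, .a, .b2, .c2]
def r134 : List Nd := [.e1, .f1, .d1, .e1, .c2, .b2, .a, .b1, .c1, .d1, .d2, .c2, .b2, .a, .b1, .c1, .e2, .d2, .c2, .b2, .a, .b1, .f2, .e2, .d2, .c2, .b2, .a, .b3, .a, .b2, .c2, .d2, .e2, .f2, .b1, .a, .b2, .c2, .d2, .e2, .c1, .b1, .a, .b2, .c2, .d2, .d1, .c1, .b1, .a, .b2, .c2, .e1, .d1, .f1, .e1]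
def g356 : List Nd := [.a, .b1, .b2, .a]
def g256 : List Nd := [.c1, .d1, .b1, .c1, .a, .b1, .b2, .a]
def g156 : List Nd := [.e1, .f1, .d1, .e1, .c1, .d1, .b1, .c1, .a, .b1, .b2, .a]
def g346 : List Nd := [.c2, .b2, .a, .b1, .d2, .c2, .b2, .a]
def g345 : List Nd := [.e2, .d2, .c2, .b2, .a, .b1, .f2, .e2, .d2, .c2, .b2, .a]
def g12 : List Nd := [.c1, .d1, .e1, .f1, .b1, .c1, .d1, .e1, .a, .b1, .c1, .d1, .b2, .a, .b1, .c1, .c2, .b2, .a, .b1, .d2, .c2, .b2, .a, .e2, .d2, .c2, .b2, .f2, .e2, .d2, .c2]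
def g34 : List Nd := [.c2, .b2, .a, .b1, .d2, .c2, .b2, .a, .e2, .d2, .c2, .b2, .f2, .e2, .d2, .c2]
def P1234 : List Nd := [.f1, .d1, .b1, .b2]
def P3456 : List Nd := [.b1, .b2, .d2, .f2]
def P1256 : List Nd := [.f1, .d1, .d2, .f2]
def K56 : List Nd := [.f1, .d1, .b1, .b2, .b3, .a, .b1, .b2, .a, .b3, .a, .b2, .b1, .a, .c1, .d1, .b1, .c1, .a, .b1, .b2, .a, .b3, .a, .b2, .b1, .a, .c1, .b1, .d1, .c1, .e1, .f1, .d1, .e1, .c1, .d1, .b1, .c1, .a, .b1, .b2, .a, .b3, .a, .b2, .b1, .a, .c1, .b1, .d1, .c1, .e1, .d1, .f1, .e1]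
def G3 : List Nd := [.d1, .c1, .b1, .a, .b3, .b2, .a, .b1, .c1, .d1]
def D6 : List Nd := [.a, .b1, .a, .c1, .b1, .a, .d1, .c1, .b1, .a, .b2, .a, .b1, .c1, .d1, .b3, .a, .b1, .c1, .d1, .b2, .a, .b1, .c1, .b3, .a, .b1, .b2, .a, .b3]
def Ga : List Nd := [.c2, .b2, .a, .b3, .b1, .a, .b2, .c2, .c1, .b1, .a, .b2, .d1, .c1, .b1, .a, .b3, .a, .b2, .c2, .b1, .a, .b2, .c1, .b1, .a, .b3, .d1, .c1, .b1, .a, .b2, .c2]
def Gb : List Nd := [.c3, .b3, .a, .b2, .b1, .a, .b3, .c1, .b1, .a, .b2, .d1, .c1, .b1, .a, .b3, .c3, .b3, .a, .b2, .b1, .a, .b3, .c1, .b1, .a, .b2, .d1, .c1, .b1, .a, .b3, .c3]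
def S10 : List Nd := YW.rep SP 10
def S10s : List Nd := S10.map sw12
def U3 : List Nd := [.c1, .b1, .c2, .b2, .c3, .b3]
def V5 : List Nd := [.b3, .c3, .b3, .c2, .c1]

theorem d_56 (h : Cx F) : F .e1 * (vl F E12)⁻¹ * F .e1 * (vl F K56)⁻¹ * vl F G3 = F .f1 * F .e1 * F .f1 * vl F G3 * vl F X1 * F .f1 * F .e1 * F .f1 := by
  have := h.eq [57, 56, 55, 54, 52, 53, 52, 50, 51, 48, 49, 50, 45, 46, 47, 48, 49, 41, 42, 43, 44, 45, 46, 47, 48, 29, 31, 32, 33, 34, 35, 36, 37, 38, 39, 40, 41, 42, 43, 44, 45, 46, 47, 49, 48, 46, 47, 48, 45, 46, 47, 48, 49, 44, 45, 46, 43, 44, 45, 46, 42, 43, 39, 40, 41, 28, 29, 31, 32, 33, 34, 35, 36, 37, 38, 39, 40, 41, 43, 39, 40, 41, 37, 38, 27, 28, 29, 31, 32, 33, 34, 35, 36, 37, 38, 40, 41, 43, 44, 46, 47, 49, 45, 47, 48, 49, 50, 51, 47, 48, 42, 44, 45, 40, 39, 40, 42, 43, 44, 45, 47,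 48, 50, 51, 44, 45, 46, 42, 41, 42, 44, 45, 46, 48, 36, 37, 35, 26, 27, 28, 29, 31, 32, 33, 34, 35, 37, 39, 40, 41, 42, 43, 32, 33, 34, 35, 31, 32, 23, 24, 25, 26, 27, 28, 29, 31, 32, 34, 35, 37, 38, 39, 40, 41, 42, 43, 37, 30, 31, 29, 24, 25, 26, 27, 28, 29, 31, 33, 34, 35, 36, 37, 33, 34, 35, 32, 30, 23, 24, 25, 26, 27, 28, 29, 30, 32, 34, 35, 37, 38, 40, 41, 33, 34, 32, 26, 22, 23, 24, 25, 26, 28, 29, 30, 31, 32, 34, 36, 28, 29, 30, 18, 19, 20, 21, 22, 23, 24, 25, 26, 28, 29, 30, 32, 33, 34, 36, 38, 39, 40, 41, 43, 44, 46, 47, 48, 50, 47, 48, 40, 41, 42, 43, 44, 45, 46, 47, 48, 50, 51, 47, 48, 41, 43, 44, 45, 46, 47, 48, 50, 51, 43, 39, 40, 41, 37, 39, 40, 41, 43, 44, 46, 47, 48, 49, 50, 42, 44, 45, 40, 38, 39, 40, 42, 43, 44, 45, 47, 35, 36, 37, 38, 39, 33, 31, 33, 34, 36, 37, 32, 34, 28, 29, 30, 27, 28,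 29, 30, 32, 33, 34, 36, 37, 39, 41, 42, 43, 33, 34, 23, 20, 21, 22, 23, 25, 21, 19, 20, 21, 23, 24, 25, 27, 17, 18, 19, 20, 21, 22, 16, 17, 18, 19, 20, 22, 23, 25, 26, 27, 29, 30, 31, 32, 33, 34, 30, 32, 28, 21, 23, 24, 14, 15, 16, 17, 18, 19, 13, 14, 15, 16, 17, 18, 19, 21, 22, 23, 24, 26, 27, 28, 30, 31, 32, 34, 35, 37, 38, 39, 41, 42, 43, 45, 46, 47, 49, 42, 43, 44, 45, 46, 47, 48, 45, 46, 47, 41, 42, 43, 44, 45, 46, 45, 42, 44, 40, 41, 38, 36, 38, 39, 41, 43, 42, 37, 39, 40, 41, 42, 43, 44, 39, 40, 31, 32, 33, 34, 29, 31, 32, 33, 34, 36, 37, 38, 39, 40, 42, 43, 38, 39, 40, 31, 33, 34, 35, 36, 23, 24, 22, 23, 24, 26, 27, 28, 29, 25, 20, 22, 23, 24, 25, 27, 28, 29, 31, 32, 33, 34, 35, 36, 38, 39, 40, 42, 35, 36, 33, 34, 35, 36, 38, 31, 32, 30, 31, 32, 34, 28, 29, 22, 23, 24, 25, 26, 27, 28, 29, 25, 26, 27,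 21, 22, 23, 11, 12, 13, 14, 15, 16, 17, 18, 19, 20, 9, 10, 11, 12, 13, 14, 15, 16, 17, 18, 19, 20, 22, 23, 25, 26, 27, 29, 30, 32, 33, 34, 36, 37, 38, 40, 41, 37, 38, 39, 40, 41, 33, 34, 35, 36, 37, 38, 40, 34, 36, 37, 38, 39, 40, 31, 33, 34, 35, 37, 38, 39, 32, 33, 35, 36, 28, 30, 31, 29, 24, 21, 22, 23, 24, 26, 27, 28, 29, 31, 33, 34, 35, 36, 38, 35, 36, 37, 34, 35, 36, 37, 35, 36, 32, 34, 35, 36, 33, 30, 31, 25, 26, 27, 28, 29, 30, 31, 33, 35, 34, 32, 33, 34, 36, 37, 38, 35, 36, 37, 38, 39, 40, 45, 14, 15, 16, 17, 18, 19, 20, 21, 22, 23, 24, 25, 26, 27, 28, 29, 30, 31, 32, 33, 34, 35, 36, 37, 38, 39, 40, 41, 42, 43, 44, 34, 29, 25, 26, 23, 24, 21, 17, 18, 15, 14, 15, 17, 18, 20, 21, 23, 24, 26, 27, 29, 31, 32, 33, 34, 36, 37, 39, 40, 41, 42, 43, 13, 14, 12, 11, 12, 14, 16, 17, 18, 15, 16, 13, 14, 10, 11,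 12, 13, 14, 16, 18, 20, 21, 22, 23, 24, 25, 26, 27, 28, 29, 19, 20, 17, 18, 15, 16, 7, 8, 10, 11, 6, 8, 9, 10, 11, 13, 14, 15, 16, 18, 20, 22, 23, 24, 25, 26, 27, 28, 29, 31, 32, 33, 34, 35, 30, 31, 21, 22, 23, 24, 25, 19, 20, 17, 18, 12, 13, 14, 15, 16, 17, 18, 20, 22, 8, 9, 7, 8, 9, 11, 12, 13, 14, 15, 16, 10, 11, 12, 5, 6, 7, 8, 4, 3, 4, 6, 7, 8, 10, 11, 12, 14, 15, 16, 18, 19, 20, 22, 24, 25, 27, 28, 29, 30, 31, 33, 34, 35, 37, 38, 39, 40, 41, 42, 37, 38, 27, 24, 25, 26, 27, 21, 19, 21, 23, 24, 25, 22, 20, 6, 7, 8, 9, 11, 12, 13, 15, 16, 17, 18, 19, 20, 22, 24, 25, 27, 28, 30, 31, 32, 34, 35, 36, 37, 38, 40, 41, 35, 36, 23, 24, 22, 19, 20, 21, 22, 24, 26, 16, 18, 19, 20, 5, 6, 7, 9, 10, 11, 13, 14, 15, 16, 18, 19, 20, 22, 23, 24, 26, 28, 29, 30, 32, 33, 34, 35, 36, 38, 39, 40, 32, 28, 29, 30, 31, 32, 25,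 23, 25, 27, 28, 29, 30, 26, 27, 24, 25, 18, 19, 20, 21, 22, 23, 13, 14, 15, 16, 9, 10, 11, 12, 13, 14, 15, 16, 18, 19, 20, 21, 22, 23, 25, 27, 29, 30, 32, 33, 35, 36, 37, 39, 28, 29, 27, 22, 23, 24, 25, 26, 27, 29, 31, 19, 21, 22, 23, 24, 25, 20, 21, 15, 16, 17, 18, 11, 12, 13, 8, 9, 10, 11, 12, 13, 15, 16, 17, 18, 20, 21, 23, 24, 25, 27, 28, 29, 31, 33, 34, 35, 37, 38, 37, 36, 33, 34, 35, 32, 33, 34, 30, 31, 32, 33, 28, 30, 31, 32, 26, 28, 29, 30, 31, 28, 23, 24, 25, 26, 20, 21, 15, 16, 17, 18, 19, 20, 21, 23, 24, 25, 26, 28, 30, 25, 26, 20, 21, 22, 23, 18, 14, 15, 16, 17, 18, 20, 21, 22, 23, 25, 26, 28, 29, 28, 27, 25, 26, 24, 25, 20, 21, 22, 23, 24, 19, 20, 21, 22, 23, 2, 3, 4, 5, 6, 7, 8, 9, 10, 11, 12, 13, 14, 15, 16, 17, 18, 19, 20, 21, 22, 1, 2, 3, 4, 5, 6, 7, 8, 9, 10, 11, 12, 13, 14, 15, 16, 17, 18,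 19, 20, 21, 16, 17, 10, 9, 10, 8, 2, 3, 5, 7, 8, 10, 11, 13, 15, 16, 17, 19, 20, 12, 13, 9, 11, 4, 5, 7, 8, 9, 11, 13, 14, 16, 17, 19, 20, 18, 19, 20, 15, 16, 17, 18, 19, 20, 12, 14, 15, 16, 17, 18, 19, 21, 13, 10, 11, 6, 7, 8, 9, 10, 11, 13, 15, 16, 17, 19, 20, 21, 14, 15, 17, 18, 19, 20, 21, 12, 13, 15, 16, 17, 18, 19, 20, 21, 12, 13, 14, 16, 17, 18, 20, 21, 11, 12, 14, 15, 16, 17, 18, 20, 10, 11, 12, 13, 15, 17, 18, 19, 7, 9, 10, 11, 13, 14, 15, 17, 18, 13, 8, 9, 10, 11, 13, 15, 16, 17, 7, 8, 9, 11, 12, 13, 15, 16, 11, 6, 7, 8, 9, 11, 13, 14, 15, 5, 6, 8, 9, 10, 11, 12, 14, 4, 5, 6, 8, 9, 10, 12, 13, 8, 1, 2, 3, 4, 5, 6, 8, 10, 11, 12, 7, 1, 2, 3, 4, 5, 7, 9, 10, 11, 1, 2, 4, 5, 6, 7, 8, 10, 0, 1, 2, 3, 4, 5, 6, 7, 8, 9, 10, 9, 8, 7, 6, 4, 5, 4, 3, 2, 1, 0] (l := [.e1] ++ (E12.reverse ++ ([.e1] ++ (K56.reverse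 ++ G3)))) (r := [.f1] ++ ([.e1] ++ ([.f1] ++ (G3 ++ (X1 ++ ([.f1] ++ ([.e1] ++ [.f1]))))))) (by decide +kernel) (by decide +kernel) (by decide +kernel)
  simpa only [vl_append, vl_one, vl_nil, mul_assoc, h.rev (l := E12) (by decide +kernel), h.rev (l := K56) (by decide +kernel)] using this

theorem d_12 (h : Cx F) : vl F P3456 * vl F RAB * vl F r124 * vl F r125 * vl F r126 * vl F g12 = vl F g12 * vl F K56 := by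
  have := h.eq [83, 84, 85, 82, 83, 81, 55, 56, 57, 58, 59, 60, 61, 62, 63, 64, 65, 66, 67, 68, 69, 70, 71, 72, 73, 74, 75, 76, 77, 78, 79, 81, 83, 85, 87, 74, 75, 76, 73, 74, 72, 54, 55, 56, 57, 58, 59, 60, 61, 62, 63, 64, 65, 66, 67, 68, 69, 70, 72, 74, 76, 78, 79, 80, 81, 82, 83, 84, 85, 86, 65, 66, 67, 64, 65, 63, 53, 54, 55, 56, 57, 58, 59, 60, 61, 63, 65, 67, 69, 70, 71, 72, 73, 74, 75, 76, 77, 78, 79, 80, 81, 82, 83, 84, 85, 56, 57, 58, 55, 56, 54, 52, 54, 56, 58, 60, 61, 62, 63, 64, 65, 66, 67, 68, 69, 70, 71, 72, 73, 74, 75, 76, 77, 78, 79, 80, 81, 82, 83, 84, 75, 76, 77, 78, 79, 80, 73, 74, 75, 76, 77, 71, 72, 73, 74, 69, 70, 71, 24, 22, 20, 21, 22, 24, 26, 27, 28, 29, 30, 31, 32, 33, 34, 35, 36, 37, 38, 25, 23, 18, 19, 20, 21, 22, 23, 25, 27, 28, 29, 30, 31, 32, 33, 34, 35, 26, 24, 16, 17, 18, 19,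 20, 21, 22, 23, 24, 26, 28, 29, 30, 31, 32, 27, 25, 14, 15, 16, 17, 18, 19, 20, 21, 22, 23, 24, 25, 27, 29, 11, 13, 14, 15, 16, 17, 18, 19, 20, 21, 22, 23, 9, 10, 11, 13, 14, 15, 16, 17, 18, 19, 20, 7, 8, 9, 10, 11, 13, 14, 15, 16, 17, 5, 6, 7, 8, 9, 10, 11, 13, 14, 3, 4, 5, 6, 7, 8, 9, 10, 11, 13, 14, 16, 17, 19, 20, 22, 23, 25, 26, 27, 29, 31, 32, 34, 35, 37, 38, 40, 41, 42, 43, 44, 45, 46, 47, 48, 49, 50, 51, 52, 53, 54, 55, 56, 57, 58, 59, 60, 61, 62, 63, 64, 65, 66, 67, 68, 69, 70, 71, 73, 74, 76, 77, 79, 80, 82, 83, 13, 14, 12, 10, 12, 14, 16, 17, 18, 19, 20, 21, 22, 23, 24, 25, 26, 27, 28, 29, 30, 31, 32, 33, 34, 35, 36, 15, 16, 13, 14, 11, 12, 9, 10, 11, 12, 14, 16, 18, 19, 20, 21, 22, 23, 24, 25, 26, 27, 28, 29, 30, 31, 32, 17, 18, 15, 16, 13, 14, 8, 9, 10, 11, 12, 13, 14, 16, 18, 20, 21, 22, 23, 24,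 25, 26, 27, 28, 19, 20, 21, 17, 18, 15, 16, 7, 8, 9, 10, 11, 12, 13, 14, 15, 16, 18, 20, 21, 23, 24, 6, 7, 8, 9, 10, 11, 12, 13, 14, 5, 6, 7, 8, 9, 10, 4, 5, 6, 2, 4, 5, 6, 8, 9, 10, 12, 13, 14, 16, 17, 18, 20, 21, 23, 24, 26, 27, 28, 30, 31, 32, 34, 35, 36, 38, 39, 40, 41, 42, 43, 44, 45, 46, 47, 48, 49, 50, 51, 52, 53, 54, 55, 56, 57, 58, 59, 60, 61, 62, 63, 64, 65, 66, 67, 68, 69, 70, 71, 73, 74, 76, 77, 79, 80, 82, 81, 78, 79, 80, 75, 76, 77, 78, 79, 72, 73, 74, 75, 76, 77, 78, 69, 70, 71, 72, 73, 74, 68, 69, 70, 71, 67, 68, 19, 20, 18, 1, 2, 3, 5, 6, 7, 9, 10, 11, 13, 14, 15, 16, 18, 20, 22, 23, 24, 25, 27, 28, 29, 31, 32, 33, 35, 36, 37, 39, 40, 41, 42, 43, 44, 45, 46, 47, 48, 49, 50, 51, 52, 53, 54, 55, 56, 57, 58, 59, 60, 61, 62, 63, 64, 65, 67, 68, 70, 71, 73, 74, 76, 77, 15, 16, 0, 1, 3, 4, 5, 7, 8,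 9, 11, 12, 13, 15, 16, 18, 19, 20, 22, 23, 25, 26, 27, 29, 30, 31, 33, 34, 35, 37, 38, 39, 40, 41, 42, 43, 44, 45, 46, 47, 48, 49, 50, 51, 52, 53, 54, 55, 56, 57, 58, 59, 60, 61, 62, 63, 64, 65, 67, 68, 70, 71, 73, 74, 76, 75, 72, 73, 74, 69, 70, 71, 72, 73, 66, 67, 68, 69, 70, 71, 72, 63, 64, 65, 66, 67, 68, 61, 62, 63, 64, 65, 59, 60, 61, 62, 57, 58, 59, 37, 33, 34, 35, 29, 30, 31, 32, 33, 34, 35, 37, 39, 40, 41, 42, 43, 38, 36, 25, 26, 27, 28, 29, 30, 31, 32, 33, 34, 35, 36, 38, 40, 21, 22, 20, 18, 15, 16, 17, 18, 20, 22, 24, 25, 26, 27, 28, 29, 30, 31, 32, 33, 34, 23, 24, 21, 22, 19, 20, 11, 12, 13, 14, 15, 16, 17, 18, 19, 20, 22, 24, 26, 27, 28, 29, 30, 31, 25, 26, 23, 24, 21, 22, 7, 8, 9, 10, 11, 12, 13, 14, 15, 16, 17, 18, 19, 20, 21, 22, 24, 26, 28, 29, 30, 31, 33, 34, 36, 37, 38, 40, 42, 43, 45, 46,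 47, 48, 49, 50, 51, 52, 53, 54, 55, 56, 57, 58, 59, 61, 62, 64, 65, 67, 68, 70, 71, 30, 31, 27, 28, 29, 26, 27, 21, 22, 23, 24, 25, 26, 27, 29, 31, 33, 34, 35, 36, 37, 38, 39, 40, 41, 32, 33, 34, 30, 31, 28, 29, 18, 19, 20, 21, 22, 23, 24, 25, 26, 27, 28, 29, 31, 33, 34, 36, 37, 15, 12, 13, 15, 17, 18, 19, 20, 21, 22, 23, 24, 25, 26, 27, 16, 14, 9, 10, 11, 12, 13, 14, 16, 18, 19, 20, 21, 22, 23, 17, 18, 15, 6, 7, 8, 9, 10, 11, 12, 13, 14, 15, 17, 18, 20, 21, 22, 23, 25, 26, 27, 29, 30, 31, 33, 34, 36, 37, 39, 40, 41, 43, 44, 45, 46, 47, 48, 49, 50, 51, 52, 53, 54, 55, 56, 57, 58, 59, 61, 62, 64, 65, 67, 68, 70, 69, 66, 67, 68, 63, 64, 65, 66, 67, 60, 61, 62, 63, 64, 65, 66, 57, 58, 59, 60, 61, 62, 56, 57, 58, 59, 55, 56, 32, 33, 31, 20, 17, 18, 3, 4, 5, 6, 7, 8, 9, 10, 11, 12, 13, 14, 15, 16, 17, 18, 20, 22,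 23, 24, 26, 27, 28, 29, 31, 33, 35, 36, 37, 38, 40, 41, 42, 44, 45, 46, 47, 48, 49, 50, 51, 52, 53, 55, 56, 58, 59, 61, 62, 64, 65, 28, 29, 17, 18, 15, 2, 3, 4, 5, 6, 7, 8, 9, 10, 11, 12, 13, 14, 15, 17, 18, 20, 21, 22, 24, 25, 26, 28, 29, 31, 32, 33, 35, 36, 38, 39, 40, 42, 43, 44, 45, 46, 47, 48, 49, 50, 51, 52, 53, 55, 56, 58, 59, 61, 62, 64, 63, 60, 61, 62, 57, 58, 59, 60, 61, 54, 55, 56, 57, 58, 59, 60, 51, 52, 53, 54, 55, 56, 49, 50, 51, 52, 53, 47, 48, 49, 50, 45, 46, 47, 34, 35, 33, 31, 28, 29, 30, 31, 33, 35, 37, 38, 39, 40, 41, 43, 44, 45, 46, 47, 49, 50, 52, 53, 55, 56, 58, 59, 30, 31, 27, 28, 30, 31, 33, 34, 35, 37, 38, 39, 41, 42, 43, 44, 45, 46, 47, 49, 50, 52, 53, 55, 56, 58, 57, 54, 55, 56, 51, 52, 53, 54, 55, 48, 49, 50, 51, 52, 53, 54, 45, 46, 47, 48, 49, 50, 44, 45, 46, 47, 43, 44, 36, 37,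 38, 35, 36, 33, 34, 30, 31, 32, 24, 25, 26, 27, 28, 29, 30, 31, 32, 34, 36, 38, 40, 41, 43, 44, 46, 47, 49, 50, 52, 53, 31, 32, 33, 34, 30, 31, 28, 23, 24, 25, 26, 27, 28, 30, 31, 33, 34, 36, 37, 38, 40, 41, 43, 44, 46, 47, 49, 50, 52, 51, 48, 49, 50, 45, 46, 47, 48, 49, 42, 43, 44, 45, 46, 47, 48, 39, 40, 41, 42, 43, 44, 45, 46, 47, 46, 47, 48, 44, 45, 46, 42, 43, 44, 40, 41, 42, 38, 39, 40, 41, 42, 44, 46, 48, 50, 41, 42, 43, 44, 45, 46, 40, 41, 42, 43, 39, 40, 37, 39, 40, 42, 43, 45, 46, 48, 49, 48, 49, 50, 45, 46, 47, 48, 42, 43, 44, 45, 46, 39, 40, 41, 42, 43, 44, 36, 37, 38, 39, 40, 41, 42, 43, 44, 46, 48, 50, 52, 43, 44, 45, 46, 47, 48, 41, 42, 43, 44, 45, 39, 40, 41, 42, 37, 38, 39, 35, 36, 37, 38, 39, 41, 42, 44, 45, 47, 48, 50, 51, 50, 51, 52, 47, 48, 49, 50, 44, 45, 46, 47, 48, 41, 42, 43, 44, 45,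 46, 33, 34, 35, 36, 37, 38, 39, 40, 41, 42, 43, 44, 45, 46, 48, 50, 52, 54, 45, 46, 47, 48, 49, 50, 43, 44, 45, 46, 47, 41, 42, 43, 44, 39, 40, 41, 32, 33, 34, 35, 36, 37, 38, 39, 40, 41, 43, 44, 46, 47, 49, 50, 52, 53, 52, 53, 54, 49, 50, 51, 52, 46, 47, 48, 49, 50, 43, 44, 45, 46, 47, 48, 30, 31, 32, 33, 34, 35, 36, 37, 38, 39, 40, 41, 42, 43, 44, 45, 46, 47, 48, 50, 52, 54, 56, 47, 48, 49, 50, 51, 52, 45, 46, 47, 48, 49, 43, 44, 45, 46, 41, 42, 43, 29, 30, 31, 32, 33, 34, 35, 36, 37, 38, 39, 40, 41, 42, 43, 45, 46, 48, 49, 51, 52, 54, 55, 54, 55, 56, 51, 52, 53, 54, 48, 49, 50, 51, 52, 45, 46, 47, 48, 49, 50, 20, 21, 22, 23, 24, 25, 26, 27, 28, 29, 30, 31, 32, 33, 34, 35, 36, 37, 38, 39, 40, 41, 42, 43, 44, 45, 46, 47, 48, 49, 50, 52, 54, 56, 58, 49, 50, 51, 52, 53, 54, 47, 48, 49, 50, 51, 45, 46, 47, 48,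 43, 44, 45, 19, 20, 21, 22, 23, 24, 25, 26, 27, 28, 29, 30, 31, 32, 33, 34, 35, 36, 37, 38, 39, 40, 41, 42, 43, 44, 45, 47, 48, 50, 51, 53, 54, 56, 57, 56, 57, 58, 53, 54, 55, 56, 50, 51, 52, 53, 54, 47, 48, 49, 50, 51, 52, 17, 18, 19, 20, 21, 22, 23, 24, 25, 26, 27, 28, 29, 30, 31, 32, 33, 34, 35, 36, 37, 38, 39, 40, 41, 42, 43, 44, 45, 46, 47, 48, 49, 50, 51, 52, 54, 56, 58, 60, 51, 52, 53, 54, 55, 56, 49, 50, 51, 52, 53, 47, 48, 49, 50, 45, 46, 47, 16, 17, 18, 19, 20, 21, 22, 23, 24, 25, 26, 27, 28, 29, 30, 31, 32, 33, 34, 35, 36, 37, 38, 39, 40, 41, 42, 43, 44, 45, 46, 47, 49, 50, 52, 53, 55, 56, 58, 59, 58, 55, 56, 57, 52, 53, 54, 55, 56, 49, 50, 51, 52, 53, 54, 55, 54, 52, 53, 50, 51, 52, 48, 49, 50, 51, 42, 43, 44, 41, 42, 40, 16, 14, 12, 13, 14, 16, 18, 19, 20, 21, 22, 17, 15, 10, 11, 12, 13, 14, 15,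 17, 19, 7, 9, 10, 11, 12, 13, 5, 6, 7, 9, 10, 3, 4, 5, 6, 7, 9, 10, 12, 13, 15, 16, 17, 19, 21, 22, 24, 25, 26, 27, 28, 29, 30, 31, 32, 33, 34, 35, 36, 37, 38, 40, 42, 44, 46, 47, 48, 49, 50, 45, 46, 47, 43, 44, 45, 41, 42, 43, 39, 40, 41, 9, 10, 8, 6, 8, 10, 12, 13, 14, 15, 16, 17, 18, 19, 20, 11, 12, 13, 9, 10, 7, 8, 5, 6, 7, 8, 10, 12, 13, 15, 16, 4, 5, 6, 2, 4, 5, 6, 8, 9, 10, 12, 13, 15, 16, 18, 19, 20, 22, 23, 24, 25, 26, 27, 28, 29, 30, 31, 32, 33, 34, 35, 36, 37, 38, 39, 40, 41, 43, 45, 47, 49, 48, 46, 47, 44, 45, 46, 42, 43, 44, 45, 36, 37, 38, 35, 36, 34, 11, 12, 10, 1, 2, 3, 5, 6, 7, 8, 10, 12, 14, 15, 16, 17, 19, 20, 21, 23, 24, 25, 26, 27, 28, 29, 30, 31, 32, 34, 36, 38, 40, 41, 42, 43, 44, 39, 40, 41, 37, 38, 39, 35, 36, 37, 33, 34, 35, 7, 8, 0, 1, 3, 4, 5, 7, 8, 10, 11, 12, 14, 15, 17, 18, 19,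 21, 22, 23, 24, 25, 26, 27, 28, 29, 30, 31, 32, 33, 34, 35, 37, 39, 41, 43, 42, 40, 41, 38, 39, 40, 36, 37, 38, 39, 30, 31, 32, 29, 30, 28, 13, 14, 12, 10, 7, 8, 9, 10, 12, 14, 16, 17, 18, 19, 20, 22, 23, 24, 25, 26, 28, 30, 32, 34, 35, 36, 37, 38, 33, 34, 35, 31, 32, 33, 29, 30, 31, 27, 28, 29, 9, 10, 6, 7, 9, 10, 12, 13, 14, 16, 17, 18, 20, 21, 22, 23, 24, 25, 26, 27, 28, 29, 31, 33, 35, 37, 36, 34, 35, 32, 33, 34, 30, 31, 32, 33, 24, 25, 26, 23, 24, 22, 15, 16, 17, 14, 15, 12, 13, 9, 10, 11, 3, 4, 5, 6, 7, 8, 9, 10, 11, 13, 15, 17, 19, 20, 22, 24, 26, 28, 29, 30, 31, 32, 27, 28, 29, 25, 26, 27, 23, 24, 25, 21, 22, 23, 10, 11, 12, 13, 9, 10, 7, 2, 3, 4, 5, 6, 7, 9, 10, 12, 13, 15, 16, 17, 19, 20, 21, 22, 23, 25, 27, 29, 31, 30, 28, 29, 26, 27, 28, 24, 25, 26, 27, 18, 19, 20, 21, 22, 23, 24, 25, 26, 25, 26,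 27, 24, 25, 23, 17, 18, 19, 20, 21, 23, 25, 27, 29, 20, 21, 22, 23, 24, 25, 19, 20, 21, 22, 18, 19, 16, 18, 19, 21, 22, 24, 25, 27, 28, 27, 28, 29, 24, 25, 26, 27, 21, 22, 23, 24, 25, 18, 19, 20, 21, 22, 23, 15, 16, 17, 18, 19, 20, 21, 22, 23, 25, 27, 29, 31, 22, 23, 24, 25, 26, 27, 20, 21, 22, 23, 24, 18, 19, 20, 21, 16, 17, 18, 14, 15, 16, 17, 18, 20, 21, 23, 24, 26, 27, 29, 30, 29, 30, 31, 26, 27, 28, 29, 23, 24, 25, 26, 27, 20, 21, 22, 23, 24, 25, 12, 13, 14, 15, 16, 17, 18, 19, 20, 21, 22, 23, 24, 25, 27, 29, 31, 33, 24, 25, 26, 27, 28, 29, 22, 23, 24, 25, 26, 20, 21, 22, 23, 18, 19, 20, 11, 12, 13, 14, 15, 16, 17, 18, 19, 20, 22, 23, 25, 26, 28, 29, 31, 32, 31, 32, 33, 28, 29, 30, 31, 25, 26, 27, 28, 29, 22, 23, 24, 25, 26, 27, 9, 10, 11, 12, 13, 14, 15, 16, 17, 18, 19, 20, 21, 22, 23, 24, 25, 26, 27,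 29, 31, 33, 35, 26, 27, 28, 29, 30, 31, 24, 25, 26, 27, 28, 22, 23, 24, 25, 20, 21, 22, 8, 9, 10, 11, 12, 13, 14, 15, 16, 17, 18, 19, 20, 21, 22, 24, 25, 27, 28, 30, 31, 33, 34, 41, 40, 39, 38, 37, 36, 35, 34, 33, 30, 31, 32, 27, 28, 29, 30, 31, 24, 25, 26, 27, 28, 29, 30, 29, 27, 28, 25, 26, 27, 23, 24, 25, 26, 17, 18, 19, 16, 17, 15, 3, 5, 6, 7, 9, 10, 11, 12, 13, 15, 17, 19, 21, 22, 23, 24, 25, 20, 21, 22, 18, 19, 20, 16, 17, 18, 14, 15, 16, 2, 3, 5, 7, 8, 9, 10, 11, 12, 13, 14, 15, 16, 18, 20, 22, 24, 23, 21, 22, 19, 20, 21, 17, 18, 19, 20, 11, 12, 13, 10, 11, 9, 4, 1, 2, 4, 6, 7, 9, 11, 13, 15, 16, 17, 18, 19, 14, 15, 16, 12, 13, 14, 10, 11, 12, 8, 9, 10, 0, 2, 3, 4, 6, 7, 8, 9, 10, 12, 14, 16, 18, 17, 15, 16, 13, 14, 15, 11, 12, 13, 14, 5, 6, 7, 8, 9, 10, 11, 12, 13, 12, 13, 14, 11, 12, 10, 4, 5, 6, 7,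 8, 10, 12, 14, 16, 7, 8, 9, 10, 11, 12, 6, 7, 8, 9, 5, 6, 3, 5, 6, 8, 9, 11, 12, 14, 15, 14, 15, 16, 11, 12, 13, 14, 8, 9, 10, 11, 12, 5, 6, 7, 8, 9, 10, 2, 3, 4, 5, 6, 7, 8, 9, 10, 12, 14, 16, 18, 9, 10, 11, 12, 13, 14, 7, 8, 9, 10, 11, 5, 6, 7, 8, 3, 4, 5, 1, 2, 3, 4, 5, 7, 8, 10, 11, 13, 14, 16, 17, 32, 31, 30, 29, 28, 27, 26, 25, 24, 23, 22, 21, 20, 19, 18, 17, 16, 13, 14, 15, 10, 11, 12, 13, 14, 7, 8, 9, 10, 11, 12, 13, 12, 10, 11, 8, 9, 10, 6, 7, 8, 9, 0, 1, 2, 3, 4, 5, 6, 7, 8, 31, 30, 29, 28, 27, 26, 25, 24, 23, 22, 21, 20, 19, 18, 17, 16, 15, 14, 13, 12, 11, 10, 9, 8, 7, 6, 5, 4, 3, 2, 1, 0] (l := P3456 ++ (RAB ++ (r124 ++ (r125 ++ (r126 ++ g12))))) (r := g12 ++ K56) (by decide +kernel) (by decide +kernel) (by decide +kernel)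
  simpa only [vl_append, vl_one, vl_nil, mul_assoc] using this

theorem d_34 (h : Cx F) : vl F P1256 * vl F r134 * vl F r234 * vl F r345 * vl F r346 * vl F g34 = vl F g34 * vl F K56 := by
  have := h.eq [55, 56, 57, 58, 59, 60, 61, 62, 63, 64, 65, 66, 67, 68, 69, 70, 71, 54, 55, 56, 57, 58, 59, 60, 61, 62, 63, 64, 65, 66, 67, 68, 69, 70, 65, 66, 67, 64, 65, 63, 53, 54, 55, 56, 57, 58, 59, 60, 61, 63, 65, 67, 69, 56, 57, 58, 55, 56, 54, 52, 54, 56, 58, 60, 61, 62, 63, 64, 65, 66, 67, 68, 24, 22, 20, 21, 22, 24, 26, 27, 28, 29, 30, 31, 32, 33, 34, 35, 36, 37, 38, 25, 23, 18, 19, 20, 21, 22, 23, 25, 27, 28, 29, 30, 31, 32, 33, 34, 35, 26, 24, 16, 17, 18, 19, 20, 21, 22, 23, 24, 26, 28, 29, 30, 31, 32, 27, 25, 14, 15, 16, 17, 18, 19, 20, 21, 22, 23, 24, 25, 27, 29, 11, 13, 14, 15, 16, 17, 18, 19, 20, 21, 22, 23,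 9, 10, 11, 13, 14, 15, 16, 17, 18, 19, 20, 7, 8, 9, 10, 11, 13, 14, 15, 16, 17, 5, 6, 7, 8, 9, 10, 11, 13, 14, 3, 4, 5, 6, 7, 8, 9, 10, 11, 13, 14, 16, 17, 19, 20, 22, 23, 25, 26, 27, 29, 31, 32, 34, 35, 37, 38, 40, 41, 42, 43, 44, 45, 46, 47, 48, 49, 50, 51, 52, 53, 54, 55, 56, 57, 58, 59, 60, 61, 62, 63, 64, 65, 66, 67, 13, 14, 12, 10, 12, 14, 16, 17, 18, 19, 20, 21, 22, 23, 24, 25, 26, 27, 28, 29, 30, 31, 32, 33, 34, 35, 36, 15, 16, 13, 14, 11, 12, 9, 10, 11, 12, 14, 16, 18, 19, 20, 21, 22, 23, 24, 25, 26, 27, 28, 29, 30, 31, 32, 17, 18, 15, 16, 13, 14, 8, 9, 10, 11, 12, 13, 14, 16, 18, 20, 21, 22, 23, 24, 25, 26, 27, 28, 19, 20, 21, 17, 18, 15, 16, 7, 8, 9, 10, 11, 12, 13, 14, 15, 16, 18, 20, 21, 23, 24, 6, 7, 8, 9, 10, 11, 12, 13, 14, 5, 6, 7, 8, 9, 10, 4, 5, 6, 2, 4, 5, 6, 8, 9, 10, 12, 13, 14, 16, 17,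 18, 20, 21, 23, 24, 26, 27, 28, 30, 31, 32, 34, 35, 36, 38, 39, 40, 41, 42, 43, 44, 45, 46, 47, 48, 49, 50, 51, 52, 53, 54, 55, 56, 57, 58, 59, 60, 61, 62, 63, 64, 65, 66, 19, 20, 18, 1, 2, 3, 5, 6, 7, 9, 10, 11, 13, 14, 15, 16, 18, 20, 22, 23, 24, 25, 27, 28, 29, 31, 32, 33, 35, 36, 37, 39, 40, 41, 42, 43, 44, 45, 46, 47, 48, 49, 50, 51, 52, 53, 54, 55, 56, 57, 58, 59, 60, 61, 62, 63, 64, 65, 15, 16, 0, 1, 3, 4, 5, 7, 8, 9, 11, 12, 13, 15, 16, 18, 19, 20, 22, 23, 25, 26, 27, 29, 30, 31, 33, 34, 35, 37, 38, 39, 40, 41, 42, 43, 44, 45, 46, 47, 48, 49, 50, 51, 52, 53, 54, 55, 56, 57, 58, 59, 60, 61, 62, 63, 64, 63, 61, 62, 59, 60, 61, 57, 58, 59, 60, 37, 33, 34, 35, 29, 30, 31, 32, 33, 34, 35, 37, 39, 40, 41, 42, 43, 38, 36, 25, 26, 27, 28, 29, 30, 31, 32, 33, 34, 35, 36, 38, 40, 21, 22, 20, 18, 15, 16, 17, 18,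 20, 22, 24, 25, 26, 27, 28, 29, 30, 31, 32, 33, 34, 23, 24, 21, 22, 19, 20, 11, 12, 13, 14, 15, 16, 17, 18, 19, 20, 22, 24, 26, 27, 28, 29, 30, 31, 25, 26, 23, 24, 21, 22, 7, 8, 9, 10, 11, 12, 13, 14, 15, 16, 17, 18, 19, 20, 21, 22, 24, 26, 28, 29, 30, 31, 33, 34, 36, 37, 38, 40, 42, 43, 45, 46, 47, 48, 49, 50, 51, 52, 53, 54, 55, 56, 57, 58, 59, 30, 31, 27, 28, 29, 26, 27, 21, 22, 23, 24, 25, 26, 27, 29, 31, 33, 34, 35, 36, 37, 38, 39, 40, 41, 32, 33, 34, 30, 31, 28, 29, 18, 19, 20, 21, 22, 23, 24, 25, 26, 27, 28, 29, 31, 33, 34, 36, 37, 15, 12, 13, 15, 17, 18, 19, 20, 21, 22, 23, 24, 25, 26, 27, 16, 14, 9, 10, 11, 12, 13, 14, 16, 18, 19, 20, 21, 22, 23, 17, 18, 15, 6, 7, 8, 9, 10, 11, 12, 13, 14, 15, 17, 18, 20, 21, 22, 23, 25, 26, 27, 29, 30, 31, 33, 34, 36, 37, 39, 40, 41, 43, 44, 45, 46, 47, 48, 49, 50,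 51, 52, 53, 54, 55, 56, 57, 58, 57, 56, 55, 54, 32, 33, 31, 20, 17, 18, 3, 4, 5, 6, 7, 8, 9, 10, 11, 12, 13, 14, 15, 16, 17, 18, 20, 22, 23, 24, 26, 27, 28, 29, 31, 33, 35, 36, 37, 38, 40, 41, 42, 44, 45, 46, 47, 48, 49, 50, 51, 52, 53, 28, 29, 17, 18, 15, 2, 3, 4, 5, 6, 7, 8, 9, 10, 11, 12, 13, 14, 15, 17, 18, 20, 21, 22, 24, 25, 26, 28, 29, 31, 32, 33, 35, 36, 38, 39, 40, 42, 43, 44, 45, 46, 47, 48, 49, 50, 51, 52, 51, 49, 50, 47, 48, 49, 45, 46, 47, 48, 34, 35, 33, 31, 28, 29, 30, 31, 33, 35, 37, 38, 39, 40, 41, 43, 44, 45, 46, 47, 30, 31, 27, 28, 30, 31, 33, 34, 35, 37, 38, 39, 41, 42, 43, 44, 45, 46, 45, 44, 43, 42, 36, 37, 38, 35, 36, 33, 34, 30, 31, 32, 24, 25, 26, 27, 28, 29, 30, 31, 32, 34, 36, 38, 40, 41, 31, 32, 33, 34, 30, 31, 28, 23, 24, 25, 26, 27, 28, 30, 31, 33, 34, 36, 37, 38, 40, 39, 38, 37,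 36, 37, 38, 39, 40, 35, 36, 37, 38, 39, 33, 34, 35, 36, 37, 38, 39, 40, 41, 42, 32, 33, 34, 35, 36, 37, 38, 39, 40, 41, 30, 31, 32, 33, 34, 35, 36, 37, 38, 39, 40, 41, 42, 43, 44, 29, 30, 31, 32, 33, 34, 35, 36, 37, 38, 39, 40, 41, 42, 43, 20, 21, 22, 23, 24, 25, 26, 27, 28, 29, 30, 31, 32, 33, 34, 35, 36, 37, 38, 39, 40, 41, 42, 43, 44, 45, 46, 19, 20, 21, 22, 23, 24, 25, 26, 27, 28, 29, 30, 31, 32, 33, 34, 35, 36, 37, 38, 39, 40, 41, 42, 43, 44, 45, 17, 18, 19, 20, 21, 22, 23, 24, 25, 26, 27, 28, 29, 30, 31, 32, 33, 34, 35, 36, 37, 38, 39, 40, 41, 42, 43, 44, 16, 17, 18, 19, 20, 21, 22, 23, 24, 25, 26, 27, 28, 29, 30, 31, 32, 33, 34, 35, 36, 37, 38, 39, 40, 41, 42, 43, 42, 41, 40, 39, 16, 14, 12, 13, 14, 16, 18, 19, 20, 21, 22, 17, 15, 10, 11, 12, 13, 14, 15, 17, 19, 7, 9, 10, 11, 12, 13, 5, 6, 7, 9, 10, 3,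 4, 5, 6, 7, 9, 10, 12, 13, 15, 16, 17, 19, 21, 22, 24, 25, 26, 27, 28, 29, 30, 31, 32, 33, 34, 35, 36, 37, 38, 9, 10, 8, 6, 8, 10, 12, 13, 14, 15, 16, 17, 18, 19, 20, 11, 12, 13, 9, 10, 7, 8, 5, 6, 7, 8, 10, 12, 13, 15, 16, 4, 5, 6, 2, 4, 5, 6, 8, 9, 10, 12, 13, 15, 16, 18, 19, 20, 22, 23, 24, 25, 26, 27, 28, 29, 30, 31, 32, 33, 34, 35, 36, 37, 36, 35, 34, 33, 11, 12, 10, 1, 2, 3, 5, 6, 7, 8, 10, 12, 14, 15, 16, 17, 19, 20, 21, 23, 24, 25, 26, 27, 28, 29, 30, 31, 32, 7, 8, 0, 1, 3, 4, 5, 7, 8, 10, 11, 12, 14, 15, 17, 18, 19, 21, 22, 23, 24, 25, 26, 27, 28, 29, 30, 31, 30, 29, 28, 27, 13, 14, 12, 10, 7, 8, 9, 10, 12, 14, 16, 17, 18, 19, 20, 22, 23, 24, 25, 26, 9, 10, 6, 7, 9, 10, 12, 13, 14, 16, 17, 18, 20, 21, 22, 23, 24, 25, 24, 23, 22, 21, 15, 16, 17, 14, 15, 12, 13, 9, 10, 11, 3, 4, 5, 6, 7, 8, 9, 10, 11,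 13, 15, 17, 19, 20, 10, 11, 12, 13, 9, 10, 7, 2, 3, 4, 5, 6, 7, 9, 10, 12, 13, 15, 16, 17, 19, 18, 17, 16, 15, 16, 17, 18, 19, 14, 15, 16, 17, 18, 12, 13, 14, 15, 16, 17, 18, 19, 20, 21, 11, 12, 13, 14, 15, 16, 17, 18, 19, 20, 9, 10, 11, 12, 13, 14, 15, 16, 17, 18, 19, 20, 21, 22, 23, 8, 9, 10, 11, 12, 13, 14, 15, 16, 17, 18, 19, 20, 21, 22, 17, 18, 19, 16, 17, 15, 3, 5, 6, 7, 9, 10, 11, 12, 13, 15, 17, 19, 21, 22, 23, 24, 25, 20, 21, 22, 18, 19, 20, 16, 17, 18, 14, 15, 16, 2, 3, 5, 7, 8, 9, 10, 11, 12, 13, 14, 15, 16, 18, 20, 22, 24, 23, 21, 22, 19, 20, 21, 17, 18, 19, 20, 11, 12, 13, 10, 11, 9, 4, 1, 2, 4, 6, 7, 9, 11, 13, 15, 16, 17, 18, 19, 14, 15, 16, 12, 13, 14, 10, 11, 12, 8, 9, 10, 0, 2, 3, 4, 6, 7, 8, 9, 10, 12, 14, 16, 18, 17, 15, 16, 13, 14, 15, 11, 12, 13, 14, 5, 6, 7, 8, 9, 10, 11, 12, 13, 12, 13,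 14, 11, 12, 10, 4, 5, 6, 7, 8, 10, 12, 14, 16, 7, 8, 9, 10, 11, 12, 6, 7, 8, 9, 5, 6, 3, 5, 6, 8, 9, 11, 12, 14, 15, 14, 15, 16, 11, 12, 13, 14, 8, 9, 10, 11, 12, 5, 6, 7, 8, 9, 10, 2, 3, 4, 5, 6, 7, 8, 9, 10, 12, 14, 16, 18, 9, 10, 11, 12, 13, 14, 7, 8, 9, 10, 11, 5, 6, 7, 8, 3, 4, 5, 1, 2, 3, 4, 5, 7, 8, 10, 11, 13, 14, 16, 17, 16, 13, 14, 15, 10, 11, 12, 13, 14, 7, 8, 9, 10, 11, 12, 13, 12, 10, 11, 8, 9, 10, 6, 7, 8, 9, 0, 1, 2, 3, 4, 5, 6, 7, 8, 15, 14, 13, 12, 11, 10, 9, 8, 7, 6, 5, 4, 3, 2, 1, 0] (l := P1256 ++ (r134 ++ (r234 ++ (r345 ++ (r346 ++ g34))))) (r := g34 ++ K56) (by decide +kernel) (by decide +kernel) (by decide +kernel)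
  simpa only [vl_append, vl_one, vl_nil, mul_assoc] using this

theorem d_r356 (h : Cx F) : vl F r356 * vl F g356 = vl F g356 * F .b3 := by
  have := h.eq [4, 3, 2, 1, 0, 3, 2, 1, 0] (l := r356 ++ g356) (r := g356 ++ [.b3]) (by decide +kernel) (by decide +kernel) (by decide +kernel)
  simpa only [vl_append, vl_one, vl_nil, mul_assoc] using this

theorem d_s356 (h : Cx F) : vl F r124 * vl F g356 = vl F g356 * vl F RAB := by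
  have := h.eq [72, 66, 67, 68, 69, 70, 71, 70, 65, 66, 67, 68, 69, 68, 67, 66, 65, 64, 63, 62, 61, 60, 59, 58, 57, 56, 55, 54, 53, 52, 51, 50, 49, 48, 47, 46, 45, 44, 43, 42, 41, 40, 39, 38, 37, 36, 35, 34, 33, 32, 31, 30, 29, 28, 27, 26, 25, 24, 23, 22, 21, 20, 19, 18, 17, 16, 15, 14, 13, 12, 11, 10, 9, 8, 5, 6, 7, 4, 5, 6, 3, 4, 5, 2, 3, 4, 3, 1, 2, 1, 0] (l := r124 ++ g356) (r := g356 ++ RAB) (by decide +kernel) (by decide +kernel) (by decide +kernel)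
  simpa only [vl_append, vl_one, vl_nil, mul_assoc] using this

theorem d_r256 (h : Cx F) : vl F r256 * vl F g256 = vl F g256 * F .b3 := by
  have := h.eq [8, 7, 6, 5, 4, 3, 2, 1, 0, 7, 6, 5, 4, 3, 2, 1, 0] (l := r256 ++ g256) (r := g256 ++ [.b3]) (by decide +kernel) (by decide +kernel) (by decide +kernel)
  simpa only [vl_append, vl_one, vl_nil, mul_assoc] using this

theorem d_s256 (h : Cx F) : vl F r134 * vl F g256 = vl F g256 * vl F RAB := by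
  have := h.eq [72, 66, 67, 68, 69, 70, 71, 70, 65, 66, 67, 68, 69, 68, 64, 65, 66, 67, 66, 63, 64, 65, 64, 63, 62, 61, 60, 59, 58, 57, 56, 55, 54, 53, 52, 51, 50, 49, 48, 47, 46, 45, 44, 43, 42, 41, 40, 39, 38, 37, 36, 35, 34, 33, 32, 31, 30, 29, 28, 27, 26, 25, 24, 23, 22, 21, 20, 19, 18, 17, 16, 15, 14, 13, 12, 11, 10, 5, 6, 7, 8, 9, 4, 5, 6, 7, 8, 7, 3, 4, 5, 6, 5, 2, 3, 4, 3, 1, 2, 1, 0] (l := r134 ++ g256) (r := g256 ++ RAB) (by decide +kernel) (by decide +kernel) (by decide +kernel)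
  simpa only [vl_append, vl_one, vl_nil, mul_assoc] using this

theorem d_r156 (h : Cx F) : vl F r156 * vl F g156 = vl F g156 * F .b3 := by
  have := h.eq [12, 11, 10, 9, 8, 7, 6, 5, 4, 3, 2, 1, 0, 11, 10, 9, 8, 7, 6, 5, 4, 3, 2, 1, 0] (l := r156 ++ g156) (r := g156 ++ [.b3]) (by decide +kernel) (by decide +kernel) (by decide +kernel)
  simpa only [vl_append, vl_one, vl_nil, mul_assoc] using this

theorem d_s156 (h : Cx F) : vl F r234 * vl F g156 = vl F g156 * vl F RAB := by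
  have := h.eq [72, 66, 67, 68, 69, 70, 71, 70, 65, 66, 67, 68, 69, 68, 64, 65, 66, 67, 66, 63, 64, 65, 64, 62, 63, 62, 61, 60, 59, 58, 57, 56, 55, 54, 53, 52, 51, 50, 49, 48, 47, 46, 45, 44, 43, 42, 41, 40, 39, 38, 37, 36, 35, 34, 33, 32, 31, 30, 29, 28, 27, 26, 25, 24, 23, 22, 21, 20, 19, 18, 17, 16, 15, 14, 13, 12, 11, 5, 6, 7, 8, 9, 10, 9, 4, 5, 6, 7, 8, 7, 3, 4, 5, 6, 5, 2, 3, 4, 3, 1, 2, 1, 0] (l := r234 ++ g156) (r := g156 ++ RAB) (by decide +kernel) (by decide +kernel) (by decide +kernel)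
  simpa only [vl_append, vl_one, vl_nil, mul_assoc] using this

theorem d_r345 (h : Cx F) : vl F r345 * vl F g345 = vl F g345 * F .b3 := by
  have := h.eq [12, 11, 10, 9, 8, 7, 6, 5, 4, 3, 2, 1, 0, 11, 10, 9, 8, 7, 6, 5, 4, 3, 2, 1, 0] (l := r345 ++ g345) (r := g345 ++ [.b3]) (by decide +kernel) (by decide +kernel) (by decide +kernel)
  simpa only [vl_append, vl_one, vl_nil, mul_assoc] using this

theorem d_s345 (h : Cx F) : vl F r126 * vl F g345 = vl F g345 * vl F RAB := by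
  have := h.eq [72, 66, 67, 68, 69, 70, 71, 60, 61, 62, 63, 64, 65, 66, 67, 68, 69, 70, 54, 55, 56, 57, 58, 59, 60, 61, 62, 63, 64, 65, 66, 67, 68, 69, 48, 49, 50, 51, 52, 53, 54, 55, 56, 57, 58, 59, 60, 61, 62, 63, 64, 65, 66, 67, 68, 42, 43, 44, 45, 46, 47, 48, 49, 50, 51, 52, 53, 54, 55, 56, 57, 58, 59, 60, 61, 62, 63, 64, 65, 66, 67, 66, 61, 62, 63, 64, 65, 56, 57, 58, 59, 60, 61, 62, 63, 64, 51, 52, 53, 54, 55, 56, 57, 58, 59, 60, 61, 62, 63, 46, 47, 48, 49, 50, 51, 52, 53, 54, 55, 56, 57, 58, 59, 60, 61, 62, 41, 42, 43, 44, 45, 46, 47, 48, 49, 50, 51, 52, 53, 54, 55, 56, 57, 58, 59, 60, 61, 60, 59, 58, 57, 56, 55, 54, 53, 52, 51, 50, 49, 48, 47, 46, 45, 44, 43, 42, 41, 40, 39, 38, 37, 36, 35, 34, 33, 32, 29, 30, 31, 28, 29, 30, 27, 28, 29, 26, 27, 28, 23, 24, 25, 26, 27, 22, 23, 24, 25, 26, 21, 22, 23,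 24, 25, 20, 21, 22, 23, 24, 17, 18, 19, 20, 21, 22, 23, 16, 17, 18, 19, 20, 21, 22, 15, 16, 17, 18, 19, 20, 21, 14, 15, 16, 17, 18, 19, 20, 11, 12, 13, 14, 15, 16, 17, 18, 19, 10, 11, 12, 13, 14, 15, 16, 17, 18, 9, 10, 11, 12, 13, 14, 15, 16, 17, 8, 9, 10, 11, 12, 13, 14, 15, 16, 5, 6, 7, 8, 9, 10, 11, 12, 13, 14, 15, 4, 5, 6, 7, 8, 9, 10, 11, 12, 13, 14, 3, 4, 5, 6, 7, 8, 9, 10, 11, 12, 13, 2, 3, 4, 5, 6, 7, 8, 9, 10, 11, 12, 11, 9, 10, 7, 8, 9, 5, 6, 7, 8, 3, 4, 5, 6, 7, 1, 2, 3, 4, 5, 6, 5, 4, 3, 2, 1, 0] (l := r126 ++ g345) (r := g345 ++ RAB) (by decide +kernel) (by decide +kernel) (by decide +kernel)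
  simpa only [vl_append, vl_one, vl_nil, mul_assoc] using this

theorem d_r346 (h : Cx F) : vl F r346 * vl F g346 = vl F g346 * F .b3 := by
  have := h.eq [8, 7, 6, 5, 4, 3, 2, 1, 0, 7, 6, 5, 4, 3, 2, 1, 0] (l := r346 ++ g346) (r := g346 ++ [.b3]) (by decide +kernel) (by decide +kernel) (by decide +kernel)
  simpa only [vl_append, vl_one, vl_nil, mul_assoc] using this

theorem d_s346 (h : Cx F) : vl F r125 * vl F g346 = vl F g346 * vl F RAB := by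
  have := h.eq [72, 66, 67, 68, 69, 70, 71, 60, 61, 62, 63, 64, 65, 66, 67, 68, 69, 70, 54, 55, 56, 57, 58, 59, 60, 61, 62, 63, 64, 65, 66, 67, 68, 69, 68, 63, 64, 65, 66, 67, 58, 59, 60, 61, 62, 63, 64, 65, 66, 53, 54, 55, 56, 57, 58, 59, 60, 61, 62, 63, 64, 65, 64, 63, 62, 61, 60, 59, 58, 57, 56, 55, 54, 53, 52, 51, 50, 49, 48, 47, 46, 45, 44, 43, 42, 41, 40, 39, 38, 37, 36, 35, 34, 33, 32, 31, 30, 29, 28, 27, 26, 25, 24, 23, 22, 21, 20, 17, 18, 19, 16, 17, 18, 15, 16, 17, 14, 15, 16, 11, 12, 13, 14, 15, 10, 11, 12, 13, 14, 9, 10, 11, 12, 13, 8, 9, 10, 11, 12, 5, 6, 7, 8, 9, 10, 11, 4, 5, 6, 7, 8, 9, 10, 3, 4, 5, 6, 7, 8, 9, 2, 3, 4, 5, 6, 7, 8, 7, 5, 6, 3, 4, 5, 1, 2, 3, 4, 3, 2, 1, 0] (l := r125 ++ g346) (r := g346 ++ RAB) (by decide +kernel) (by decide +kernel) (by decide +kernel)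
  simpa only [vl_append, vl_one, vl_nil, mul_assoc] using this

theorem d_all (h : Cx F) : vl F P3456 * F .b3 * vl F r356 * vl F r125 * vl F r126 * vl F P1256 * vl F r256 * vl F r156 * vl F r126 * vl F r125 = vl F K56 := by
  have := h.eq [53, 54, 55, 52, 53, 54, 51, 52, 53, 54, 55, 50, 51, 52, 53, 54, 49, 50, 51, 52, 53, 48, 49, 50, 51, 52, 47, 48, 49, 50, 51, 46, 47, 48, 49, 50, 45, 46, 47, 48, 49, 44, 45, 46, 47, 48, 43, 44, 45, 46, 47, 42, 43, 44, 45, 46, 40, 42, 43, 44, 45, 41, 42, 43, 44, 24, 22, 20, 21, 22, 24, 26, 27, 28, 29, 30, 31, 32, 33, 34, 35, 36, 37, 38, 39, 21, 22, 19, 21, 22, 24, 25, 26, 27, 28, 29, 30, 31, 32, 33, 34, 35, 36, 37, 38, 39, 41, 42, 43, 40, 41, 42, 36, 38, 39, 40, 41, 37, 38, 39, 40, 24, 21, 22, 18, 19, 20, 21, 22, 24, 26, 27, 28, 29, 30, 31, 32, 33, 34, 35, 21, 22, 19, 17, 18,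 19, 21, 22, 24, 25, 26, 27, 28, 29, 30, 31, 32, 33, 34, 35, 37, 38, 39, 36, 37, 38, 32, 34, 35, 36, 37, 33, 34, 35, 36, 24, 21, 22, 16, 17, 18, 19, 20, 21, 22, 24, 26, 27, 28, 29, 30, 31, 21, 22, 19, 15, 16, 17, 18, 19, 21, 22, 24, 25, 26, 27, 28, 29, 30, 31, 33, 34, 35, 32, 33, 34, 28, 30, 31, 32, 33, 29, 30, 31, 32, 24, 21, 22, 14, 15, 16, 17, 18, 19, 20, 21, 22, 24, 26, 27, 21, 22, 19, 13, 14, 15, 16, 17, 18, 19, 21, 22, 24, 25, 26, 27, 29, 30, 31, 28, 29, 30, 70, 69, 68, 67, 66, 65, 64, 63, 62, 61, 60, 59, 58, 57, 56, 55, 27, 28, 29, 30, 31, 32, 33, 35, 36, 37, 38, 39, 41, 42, 44, 45, 46, 47, 48, 50, 51, 52, 53, 54, 55, 56, 58, 59, 60, 62, 63, 65, 66, 67, 69, 70, 71, 73, 74, 75, 77, 78, 79, 81, 82, 83, 85, 86, 87, 26, 27, 28, 29, 30, 32, 33, 34, 35, 36, 38, 39, 40, 41, 42, 43, 45, 46, 47, 48, 49, 51, 52,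 53, 55, 56, 57, 59, 60, 61, 62, 63, 64, 66, 67, 68, 70, 71, 72, 74, 75, 76, 78, 79, 80, 82, 83, 84, 86, 65, 66, 67, 64, 65, 63, 56, 57, 58, 55, 56, 54, 26, 27, 29, 30, 31, 32, 33, 35, 36, 37, 38, 39, 40, 41, 42, 43, 44, 46, 47, 48, 49, 50, 52, 54, 56, 58, 60, 61, 63, 65, 67, 69, 70, 71, 72, 73, 74, 75, 76, 77, 78, 79, 80, 81, 82, 83, 84, 85, 45, 46, 47, 48, 49, 44, 45, 46, 47, 43, 44, 45, 42, 43, 41, 32, 33, 34, 35, 36, 31, 32, 33, 34, 30, 31, 32, 29, 30, 28, 26, 28, 30, 32, 34, 36, 38, 39, 41, 43, 45, 47, 49, 51, 52, 53, 54, 55, 56, 57, 58, 59, 60, 61, 62, 63, 64, 65, 66, 67, 68, 69, 70, 71, 72, 73, 74, 75, 76, 77, 78, 79, 80, 81, 82, 83, 84, 83, 82, 79, 80, 81, 78, 79, 80, 75, 76, 77, 78, 79, 74, 75, 76, 77, 78, 71, 72, 73, 74, 75, 76, 77, 70, 71, 72, 73, 74, 75, 76, 58, 60, 61, 57, 58, 56, 37, 39, 40, 36,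 37, 35, 25, 26, 27, 28, 29, 30, 31, 32, 33, 35, 37, 38, 40, 42, 43, 44, 45, 46, 47, 48, 49, 50, 51, 52, 53, 54, 56, 58, 59, 61, 63, 64, 65, 66, 67, 68, 69, 70, 71, 72, 73, 74, 75, 74, 75, 76, 77, 78, 79, 72, 73, 74, 75, 76, 70, 71, 72, 73, 68, 69, 70, 62, 60, 53, 54, 41, 39, 32, 33, 24, 25, 26, 27, 28, 29, 30, 32, 33, 35, 36, 37, 38, 39, 41, 43, 44, 45, 46, 47, 48, 49, 50, 51, 53, 54, 56, 57, 58, 59, 60, 62, 64, 65, 66, 67, 68, 69, 70, 72, 73, 75, 76, 78, 79, 81, 82, 69, 70, 71, 72, 73, 74, 75, 76, 77, 68, 69, 70, 71, 72, 73, 67, 68, 69, 56, 58, 59, 60, 53, 54, 55, 56, 54, 52, 35, 37, 38, 39, 32, 33, 34, 35, 33, 31, 23, 24, 25, 26, 27, 28, 29, 30, 31, 33, 35, 36, 38, 39, 41, 42, 43, 44, 45, 46, 47, 48, 49, 50, 51, 52, 54, 56, 57, 59, 60, 62, 63, 64, 65, 67, 68, 69, 71, 72, 73, 75, 76, 77, 79, 80, 81, 62, 59,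 60, 49, 41, 38, 39, 28, 21, 22, 23, 24, 25, 26, 28, 30, 31, 32, 33, 34, 35, 36, 37, 38, 39, 41, 43, 44, 45, 46, 47, 49, 51, 52, 53, 54, 55, 56, 57, 58, 59, 60, 62, 64, 65, 66, 68, 69, 70, 72, 73, 74, 76, 77, 78, 80, 59, 60, 57, 50, 51, 48, 38, 39, 36, 29, 30, 27, 20, 21, 22, 23, 24, 25, 26, 27, 29, 30, 32, 33, 34, 35, 36, 38, 39, 41, 42, 43, 44, 45, 46, 47, 48, 50, 51, 53, 54, 55, 56, 57, 59, 60, 62, 63, 64, 66, 67, 68, 70, 71, 72, 74, 75, 76, 78, 79, 78, 77, 74, 75, 76, 73, 74, 75, 70, 71, 72, 73, 74, 69, 70, 71, 72, 73, 66, 67, 68, 69, 70, 71, 72, 65, 66, 67, 68, 69, 70, 71, 53, 55, 56, 57, 58, 50, 51, 52, 53, 51, 49, 32, 34, 35, 36, 37, 29, 30, 31, 32, 30, 28, 12, 13, 14, 15, 16, 17, 18, 19, 20, 21, 22, 23, 24, 25, 26, 27, 28, 30, 32, 33, 35, 36, 37, 39, 40, 41, 42, 43, 44, 45, 46, 47, 48, 49, 51, 53, 54,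 56, 57, 58, 60, 61, 62, 63, 64, 65, 66, 67, 68, 69, 70, 69, 70, 71, 72, 73, 74, 67, 68, 69, 70, 71, 65, 66, 67, 68, 63, 64, 65, 48, 49, 27, 28, 11, 12, 13, 14, 15, 16, 9, 10, 11, 12, 13, 7, 8, 9, 10, 5, 6, 7, 3, 4, 5, 6, 7, 9, 10, 12, 13, 15, 16, 18, 19, 20, 21, 22, 23, 24, 25, 27, 28, 30, 31, 32, 33, 35, 36, 37, 39, 40, 41, 42, 43, 44, 45, 46, 48, 49, 51, 52, 53, 54, 56, 57, 58, 60, 61, 62, 63, 64, 65, 67, 68, 70, 71, 73, 74, 76, 77, 45, 46, 47, 24, 25, 26, 6, 7, 8, 9, 10, 11, 12, 13, 14, 5, 6, 7, 8, 9, 10, 4, 5, 6, 2, 4, 5, 6, 8, 9, 10, 12, 13, 14, 16, 17, 18, 19, 20, 21, 22, 24, 25, 26, 28, 29, 30, 31, 32, 33, 35, 36, 37, 39, 40, 41, 42, 43, 45, 46, 47, 49, 50, 51, 52, 53, 54, 56, 57, 58, 60, 61, 62, 63, 64, 65, 67, 68, 70, 71, 73, 74, 76, 63, 64, 65, 66, 67, 68, 69, 70, 71, 62, 63, 64, 65, 66, 67, 61, 62,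 63, 50, 52, 53, 54, 55, 49, 50, 52, 53, 46, 47, 48, 45, 46, 29, 31, 32, 33, 34, 28, 29, 31, 32, 25, 26, 27, 24, 25, 1, 2, 3, 5, 6, 7, 9, 10, 11, 13, 14, 15, 17, 18, 19, 20, 21, 22, 23, 24, 25, 27, 29, 30, 31, 32, 34, 36, 37, 38, 39, 40, 41, 42, 43, 44, 45, 46, 48, 50, 51, 52, 53, 55, 57, 58, 59, 61, 62, 63, 65, 66, 67, 69, 70, 71, 73, 74, 75, 45, 46, 47, 48, 49, 51, 43, 24, 25, 26, 27, 28, 30, 22, 0, 1, 3, 4, 5, 7, 8, 9, 11, 12, 13, 15, 16, 17, 18, 19, 20, 21, 22, 24, 25, 26, 28, 29, 30, 32, 33, 34, 36, 37, 38, 39, 40, 41, 42, 43, 45, 46, 47, 49, 50, 51, 53, 54, 55, 57, 58, 59, 61, 62, 63, 65, 66, 67, 69, 70, 71, 73, 74, 73, 72, 71, 70, 69, 68, 67, 66, 65, 64, 63, 62, 61, 60, 59, 58, 57, 56, 55, 54, 50, 51, 52, 53, 48, 50, 51, 52, 47, 48, 50, 51, 46, 47, 48, 50, 49, 48, 47, 46, 42, 43, 44, 45, 44, 43, 42, 41,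 56, 55, 54, 53, 52, 51, 50, 49, 48, 47, 46, 45, 44, 43, 42, 41, 40, 38, 39, 36, 37, 38, 35, 36, 37, 34, 35, 36, 33, 34, 35, 34, 33, 29, 30, 31, 32, 27, 29, 30, 31, 26, 27, 29, 30, 25, 26, 27, 29, 28, 27, 26, 25, 21, 22, 23, 24, 19, 20, 21, 22, 23, 17, 18, 19, 20, 21, 22, 21, 20, 19, 18, 17, 16, 15, 14, 13, 12, 11, 10, 9, 8, 7, 6, 5, 4, 3, 2, 1, 0] (l := P3456 ++ ([.b3] ++ (r356 ++ (r125 ++ (r126 ++ (P1256 ++ (r256 ++ (r156 ++ (r126 ++ r125))))))))) (r := K56) (by decide +kernel) (by decide +kernel) (by decide +kernel)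
  simpa only [vl_append, vl_one, vl_nil, mul_assoc] using this

theorem d_a (h : Cx F) : vl F D6 * vl F E12 = vl F Ga := by
  have := h.eq [33, 35, 37, 38, 40, 41, 42, 43, 44, 45, 47, 48, 49, 51, 52, 53, 55, 56, 58, 59, 60, 62, 58, 34, 35, 37, 38, 40, 41, 42, 43, 45, 46, 47, 49, 50, 51, 53, 54, 55, 56, 58, 60, 61, 57, 45, 46, 47, 48, 50, 51, 52, 54, 55, 57, 59, 60, 59, 53, 54, 52, 36, 37, 38, 40, 41, 43, 44, 46, 47, 48, 49, 50, 52, 54, 56, 57, 58, 32, 33, 34, 35, 36, 37, 38, 31, 32, 33, 34, 35, 36, 28, 29, 31, 24, 25, 26, 27, 28, 29, 31, 33, 34, 32, 30, 20, 21, 22, 23, 24, 25, 26, 27, 28, 29, 30, 32, 34, 36, 38, 40, 41, 42, 43, 44, 45, 46, 47, 37, 38, 40, 41, 42, 35, 36, 37, 38, 40, 25, 27, 22, 23, 24, 25, 27, 29, 30, 31, 32, 28, 29, 26, 19, 20, 21, 22, 23, 24, 25, 26, 28, 29, 31, 32, 34, 35, 36, 22, 20, 15,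 17, 18, 19, 20, 22, 24, 25, 26, 27, 21, 22, 17, 18, 14, 15, 17, 18, 20, 13, 14, 15, 17, 18, 20, 22, 23, 25, 26, 27, 29, 30, 31, 32, 34, 16, 17, 15, 12, 13, 15, 17, 19, 20, 21, 22, 23, 24, 25, 18, 16, 14, 15, 16, 18, 20, 11, 13, 14, 10, 11, 13, 14, 16, 17, 18, 20, 22, 23, 24, 25, 27, 28, 29, 30, 31, 32, 34, 36, 38, 39, 40, 42, 44, 45, 46, 47, 49, 50, 51, 52, 53, 54, 29, 30, 31, 32, 33, 34, 35, 36, 37, 28, 19, 17, 19, 21, 22, 23, 24, 25, 26, 28, 30, 31, 15, 17, 18, 19, 21, 22, 23, 24, 26, 27, 28, 30, 31, 33, 34, 35, 37, 38, 40, 41, 42, 44, 45, 46, 47, 49, 50, 40, 33, 26, 9, 10, 11, 12, 13, 8, 6, 8, 10, 11, 12, 13, 15, 16, 17, 18, 19, 21, 22, 23, 24, 26, 28, 29, 30, 31, 33, 35, 36, 37, 38, 40, 42, 43, 44, 45, 46, 47, 35, 37, 38, 39, 40, 41, 43, 44, 45, 34, 35, 37, 38, 39, 41, 42, 43, 37, 32, 33, 34, 35, 37, 39,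 40, 41, 29, 30, 28, 25, 26, 28, 30, 32, 33, 34, 35, 31, 32, 29, 30, 27, 28, 5, 6, 7, 8, 9, 10, 11, 4, 5, 2, 4, 5, 7, 8, 9, 10, 11, 13, 14, 15, 16, 17, 18, 19, 21, 22, 23, 24, 25, 26, 27, 28, 30, 32, 34, 35, 37, 38, 39, 40, 41, 43, 45, 47, 48, 50, 52, 53, 54, 56, 57, 40, 41, 42, 43, 44, 45, 46, 47, 48, 49, 50, 39, 40, 41, 42, 38, 39, 36, 38, 39, 41, 42, 44, 45, 46, 35, 36, 38, 39, 41, 42, 44, 33, 35, 36, 37, 32, 33, 35, 31, 23, 25, 26, 27, 28, 29, 31, 33, 34, 35, 37, 39, 40, 41, 42, 44, 46, 48, 49, 50, 52, 53, 54, 55, 56, 55, 52, 53, 54, 53, 43, 41, 43, 45, 46, 47, 44, 42, 40, 41, 42, 44, 38, 40, 41, 42, 37, 38, 36, 26, 27, 28, 29, 30, 31, 32, 34, 36, 38, 39, 41, 42, 44, 45, 47, 49, 50, 51, 52, 50, 51, 50, 49, 48, 43, 45, 46, 47, 45, 46, 45, 41, 40, 41, 43, 44, 33, 31, 33, 35, 36, 37, 38, 34, 32, 30, 31, 32,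 34, 36, 29, 30, 25, 26, 27, 29, 30, 32, 33, 34, 36, 38, 40, 41, 42, 43, 20, 21, 22, 23, 24, 19, 20, 21, 22, 18, 19, 20, 17, 15, 9, 10, 11, 12, 13, 14, 15, 17, 14, 15, 8, 9, 10, 11, 12, 14, 15, 17, 18, 20, 22, 24, 26, 27, 28, 29, 30, 31, 32, 33, 34, 35, 36, 37, 38, 25, 26, 27, 28, 29, 23, 21, 22, 23, 25, 26, 27, 16, 18, 19, 20, 21, 22, 23, 25, 18, 19, 20, 21, 4, 5, 6, 8, 9, 10, 12, 13, 14, 15, 16, 18, 19, 3, 4, 6, 7, 8, 10, 11, 12, 13, 14, 15, 16, 18, 19, 21, 23, 24, 25, 27, 29, 31, 32, 33, 34, 35, 36, 37, 38, 40, 41, 42, 41, 40, 37, 38, 39, 33, 31, 33, 35, 36, 37, 38, 37, 35, 36, 35, 34, 28, 29, 31, 32, 33, 31, 32, 31, 27, 29, 30, 24, 25, 26, 27, 28, 29, 18, 19, 20, 21, 22, 23, 24, 17, 15, 17, 19, 20, 21, 22, 23, 24, 26, 27, 28, 27, 26, 20, 22, 23, 24, 25, 22, 23, 24, 23, 12, 11, 12, 14, 15, 16, 17, 18, 13,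 6, 7, 8, 9, 11, 5, 6, 7, 9, 10, 11, 13, 15, 16, 17, 18, 20, 21, 22, 21, 20, 16, 17, 18, 19, 18, 16, 17, 15, 16, 15, 2, 4, 6, 7, 8, 9, 10, 11, 12, 13, 14, 13, 11, 12, 11, 8, 7, 8, 10, 3, 4, 6, 7, 8, 9, 6, 7, 8, 2, 4, 5, 6, 7, 6, 4, 5, 1, 2, 3, 4, 3, 2, 0, 1, 0] (l := D6 ++ E12) (r := Ga) (by decide +kernel) (by decide +kernel) (by decide +kernel)
  simpa only [vl_append, vl_one, vl_nil, mul_assoc] using this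

theorem d_b (h : Cx F) : vl F D6 * vl F E13 = vl F Gb := by
  have := h.eq [33, 35, 37, 38, 40, 41, 42, 43, 44, 45, 47, 48, 49, 51, 52, 53, 55, 56, 58, 59, 60, 62, 58, 34, 35, 37, 38, 40, 41, 42, 43, 45, 46, 47, 49, 50, 51, 53, 54, 55, 56, 58, 60, 61, 60, 57, 45, 46, 47, 48, 50, 51, 52, 54, 55, 57, 59, 53, 54, 52, 36, 37, 38, 40, 41, 43, 44, 46, 47, 48, 49, 50, 52, 54, 56, 57, 58, 32, 33, 34, 35, 36, 37, 38, 39, 40, 41, 42, 31, 32, 33, 34, 35, 36, 28, 29, 31, 25, 26, 27, 28, 29, 31, 33, 34, 32, 30, 21, 22, 23, 24, 25, 26, 27, 28, 29, 30, 32, 34, 36, 38, 25, 27, 23, 24, 25, 27, 29, 30, 31, 32, 28, 29, 26, 20, 21, 22, 23, 24, 25, 26, 28, 29, 31, 32, 34, 35, 36, 38, 40, 41, 42, 44, 45, 46, 47, 48, 49, 34, 22, 20, 22, 24, 25, 26, 27, 21, 22, 18, 20, 17, 18, 20, 22, 23, 25, 26, 27, 29, 30, 31, 32, 34, 36, 37, 38,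 40, 41, 42, 44, 45, 46, 47, 30, 31, 32, 29, 21, 23, 24, 25, 26, 27, 29, 31, 32, 34, 35, 36, 37, 38, 40, 41, 42, 44, 45, 35, 31, 32, 33, 35, 37, 38, 39, 40, 30, 31, 33, 34, 35, 37, 38, 33, 28, 29, 30, 31, 33, 35, 36, 16, 17, 15, 12, 13, 15, 17, 19, 20, 21, 22, 23, 24, 18, 19, 16, 14, 15, 16, 11, 13, 14, 10, 11, 13, 14, 16, 17, 19, 21, 22, 23, 24, 26, 27, 28, 29, 30, 31, 15, 17, 18, 19, 21, 22, 23, 24, 26, 27, 28, 9, 10, 11, 12, 13, 8, 6, 8, 10, 11, 12, 13, 15, 16, 17, 18, 19, 21, 22, 23, 24, 26, 5, 6, 7, 8, 9, 10, 11, 4, 5, 2, 4, 5, 7, 8, 9, 10, 11, 13, 14, 15, 16, 17, 18, 19, 21, 22, 23, 24, 26, 28, 30, 31, 33, 34, 35, 36, 38, 40, 42, 43, 44, 45, 47, 49, 51, 52, 53, 54, 55, 56, 57, 44, 45, 46, 47, 48, 49, 50, 51, 43, 44, 45, 46, 47, 48, 41, 43, 44, 40, 41, 39, 25, 23, 25, 27, 28, 29, 30, 31, 32, 33, 35, 36,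 37, 39, 41, 42, 44, 46, 47, 48, 50, 51, 53, 54, 55, 56, 55, 53, 54, 47, 48, 45, 46, 44, 34, 35, 36, 33, 34, 31, 33, 34, 36, 38, 39, 40, 41, 42, 43, 44, 46, 48, 50, 51, 52, 53, 52, 51, 43, 44, 45, 46, 42, 43, 37, 35, 30, 31, 33, 34, 35, 37, 39, 40, 42, 43, 45, 46, 48, 49, 50, 49, 48, 45, 46, 47, 46, 38, 40, 41, 42, 37, 38, 40, 36, 28, 30, 31, 32, 33, 34, 36, 38, 39, 40, 42, 44, 45, 39, 40, 41, 42, 43, 44, 43, 20, 21, 22, 23, 19, 20, 18, 19, 20, 22, 23, 25, 26, 27, 28, 29, 30, 31, 17, 9, 10, 11, 12, 13, 14, 15, 17, 19, 20, 22, 23, 25, 26, 27, 28, 29, 24, 25, 21, 22, 18, 19, 20, 21, 22, 14, 15, 8, 9, 10, 11, 12, 14, 15, 17, 18, 19, 20, 16, 4, 5, 6, 8, 9, 10, 12, 13, 14, 3, 4, 6, 7, 8, 10, 11, 12, 13, 14, 16, 18, 19, 20, 22, 23, 25, 27, 28, 29, 31, 33, 34, 35, 36, 37, 38, 39, 40, 41, 42, 41, 36, 38, 39, 40, 38,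 39, 38, 32, 33, 34, 30, 21, 23, 24, 25, 27, 28, 29, 30, 32, 33, 34, 36, 37, 27, 28, 29, 30, 31, 26, 27, 28, 25, 26, 19, 20, 21, 22, 23, 25, 26, 28, 30, 31, 33, 34, 35, 36, 25, 26, 27, 28, 29, 30, 31, 24, 19, 20, 22, 24, 26, 27, 28, 29, 30, 31, 33, 34, 35, 34, 33, 30, 31, 32, 28, 29, 30, 31, 30, 28, 29, 28, 27, 25, 26, 25, 21, 17, 18, 19, 21, 23, 24, 23, 12, 13, 14, 15, 16, 11, 12, 13, 6, 7, 8, 9, 5, 6, 7, 9, 10, 12, 13, 15, 16, 18, 19, 20, 21, 22, 15, 16, 17, 18, 19, 20, 21, 20, 18, 19, 14, 15, 17, 18, 17, 12, 13, 14, 15, 16, 12, 14, 15, 2, 4, 6, 7, 8, 9, 10, 11, 12, 13, 14, 13, 10, 11, 12, 11, 7, 9, 10, 3, 4, 6, 7, 8, 9, 8, 2, 4, 5, 6, 7, 6, 4, 5, 1, 2, 3, 4, 3, 2, 0, 1, 0] (l := D6 ++ E13) (r := Gb) (by decide +kernel) (by decide +kernel) (by decide +kernel)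
  simpa only [vl_append, vl_one, vl_nil, mul_assoc] using this

theorem d_a3 (h : Cx F) : F .e1 * vl F Ga * F .e1 * vl F Ga * F .e1 * vl F Ga = 1 := by
  have := h.eq [33, 34, 32, 33, 31, 32, 27, 28, 29, 30, 31, 29, 30, 26, 27, 28, 29, 23, 24, 25, 26, 27, 28, 20, 21, 22, 23, 24, 25, 26, 27, 25, 26, 23, 24, 25, 21, 22, 23, 24, 19, 20, 21, 22, 23, 16, 18, 19, 20, 21, 22, 23, 24, 15, 16, 18, 19, 20, 21, 22, 14, 15, 16, 18, 19, 20, 13, 14, 15, 16, 18, 0, 1, 2, 3, 4, 5, 6, 7, 8, 9, 10, 11, 12, 13, 14, 15, 16, 18, 20, 22, 24, 26, 25, 23, 24, 25, 26, 21, 22, 23, 24, 25, 26, 27, 19, 20, 21, 22, 23, 24, 25, 26, 27, 28, 29, 17, 18, 19, 20, 21, 22, 23, 24, 25, 26, 27, 28, 29, 30, 31, 32, 33, 32, 31, 30, 27, 28, 29, 28, 26, 27, 24, 25, 26, 22, 23, 24, 25, 24, 23, 22, 21, 15, 17, 18, 19, 20, 14, 15, 17, 18, 19, 13, 14, 15,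 17, 18, 12, 13, 14, 15, 17, 16, 15, 11, 12, 13, 14, 7, 8, 9, 10, 11, 12, 13, 12, 9, 10, 11, 6, 7, 8, 9, 10, 9, 7, 8, 5, 6, 7, 3, 4, 5, 6, 5, 4, 3, 2, 1, 0] (l := [.e1] ++ (Ga ++ ([.e1] ++ (Ga ++ ([.e1] ++ Ga))))) (r := []) (by decide +kernel) (by decide +kernel) (by decide +kernel)
  simpa only [vl_append, vl_one, vl_nil, mul_assoc] using this

theorem d_b3 (h : Cx F) : F .e1 * vl F Gb * F .e1 * vl F Gb * F .e1 * vl F Gb = 1 := by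
  have := h.eq [33, 34, 32, 33, 31, 32, 27, 28, 29, 30, 31, 29, 30, 26, 27, 28, 29, 23, 24, 25, 26, 27, 28, 26, 27, 24, 25, 26, 22, 23, 24, 25, 20, 21, 22, 23, 24, 16, 18, 19, 20, 21, 22, 23, 24, 25, 26, 15, 16, 18, 19, 20, 21, 22, 23, 24, 14, 15, 16, 18, 19, 20, 21, 22, 13, 14, 15, 16, 18, 19, 20, 12, 13, 14, 15, 16, 18, 0, 1, 2, 3, 4, 5, 6, 7, 8, 9, 10, 11, 12, 13, 14, 15, 16, 18, 20, 22, 24, 26, 28, 27, 25, 26, 23, 24, 25, 26, 21, 22, 23, 24, 25, 26, 27, 19, 20, 21, 22, 23, 24, 25, 26, 27, 28, 29, 17, 18, 19, 20, 21, 22, 23, 24, 25, 26, 27, 28, 29, 30, 31, 32, 33, 32, 31, 30, 27, 28, 29, 28, 26, 27, 24, 25, 26, 25, 24, 23, 22, 15, 17, 18, 19, 20, 21, 14, 15, 17, 18, 19, 20, 13, 14, 15, 17, 18, 19, 12, 13, 14, 15, 17, 18, 11, 12, 13, 14, 15, 17, 16, 15, 14, 10, 11, 12, 13, 12, 9, 10, 11, 6, 7, 8, 9, 10, 9,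 7, 8, 5, 6, 7, 3, 4, 5, 6, 5, 4, 3, 2, 1, 0] (l := [.e1] ++ (Gb ++ ([.e1] ++ (Gb ++ ([.e1] ++ Gb))))) (r := []) (by decide +kernel) (by decide +kernel) (by decide +kernel)
  simpa only [vl_append, vl_one, vl_nil, mul_assoc] using this

theorem d_u (h : Cx F) : vl F U3 * vl F U3 * vl F U3 = 1 := by
  have := h.eq [1, 2, 3, 4, 0, 1, 2, 3, 4, 6, 1, 2, 3, 4, 0, 1, 2, 3, 4, 6, 1, 2, 3, 4, 0, 1, 2, 3, 4, 6, 1, 2, 3, 4, 5, 0, 1, 2, 3, 4, 1, 2, 3, 0, 1, 2, 1, 0] (l := U3 ++ (U3 ++ U3)) (r := []) (by decide +kernel) (by decide +kernel) (by decide +kernel)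
  simpa only [vl_append, vl_one, vl_nil, mul_assoc] using this

theorem d_s3 (h : Cx F) : vl F U3 * vl F S10 * vl F U3 * vl F S10 * vl F U3 * vl F S10 = 1 := by
  have := h.eq [1, 2, 3, 4, 5, 7, 8, 87, 88, 89, 90, 91, 92, 93, 85, 87, 88, 72, 73, 74, 75, 76, 77, 78, 79, 70, 72, 73, 57, 58, 59, 60, 61, 62, 63, 64, 55, 57, 58, 42, 43, 44, 45, 46, 47, 48, 49, 40, 42, 43, 27, 28, 29, 30, 31, 32, 33, 34, 25, 27, 28, 12, 13, 14, 15, 16, 17, 18, 19, 10, 12, 13, 0, 1, 2, 3, 4, 5, 7, 8, 9, 10, 12, 13, 15, 16, 17, 19, 20, 22, 23, 24, 25, 27, 28, 30, 31, 32, 34, 35, 37, 38, 39, 40, 42, 43, 45, 46, 47, 49, 50, 52, 53, 54, 55, 57, 58, 60, 61, 62, 64, 65, 67, 68, 69, 70, 72, 73, 75, 76, 77, 79, 80, 82, 83, 84, 85, 87, 88, 90, 91, 92, 87, 88, 89, 90, 91, 86, 84, 86, 88, 89, 90, 89, 88, 87, 85, 86, 76, 77, 78, 79, 80, 81, 82,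 83, 84, 85, 83, 85, 77, 79, 80, 81, 76, 77, 79, 80, 81, 83, 84, 83, 72, 73, 74, 75, 76, 77, 78, 80, 81, 82, 79, 80, 81, 71, 69, 71, 73, 74, 75, 76, 78, 79, 81, 82, 73, 74, 72, 70, 61, 62, 63, 64, 65, 66, 67, 68, 69, 70, 72, 74, 76, 77, 78, 79, 81, 82, 84, 83, 84, 76, 77, 75, 73, 71, 72, 73, 75, 77, 79, 80, 81, 82, 83, 72, 73, 70, 72, 73, 75, 76, 77, 79, 75, 68, 70, 71, 72, 73, 75, 77, 78, 79, 81, 82, 83, 67, 68, 69, 70, 66, 64, 66, 68, 69, 70, 72, 73, 74, 75, 76, 59, 61, 62, 58, 59, 61, 62, 64, 65, 66, 68, 69, 70, 72, 73, 74, 76, 77, 79, 80, 81, 82, 75, 77, 78, 79, 80, 81, 68, 69, 70, 71, 67, 68, 66, 57, 58, 59, 60, 61, 62, 63, 64, 66, 68, 70, 71, 73, 74, 75, 76, 77, 79, 63, 64, 56, 42, 43, 44, 45, 46, 47, 48, 49, 50, 51, 53, 54, 56, 58, 59, 60, 61, 63, 64, 66, 67, 68, 70, 71, 73, 74, 75, 77, 78, 79, 81, 77,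 76, 77, 79, 80, 79, 72, 73, 75, 76, 77, 78, 79, 74, 75, 71, 72, 73, 70, 71, 72, 73, 75, 69, 70, 59, 60, 61, 62, 58, 55, 56, 58, 60, 61, 62, 64, 65, 66, 67, 68, 69, 70, 72, 73, 67, 65, 61, 62, 63, 64, 65, 67, 54, 56, 57, 58, 60, 61, 63, 64, 65, 56, 53, 54, 56, 58, 59, 60, 61, 58, 59, 57, 55, 45, 46, 47, 48, 49, 50, 51, 52, 53, 54, 55, 57, 59, 61, 62, 64, 65, 67, 68, 70, 60, 62, 63, 64, 59, 60, 62, 58, 54, 55, 56, 58, 60, 61, 62, 64, 66, 46, 48, 49, 50, 45, 46, 48, 49, 50, 52, 53, 54, 55, 56, 57, 58, 59, 41, 39, 41, 43, 44, 45, 46, 48, 49, 50, 52, 53, 43, 44, 42, 40, 31, 32, 33, 34, 35, 36, 37, 38, 39, 40, 42, 44, 46, 47, 48, 49, 50, 52, 53, 55, 56, 57, 59, 60, 62, 63, 64, 66, 68, 69, 70, 72, 73, 75, 76, 78, 79, 81, 80, 81, 74, 76, 77, 78, 79, 80, 72, 71, 72, 74, 75, 76, 77, 78, 79, 69, 67, 69, 71, 72, 73, 74,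 76, 77, 70, 71, 72, 74, 65, 66, 63, 61, 63, 64, 66, 68, 69, 70, 67, 68, 62, 64, 65, 66, 47, 48, 49, 50, 51, 52, 53, 46, 47, 45, 43, 41, 42, 43, 45, 47, 49, 50, 51, 42, 43, 40, 42, 43, 45, 46, 47, 49, 45, 38, 40, 41, 42, 43, 45, 47, 48, 49, 51, 53, 55, 56, 57, 58, 59, 60, 54, 52, 37, 38, 39, 40, 36, 34, 36, 38, 39, 40, 42, 43, 44, 45, 46, 29, 31, 32, 28, 29, 31, 32, 34, 35, 36, 38, 39, 40, 42, 43, 44, 46, 47, 49, 50, 51, 52, 54, 56, 57, 58, 59, 60, 62, 63, 64, 65, 66, 68, 70, 72, 73, 74, 76, 77, 79, 73, 74, 75, 71, 73, 74, 75, 77, 78, 77, 56, 58, 59, 60, 61, 62, 57, 58, 59, 55, 53, 54, 55, 57, 53, 52, 53, 55, 51, 50, 51, 53, 54, 55, 57, 59, 61, 62, 64, 65, 66, 67, 68, 63, 64, 65, 54, 55, 52, 54, 55, 57, 58, 59, 61, 62, 57, 38, 39, 40, 41, 37, 38, 36, 27, 28, 29, 30, 31, 32, 33, 34, 36, 38, 40, 41, 43, 44, 45,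 46, 47, 48, 50, 33, 34, 26, 12, 13, 14, 15, 16, 17, 18, 19, 20, 21, 23, 24, 26, 28, 29, 30, 31, 33, 34, 36, 37, 38, 40, 41, 43, 44, 45, 46, 48, 49, 50, 52, 53, 54, 55, 57, 59, 60, 61, 62, 64, 65, 67, 68, 70, 71, 72, 74, 75, 76, 73, 74, 75, 69, 70, 72, 73, 75, 76, 77, 79, 80, 71, 72, 70, 61, 62, 63, 64, 65, 66, 67, 68, 70, 72, 74, 75, 66, 67, 68, 65, 59, 58, 59, 61, 62, 63, 64, 65, 67, 68, 70, 71, 72, 74, 75, 77, 78, 79, 70, 58, 59, 60, 61, 62, 57, 58, 60, 56, 54, 56, 58, 59, 60, 62, 63, 65, 66, 67, 68, 70, 72, 73, 74, 75, 77, 78, 79, 73, 74, 75, 76, 77, 72, 69, 70, 72, 74, 75, 76, 77, 79, 75, 76, 77, 78, 74, 75, 76, 73, 74, 72, 59, 60, 61, 62, 63, 64, 65, 57, 59, 60, 61, 56, 57, 59, 48, 47, 48, 50, 51, 52, 53, 54, 55, 56, 57, 59, 61, 63, 64, 65, 67, 68, 69, 70, 71, 72, 74, 76, 78, 80, 77, 64, 65, 66, 63, 64,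 62, 52, 53, 50, 52, 53, 55, 56, 57, 58, 59, 60, 62, 64, 66, 68, 69, 70, 71, 72, 73, 74, 75, 77, 79, 74, 75, 65, 66, 68, 69, 70, 71, 72, 74, 75, 77, 78, 79, 80, 82, 83, 77, 78, 57, 55, 57, 59, 60, 61, 62, 63, 64, 65, 66, 67, 69, 70, 58, 59, 56, 54, 55, 56, 58, 59, 61, 62, 63, 64, 65, 67, 61, 62, 63, 52, 53, 54, 51, 49, 50, 51, 53, 54, 56, 57, 58, 59, 61, 43, 45, 46, 47, 48, 49, 50, 51, 52, 42, 43, 45, 46, 47, 48, 44, 45, 39, 40, 41, 42, 29, 30, 31, 32, 28, 25, 26, 28, 30, 31, 32, 34, 35, 36, 37, 38, 39, 40, 41, 42, 44, 45, 47, 48, 50, 51, 52, 54, 55, 56, 57, 58, 59, 61, 63, 65, 66, 67, 69, 70, 72, 73, 74, 75, 77, 78, 80, 81, 82, 73, 74, 75, 76, 72, 56, 57, 58, 59, 60, 61, 55, 44, 45, 46, 47, 48, 49, 51, 52, 53, 55, 57, 58, 39, 40, 41, 42, 37, 38, 35, 36, 31, 32, 33, 34, 35, 36, 38, 24, 26, 27, 28, 30, 31, 33,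 34, 35, 36, 26, 23, 24, 26, 28, 29, 30, 31, 33, 28, 29, 27, 25, 15, 16, 17, 18, 19, 20, 21, 22, 23, 24, 25, 27, 29, 31, 32, 33, 35, 36, 38, 39, 41, 42, 44, 45, 46, 47, 49, 50, 51, 53, 54, 55, 57, 58, 60, 61, 63, 64, 65, 66, 67, 69, 70, 72, 74, 75, 76, 78, 79, 80, 81, 75, 76, 77, 78, 79, 80, 74, 75, 73, 57, 58, 56, 54, 56, 58, 60, 61, 62, 63, 64, 65, 66, 67, 68, 69, 70, 71, 73, 75, 77, 78, 70, 71, 59, 60, 57, 58, 55, 56, 45, 46, 47, 48, 49, 50, 51, 52, 53, 54, 55, 56, 58, 60, 62, 63, 51, 53, 54, 55, 56, 50, 51, 53, 44, 37, 39, 40, 41, 42, 44, 46, 47, 48, 49, 36, 37, 39, 40, 42, 43, 44, 46, 47, 32, 33, 34, 35, 36, 37, 38, 30, 32, 33, 34, 29, 30, 32, 16, 18, 19, 20, 15, 16, 18, 19, 20, 22, 23, 24, 25, 26, 27, 28, 29, 30, 32, 34, 36, 37, 38, 40, 41, 42, 43, 44, 46, 47, 49, 51, 52, 53, 55, 56, 58, 59, 60, 62, 63,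 65, 66, 67, 68, 70, 71, 73, 74, 75, 77, 78, 80, 82, 79, 62, 63, 64, 65, 61, 59, 61, 63, 64, 65, 67, 68, 69, 70, 71, 72, 57, 59, 60, 61, 63, 64, 65, 67, 68, 69, 59, 56, 57, 59, 61, 62, 63, 64, 65, 67, 54, 56, 57, 58, 59, 60, 62, 63, 53, 54, 56, 57, 58, 60, 61, 56, 46, 47, 48, 49, 50, 52, 53, 54, 56, 58, 59, 45, 43, 45, 47, 48, 49, 50, 51, 52, 53, 54, 46, 44, 42, 43, 44, 46, 48, 49, 50, 51, 41, 42, 39, 41, 42, 44, 45, 46, 48, 49, 44, 38, 39, 41, 42, 44, 46, 47, 37, 38, 39, 40, 41, 42, 35, 37, 38, 39, 34, 35, 37, 33, 27, 23, 24, 25, 27, 29, 30, 31, 33, 35, 36, 37, 39, 41, 42, 44, 45, 46, 47, 49, 51, 53, 54, 56, 57, 58, 59, 61, 63, 65, 66, 67, 69, 71, 72, 74, 75, 76, 77, 79, 81, 76, 77, 78, 79, 75, 76, 73, 75, 76, 78, 79, 81, 78, 79, 77, 58, 59, 60, 61, 57, 58, 55, 57, 58, 60, 61, 63, 64, 65, 66, 54, 55, 57, 58,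 60, 61, 63, 64, 52, 54, 55, 56, 51, 52, 54, 50, 30, 31, 28, 30, 31, 33, 34, 35, 36, 27, 28, 30, 31, 33, 34, 26, 11, 9, 11, 13, 14, 15, 16, 18, 19, 20, 22, 23, 24, 26, 28, 29, 30, 31, 33, 34, 36, 38, 39, 40, 41, 42, 43, 44, 46, 47, 48, 50, 52, 53, 54, 56, 58, 59, 60, 61, 63, 64, 66, 68, 69, 70, 71, 72, 73, 74, 75, 77, 79, 81, 82, 83, 85, 86, 78, 71, 72, 74, 75, 76, 78, 80, 81, 69, 71, 72, 73, 74, 68, 69, 71, 67, 65, 45, 46, 47, 44, 45, 42, 44, 45, 47, 49, 50, 51, 52, 53, 54, 48, 46, 41, 42, 44, 45, 46, 48, 50, 51, 39, 41, 42, 43, 44, 38, 39, 41, 37, 35, 18, 19, 20, 21, 22, 23, 24, 17, 18, 16, 14, 16, 18, 20, 21, 13, 14, 10, 11, 13, 14, 16, 17, 18, 20, 21, 23, 24, 26, 27, 28, 29, 30, 31, 33, 34, 35, 37, 39, 40, 41, 43, 44, 46, 47, 48, 50, 51, 53, 54, 56, 57, 58, 59, 60, 61, 63, 64, 65, 67, 69, 70, 71, 73, 74,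 76, 77, 78, 80, 81, 83, 84, 85, 76, 64, 65, 46, 34, 35, 16, 9, 11, 12, 13, 14, 16, 18, 19, 20, 21, 23, 24, 26, 27, 28, 29, 31, 32, 34, 35, 37, 38, 39, 40, 41, 43, 44, 46, 48, 49, 50, 51, 53, 54, 56, 57, 58, 59, 61, 62, 64, 65, 67, 68, 69, 70, 71, 73, 74, 76, 78, 79, 80, 81, 83, 84, 85, 79, 80, 81, 82, 83, 78, 75, 76, 78, 80, 81, 82, 83, 85, 87, 88, 89, 90, 91, 92, 93, 89, 90, 91, 92, 93, 87, 89, 90, 91, 92, 90, 91, 89, 90, 86, 87, 89, 88, 81, 82, 83, 84, 85, 86, 87, 86, 85, 81, 82, 83, 84, 83, 82, 81, 74, 76, 77, 78, 80, 79, 69, 70, 71, 72, 67, 69, 70, 71, 72, 74, 75, 76, 77, 78, 77, 75, 76, 70, 71, 72, 73, 74, 75, 70, 71, 72, 74, 73, 61, 62, 60, 58, 60, 62, 64, 65, 66, 67, 68, 69, 70, 71, 72, 71, 70, 69, 65, 66, 68, 67, 64, 65, 66, 65, 63, 64, 62, 63, 56, 55, 56, 58, 59, 60, 62, 61, 49, 50, 51, 52, 53, 54,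 48, 45, 46, 48, 50, 51, 52, 53, 54, 56, 57, 58, 59, 60, 59, 57, 58, 53, 54, 55, 56, 57, 52, 53, 54, 56, 55, 51, 52, 53, 54, 53, 52, 51, 44, 46, 47, 48, 50, 49, 39, 40, 41, 42, 37, 39, 40, 41, 42, 44, 45, 46, 47, 48, 47, 45, 46, 40, 41, 42, 43, 44, 45, 40, 41, 42, 44, 43, 31, 32, 30, 28, 30, 32, 34, 35, 36, 37, 38, 39, 40, 41, 42, 41, 40, 39, 35, 36, 38, 37, 34, 35, 36, 35, 33, 34, 32, 33, 26, 25, 26, 28, 29, 30, 32, 31, 19, 20, 21, 22, 23, 24, 18, 15, 16, 18, 20, 21, 22, 23, 24, 26, 27, 28, 29, 30, 29, 27, 28, 23, 24, 25, 26, 27, 22, 23, 24, 26, 25, 21, 22, 23, 24, 23, 22, 21, 14, 16, 17, 18, 20, 19, 12, 11, 12, 14, 15, 16, 17, 18, 17, 15, 16, 6, 7, 5, 6, 7, 9, 10, 11, 12, 13, 14, 15, 10, 11, 12, 14, 13, 6, 7, 8, 9, 10, 11, 12, 11, 10, 9, 8, 7, 6, 1, 2, 3, 5, 4, 0, 1, 2, 3, 2, 1, 0] (l := U3 ++ (S10 ++ (U3 ++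 (S10 ++ (U3 ++ S10))))) (r := []) (by decide +kernel) (by decide +kernel) (by decide +kernel)
  simpa only [vl_append, vl_one, vl_nil, mul_assoc] using this

theorem d_s2 (h : Cx F) : vl F S10s * vl F V5 * vl F S10 = vl F V5 := by
  have := h.eq [85, 86, 87, 88, 89, 90, 91, 92, 94, 93, 92, 87, 88, 89, 90, 91, 89, 90, 89, 88, 82, 83, 84, 85, 86, 87, 86, 85, 79, 80, 81, 82, 83, 84, 83, 82, 76, 77, 78, 79, 80, 81, 80, 79, 73, 74, 75, 76, 77, 78, 77, 76, 70, 71, 72, 73, 74, 75, 74, 73, 67, 68, 69, 70, 71, 72, 71, 70, 64, 65, 66, 67, 68, 69, 68, 67, 61, 62, 63, 64, 65, 66, 65, 64, 58, 59, 60, 61, 62, 63, 62, 61, 55, 56, 57, 58, 59, 60, 59, 58, 52, 53, 54, 55, 56, 57, 56, 55, 49, 50, 51, 52, 53, 54, 53, 52, 46, 47, 48, 49, 50, 51, 50, 49, 43, 44, 45, 46, 47, 48, 47, 46, 40, 41, 42, 43, 44, 45, 44, 43, 37, 38, 39,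 40, 41, 42, 41, 40, 34, 35, 36, 37, 38, 39, 38, 37, 31, 32, 33, 34, 35, 36, 35, 34, 28, 29, 30, 31, 32, 33, 32, 31, 25, 26, 27, 28, 29, 30, 29, 28, 22, 23, 24, 25, 26, 27, 26, 25, 19, 20, 21, 22, 23, 24, 23, 22, 16, 17, 18, 19, 20, 21, 20, 19, 13, 14, 15, 16, 17, 18, 17, 16, 10, 11, 12, 13, 14, 15, 14, 13, 7, 8, 9, 10, 11, 12, 11, 10, 2, 4, 5, 6, 7, 8, 9, 8, 7, 0, 1, 2, 3, 4, 5, 6, 5, 4, 0, 1, 2, 3, 2, 1, 0] (l := S10s ++ (V5 ++ S10)) (r := V5) (by decide +kernel) (by decide +kernel) (by decide +kernel)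
  simpa only [vl_append, vl_one, vl_nil, mul_assoc] using this

theorem d_a2 (h : Cx F) : vl F Ga * vl F Ga = 1 := by
  have := h.eq [32, 31, 30, 26, 27, 28, 29, 28, 25, 26, 27, 22, 23, 24, 25, 26, 19, 20, 21, 22, 23, 24, 25, 24, 22, 23, 20, 21, 22, 18, 19, 20, 21, 20, 19, 18, 17, 16, 15, 11, 12, 13, 14, 7, 8, 9, 10, 11, 12, 13, 12, 9, 10, 11, 6, 7, 8, 9, 10, 9, 7, 8, 5, 6, 7, 3, 4, 5, 6, 5, 4, 3, 2, 1, 0] (l := Ga ++ Ga) (r := []) (by decide +kernel) (by decide +kernel) (by decide +kernel)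
  simpa only [vl_append, vl_one, vl_nil, mul_assoc] using this

theorem d_b2 (h : Cx F) : vl F Gb * vl F Gb = 1 := by
  have := h.eq [32, 31, 30, 26, 27, 28, 29, 28, 25, 26, 27, 22, 23, 24, 25, 26, 25, 23, 24, 21, 22, 23, 19, 20, 21, 22, 21, 20, 19, 18, 17, 16, 15, 14, 10, 11, 12, 13, 12, 9, 10, 11, 6, 7, 8, 9, 10, 9, 7, 8, 5, 6, 7, 3, 4, 5, 6, 5, 4, 3, 2, 1, 0] (l := Gb ++ Gb) (r := []) (by decide +kernel) (by decide +kernel) (by decide +kernel)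
  simpa only [vl_append, vl_one, vl_nil, mul_assoc] using this

def E31 : List Nd := YW.rep [.a, .b3, .b1, .b2, .c3, .c1, .d3] 9
theorem d_e3 (h : Cx F) : vl F E31 * vl F E31 = 1 := by
  have := h.eq [50, 51, 46, 41, 42, 43, 44, 45, 46, 48, 49, 50, 51, 53, 54, 55, 49, 50, 51, 45, 46, 47, 48, 49, 50, 51, 53, 44, 45, 46, 42, 39, 40, 41, 42, 44, 37, 33, 34, 35, 36, 37, 39, 35, 36, 37, 31, 32, 33, 30, 31, 22, 23, 18, 13, 14, 15, 16, 17, 18, 20, 21, 22, 23, 25, 26, 27, 29, 30, 31, 33, 34, 36, 37, 39, 40, 42, 43, 44, 46, 47, 49, 38, 40, 41, 42, 43, 37, 38, 40, 41, 26, 27, 28, 30, 31, 32, 33, 34, 35, 36, 37, 38, 40, 41, 43, 45, 31, 33, 34, 35, 30, 31, 33, 25, 26, 27, 28, 29, 30, 31, 33, 35, 37, 38, 39, 24, 25, 27, 28, 23, 25, 26, 15, 12, 13, 14, 15, 17, 18, 19, 21, 23, 24, 25, 26, 28, 30, 31, 20, 14, 15, 16, 17, 18,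 20, 22, 23, 24, 13, 14, 11, 12, 13, 14, 16, 9, 10, 12, 8, 3, 4, 5, 6, 8, 10, 11, 12, 14, 15, 16, 18, 19, 20, 22, 23, 24, 26, 27, 28, 30, 31, 33, 34, 35, 37, 38, 39, 41, 42, 43, 45, 47, 48, 49, 51, 52, 53, 55, 56, 44, 42, 44, 46, 47, 40, 42, 43, 44, 46, 47, 49, 50, 51, 52, 42, 39, 40, 42, 44, 45, 46, 47, 49, 50, 30, 31, 29, 27, 29, 31, 33, 34, 35, 36, 37, 38, 39, 40, 32, 30, 25, 27, 28, 29, 30, 32, 34, 35, 36, 37, 27, 28, 24, 25, 27, 28, 30, 31, 32, 34, 35, 15, 16, 17, 18, 19, 20, 21, 23, 24, 25, 26, 13, 15, 16, 17, 18, 19, 21, 22, 12, 13, 15, 16, 17, 19, 20, 15, 4, 5, 6, 7, 8, 9, 11, 12, 13, 15, 17, 18, 19, 20, 22, 24, 25, 26, 28, 29, 30, 31, 32, 34, 35, 37, 39, 40, 42, 43, 44, 45, 46, 47, 49, 50, 52, 54, 19, 20, 21, 22, 23, 24, 18, 19, 16, 18, 19, 21, 22, 23, 24, 26, 27, 28, 29, 30, 31, 32, 34, 15, 16, 18,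 19, 21, 22, 23, 24, 26, 27, 28, 29, 30, 32, 14, 12, 14, 16, 17, 18, 19, 21, 22, 23, 24, 26, 27, 28, 30, 31, 32, 34, 36, 37, 38, 39, 40, 41, 42, 44, 35, 33, 16, 17, 15, 13, 11, 12, 13, 15, 17, 19, 20, 21, 22, 23, 24, 26, 28, 29, 30, 31, 32, 33, 35, 37, 38, 39, 40, 42, 37, 38, 36, 34, 20, 21, 22, 23, 24, 19, 20, 21, 18, 19, 16, 17, 14, 15, 4, 5, 6, 7, 8, 9, 10, 11, 12, 13, 14, 15, 17, 19, 21, 23, 24, 26, 27, 28, 29, 30, 31, 32, 33, 34, 36, 38, 40, 41, 42, 44, 46, 47, 48, 37, 23, 24, 22, 9, 7, 9, 11, 12, 13, 14, 15, 16, 17, 18, 19, 20, 22, 24, 26, 27, 28, 29, 30, 19, 20, 10, 8, 6, 7, 8, 10, 12, 13, 14, 15, 16, 17, 19, 20, 22, 23, 24, 26, 27, 16, 17, 18, 5, 6, 2, 3, 5, 6, 8, 9, 10, 12, 13, 14, 16, 17, 18, 20, 21, 22, 23, 24, 26, 27, 29, 30, 32, 33, 34, 35, 37, 39, 40, 32, 33, 21, 11, 12, 13, 10, 11, 8, 2, 3, 4,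 5, 6, 7, 8, 10, 11, 13, 15, 16, 17, 18, 19, 21, 23, 24, 25, 7, 8, 9, 0, 2, 3, 4, 5, 7, 8, 9, 11, 12, 13, 15, 16, 17, 19, 20, 21, 23, 24, 25, 27, 28, 29, 30, 32, 33, 35, 36, 37, 39, 40, 42, 43, 44, 46, 47, 48, 50, 51, 52, 54, 56, 57, 59, 60, 61, 62, 53, 51, 53, 55, 49, 51, 52, 53, 55, 57, 39, 40, 41, 38, 36, 38, 40, 41, 43, 44, 45, 24, 25, 26, 23, 24, 22, 20, 22, 24, 26, 28, 29, 30, 31, 32, 33, 34, 35, 36, 37, 38, 39, 27, 28, 29, 30, 25, 26, 23, 24, 18, 20, 21, 22, 23, 24, 26, 28, 29, 30, 32, 33, 34, 35, 20, 21, 22, 17, 18, 20, 21, 22, 24, 25, 26, 28, 29, 30, 32, 24, 16, 17, 18, 20, 21, 22, 24, 26, 27, 28, 29, 30, 32, 34, 35, 37, 38, 39, 41, 42, 43, 44, 45, 31, 29, 31, 33, 34, 35, 36, 38, 39, 40, 42, 43, 15, 16, 17, 18, 19, 14, 12, 14, 16, 17, 18, 19, 21, 22, 23, 24, 25, 27, 10, 12, 13, 14, 16, 17, 18, 19, 21,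 22, 23, 25, 26, 27, 29, 30, 31, 33, 34, 36, 37, 38, 40, 41, 42, 43, 45, 46, 48, 49, 50, 47, 32, 33, 31, 29, 26, 27, 28, 29, 31, 33, 35, 36, 37, 38, 39, 41, 28, 29, 21, 12, 9, 10, 12, 14, 15, 16, 17, 18, 19, 21, 23, 24, 25, 26, 28, 29, 31, 32, 33, 35, 36, 37, 39, 40, 41, 43, 44, 45, 23, 25, 26, 27, 28, 29, 30, 22, 23, 25, 26, 27, 21, 22, 23, 25, 20, 21, 19, 17, 19, 21, 23, 24, 25, 27, 29, 30, 32, 33, 34, 35, 36, 37, 38, 8, 9, 10, 11, 12, 13, 14, 16, 17, 18, 19, 20, 21, 22, 6, 8, 9, 10, 11, 12, 14, 15, 16, 5, 6, 8, 9, 10, 12, 13, 8, 4, 5, 6, 8, 10, 11, 12, 13, 15, 16, 18, 19, 20, 22, 23, 25, 26, 27, 29, 30, 32, 33, 34, 35, 36, 38, 39, 41, 42, 43, 44, 45, 47, 49, 50, 52, 53, 32, 33, 34, 31, 32, 28, 29, 30, 21, 23, 24, 25, 26, 27, 28, 12, 13, 14, 15, 16, 17, 18, 19, 11, 12, 13, 9, 11, 12, 13, 15, 16, 17, 18, 19,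 21, 22, 23, 24, 25, 26, 27, 28, 30, 32, 34, 36, 37, 38, 27, 28, 29, 30, 25, 26, 27, 18, 19, 20, 22, 23, 24, 8, 9, 11, 12, 13, 15, 16, 17, 18, 20, 21, 22, 23, 24, 26, 27, 29, 30, 32, 33, 34, 36, 23, 24, 25, 26, 27, 28, 22, 23, 24, 16, 17, 18, 19, 3, 4, 5, 6, 7, 8, 9, 11, 12, 13, 15, 16, 17, 19, 20, 22, 23, 24, 26, 27, 28, 30, 31, 32, 33, 34, 36, 38, 40, 41, 42, 43, 31, 18, 20, 21, 22, 23, 17, 18, 20, 21, 14, 15, 16, 13, 14, 6, 4, 6, 8, 9, 10, 11, 12, 13, 14, 16, 18, 19, 20, 21, 23, 25, 26, 27, 28, 29, 31, 33, 34, 13, 14, 15, 16, 17, 19, 11, 2, 1, 2, 4, 5, 6, 8, 9, 10, 11, 13, 14, 15, 17, 18, 19, 21, 22, 23, 25, 26, 27, 29, 30, 31, 33, 34, 36, 37, 38, 40, 41, 42, 43, 45, 46, 47, 49, 50, 52, 53, 55, 56, 57, 59, 60, 61, 52, 53, 51, 49, 51, 53, 55, 56, 57, 33, 34, 32, 30, 32, 34, 36, 37, 38, 39, 40, 41, 42, 43, 35,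 33, 28, 30, 31, 32, 33, 35, 37, 38, 39, 40, 41, 30, 31, 27, 28, 30, 31, 33, 34, 35, 37, 38, 39, 33, 26, 27, 28, 30, 31, 33, 35, 36, 37, 38, 39, 41, 43, 45, 46, 47, 48, 49, 50, 51, 44, 42, 25, 26, 27, 28, 24, 22, 24, 26, 27, 28, 30, 31, 32, 33, 34, 36, 18, 19, 20, 21, 22, 23, 24, 25, 26, 16, 18, 19, 20, 21, 15, 16, 18, 14, 15, 16, 18, 20, 21, 23, 24, 25, 26, 28, 29, 30, 31, 32, 33, 34, 36, 17, 15, 17, 19, 20, 21, 22, 24, 25, 26, 27, 29, 30, 31, 33, 34, 13, 12, 13, 15, 16, 17, 19, 20, 22, 23, 24, 25, 27, 28, 29, 30, 31, 33, 34, 36, 37, 39, 40, 41, 42, 44, 46, 47, 48, 39, 40, 28, 18, 19, 17, 15, 12, 13, 14, 15, 17, 19, 21, 22, 23, 24, 25, 26, 28, 30, 31, 32, 14, 15, 11, 12, 14, 15, 17, 18, 19, 21, 22, 23, 24, 26, 27, 28, 30, 31, 32, 34, 35, 36, 37, 39, 40, 42, 43, 44, 42, 21, 22, 23, 24, 25, 20, 21, 22, 19, 20,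 17, 18, 14, 15, 16, 10, 11, 12, 13, 14, 15, 16, 18, 20, 22, 24, 25, 27, 28, 29, 30, 15, 16, 17, 18, 14, 15, 12, 9, 10, 11, 12, 14, 15, 17, 18, 20, 21, 22, 24, 25, 27, 28, 29, 30, 32, 33, 34, 35, 36, 37, 39, 40, 42, 44, 45, 47, 48, 50, 51, 53, 54, 55, 56, 57, 59, 60, 54, 55, 56, 57, 58, 59, 55, 56, 29, 30, 31, 32, 28, 29, 30, 27, 28, 26, 24, 26, 28, 30, 32, 34, 35, 36, 37, 38, 39, 40, 41, 42, 43, 44, 45, 31, 32, 34, 35, 36, 37, 38, 39, 29, 30, 31, 32, 34, 35, 36, 27, 28, 29, 30, 31, 32, 34, 23, 24, 21, 23, 24, 26, 27, 28, 29, 30, 19, 21, 22, 23, 24, 26, 27, 28, 17, 16, 17, 19, 20, 21, 22, 23, 24, 26, 14, 15, 13, 14, 15, 17, 18, 19, 20, 21, 22, 23, 24, 26, 28, 30, 32, 33, 34, 36, 38, 39, 41, 42, 43, 20, 21, 22, 23, 24, 25, 26, 27, 28, 29, 30, 31, 19, 14, 15, 16, 17, 19, 21, 22, 23, 24, 25, 13, 14, 15, 17, 18,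 19, 21, 22, 12, 13, 15, 16, 17, 18, 19, 21, 22, 24, 25, 27, 28, 29, 31, 32, 34, 35, 36, 38, 39, 41, 34, 27, 16, 11, 12, 13, 14, 16, 18, 19, 20, 10, 11, 12, 14, 15, 16, 18, 19, 20, 22, 23, 24, 25, 27, 29, 30, 31, 32, 34, 36, 37, 38, 39, 41, 43, 45, 47, 48, 49, 50, 51, 52, 53, 54, 55, 56, 58, 55, 56, 57, 56, 49, 50, 51, 48, 49, 51, 52, 54, 55, 50, 52, 46, 47, 48, 44, 45, 46, 47, 48, 50, 51, 52, 54, 51, 52, 53, 40, 38, 40, 42, 43, 44, 45, 46, 47, 48, 41, 42, 36, 35, 36, 38, 39, 40, 41, 42, 44, 29, 31, 32, 33, 34, 28, 29, 31, 32, 33, 34, 36, 37, 38, 39, 40, 41, 42, 44, 46, 37, 33, 34, 35, 36, 37, 39, 32, 33, 34, 31, 32, 30, 28, 30, 32, 34, 35, 37, 38, 39, 41, 42, 31, 27, 28, 29, 31, 33, 26, 27, 24, 26, 27, 29, 30, 31, 33, 35, 36, 37, 38, 39, 41, 42, 44, 19, 20, 21, 18, 19, 17, 15, 17, 19, 21, 23, 24, 25, 26, 27,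 28, 29, 30, 31, 32, 33, 34, 35, 22, 23, 24, 25, 26, 20, 18, 19, 20, 22, 23, 24, 13, 15, 16, 17, 18, 19, 20, 22, 15, 16, 17, 18, 12, 13, 15, 16, 11, 12, 13, 15, 16, 18, 20, 21, 22, 24, 26, 28, 29, 30, 31, 32, 33, 35, 36, 38, 39, 40, 27, 25, 8, 9, 7, 8, 9, 11, 12, 13, 14, 15, 16, 17, 18, 19, 5, 7, 8, 9, 11, 12, 13, 3, 5, 6, 7, 8, 9, 11, 12, 13, 15, 16, 17, 19, 20, 22, 23, 24, 25, 27, 29, 30, 31, 33, 34, 35, 36, 38, 39, 40, 42, 43, 44, 46, 48, 50, 51, 52, 51, 39, 40, 41, 38, 39, 37, 35, 37, 39, 41, 43, 44, 45, 46, 47, 48, 49, 50, 34, 32, 34, 36, 37, 38, 39, 40, 41, 42, 35, 33, 31, 32, 33, 35, 37, 38, 39, 40, 36, 34, 30, 31, 32, 33, 34, 36, 38, 39, 40, 42, 44, 45, 46, 47, 48, 49, 45, 46, 48, 47, 39, 40, 41, 42, 37, 38, 36, 33, 34, 35, 36, 38, 40, 41, 42, 44, 29, 30, 31, 28, 29, 24, 25, 26, 28, 29, 31, 33, 34, 35,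 36, 25, 26, 27, 23, 25, 26, 27, 29, 30, 31, 33, 29, 21, 23, 24, 25, 26, 27, 29, 31, 32, 33, 35, 36, 38, 39, 40, 41, 42, 44, 46, 43, 41, 43, 45, 40, 41, 42, 43, 44, 32, 33, 34, 35, 36, 37, 38, 39, 30, 32, 33, 34, 29, 30, 32, 28, 26, 28, 30, 31, 32, 34, 36, 37, 12, 13, 14, 15, 16, 17, 18, 19, 20, 21, 22, 23, 25, 26, 27, 28, 29, 11, 12, 10, 8, 10, 12, 14, 15, 16, 17, 18, 19, 20, 21, 23, 13, 11, 5, 6, 4, 5, 6, 8, 9, 10, 11, 13, 15, 16, 17, 18, 19, 21, 22, 23, 25, 26, 27, 29, 30, 32, 33, 34, 36, 37, 39, 41, 42, 43, 36, 37, 38, 39, 40, 41, 42, 41, 35, 33, 35, 37, 38, 39, 40, 38, 39, 38, 28, 30, 31, 32, 33, 27, 28, 30, 26, 27, 28, 30, 32, 33, 35, 36, 37, 36, 22, 23, 24, 20, 22, 23, 24, 26, 27, 28, 29, 30, 31, 19, 20, 22, 23, 24, 26, 27, 17, 18, 19, 20, 22, 23, 24, 26, 27, 29, 30, 31, 33, 34, 35, 34, 33, 30, 31, 32,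 26, 27, 25, 23, 25, 27, 29, 30, 31, 30, 16, 17, 18, 19, 15, 16, 17, 12, 13, 15, 11, 13, 9, 11, 12, 13, 15, 17, 19, 21, 22, 23, 24, 25, 26, 27, 28, 29, 28, 27, 25, 26, 20, 21, 22, 18, 19, 16, 17, 18, 19, 21, 22, 24, 25, 24, 21, 22, 23, 17, 18, 19, 16, 15, 16, 18, 19, 21, 22, 15, 16, 17, 18, 19, 20, 21, 20, 17, 18, 19, 18, 12, 13, 14, 10, 12, 8, 7, 8, 10, 11, 12, 14, 16, 17, 11, 12, 13, 14, 15, 16, 15, 4, 5, 1, 0, 1, 3, 4, 5, 7, 8, 9, 10, 11, 12, 13, 14, 13, 8, 10, 11, 12, 10, 11, 10, 6, 2, 3, 4, 5, 6, 8, 9, 2, 3, 0, 1, 2, 3, 5, 6, 7, 8, 2, 3, 0, 1, 2, 3, 5, 6, 7, 6, 5, 2, 3, 4, 0, 1, 2, 3, 2, 0, 1, 0] (l := E31 ++ E31) (r := []) (by decide +kernel) (by decide +kernel) (by decide +kernel)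
  simpa only [vl_append, vl_one, vl_nil, mul_assoc] using this


theorem e13 (h : Cx F) : vl F E13 = vl F (RE .b1 .c1 .d1 .b3 .c3) :=
  h.eq _ (by decide +kernel) (by decide +kernel) red_13

theorem e23 (h : Cx F) : vl F (E13.map sw12) = vl F (RE .b2 .c2 .d2 .b3 .c3) :=
  h.eq _ (by decide +kernel) (by decide +kernel) red_23

theorem e21' (h : Cx F) : vl F (E12.map sw12) = vl F (RE .b2 .c2 .d2 .b1 .c1) :=
  h.eq _ (by decide +kernel) (by decide +kernel) red_21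

theorem e31 (h : Cx F) : vl F E31 = vl F (RE .b3 .c3 .d3 .b1 .c1) :=
  h.eq _ (by decide +kernel) (by decide +kernel) red_31

theorem e32 (h : Cx F) : vl F (E31.map sw12) = vl F (RE .b3 .c3 .d3 .b2 .c2) :=
  h.eq _ (by decide +kernel) (by decide +kernel) red_32

theorem rho_vl (h : Cx F) (hb : vl F RHO * F .b3 * vl F RHO = F .b3) : ∀ {l : List Nd}, .e3 ∉ l →
    vl F RHO * vl F l * vl F RHO = vl F (l.map sw12)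
  | [], _ => by rw [vl_nil, mul_one, rho_sq h]; rfl
  | n :: l, e => by
    rw [List.mem_cons, not_or] at e
    have e1 : vl F RHO * F n * vl F RHO = F (sw12 n) := by
      by_cases q : n = .b3
      · rw [q]; exact hb
      · exact rho_conj h (Ne.symm e.1) q
    rw [List.map_cons, vl_cons, vl_cons, ← rho_vl h hb e.2, ← e1]
    calc _ = vl F RHO * F n * (vl F RHO * vl F RHO) * vl F l * vl F RHO := by
          rw [rho_sq h, mul_one]; simp only [mul_assoc]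
      _ = _ := by simp only [mul_assoc]

theorem cen_eq {k x y : G} (c : Commute k y) (e : x * y = y * k) : x = k := by
  rw [← c.eq] at e
  exact mul_right_cancel e

theorem k1_one (h : Cx F) {k : G} (c : Cen F k) (e : vl F (RE .b1 .c1 .d1 .b2 .c2) = F .f1 * k)
    (hr : vl F RAB = F .b3) : k = 1 := by
  have sf := h.sq (n := .f1) (by decide)
  have se := h.sq (n := .e1) (by decide)
  have h56 : vl F K56 = k⁻¹ := by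
    have h1 := d_56 h
    rw [e12 h, e, th1 h c e, sq3 se sf, mul_right_cancel_iff, mul_inv_rev, inv_eq_of_mul_eq_one_right sf,
      ← mul_assoc, ← (c .e1 (by decide)).inv_left.eq] at h1
    have h2 : F .e1 * F .f1 * F .e1 = F .f1 * F .e1 * F .f1 := by
      simpa only [vl_cons, vl_nil, mul_one, mul_assoc] using h.eq [0, 2, 1, 0] (l := [.e1, .f1, .e1])
        (r := [.f1, .e1, .f1]) (by decide) (by decide) (by decide +kernel)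
    rw [mul_assoc k⁻¹, mul_assoc k⁻¹, h2, (((c .f1 (by decide)).mul_right (c .e1 (by decide))).mul_right
      (c .f1 (by decide))).inv_left.eq, mul_assoc, mul_eq_left, ← mul_inv_rev, inv_eq_one] at h1
    exact eq_inv_of_mul_eq_one_left h1
  have h12 := d_12 h
  have h34 := d_34 h
  rw [h56] at h12 h34
  replace h12 := cen_eq (cen_vl c (by decide +kernel)).inv_left h12
  replace h34 := cen_eq (cen_vl c (by decide +kernel)).inv_left h34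
  have s1 : vl F r124 = vl F r356 := mul_right_cancel ((d_s356 h).trans (hr ▸ (d_r356 h).symm))
  have s2 : vl F r134 = vl F r256 := mul_right_cancel ((d_s256 h).trans (hr ▸ (d_r256 h).symm))
  have s3 : vl F r234 = vl F r156 := mul_right_cancel ((d_s156 h).trans (hr ▸ (d_r156 h).symm))
  have s4 : vl F r126 = vl F r345 := mul_right_cancel ((d_s345 h).trans (hr ▸ (d_r345 h).symm))
  have s5 : vl F r125 = vl F r346 := mul_right_cancel ((d_s346 h).trans (hr ▸ (d_r346 h).symm))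
  rw [hr, s1] at h12
  rw [s2, s3, ← s4, ← s5] at h34
  have := d_all h
  rw [h12, h56] at this
  simp only [mul_assoc k⁻¹] at this
  rw [h34, mul_eq_left, inv_eq_one] at this
  exact this

theorem k1'_one (h : Cx F) {k : G} (c : Cen F k) (e : vl F (RE .b1 .c1 .d1 .b2 .c2) = F .f1)
    (e' : vl F (RE .b1 .c1 .d1 .b3 .c3) = F .f1 * k) : k = 1 := by
  have h1 := d_a h
  have h2 := d_b h
  rw [e12 h, e] at h1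
  rw [e13 h, e', ← mul_assoc, h1] at h2
  have ca : Commute k (vl F Ga) := cen_vl c (by decide +kernel)
  have ce : Commute k (F .e1) := c _ (by decide)
  have a2 := d_a2 h
  have b2 := d_b2 h
  have a3 := d_a3 h
  have b3 := d_b3 h
  rw [← h2] at b2 b3
  have q2 : k ^ 2 = 1 := by
    rw [← pow_two, ca.symm.mul_pow, pow_two, a2, one_mul] at b2
    exact b2
  have q3 : k ^ 3 = 1 := by
    have e1 : (F .e1 * vl F Ga * k) ^ 3 = 1 := by rw [← b3, pow_three]; simp only [mul_assoc]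
    have e2 : (F .e1 * vl F Ga) ^ 3 = 1 := by rw [← a3, pow_three]; simp only [mul_assoc]
    rwa [(ce.mul_right ca).symm.mul_pow, e2, one_mul] at e1
  rwa [pow_succ, q2, one_mul] at q3

theorem sp_one (h : Cx F) (cs : Cen F (vl F SP ^ 10)) (hb : vl F RHO * F .b3 * vl F RHO = F .b3) :
    vl F SP ^ 10 = 1 := by
  rw [← YW.vl_rep] at cs ⊢
  change Cen F (vl F S10) at cs
  change vl F S10 = 1
  have h1 : vl F S10s = vl F S10 := by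
    rw [S10s, ← rho_vl h hb (by decide +kernel), ← (cen_vl cs (by decide +kernel)).eq, mul_assoc, rho_sq h, mul_one]
  have h2 := d_s2 h
  rw [h1, (cen_vl cs (by decide +kernel)).eq, mul_assoc, mul_eq_left, ← pow_two] at h2
  have h3 : (vl F U3 * vl F S10) ^ 3 = 1 := by rw [← d_s3 h, pow_three]; simp only [mul_assoc]
  rw [(cen_vl cs (by decide +kernel)).symm.mul_pow, pow_three, ← mul_assoc, d_u h, one_mul, pow_succ, h2,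
    one_mul] at h3
  exact h3

theorem vl_tw {k : G} (c : Cen F k) : ∀ {l : List Nd}, .e3 ∉ l → .f3 ∉ l →
    vl (fun n => if n = .f3 then 1 else F n * k) l = vl F l * k ^ l.length
  | [], _, _ => by simp [vl_nil]
  | n :: l, e, e' => by
    rw [List.mem_cons, not_or] at e e'
    rw [vl_cons, vl_cons, vl_tw c e.2 e'.2, if_neg (Ne.symm e'.1), List.length_cons, pow_succ', mul_assoc,
      ← mul_assoc k, (cen_vl c e.2).eq]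
    simp only [mul_assoc]

theorem vl_odd {k : G} (c : Cen F k) (k2 : k * k = 1) {l : List Nd} (e : .e3 ∉ l) (e' : .f3 ∉ l)
    (o : l.length % 2 = 1) : vl (fun n => if n = .f3 then 1 else F n * k) l = vl F l * k := by
  rw [vl_tw c e e', ← Nat.div_add_mod l.length 2, pow_add, pow_mul, pow_two, k2, one_pow, one_mul, o, pow_one]

end TA

open TA

/-- Relators that are central are trivial, up to the sign of the generators. -/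
theorem kill (h : Cx F) (h3 : F .f3 = 1) (cs : Cen F (vl F SP ^ 10))
    (c12 : Cen F (vl F (RE .b1 .c1 .d1 .b2 .c2) * F .f1))
    (c13 : Cen F (vl F (RE .b1 .c1 .d1 .b3 .c3) * F .f1))
    (c21 : Cen F (vl F (RE .b2 .c2 .d2 .b1 .c1) * F .f2))
    (c23 : Cen F (vl F (RE .b2 .c2 .d2 .b3 .c3) * F .f2))
    (c31 : Cen F (vl F (RE .b3 .c3 .d3 .b1 .c1))) :
    Sy3 fun n => if n = .f3 then 1 else F n * vl F (RE .b3 .c3 .d3 .b1 .c1) := by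
  have dec : ∀ {x : G} {n : Nd}, n ≠ .e3 → Cen F (x * F n) → x = F n * (x * F n) := fun {x n} hn c => by
    rw [← (c n hn).eq, mul_assoc, h.sq hn, mul_one]
  have d12 := dec (by decide) c12
  have d13 := dec (by decide) c13
  have d21 := dec (by decide) c21
  have hb := rho_b3 h c12 c21 d12 d21
  have q12 : vl F (RE .b1 .c1 .d1 .b2 .c2) = F .f1 := by
    rw [d12, k1_one h c12 d12 (rab h c12 c21 d12 d21), mul_one]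
  have q13 : vl F (RE .b1 .c1 .d1 .b3 .c3) = F .f1 := by rw [d13, k1'_one h c13 q12 d13, mul_one]
  have q21 : vl F (RE .b2 .c2 .d2 .b1 .c1) = F .f2 := by
    rw [← e21' h, ← rho_vl h hb (by decide +kernel), e12 h, q12]
    exact rho_conj h (by decide) (by decide)
  have q23 : vl F (RE .b2 .c2 .d2 .b3 .c3) = F .f2 := by
    rw [← e23 h, ← rho_vl h hb (by decide +kernel), e13 h, q13]
    exact rho_conj h (by decide) (by decide)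
  have q32 : vl F (RE .b3 .c3 .d3 .b2 .c2) = vl F (RE .b3 .c3 .d3 .b1 .c1) := by
    rw [← e32 h, ← rho_vl h hb (by decide +kernel), e31 h, ← (cen_vl c31 (by decide +kernel)).eq, mul_assoc,
      rho_sq h, mul_one]
  have k2 := d_e3 h
  rw [e31 h] at k2
  have hs := sp_one h cs hb
  generalize hk : vl F (RE .b3 .c3 .d3 .b1 .c1) = k at c31 q32 k2 ⊢
  have sq : ∀ n, n ≠ .e3 → F n * k * (F n * k) = 1 := fun n hn => by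
    rw [← pow_two, (c31 n hn).symm.mul_pow, pow_two, pow_two, h.sq hn, k2, mul_one]
  refine ⟨fun n m hn hm => ?_, if_pos rfl, ?_, ?_, ?_, ?_, ?_, ?_, ?_⟩
  · by_cases a : n = .f3 <;> by_cases b : m = .f3
    · simp only [if_pos a, if_pos b, one_mul, one_pow]
    · simp only [if_pos a, if_neg b, one_mul]
      rw [a, show lb .f3 m = 2 by cases m <;> first | rfl | contradiction, pow_two, sq m hm]
    · simp only [if_neg a, if_pos b, mul_one]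
      rw [b, show lb n .f3 = 2 by cases n <;> first | rfl | contradiction, pow_two, sq n hn]
    · simp only [if_neg a, if_neg b]
      rw [mul_assoc, ← mul_assoc k, (c31 m hm).eq, mul_assoc, k2, mul_one]
      exact h n m hn hm
  · rw [vl_odd c31 k2 (by decide) (by decide) (by decide), (cen_vl c31 (by decide)).symm.mul_pow, hs, one_mul,
      show 10 = 2 * 5 from rfl, pow_mul, pow_two, k2, one_pow]
  · rw [vl_odd c31 k2 (by decide +kernel) (by decide +kernel) (by decide +kernel), q12, if_neg (by decide)]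
  · rw [vl_odd c31 k2 (by decide +kernel) (by decide +kernel) (by decide +kernel), q13, if_neg (by decide)]
  · rw [vl_odd c31 k2 (by decide +kernel) (by decide +kernel) (by decide +kernel), q21, if_neg (by decide)]
  · rw [vl_odd c31 k2 (by decide +kernel) (by decide +kernel) (by decide +kernel), q23, if_neg (by decide)]
  · rw [vl_odd c31 k2 (by decide +kernel) (by decide +kernel) (by decide +kernel), hk, k2]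
  · rw [vl_odd c31 k2 (by decide +kernel) (by decide +kernel) (by decide +kernel), q32, k2]

end H10.Mon.T
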