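import Mathlib
import Cfsg.Agent.H10.TH
import Cfsg.Agent.H10.TU

/-!
# The element `(t, 1)` of the group presented on `Y555`
-/

set_option autoImplicit false
set_option linter.all false
set_option maxRecDepth 100000

namespace H10.Mon.T

open Cfsg H9 H29 Cfsg.Spor H10.YW
open H10.Mon.Y (xB bN sys_xB)

/-- The even generators. -/
def yy (n : Nd) : Bimonster := YW.gn n * YW.gn .f3

/-- The diagonal subgroup. -/
def DD : Subgroup Bimonster := Subgroup.closure {g | ∃ n, n ≠ .e3 ∧ g = yy n}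

namespace Y1

theorem comm_of_sq {G : Type*} [Group G] {a b : G} (ha : a * a = 1) (hb : b * b = 1)
    (h : (a * b) ^ 2 = 1) : Commute a b := by
  rwa [pow_two, mul_eq_one_iff_eq_inv, mul_inv_rev, inv_eq_of_mul_eq_one_right ha,
    inv_eq_of_mul_eq_one_right hb] at h

theorem gn_comm {n m : Nd} (h : lb n m = 2) : Commute (YW.gn n) (YW.gn m) :=
  comm_of_sq (gn_sq n) (gn_sq m) (h ▸ gn_cox n m)

theorem gn_f3 {n : Nd} (h : n ≠ .e3) : Commute (YW.gn n) (YW.gn .f3) := by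
  by_cases e : n = .f3
  · rw [e]
  · exact gn_comm (by cases n <;> first | rfl | contradiction)

theorem comm_vl {G : Type*} [Group G] {F : Nd → G} {k : G} :
    ∀ {l : List Nd}, (∀ n ∈ l, Commute k (F n)) → Commute k (vl F l)
  | [], _ => Commute.one_right k
  | n :: l, h => (h n List.mem_cons_self).mul_right (comm_vl fun m hm => h m (List.mem_cons_of_mem _ hm))

theorem mem_vl {G : Type*} [Group G] {F : Nd → G} {S : Subgroup G} :
    ∀ {l : List Nd}, (∀ n ∈ l, F n ∈ S) → vl F l ∈ S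
  | [], _ => one_mem S
  | n :: l, h => mul_mem (h n List.mem_cons_self) (mem_vl fun m hm => h m (List.mem_cons_of_mem _ hm))

theorem ne_of {l : List Nd} (h : .e3 ∉ l) : ∀ n ∈ l, n ≠ .e3 := fun _ hn e => h (e ▸ hn)

theorem vl_yy : ∀ {l : List Nd}, .e3 ∉ l → vl yy l = vl YW.gn l * YW.gn .f3 ^ l.length
  | [], _ => (one_mul 1).symm
  | n :: l, h => by
    rw [List.mem_cons, not_or] at h
    rw [vl_cons, vl_cons, vl_yy h.2, yy, List.length_cons, pow_succ', mul_assoc, mul_assoc,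
      ← mul_assoc (YW.gn .f3), (comm_vl fun m hm => (gn_f3 (ne_of h.2 m hm)).symm).eq, mul_assoc]

theorem pow_even {G : Type*} [Group G] {a : G} (ha : a * a = 1) {k : ℕ} (h : Even k) : a ^ k = 1 := by
  obtain ⟨j, rfl⟩ := h
  rw [← two_mul, pow_mul, pow_two, ha, one_pow]

theorem vl_yy_odd {l : List Nd} (h : .e3 ∉ l) (o : Odd l.length) : vl yy l = vl YW.gn l * YW.gn .f3 := by
  obtain ⟨j, e⟩ := o
  rw [vl_yy h, e, pow_succ, pow_even (gn_sq _) (even_two_mul j), one_mul]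

theorem rel {r : FreeGroup Nd} (h : r ∈ Bimonster.extra) : FreeGroup.lift YW.gn r = 1 := by
  have : FreeGroup.lift YW.gn = PresentedGroup.mk
      (coxRelators Bimonster.edges ∪ {r | r ∈ Bimonster.extra}) := FreeGroup.ext_hom _ _ fun n => by
    rw [FreeGroup.lift_apply_of]; rfl
  rw [this]
  exact PresentedGroup.one_of_mem (Or.inr h)

theorem rels : vl YW.gn SP ^ 10 = 1 ∧ vl YW.gn [.a, .b1, .b2, .b3, .c1, .c2, .d1] ^ 9 = YW.gn .f1 ∧
    vl YW.gn [.a, .b1, .b3, .b2, .c1, .c3, .d1] ^ 9 = YW.gn .f1 ∧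
    vl YW.gn [.a, .b2, .b1, .b3, .c2, .c1, .d2] ^ 9 = YW.gn .f2 ∧
    vl YW.gn [.a, .b2, .b3, .b1, .c2, .c3, .d2] ^ 9 = YW.gn .f2 ∧
    vl YW.gn [.a, .b3, .b1, .b2, .c3, .c1, .d3] ^ 9 = YW.gn .f3 ∧
    vl YW.gn [.a, .b3, .b2, .b1, .c3, .c2, .d3] ^ 9 = YW.gn .f3 := by
  have := @rel
  simp only [Bimonster.extra, List.mem_cons, List.not_mem_nil, or_false, forall_eq_or_imp, forall_eq,
    map_mul, map_pow, map_inv, FreeGroup.lift_apply_of, mul_inv_eq_one, mul_assoc] at this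
  simp only [SP, vl_cons, vl_nil, mul_one]
  exact ⟨this.1, this.2.1.symm, this.2.2.1.symm, this.2.2.2.1.symm, this.2.2.2.2.1.symm,
    this.2.2.2.2.2.1.symm, this.2.2.2.2.2.2.symm⟩

theorem re {F : Nd → Bimonster} (hF : ∀ n m, (F n * F m) ^ lb n m = 1) {c : List ℕ} {l r : List Nd}
    (h : red c (r.reverse ++ YW.rep l 9) = true) : vl F r = vl F l ^ 9 := by
  rw [← vl_rep, red_eq hF c h]

theorem Sy3.of_inj {G H : Type*} [Group G] [Group H] {f : H →* G} (hf : Function.Injective f) {y : Nd → H}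
    {x : Nd → G} (h : Sy3 x) (e : ∀ n, n ≠ .e3 → f (y n) = x n) : Sy3 y := by
  have k : ∀ {l : List Nd}, .e3 ∉ l → f (vl y l) = vl x l := fun {l} hl => by
    induction l with
    | nil => exact map_one f
    | cons n l ih =>
      rw [List.mem_cons, not_or] at hl
      rw [vl_cons, vl_cons, map_mul, ih hl.2, e n (Ne.symm hl.1)]
  exact ⟨fun n m h1 h2 => hf (by rw [map_pow, map_mul, e n h1, e m h2, h.cox n m h1 h2, map_one]),
    hf (by rw [e _ (by decide), h.f3, map_one]), hf (by rw [map_pow, k (by decide), h.sp, map_one]),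
    hf (by rw [k (by decide), e _ (by decide), h.e12]), hf (by rw [k (by decide), e _ (by decide), h.e13]),
    hf (by rw [k (by decide), e _ (by decide), h.e21]), hf (by rw [k (by decide), e _ (by decide), h.e23]),
    hf (by rw [k (by decide), h.e31, map_one]), hf (by rw [k (by decide), h.e32, map_one])⟩

/-- The first coordinate on the base group. -/
def fa {G : Type*} [Group G] : (YW.par (G := G)).ker →* G where
  toFun y := y.1.a
  map_one' := rfl
  map_mul' := by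
    rintro ⟨⟨a, b, s⟩, h⟩ z
    obtain rfl : s = false := par_eq_one h
    rfl

theorem inj_cl (hB : IsB BabyMonster) {y : Nd → Bimonster} (h : Sy3 y)
    (ha : ∀ n, n ≠ .e3 → ∃ b, sys_xB.hom (y n) = ⟨xB n, b, false⟩) {g : Bimonster}
    (hg : g ∈ Subgroup.closure {g | ∃ n, n ≠ .e3 ∧ g = y n}) (h1 : (sys_xB.hom g).a = 1) : g = 1 := by
  set M := Subgroup.closure {g | ∃ n, n ≠ .e3 ∧ g = y n}
  have hM : ∀ g : M, sys_xB.hom.comp M.subtype g ∈ YW.par.ker := fun g =>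
    (Subgroup.closure_le (YW.par.ker.comap sys_xB.hom)).2 (by
      rintro _ ⟨n, hn, rfl⟩
      obtain ⟨b, e⟩ := ha n hn
      change YW.par (sys_xB.hom (y n)) = 1
      rw [e]; rfl) g.2
  let y' : Nd → M := fun n => if k : n = .e3 then 1 else ⟨y n, Subgroup.subset_closure ⟨n, k, rfl⟩⟩
  have e : ∀ n, n ≠ .e3 → M.subtype (y' n) = y n := fun n k => by simp only [y', dif_neg k]; rfl
  have := inj553 hB (Sy3.of_inj M.subtype_injective h e) (by
    refine Subgroup.map_injective M.subtype_injective ?_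
    rw [MonoidHom.map_closure, ← MonoidHom.range_eq_map, Subgroup.range_subtype]
    refine congrArg _ (Set.ext fun g => ⟨?_, ?_⟩)
    · rintro ⟨_, ⟨n, k, rfl⟩, rfl⟩; exact ⟨n, k, e n k⟩
    · rintro ⟨n, k, rfl⟩; exact ⟨_, ⟨n, k, rfl⟩, e n k⟩)
    (fa.comp ((sys_xB.hom.comp M.subtype).codRestrict _ hM)) fun n k => by
      obtain ⟨b, e'⟩ := ha n k
      change (sys_xB.hom (M.subtype (y' n))).a = _
      rw [e n k, e']
  exact congrArg Subtype.val (this (a₁ := ⟨g, hg⟩) (a₂ := 1) (h1.trans (map_one _).symm))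

end Y1

open Y1

theorem sy3_yy : Sy3 yy := by
  obtain ⟨r0, r1, r2, r3, r4, r5, r6⟩ := rels
  refine ⟨fun n m h1 h2 => ?_, gn_sq _, ?_, ?_, ?_, ?_, ?_, ?_, ?_⟩
  · rw [yy, yy, (gn_f3 h2).symm.mul_mul_mul_comm, gn_sq, mul_one, gn_cox]
  · rw [vl_yy_odd (by decide) (by decide),
      (comm_vl fun m hm => (gn_f3 (ne_of (by decide) m hm)).symm).symm.mul_pow, r0, one_mul,
      pow_even (gn_sq _) (by decide)]
  · rw [vl_yy_odd (by decide) (by decide), re gn_cox red_12, r1, yy]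
  · rw [vl_yy_odd (by decide) (by decide), re gn_cox red_13, r2, yy]
  · rw [vl_yy_odd (by decide) (by decide), re gn_cox red_21, r3, yy]
  · rw [vl_yy_odd (by decide) (by decide), re gn_cox red_23, r4, yy]
  · rw [vl_yy_odd (by decide) (by decide), re gn_cox red_31, r5, gn_sq]
  · rw [vl_yy_odd (by decide) (by decide), re gn_cox red_32, r6, gn_sq]

theorem hom_yy {n : Nd} (h : n ≠ .e3) : sys_xB.hom (yy n) = ⟨xB n, xB n, false⟩ := by
  rw [yy, map_mul, Sys.hom_gn, Sys.hom_gn, sys_xB.nd_eq h, sys_xB.nd_eq (by decide), sys_xB.f3, mul_t,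
    mul_one, Bool.not_true]

theorem DD_inj (hB : IsB BabyMonster) {g : Bimonster} (hg : g ∈ DD) (h : (sys_xB.hom g).a = 1) :
    g = 1 := inj_cl hB sy3_yy (fun _ k => ⟨_, hom_yy k⟩) hg h

namespace Y1

theorem yy_mem {n : Nd} (h : n ≠ .e3) : yy n ∈ DD := Subgroup.subset_closure ⟨n, h, rfl⟩

theorem DD_f3 {g : Bimonster} (hg : g ∈ DD) : Commute g (YW.gn .f3) :=
  (Subgroup.closure_le (Subgroup.centralizer {YW.gn .f3})).2 (by
    rintro _ ⟨n, hn, rfl⟩
    exact Subgroup.mem_centralizer_singleton_iff.2 ((gn_f3 hn).mul_left (Commute.refl _))) hg |>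
      Subgroup.mem_centralizer_singleton_iff.1

theorem DD_hom {g : Bimonster} (hg : g ∈ DD) : ∃ a, sys_xB.hom g = ⟨a, a, false⟩ := by
  induction hg using Subgroup.closure_induction with
  | mem g h => obtain ⟨n, hn, rfl⟩ := h; exact ⟨_, hom_yy hn⟩
  | one => exact ⟨1, map_one _⟩
  | mul _ _ _ _ h1 h2 =>
    obtain ⟨a, h1⟩ := h1
    obtain ⟨b, h2⟩ := h2
    exact ⟨a * b, by rw [map_mul, h1, h2, mul_f]⟩
  | inv _ _ h => obtain ⟨a, h⟩ := h; exact ⟨a⁻¹, by rw [map_inv, h, inv_f]⟩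

theorem DD_eq (hB : IsB BabyMonster) {g k : Bimonster} (hg : g ∈ DD) (hk : k ∈ DD)
    (h : (sys_xB.hom g).a = (sys_xB.hom k).a) : g = k := by
  obtain ⟨a, e1⟩ := DD_hom hg
  obtain ⟨b, e2⟩ := DD_hom hk
  refine mul_inv_eq_one.1 (DD_inj hB (mul_mem hg (inv_mem hk)) ?_)
  rw [e1, e2] at h
  rw [map_mul, map_inv, e1, e2, inv_f, mul_f]
  exact mul_inv_eq_one.2 h

theorem xB_MM (n : Nd) : xB n ∈ MM tau :=
  mul_mem (mul_mem (inv_mem (wd_mem _)) (Y.xU_mem _)) (inv_mem (inv_mem (wd_mem _)))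

theorem hom_MM (g : Bimonster) : (sys_xB.hom g).a ∈ MM tau ∧ (sys_xB.hom g).b ∈ MM tau := by
  let S : Subgroup (Wr E) :=
    { carrier := {w | w.a ∈ MM tau ∧ w.b ∈ MM tau}
      one_mem' := ⟨one_mem _, one_mem _⟩
      mul_mem' := by
        rintro ⟨a, b, _ | _⟩ ⟨c, d, s⟩ h1 h2
        exacts [⟨mul_mem h1.1 h2.1, mul_mem h1.2 h2.2⟩, ⟨mul_mem h1.1 h2.2, mul_mem h1.2 h2.1⟩]
      inv_mem' := by
        rintro ⟨a, b, _ | _⟩ h
        exacts [⟨inv_mem h.1, inv_mem h.2⟩, ⟨inv_mem h.2, inv_mem h.1⟩] }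
  exact PresentedGroup.generated_by _ (S.comap sys_xB.hom) (fun n => by
    change sys_xB.hom (YW.gn n) ∈ S
    rw [Sys.hom_gn]; exact ⟨xB_MM n, inv_mem (xB_MM n)⟩) g

def sw13 : Nd → Nd
  | .b1 => .b3 | .c1 => .c3 | .d1 => .d3 | .e1 => .e3 | .f1 => .f3
  | .b3 => .b1 | .c3 => .c1 | .d3 => .d1 | .e3 => .e1 | .f3 => .f1 | n => n

theorem exists_rho : ∃ ρ : Bimonster, ρ * ρ = 1 ∧ (∀ n, ρ * YW.gn n * ρ = YW.gn (sw23 n)) ∧
    (sys_xB.hom ρ).s = false := by
  have hF : ∀ n m, (YW.gn (sw13 n) * YW.gn (sw13 m)) ^ lb n m = 1 := fun n m => by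
    rw [show lb n m = lb (sw13 n) (sw13 m) by cases n <;> cases m <;> rfl, gn_cox]
  have h : Cx fun n => YW.gn (sw13 n) := fun n m _ _ => hF n m
  have s := rho_sq h
  refine ⟨_, s, fun n => ?_, ?_⟩
  · by_cases e : n = .e1
    · rw [e, ← (comm_vl (k := YW.gn .e1) fun m hm => gn_comm (by revert m; decide)).eq, mul_assoc, s, mul_one]
      rfl
    by_cases e' : n = .b1
    · rw [e']
      exact rho_b3 h (k := 1) (k' := 1) (fun _ _ => Commute.one_left _) (fun _ _ => Commute.one_left _)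
        (by rw [re hF red_12, mul_one]; exact rels.2.2.2.2.2.2)
        (by rw [re hF red_21, mul_one]; exact rels.2.2.2.2.1)
    · have := rho_conj h (n := sw13 n) (by cases n <;> first | decide | contradiction)
        (by cases n <;> first | decide | contradiction)
      rwa [show sw13 (sw13 n) = n by cases n <;> rfl,
        show sw13 (sw12 (sw13 n)) = sw23 n by cases n <;> rfl] at this
  · have : ∀ l : List Nd, (sys_xB.hom (vl (fun n => YW.gn (sw13 n)) l)).s = l.length.bodd := fun l => by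
      induction l with
      | nil => rw [vl_nil, map_one]; rfl
      | cons n l ih => rw [vl_cons, map_mul, Sys.hom_gn, List.length_cons, Nat.bodd_succ, ← ih]; rfl
    rw [this]; decide

/-- The lift of the centraliser of `t`. -/
def HT : Subgroup Bimonster := Subgroup.closure (Set.range fun n => yy (bN n))

theorem bN_ne (n : BabyMonster.Gen) : bN n ≠ .e3 := by cases n <;> decide

theorem HT_le : HT ≤ DD := (Subgroup.closure_le _).2 (by rintro _ ⟨n, rfl⟩; exact yy_mem (bN_ne n))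

theorem HT_comm {k g : Bimonster} (h : ∀ n, Commute (yy (bN n)) k) (hg : g ∈ HT) : Commute g k :=
  Subgroup.mem_centralizer_singleton_iff.1 ((Subgroup.closure_le (Subgroup.centralizer {k})).2 (by
    rintro _ ⟨n, rfl⟩; exact Subgroup.mem_centralizer_singleton_iff.2 (h n)) hg)

theorem HT_lift (hB : IsB BabyMonster) {m : E} (hm : m ∈ HH tau) :
    ∃ g ∈ HT, sys_xB.hom g = ⟨m, m, false⟩ := by
  rw [← yb_gen hB] at hm
  induction hm using Subgroup.closure_induction with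
  | mem g h => obtain ⟨n, rfl⟩ := h; exact ⟨_, Subgroup.subset_closure ⟨n, rfl⟩, hom_yy (bN_ne n)⟩
  | one => exact ⟨1, one_mem _, map_one _⟩
  | mul _ _ _ _ h1 h2 =>
    obtain ⟨a, ha, h1⟩ := h1
    obtain ⟨b, hb, h2⟩ := h2
    exact ⟨a * b, mul_mem ha hb, by rw [map_mul, h1, h2, mul_f]⟩
  | inv _ _ h => obtain ⟨a, ha, h⟩ := h; exact ⟨a⁻¹, inv_mem ha, by rw [map_inv, h, inv_f]⟩

theorem mem_HT (hB : IsB BabyMonster) {g : Bimonster} (hg : g ∈ DD) (h : g * yy .f2 * g⁻¹ = yy .f2) :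
    g ∈ HT := by
  obtain ⟨a, e⟩ := DD_hom hg
  have h1 := congrArg (fun g => (sys_xB.hom g).a) h
  simp only [map_mul, map_inv, hom_yy (n := .f2) (by decide), conj_a, Y.xB_f2] at h1
  obtain ⟨k, hk, e'⟩ := HT_lift hB (mem_HH.2 ⟨(hom_MM g).1, h1⟩)
  exact DD_eq hB hg (HT_le hk) (by rw [e']) ▸ hk

theorem cen_t (hB : IsB BabyMonster) {p : E} (hp : p ∈ MM tau) (h : ∀ n, Commute (xB (bN n)) p) :
    p = 1 ∨ p = tv 1 c0 := by
  have k : ∀ m ∈ HH tau, m * p = p * m := fun m hm => by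
    rw [← yb_gen hB] at hm
    exact Subgroup.mem_centralizer_singleton_iff.1 ((Subgroup.closure_le (Subgroup.centralizer {p})).2 (by
      rintro _ ⟨n, rfl⟩; exact Subgroup.mem_centralizer_singleton_iff.2 (h n)) hm)
  have : (⟨p, mem_HH.2 ⟨hp, by rw [← k _ tt_mem_HH, mul_inv_cancel_right]⟩⟩ : HH tau) ∈
      Subgroup.center (HH tau) := Subgroup.mem_center_iff.2 fun m => Subtype.ext (k m m.2)
  rw [center_HH tri_tau, Subgroup.mem_subgroupOf] at this
  exact mem_zpowers_invol (tv_mul_self _ _) this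

theorem exists_L0 (hB : IsB BabyMonster) : ∃ L : Bimonster, L * L = 1 ∧ L * YW.gn .f3 * L = YW.gn .f2 ∧
    (∀ g ∈ HT, Commute g L) ∧ Commute (YW.gn .e2) (L * YW.gn .e2 * L) ∧
    YW.gn .e3 ∈ DD ⊔ Subgroup.zpowers (YW.gn .f3) ⊔ Subgroup.zpowers L ∧
    (sys_xB.hom L = ⟨xB .f2, 1, false⟩ ∨ sys_xB.hom L = ⟨1, xB .f2, false⟩) := by
  obtain ⟨ρ, r1, r2, r3⟩ := exists_rho
  obtain ⟨ω, hω, o1⟩ := yb_om hB
  obtain ⟨w, hw, o2⟩ := HT_lift hB hω
  have wD := HT_le hw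
  have f2 : yy .f2 ∈ DD := yy_mem (by decide)
  have ri := inv_eq_of_mul_eq_one_right r1
  have wf2 : Commute w (YW.gn .f2) := HT_comm (fun n => (gn_comm (by cases n <;> rfl)).mul_left
    (gn_comm rfl)) hw
  have c1 : ∀ g ∈ HT, Commute g (w⁻¹ * ρ) := fun g => HT_comm fun n => by
    have ne : sw23 (bN n) ≠ .e3 := by cases n <;> decide
    have a : w * yy (bN n) * w⁻¹ = yy (sw23 (bN n)) * yy .f2 :=
      DD_eq hB (mul_mem (mul_mem wD (yy_mem (bN_ne n))) (inv_mem wD)) (mul_mem (yy_mem ne) f2) (by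
        rw [map_mul, map_mul, map_inv, hom_yy (bN_ne n), conj_a, o2, map_mul, hom_yy ne,
          hom_yy (by decide), o1, Y.xB_f2]; rfl)
    have b : ρ * yy (bN n) * ρ⁻¹ = yy (sw23 (bN n)) * yy .f2 := by
      rw [yy, ← conj_mul, ri, r2, r2, yy, yy, (gn_comm (n := .f3) (m := .f2) rfl).mul_mul_mul_comm,
        gn_sq, mul_one]; rfl
    have := a.trans b.symm
    calc yy (bN n) * (w⁻¹ * ρ) = w⁻¹ * (w * yy (bN n) * w⁻¹) * ρ := by group
      _ = _ := by rw [this]; group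
  have c2 : w⁻¹ * ρ * YW.gn .f3 * (w⁻¹ * ρ)⁻¹ = YW.gn .f2 := by
    rw [mul_inv_rev, ri, inv_inv, mul_assoc w⁻¹, mul_assoc w⁻¹, ← mul_assoc _ ρ, r2]
    exact (congrArg _ wf2.eq.symm).trans (inv_mul_cancel_left _ _)
  have c3 : w⁻¹ * ρ * YW.gn .e2 * (w⁻¹ * ρ)⁻¹ = w⁻¹ * YW.gn .e3 * w := by
    rw [mul_inv_rev, ri, inv_inv, mul_assoc w⁻¹, mul_assoc w⁻¹, ← mul_assoc _ ρ, r2, ← mul_assoc]; rfl
  have c4 : w⁻¹ * ρ * (w⁻¹ * ρ) ∈ DD := by
    rw [← mul_assoc, ← (c1 _ (inv_mem hw)).eq, mul_assoc, mul_assoc, r1, mul_one]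
    exact mul_mem (inv_mem wD) (inv_mem wD)
  have c5 : YW.gn .e3 = w * (w⁻¹ * ρ) * (yy .e2 * YW.gn .f3) * (w * (w⁻¹ * ρ)) := by
    rw [mul_inv_cancel_left, yy, mul_assoc (YW.gn .e2), gn_sq, mul_one, r2]; rfl
  have c6 : (sys_xB.hom (w⁻¹ * ρ)).s = false := by rw [map_mul, map_inv, o2]; exact r3
  generalize w⁻¹ * ρ = L at c1 c2 c3 c4 c5 c6
  have m := hom_MM L
  have d1 := fun n => congrArg sys_xB.hom (c1 _ (Subgroup.subset_closure ⟨n, rfl⟩)).eq
  have d2 := congrArg (fun g => (sys_xB.hom g).a) c2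
  have d3 := congrArg (fun g => (sys_xB.hom g).a) c3
  have d4 := DD_inj hB c4
  simp only [map_mul, map_inv, Sys.hom_gn, hom_yy (bN_ne _), o2] at d1 d2 d3 d4
  obtain ⟨p, q, e⟩ : ∃ p q, sys_xB.hom L = ⟨p, q, false⟩ := ⟨_, _, Wr.ext rfl rfl c6⟩
  rw [e] at m d1 d2 d3 d4
  change p * xB .f3 * q⁻¹ = xB .f2 at d2
  change p * xB .e2 * q⁻¹ = ω⁻¹ * xB .e3 * ω at d3
  rw [sys_xB.f3, mul_one, Y.xB_f2] at d2
  have t2 := tv_mul_self 1 c0
  have ti := inv_eq_of_mul_eq_one_right t2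
  have pq : (p = tv 1 c0 ∧ q = 1) ∨ (p = 1 ∧ q = tv 1 c0) := by
    rcases cen_t hB (p := p) m.1 fun n => congrArg Wr.a (d1 n) with a | a <;>
      rcases cen_t hB (p := q) m.2 fun n => congrArg Wr.b (d1 n) with b | b
    · exact absurd (by rw [← d2, a, b, mul_inv_cancel]) tt_ne_one
    · exact Or.inr ⟨a, b⟩
    · exact Or.inl ⟨a, b⟩
    · exact absurd (by rw [← d2, a, b, mul_inv_cancel]) tt_ne_one
  have L2 : L * L = 1 := d4 (by
    change p * p = 1
    rcases pq with a | a <;> rw [a.1]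
    exacts [t2, one_mul 1])
  have Li := inv_eq_of_mul_eq_one_right L2
  rw [Li] at c2 c3
  refine ⟨L, L2, c2, c1, ?_, ?_, pq.imp (fun a => by rw [e, a.1, a.2, Y.xB_f2])
    fun a => by rw [e, a.1, a.2, Y.xB_f2]⟩
  · obtain ⟨l, l1, l2, l3⟩ := uw
    have l0 : .e3 ∉ l := fun h => (l1 _ h).2.1 rfl
    have lD : vl yy l ∈ DD := mem_vl fun n hn => yy_mem (ne_of l0 n hn)
    have lh : sys_xB.hom (vl yy l) = ⟨xB .e3, xB .e3, false⟩ := by
      rw [vl_yy l0, pow_even (gn_sq _) l2, mul_one, ← Y.vl_map, ← l3]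
      simp only [Sys.hom_gn]
      obtain ⟨j, e⟩ := l2
      rw [sys_xB.vl_nd l0, e, Nat.bodd_add, Bool.xor_self]
    have lc : Commute (YW.gn .e3) (vl yy l * YW.gn .f3 * YW.gn .f3) := by
      rw [mul_assoc, gn_sq, mul_one, vl_yy l0, pow_even (gn_sq _) l2, mul_one]
      exact comm_vl fun n hn => gn_comm (by
        obtain ⟨a, b, c⟩ := l1 n hn
        cases n <;> first | rfl | contradiction)
    have e2D : w * yy .e2 * w⁻¹ ∈ DD := mul_mem (mul_mem wD (yy_mem (by decide))) (inv_mem wD)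
    have eh : (sys_xB.hom (w * yy .e2 * w⁻¹)).a = ω * xB .e2 * ω⁻¹ := by
      rw [map_mul, map_mul, map_inv, hom_yy (by decide), conj_a, o2]
    have ot := (mem_HH.1 hω).2
    have c7 : Commute (YW.gn .e3) (w * yy .e2 * w⁻¹ * YW.gn .f3) := by
      have c23 : Commute (YW.gn .e3) (YW.gn .f2) := gn_comm rfl
      rcases pq with ⟨rfl, rfl⟩ | ⟨rfl, rfl⟩
      · rw [DD_eq hB e2D (mul_mem f2 lD) (by
          rw [eh, map_mul, lh, hom_yy (by decide), Y.xB_f2]
          change _ = tv 1 c0 * xB .e3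
          rw [inv_one, mul_one] at d3
          calc _ = tv 1 c0 * (ω * tv 1 c0 * ω⁻¹) * (ω * xB .e2 * ω⁻¹) := by rw [ot, t2, one_mul]
            _ = tv 1 c0 * (ω * (tv 1 c0 * xB .e2) * ω⁻¹) := by group
            _ = _ := by rw [d3]; group), yy, mul_assoc (YW.gn .f2), ← (DD_f3 lD).eq, mul_assoc]
        exact c23.mul_right lc
      · rw [DD_eq hB e2D (mul_mem lD f2) (by
          rw [eh, map_mul, lh, hom_yy (by decide), Y.xB_f2]
          change _ = xB .e3 * tv 1 c0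
          rw [one_mul, ti] at d3
          calc _ = ω * xB .e2 * ω⁻¹ * ((ω * tv 1 c0 * ω⁻¹) * tv 1 c0) := by rw [ot, t2, mul_one]
            _ = ω * (xB .e2 * tv 1 c0) * ω⁻¹ * tv 1 c0 := by group
            _ = _ := by rw [d3]; group), yy, mul_assoc, mul_assoc, gn_sq, mul_one]
        rw [mul_assoc, gn_sq, mul_one] at lc
        exact lc.mul_right c23
    rw [mul_assoc, (DD_f3 (inv_mem wD)).eq, yy, ← mul_assoc, mul_assoc w, mul_assoc (YW.gn .e2), gn_sq,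
      mul_one] at c7
    rw [c3]
    calc YW.gn .e2 * (w⁻¹ * YW.gn .e3 * w) = w⁻¹ * (w * YW.gn .e2 * w⁻¹ * YW.gn .e3) * w := by group
      _ = _ := by rw [← c7.eq]; group
  · have a : w * L ∈ DD ⊔ Subgroup.zpowers (YW.gn .f3) ⊔ Subgroup.zpowers L :=
      mul_mem (Subgroup.mem_sup_left (Subgroup.mem_sup_left wD))
        (Subgroup.mem_sup_right (Subgroup.mem_zpowers _))
    rw [c5]
    exact mul_mem (mul_mem a (Subgroup.mem_sup_left (mul_mem (Subgroup.mem_sup_left (yy_mem (by decide)))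
      (Subgroup.mem_sup_right (Subgroup.mem_zpowers _))))) a

end Y1

/-- The element `(t, 1)`. -/
theorem exists_L (hB : IsB BabyMonster) : ∃ L : Bimonster, L * L = 1 ∧ L * YW.gn .f3 * L = YW.gn .f2 ∧
    (∀ g ∈ DD, g * yy .f2 * g⁻¹ = yy .f2 → g * L * g⁻¹ = L) ∧
    Commute (YW.gn .e2) (L * YW.gn .e2 * L) ∧
    YW.gn .e3 ∈ DD ⊔ Subgroup.zpowers (YW.gn .f3) ⊔ Subgroup.zpowers L ∧
    sys_xB.hom L = ⟨xB .f2, 1, false⟩ := by
  obtain ⟨L, h1, h2, h3, h4, h5, h6 | h6⟩ := exists_L0 hB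
  · exact ⟨L, h1, h2, fun g hg h => mul_inv_eq_iff_eq_mul.2 (h3 g (mem_HT hB hg h)), h4, h5, h6⟩
  have f := gn_sq .f3
  have fi := inv_eq_of_mul_eq_one_right f
  have k : ∀ x, YW.gn .f3 * L * (YW.gn .f3)⁻¹ * (YW.gn .f3 * x * (YW.gn .f3)⁻¹) * (YW.gn .f3 * L * (YW.gn .f3)⁻¹) =
      YW.gn .f3 * (L * x * L) * (YW.gn .f3)⁻¹ := fun x => by group
  have e2 : YW.gn .f3 * YW.gn .e2 * (YW.gn .f3)⁻¹ = YW.gn .e2 := mul_inv_eq_iff_eq_mul.2 (gn_comm rfl)
  refine ⟨YW.gn .f3 * L * (YW.gn .f3)⁻¹, by rw [conj_mul, h1, mul_one, mul_inv_cancel], ?_, fun g hg h =>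
    mul_inv_eq_iff_eq_mul.2 (((DD_f3 hg).mul_right (h3 g (mem_HT hB hg h))).mul_right
      (DD_f3 hg).inv_right), ?_, (sup_le le_sup_left (Subgroup.zpowers_le.2 ?_)) h5, ?_⟩
  · have := k (YW.gn .f3)
    rwa [mul_inv_cancel_right, h2, (gn_comm (n := .f3) (m := .f2) rfl).eq, mul_inv_cancel_right] at this
  · have := k (YW.gn .e2)
    rw [e2] at this
    rw [this]
    nth_rw 1 [← e2]
    exact h4.map (MulAut.conj (YW.gn .f3))
  · have a : YW.gn .f3 ∈ DD ⊔ Subgroup.zpowers (YW.gn .f3) ⊔ Subgroup.zpowers (YW.gn .f3 * L * (YW.gn .f3)⁻¹) :=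
      Subgroup.mem_sup_left (Subgroup.mem_sup_right (Subgroup.mem_zpowers _))
    simpa only [mul_assoc, inv_mul_cancel_left, inv_mul_cancel, mul_one] using
      mul_mem (mul_mem (inv_mem a) (Subgroup.mem_sup_right (Subgroup.mem_zpowers _))) a
  · rw [fi, map_mul, map_mul, h6, Sys.hom_gn, sys_xB.nd_eq (by decide), sys_xB.f3, mul_t, Bool.not_false,
      mul_t]
    simp

end H10.Mon.T
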