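import Mathlib
import Cfsg.Agent.H10.TY1
import Cfsg.Agent.H10.TA2

/-!
# The group presented on `Y555` gives the Monster
-/

set_option autoImplicit false
set_option linter.all false
set_option maxRecDepth 100000

namespace H10.Mon.T

open Cfsg H9 H29 Cfsg.Spor H10.YW
open H10.Mon.Y (xB bN sys_xB)

namespace Y2

open Y1

section
variable {G : Type*} [Group G] {a b c : G}

theorem br (ha : a * a = 1) (hb : b * b = 1) (h : (a * b) ^ 3 = 1) : a * b * a = b * a * b := by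
  rw [show (a * b) ^ 3 = a * b * a * (b * a * b) by rw [pow_three]; group, mul_eq_one_iff_eq_inv] at h
  rw [h, mul_inv_rev, mul_inv_rev, inv_eq_of_mul_eq_one_right ha, inv_eq_of_mul_eq_one_right hb,
    mul_assoc]

theorem cube (ha : a * a = 1) (hb : b * b = 1) (h : a * b * a = b * a * b) : (a * b) ^ 3 = 1 :=
  calc (a * b) ^ 3 = a * b * a * (b * a * b) := by rw [pow_three]; group
    _ = b * (a * (b * b) * a) * b := by rw [h]; group
    _ = 1 := by rw [hb, mul_one, ha, mul_one, hb]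

theorem mv (ha : a * a = 1) (hb : b * b = 1) (h : a * b * a = b * a * b) :
    a * b * a * (a * b)⁻¹ = b := by
  rw [h, mul_assoc b, mul_inv_cancel_right]

end

/-- The data of `exists_L`. -/
structure Dt (L : Bimonster) : Prop where
  hB : IsB BabyMonster
  sq : L * L = 1
  f : L * YW.gn .f3 * L = YW.gn .f2
  c : ∀ g ∈ DD, g * yy .f2 * g⁻¹ = yy .f2 → g * L * g⁻¹ = L
  e : Commute (YW.gn .e2) (L * YW.gn .e2 * L)
  m : YW.gn .e3 ∈ DD ⊔ Subgroup.zpowers (YW.gn .f3) ⊔ Subgroup.zpowers L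
  h : sys_xB.hom L = ⟨xB .f2, 1, false⟩

def P (L s l : Bimonster) : Prop := ∃ g ∈ DD, s = g * yy .f2 * g⁻¹ ∧ l = g * L * g⁻¹

/-- conjugation by `f3` -/
def fl (l : Bimonster) : Bimonster := YW.gn .f3 * l * (YW.gn .f3)⁻¹

def Gd (L s s' : Bimonster) : Prop := ∃ l l', P L s l ∧ P L s' l' ∧ Commute l (fl l')

theorem fl_fl (l : Bimonster) : fl (fl l) = l := by
  rw [fl, fl, ← mul_assoc, ← mul_assoc, gn_sq, one_mul, mul_assoc, ← mul_inv_rev, gn_sq, inv_one, mul_one]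

theorem fl_mul (a b : Bimonster) : fl (a * b) = fl a * fl b := conj_mul.symm

theorem fl_comm {a b : Bimonster} (h : Commute a b) : Commute (fl a) (fl b) :=
  h.map (MulAut.conj (YW.gn .f3))

theorem fl_cj {g : Bimonster} (hg : g ∈ DD) (l : Bimonster) : fl (g * l * g⁻¹) = g * fl l * g⁻¹ := by
  have k : ∀ g ∈ DD, fl g = g := fun g hg => by rw [fl, ← (DD_f3 hg).eq, mul_inv_cancel_right]
  rw [fl_mul, fl_mul, k g hg, k _ (inv_mem hg)]

theorem yy_sq {n : Nd} (h : n ≠ .e3) : yy n * yy n = 1 := sy3_yy.cox.sq h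

theorem yy_br {n m : Nd} (h : n ≠ .e3) (h' : m ≠ .e3) (e : lb n m = 3) :
    yy n * yy m * yy n = yy m * yy n * yy m := br (yy_sq h) (yy_sq h') (e ▸ sy3_yy.cox n m h h')

theorem yy_cm {n m : Nd} (h : n ≠ .e3) (h' : m ≠ .e3) (e : lb n m = 2) : Commute (yy n) (yy m) :=
  comm_of_sq (yy_sq h) (yy_sq h') (e ▸ sy3_yy.cox n m h h')

variable {L s s' t l l' g : Bimonster}

theorem P.cj (h : P L s l) (hg : g ∈ DD) : P L (g * s * g⁻¹) (g * l * g⁻¹) := by
  obtain ⟨k, hk, rfl, rfl⟩ := h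
  exact ⟨g * k, mul_mem hg hk, by group, by group⟩

theorem P.mem (h : P L s l) : s ∈ DD := by
  obtain ⟨k, hk, rfl, rfl⟩ := h
  exact mul_mem (mul_mem hk (yy_mem (by decide))) (inv_mem hk)

theorem Gd.cj (h : Gd L s s') (hg : g ∈ DD) : Gd L (g * s * g⁻¹) (g * s' * g⁻¹) := by
  obtain ⟨l, l', h1, h2, h3⟩ := h
  exact ⟨_, _, h1.cj hg, h2.cj hg, fl_cj hg l' ▸ h3.map (MulAut.conj g)⟩

theorem Gd.symm (h : Gd L s s') : Gd L s' s := by
  obtain ⟨l, l', h1, h2, h3⟩ := h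
  exact ⟨_, _, h2, h1, fl_fl l' ▸ (fl_comm h3).symm⟩

def NL : List Nd := [.a, .b1, .c1, .d1, .e1, .f1, .b2, .c2, .d2, .e2, .f2, .b3, .c3, .d3]

theorem NL_ne {n : Nd} (h : n ∈ NL) : n ≠ .e3 := by rintro rfl; revert h; decide

theorem mem_NL {n : Nd} (h : n ≠ .e3) (h' : n ≠ .f3) : n ∈ NL := by
  cases n <;> first | decide | contradiction

def ar : Nd → ℕ × ℕ
  | .a => (0, 0) | .b1 => (1, 1) | .c1 => (1, 2) | .d1 => (1, 3) | .e1 => (1, 4) | .f1 => (1, 5)
  | .b2 => (2, 1) | .c2 => (2, 2) | .d2 => (2, 3) | .e2 => (2, 4) | .f2 => (2, 5)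
  | .b3 => (3, 1) | .c3 => (3, 2) | .d3 => (3, 3) | .e3 => (3, 4) | .f3 => (3, 5)

def ds (n m : Nd) : ℕ :=
  if (ar n).1 = (ar m).1 then ((ar n).2 - (ar m).2) + ((ar m).2 - (ar n).2) else (ar n).2 + (ar m).2

theorem ds_ok : ∀ n ∈ NL, ∀ m ∈ NL, n = m ∨ lb n m = 3 ∨ lb n m = 2 ∧ ∃ k ∈ NL, lb k m = 3 ∧
    (lb n k = 3 ∨ lb n k = 2 ∧ ds n k < ds n m) := by decide +kernel

theorem step {n m k : Nd} (h : Gd L (yy n) (yy m)) (hn : n ≠ .e3 := by decide) (hm : m ≠ .e3 := by decide)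
    (hk : k ≠ .e3 := by decide) (e1 : lb n m = 3 := by rfl) (e2 : lb m k = 3 := by rfl)
    (e3 : lb n k = 2 := by rfl) : Gd L (yy m) (yy k) := by
  have := (h.cj (mul_mem (yy_mem hm) (yy_mem hk))).cj (yy_mem hn)
  have c := yy_cm hn hk e3
  rwa [mul_assoc (yy m) _ (yy n), ← c.eq, mul_inv_rev, ← mul_assoc (yy m), ← mul_assoc _ _ (yy m)⁻¹,
    mul_inv_cancel_right, ← mul_inv_rev, mv (yy_sq hm) (yy_sq hk) (yy_br hm hk e2), c.eq,
    mul_inv_cancel_right, ← mul_assoc, ← mul_assoc, mul_assoc _ (yy m)⁻¹, ← mul_inv_rev,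
    mv (yy_sq hn) (yy_sq hm) (yy_br hn hm e1)] at this

variable (d : Dt L)
include d

theorem P.uniq (h : P L s l) (h' : P L s l') : l = l' := by
  obtain ⟨g, hg, rfl, rfl⟩ := h
  obtain ⟨k, hk, e, rfl⟩ := h'
  have := d.c _ (mul_mem (inv_mem hk) hg) (by
    rw [mul_inv_rev, inv_inv, mul_assoc k⁻¹, mul_assoc k⁻¹, ← mul_assoc _ g⁻¹, e]; group)
  nth_rw 2 [← this]
  group

theorem P.sq (h : P L s l) : l * l = 1 := by
  obtain ⟨g, hg, rfl, rfl⟩ := h
  rw [conj_mul, d.sq, mul_one, mul_inv_cancel]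

theorem P.eq (h : P L s l) : s = l * fl l := by
  obtain ⟨g, hg, rfl, rfl⟩ := h
  rw [fl_cj hg, conj_mul, fl, ← mul_assoc L, ← mul_assoc L, d.f, inv_eq_of_mul_eq_one_right (gn_sq _), yy]

theorem P.hom (h : P L s l) : sys_xB.hom l = ⟨(sys_xB.hom s).a, 1, false⟩ := by
  obtain ⟨g, hg, rfl, rfl⟩ := h
  obtain ⟨a, e⟩ := DD_hom hg
  simp only [map_mul, map_inv, d.h, hom_yy (n := .f2) (by decide), e, inv_f, mul_f, mul_one,
    mul_inv_cancel]

theorem P.tri (h : P L s l) (h' : P L s' l') (c : Commute l (fl l')) :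
    P L (s' * s * s'⁻¹) (l' * l * l'⁻¹) := by
  have := h.cj h'.mem
  rwa [show s' * l * s'⁻¹ = l' * l * l'⁻¹ by
    rw [h'.eq d, mul_assoc l', ← c.eq]; group] at this

theorem Gd.rule (h1 : Gd L s t) (h2 : Gd L s' t) (h3 : Gd L s' s) : Gd L (s * s' * s⁻¹) t := by
  obtain ⟨l, r, a1, a2, a3⟩ := h1
  obtain ⟨l', r', b1, b2, b3⟩ := h2
  obtain ⟨_, _, c1, c2, c3⟩ := h3
  rw [b2.uniq d a2] at b3
  rw [c1.uniq d b1, c2.uniq d a1] at c3
  exact ⟨_, r, b1.tri d a1 c3, a2, (a3.mul_left b3).mul_left a3.inv_left⟩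

theorem P0 : P L (yy .f2) L := ⟨1, one_mem _, by simp, by simp⟩

theorem Gd.self (h : Gd L s s') : Gd L s s := by
  obtain ⟨_, -, ⟨g, hg, rfl, -⟩, -⟩ := h
  refine Gd.cj ⟨L, L, P0 d, P0 d, ?_⟩ hg
  have := mul_inv_eq_iff_eq_mul.1 (d.c _ (P0 d).mem (mul_inv_cancel_right _ _))
  rw [(P0 d).eq d, mul_assoc, mul_right_inj] at this
  exact this.symm

theorem base : Gd L (yy .e2) (yy .f2) := by
  have p := (P0 d).cj (mul_mem (yy_mem (n := .f2) (by decide)) (yy_mem (n := .e2) (by decide)))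
  rw [mv (yy_sq (by decide)) (yy_sq (by decide)) (yy_br (by decide) (by decide) rfl)] at p
  refine ⟨_, _, p, P0 d, ?_⟩
  have c1 : Commute (YW.gn .e2) (YW.gn .f3) := gn_comm rfl
  have c2 : Commute (YW.gn .f2) (YW.gn .f3) := gn_comm rfl
  have e1 : yy .f2 * yy .e2 = YW.gn .f2 * YW.gn .e2 := by
    rw [yy, yy, c1.symm.mul_mul_mul_comm, gn_sq, mul_one]
  have c3 := d.e
  have Li := inv_eq_of_mul_eq_one_right d.sq
  have c4 : Commute (YW.gn .f2) (L * YW.gn .e2 * L) := by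
    have := c1.symm.map (MulAut.conj L)
    rwa [MulAut.conj_apply, MulAut.conj_apply, Li, d.f] at this
  have f' : L * YW.gn .f2 * L = YW.gn .f3 := by
    rw [← d.f, ← mul_assoc, ← mul_assoc, d.sq, one_mul, mul_assoc, d.sq, mul_one]
  have e2 : fl L = L * YW.gn .f2 * YW.gn .f3 := by
    rw [← d.f, ← mul_assoc, ← mul_assoc, d.sq, one_mul, fl, inv_eq_of_mul_eq_one_right (gn_sq _)]
  rw [e1, e2, mul_inv_rev, inv_eq_of_mul_eq_one_right (gn_sq _), inv_eq_of_mul_eq_one_right (gn_sq _)]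
  have q2 := gn_sq .f2
  have q3 := gn_sq .f3
  have f := d.f
  generalize YW.gn .e2 = a at *
  generalize YW.gn .f2 = b at *
  generalize YW.gn .f3 = b' at *
  calc b * a * L * (a * b) * (L * b * b') = b * a * (L * a * L) * (L⁻¹ * b * L) * (b * b') := by group
    _ = b * a * (L * a * L) * b := by
      rw [Li, f', c2.eq, mul_assoc _ b', ← mul_assoc b', q3, one_mul]
    _ = b * (L * a * L) * (a * b) := by rw [mul_assoc b a, c3.eq]; group
    _ = L * b' * L⁻¹ * (L * a * L) * (a * b) := by rw [Li, f]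
    _ = L * (b * b * b') * (a * L * (a * b)) := by rw [q2]; group
    _ = _ := by rw [mul_assoc b, c2.eq]; group

theorem edges : ∀ n ∈ NL, ∀ m ∈ NL, lb n m = 3 → Gd L (yy n) (yy m) := by
  have a1 := (base d).symm
  have a2 : Gd L (yy .e2) (yy .d2) := step a1
  have a3 : Gd L (yy .d2) (yy .c2) := step a2
  have a4 : Gd L (yy .c2) (yy .b2) := step a3
  have a5 : Gd L (yy .b2) (yy .a) := step a4
  have a6 : Gd L (yy .a) (yy .b1) := step a5
  have a7 : Gd L (yy .b1) (yy .c1) := step a6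
  have a8 : Gd L (yy .c1) (yy .d1) := step a7
  have a9 : Gd L (yy .d1) (yy .e1) := step a8
  have a10 : Gd L (yy .e1) (yy .f1) := step a9
  have a11 : Gd L (yy .a) (yy .b3) := step a5
  have a12 : Gd L (yy .b3) (yy .c3) := step a11
  have a13 : Gd L (yy .c3) (yy .d3) := step a12
  have k : ∀ p ∈ [(Bimonster.Gen.f2, Bimonster.Gen.e2), (.e2, .d2), (.d2, .c2), (.c2, .b2), (.b2, .a),
      (.a, .b1), (.b1, .c1), (.c1, .d1), (.d1, .e1), (.e1, .f1), (.a, .b3), (.b3, .c3), (.c3, .d3)],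
      Gd L (yy p.1) (yy p.2) := by
    simp only [List.mem_cons, List.not_mem_nil, or_false, forall_eq_or_imp, forall_eq]
    exact ⟨a1, a2, a3, a4, a5, a6, a7, a8, a9, a10, a11, a12, a13⟩
  intro n hn m hm e
  exact Or.elim (by revert n m; decide +kernel) (k (n, m)) fun h => (k (m, n) h).symm

theorem two {n k m : Nd} (hn : n ≠ .e3) (hk : k ≠ .e3) (hm : m ≠ .e3) (e1 : lb n k = 3)
    (e2 : lb k m = 3) (e3 : lb n m = 2) (h : Gd L (yy n) (yy k)) : Gd L (yy m) (yy n) := by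
  have h1 := h.cj (yy_mem hn)
  have h2 := h1.cj (yy_mem hm)
  have h3 := h2.cj (yy_mem hk)
  have b1 := yy_br hn hk e1
  have b2 := yy_br hk hm e2
  have c := (yy_cm hn hm e3).eq
  have q1 := yy_sq hn
  have q2 := yy_sq hk
  have q3 := yy_sq hm
  generalize yy n = u at *
  generalize yy k = v at *
  generalize yy m = w at *
  have i1 := inv_eq_of_mul_eq_one_right q1
  have i2 := inv_eq_of_mul_eq_one_right q2
  have i3 := inv_eq_of_mul_eq_one_right q3
  have e4 : w * u * w⁻¹ = u := by rw [← c, mul_inv_cancel_right]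
  rw [mul_inv_cancel_right] at h1 h2 h3
  rw [e4] at h2 h3
  have e5 : v * u * v⁻¹ = u * v * u⁻¹ := by rw [i1, i2, b1]
  have e6 : v * (w * (u * v * u⁻¹) * w⁻¹) * v⁻¹ = w * (u * v * u⁻¹) * w⁻¹ :=
    calc _ = v * w * v * u * (v * w * v)⁻¹ := by rw [← e5]; group
      _ = w * (v * (w * u * w⁻¹) * v⁻¹) * w⁻¹ := by rw [b2]; group
      _ = _ := by rw [e4, e5]
  rw [e5, e6] at h3
  have := h2.symm.rule d h1.symm h3
  have e7 : w * (u * v * u⁻¹) * w⁻¹ = u * (v⁻¹ * w * v) * u⁻¹ :=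
    calc _ = w * u * w⁻¹ * (w * v * w⁻¹) * (w * u * w⁻¹)⁻¹ := by group
      _ = _ := by rw [e4, i2, i3, b2]
  rwa [e7, show u * (v⁻¹ * w * v) * u⁻¹ * (u * v * u⁻¹) * (u * (v⁻¹ * w * v) * u⁻¹)⁻¹ =
    u * (v⁻¹ * (w * v * w⁻¹) * v) * u⁻¹ by group, i3, ← b2, mul_assoc v, inv_mul_cancel_left, mul_assoc w, q2,
    mul_one, c, mul_inv_cancel_right] at this

theorem all {n m : Nd} (hn : n ∈ NL) (hm : m ∈ NL) : Gd L (yy n) (yy m) := by
  induction' e : ds n m using Nat.strong_induction_on with r ih generalizing m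
  rcases ds_ok n hn m hm with rfl | h | ⟨h, k, hk, h1, h2 | ⟨h2, h3⟩⟩
  · obtain ⟨k, hk, h⟩ : ∃ k ∈ NL, lb n k = 3 := by clear e ih hm; revert n; decide +kernel
    exact (edges d n hn k hk h).self d
  · exact edges d n hn m hm h
  · exact (two d (NL_ne hn) (NL_ne hk) (NL_ne hm) h2 h1 h (edges d n hn k hk h2)).symm
  · have := (ih _ (e ▸ h3) hk rfl).cj (mul_mem (yy_mem (NL_ne hk)) (yy_mem (NL_ne hm)))
    rwa [mv (yy_sq (NL_ne hk)) (yy_sq (NL_ne hm)) (yy_br (NL_ne hk) (NL_ne hm) h1),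
      ← ((yy_cm (NL_ne hn) (NL_ne hk) h2).mul_right (yy_cm (NL_ne hn) (NL_ne hm) h)).eq,
      mul_inv_cancel_right] at this

theorem exists_F : ∃ F : Nd → Bimonster, Cx F ∧ F .f3 = 1 ∧ F .f2 = L ∧
    (∀ n m, Commute (F n) (fl (F m))) ∧ ∀ n, n ≠ .e3 → yy n = F n * fl (F n) ∧
      sys_xB.hom (F n) = ⟨xB n, 1, false⟩ := by
  have : ∀ n, ∃ l, (n ∈ NL → P L (yy n) l) ∧ (n ∉ NL → l = 1) := fun n => by
    by_cases h : n ∈ NL
    · obtain ⟨l, -, p, -⟩ := all d h h
      exact ⟨l, fun _ => p, fun k => absurd h k⟩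
    · exact ⟨1, fun k => absurd k h, fun _ => rfl⟩
  choose F h1 h2 using this
  have f3 : F .f3 = 1 := h2 _ (by decide)
  have c : ∀ n m, Commute (F n) (fl (F m)) := fun n m => by
    by_cases hn : n ∈ NL
    · by_cases hm : m ∈ NL
      · obtain ⟨_, _, a1, a2, a3⟩ := all d hn hm
        rwa [a1.uniq d (h1 n hn), a2.uniq d (h1 m hm)] at a3
      · rw [h2 m hm, fl, mul_one, mul_inv_cancel]; exact Commute.one_right _
    · rw [h2 n hn]; exact Commute.one_left _
  have q : ∀ n, F n * F n = 1 := fun n => by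
    by_cases hn : n ∈ NL
    exacts [(h1 n hn).sq d, by rw [h2 n hn, mul_one]]
  refine ⟨F, fun n m a b => ?_, f3, (h1 _ (by decide)).uniq d (P0 d), c, fun n a => ?_⟩
  · by_cases e : n = m
    · rw [e, q, one_pow]
    by_cases e1 : n = .f3
    · rw [e1, f3, one_mul, show lb .f3 m = 2 by subst e1; cases m <;> first | rfl | contradiction, pow_two, q]
    by_cases e2 : m = .f3
    · rw [e2, f3, mul_one, show lb n .f3 = 2 by cases n <;> first | rfl | contradiction, pow_two, q]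
    have hn := mem_NL a e1
    have hm := mem_NL b e2
    have t := (h1 n hn).tri d (h1 m hm) (c n m)
    rcases (ds_ok n hn m hm).resolve_left e with h | ⟨h, -⟩ <;> rw [h]
    · have t' := (h1 m hm).tri d (h1 n hn) (c m n)
      rw [inv_eq_of_mul_eq_one_right (yy_sq b), inv_eq_of_mul_eq_one_right (q _), ← yy_br a b h] at t
      rw [inv_eq_of_mul_eq_one_right (yy_sq a), inv_eq_of_mul_eq_one_right (q _)] at t'
      exact cube (q n) (q m) (t'.uniq d t)
    · rw [← (yy_cm a b h).eq, mul_inv_cancel_right] at t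
      rw [(Commute.symm (mul_inv_eq_iff_eq_mul.1 (t.uniq d (h1 n hn)))).mul_pow, pow_two, pow_two, q, q, mul_one]
  · by_cases e : n = .f3
    · rw [e, f3, sys_xB.f3, map_one, fl, mul_one, mul_inv_cancel, mul_one]
      exact ⟨gn_sq _, rfl⟩
    · have := h1 n (mem_NL a e)
      exact ⟨this.eq d, by rw [this.hom d, hom_yy a]⟩

theorem inj {g : Bimonster} (h1 : Commute g (YW.gn .a)) (h2 : g ∈ commutator Bimonster)
    (h3 : (sys_xB.hom g).a = 1) : g = 1 := by
  obtain ⟨F, a1, a2, a3, a4, a5⟩ := exists_F d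
  have v1 : ∀ l, vl (fun n => fl (F n)) l = fl (vl F l) := Y.vl_map (MulAut.conj (YW.gn .f3)).toMonoidHom F
  have v0 : ∀ n l, Commute (F n) (fl (vl F l)) := fun n l => v1 l ▸ comm_vl fun m _ => a4 n m
  have v2 : ∀ {l : List Nd}, .e3 ∉ l → vl yy l = vl F l * fl (vl F l) ∧
      sys_xB.hom (vl F l) = ⟨vl xB l, 1, false⟩ := fun {l} hl => by
    induction l with
    | nil => exact ⟨by rw [vl_nil, vl_nil, fl, mul_one, mul_inv_cancel, mul_one], map_one _⟩
    | cons n l ih =>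
      rw [List.mem_cons, not_or] at hl
      rw [vl_cons, vl_cons, vl_cons, map_mul, (ih hl.2).1, (ih hl.2).2, (a5 n (Ne.symm hl.1)).1,
        (a5 n (Ne.symm hl.1)).2, mul_f, mul_one, fl_mul,
        (comm_vl fun m _ => (a4 m n).symm).mul_mul_mul_comm]
      exact ⟨rfl, rfl⟩
  have v3 : ∀ {l : List Nd}, .e3 ∉ l → vl yy l = 1 → Cen F (vl F l) := fun {l} hl e n _ => by
    rw [(v2 hl).1, mul_eq_one_iff_eq_inv] at e
    exact e ▸ (v0 n l).symm.inv_left
  have v4 : ∀ {l : List Nd} {n : Nd}, .e3 ∉ l ++ [n] → vl yy l = yy n → Cen F (vl F l * F n) :=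
    fun {l n} hl e => by
      have := v3 hl (by rw [vl_append, e, vl_cons, vl_nil, mul_one]; exact yy_sq (ne_of hl n (by simp)))
      rwa [vl_append, vl_cons, vl_nil, mul_one] at this
  have c31 := v3 (by decide) sy3_yy.e31
  have S := kill a1 a2 (vl_rep F SP 10 ▸ v3 (by decide) ((vl_rep _ _ _).trans sy3_yy.sp))
    (v4 (by decide) sy3_yy.e12) (v4 (by decide) sy3_yy.e13) (v4 (by decide) sy3_yy.e21)
    (v4 (by decide) sy3_yy.e23) c31
  obtain ⟨k1, k2⟩ := v2 (l := RE .b3 .c3 .d3 .b1 .c1) (by decide)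
  have k0 := fun n => v0 n (RE .b3 .c3 .d3 .b1 .c1)
  rw [sy3_yy.e31] at k1
  rw [sys_xB.e31, sys_xB.f3] at k2
  generalize vl F (RE .b3 .c3 .d3 .b1 .c1) = k at c31 S k0 k1 k2
  have kk : k * k = 1 := by
    have := S.cox.sq (n := .a) (by decide)
    rwa [if_neg (by decide), (c31 _ (by decide)).mul_mul_mul_comm, a1.sq (by decide), one_mul] at this
  have kf : fl k = k := mul_left_cancel (k1.symm.trans kk.symm)
  set y : Nd → Bimonster := fun n => if n = .f3 then 1 else F n * k with hy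
  have yh : ∀ n, n ≠ .e3 → sys_xB.hom (y n) = ⟨xB n, 1, false⟩ := fun n hn => by
    simp only [hy]
    split_ifs with e
    · rw [e, sys_xB.f3, map_one]; rfl
    · rw [map_mul, (a5 n hn).2, k2, mul_f, mul_one, mul_one]
  set M := Subgroup.closure {g | ∃ n, n ≠ .e3 ∧ g = y n} with hM
  have ym : ∀ n, n ≠ .e3 → y n ∈ M := fun n hn => Subgroup.subset_closure ⟨n, hn, rfl⟩
  have gen : ∀ S : Subgroup Bimonster, (∀ n, n ≠ .e3 → y n ∈ S) → k ∈ S → YW.gn .f3 ∈ S → ∀ g, g ∈ S :=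
    fun S s1 s2 s3 => by
      have b1 : ∀ n, n ≠ .e3 → F n ∈ S := fun n hn => by
        have := s1 n hn
        simp only [hy] at this
        split_ifs at this with e
        exacts [e ▸ a2 ▸ this, (S.mul_mem_cancel_right s2).1 this]
      have b2 : ∀ n, n ≠ .e3 → yy n ∈ S := fun n hn => (a5 n hn).1 ▸
        mul_mem (b1 n hn) (mul_mem (mul_mem s3 (b1 n hn)) (inv_mem s3))
      refine PresentedGroup.generated_by _ S fun n => ?_
      by_cases e : n = .e3
      · exact e ▸ (sup_le (sup_le ((Subgroup.closure_le S).2 (by rintro _ ⟨n, hn, rfl⟩; exact b2 n hn))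
          (Subgroup.zpowers_le.2 s3)) (Subgroup.zpowers_le.2 (a3 ▸ b1 _ (by decide)))) d.m
      · exact (S.mul_mem_cancel_right s3).1 (b2 n e)
  have cen : ∀ {G : Type} [Group G] (π : Bimonster →* G) (z : G), (∀ n, n ≠ .e3 → Commute (π (y n)) z) →
      Commute (π k) z → Commute (π (YW.gn .f3)) z → ∀ g, Commute (π g) z := fun π z s1 s2 s3 g =>
    Subgroup.mem_centralizer_singleton_iff.1 (gen ((Subgroup.centralizer {z}).comap π)
      (fun n hn => Subgroup.mem_centralizer_singleton_iff.2 (s1 n hn))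
      (Subgroup.mem_centralizer_singleton_iff.2 s2) (Subgroup.mem_centralizer_singleton_iff.2 s3) g)
  have kc : ∀ g, Commute g k := cen (MonoidHom.id _) k (fun n hn => by
    simp only [hy]
    split_ifs
    exacts [Commute.one_left _, (c31 n hn).symm.mul_left (Commute.refl k)]) (Commute.refl k)
    (mul_inv_eq_iff_eq_mul.1 kf)
  have cl : ∀ {z g}, (∀ n, n ≠ .e3 → Commute (y n) z) → g ∈ M → Commute g z := fun {z g} h hg =>
    Subgroup.mem_centralizer_singleton_iff.1 ((Subgroup.closure_le (Subgroup.centralizer {z})).2 (by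
      rintro _ ⟨n, hn, rfl⟩; exact Subgroup.mem_centralizer_singleton_iff.2 (h n hn)) hg)
  have mm : ∀ a ∈ M, ∀ b ∈ M, Commute a (fl b) := fun a ha b hb => cl (fun n hn => by
    have := fl_comm (cl (z := fl (y n)) (fun m hm => by
      simp only [hy]
      split_ifs
      · exact Commute.one_left _
      · exact Commute.one_left _
      · rw [fl, mul_one, mul_inv_cancel]; exact Commute.one_right _
      · rw [fl_mul, kf]
        exact ((a4 m n).mul_left (kc _).symm).mul_right (kc _)) hb)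
    rw [fl_fl] at this
    exact this.symm) ha
  let N : Subgroup Bimonster :=
    { carrier := {g | ∃ a ∈ M, ∃ b ∈ M, g = a * fl b}
      one_mem' := ⟨1, one_mem _, 1, one_mem _, by simp [fl]⟩
      mul_mem' := by
        rintro _ _ ⟨a, ha, b, hb, rfl⟩ ⟨a', ha', b', hb', rfl⟩
        exact ⟨_, mul_mem ha ha', _, mul_mem hb hb', by
          rw [fl_mul, (mm a' ha' b hb).symm.mul_mul_mul_comm]⟩
      inv_mem' := by
        rintro _ ⟨a, ha, b, hb, rfl⟩
        exact ⟨_, inv_mem ha, _, inv_mem hb, by rw [(mm a ha b hb).eq]; simp [fl, mul_assoc]⟩ }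
  have yN : ∀ n, n ≠ .e3 → y n ∈ N := fun n hn => ⟨_, ym n hn, 1, one_mem _, by simp [fl]⟩
  have fN : ∀ g ∈ N, fl g ∈ N := by
    rintro _ ⟨a, ha, b, hb, rfl⟩
    exact ⟨b, hb, a, ha, by rw [fl_mul, fl_fl, (mm b hb a ha).eq]⟩
  haveI : N.Normal := Subgroup.normalizer_eq_top_iff.1 (eq_top_iff.2 fun g _ => gen _
    (fun n hn => Subgroup.le_normalizer (yN n hn))
    (Subgroup.mem_normalizer_iff.2 fun h => by rw [← (kc h).eq, mul_inv_cancel_right])
    (Subgroup.mem_normalizer_iff.2 fun h => ⟨fN h, fun e => fl_fl h ▸ fN _ e⟩) g)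
  have y1 : ∀ n, n ≠ .e3 → ∀ z, Commute (QuotientGroup.mk' N (y n)) z := fun n hn z => by
    rw [QuotientGroup.mk'_apply, (QuotientGroup.eq_one_iff _).2 (yN n hn)]; exact Commute.one_left z
  have : commutator Bimonster ≤ N := Subgroup.commutator_le.2 fun a _ b _ => by
    rw [← QuotientGroup.eq_one_iff, ← QuotientGroup.mk'_apply, map_commutatorElement,
      commutatorElement_eq_one_iff_commute]
    exact cen _ _ (fun n hn => y1 n hn _) ((kc b).symm.map _)
      (cen _ _ (fun n hn => y1 n hn _) ((kc _).symm.map _) (Commute.refl _) b).symm a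
  obtain ⟨a, ha, b, hb, rfl⟩ := this h2
  have hh : ∀ a ∈ M, ∃ x, sys_xB.hom a = ⟨x, 1, false⟩ := fun a ha => by
    induction ha using Subgroup.closure_induction with
    | mem g h => obtain ⟨n, hn, rfl⟩ := h; exact ⟨_, yh n hn⟩
    | one => exact ⟨1, map_one _⟩
    | mul _ _ _ _ h1 h2 =>
      obtain ⟨a, h1⟩ := h1
      obtain ⟨b, h2⟩ := h2
      exact ⟨a * b, by rw [map_mul, h1, h2, mul_f, mul_one]⟩
    | inv _ _ h => obtain ⟨a, h⟩ := h; exact ⟨a⁻¹, by rw [map_inv, h, inv_f, inv_one]⟩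
  obtain ⟨p, hp⟩ := hh a ha
  obtain ⟨q, hq⟩ := hh b hb
  have e : sys_xB.hom (a * fl b) = ⟨p, q, false⟩ := by
    rw [fl, map_mul, map_mul, map_mul, map_inv, hp, hq, Sys.hom_gn, sys_xB.nd_eq (by decide), sys_xB.f3]
    simp [mul_t, mul_f, inv_t]
  have e2 := congrArg (fun g => (sys_xB.hom g).a) h1.eq
  simp only [map_mul _ (a * fl b), map_mul _ _ (a * fl b), e, Sys.hom_gn, nd, mul_t, mul_f] at e2 h3
  have i := fun g hg => inj_cl d.hB S (fun n hn => ⟨1, yh n hn⟩) (g := g) hg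
  rw [i a ha (by rw [hp]; exact h3), i b hb (by
    rw [hq]
    change q = 1
    rw [show p = 1 from h3, one_mul, left_eq_mul] at e2
    exact e2), fl, mul_one, mul_inv_cancel, mul_one]

end Y2

theorem isM (hB : IsB BabyMonster) : IsM Monster := by
  obtain ⟨L, h1, h2, h3, h4, h5, h6⟩ := exists_L hB
  let j : Monster →* MM tau := (sys_xB.fst.comp (Subgroup.inclusion inf_le_right)).codRestrict _
    fun g => (Y1.hom_MM g).1
  have hj : Function.Injective j := (injective_iff_map_eq_one j).2 fun g e => Subtype.ext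
    (Y2.inj ⟨hB, h1, h2, h3, h4, h5, h6⟩ (Subgroup.mem_centralizer_singleton_iff.1 g.2.1) g.2.2
      (congrArg Subtype.val e))
  haveI := Finite.of_injective j hj
  obtain ⟨f, hf⟩ := Y.monster_onto
  have c := le_antisymm (Nat.card_le_card_of_injective j hj) (Nat.card_le_card_of_surjective f hf)
  have := simple_MM tri_tau
  exact ⟨(MulEquiv.ofBijective f ((Nat.bijective_iff_surjective_and_card f).2 ⟨hf, c⟩)).isSimpleGroup,
    c.trans card_M⟩

end H10.Mon.T
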