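import Mathlib
import Cfsg.Agent.H10.Poisson

/-! The theta series of an even unimodular lattice of rank 24 is a modular form of weight 12. -/

namespace H10.Th

open Matrix Complex Finset ModularForm MatrixGroups
open UpperHalfPlane hiding I I_re I_im continuous_im
open scoped Real

/-- even unimodular positive definite Gram matrices of rank 24. -/
structure EU (B : Matrix (Fin 24) (Fin 24) ℤ) : Prop where
  symm : B.IsSymm
  pos : ∀ x : Fin 24 → ℤ, x ≠ 0 → 0 < x ⬝ᵥ (B *ᵥ x)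
  even : ∀ x : Fin 24 → ℤ, (2 : ℤ) ∣ x ⬝ᵥ (B *ᵥ x)
  det : B.det = 1

/-- integer matrix as a rational one. -/
def qm {n : ℕ} (B : Matrix (Fin n) (Fin n) ℤ) : Matrix (Fin n) (Fin n) ℚ := B.map (Int.castRingHom ℚ)

theorem qf_qm {n : ℕ} (B : Matrix (Fin n) (Fin n) ℤ) (x : Fin n → ℤ) :
    zc x ⬝ᵥ cm (qm B) *ᵥ zc x = ((x ⬝ᵥ B *ᵥ x : ℤ) : ℂ) := by
  simp [dotProduct, mulVec, zc, cm, qm]

/-- the theta function in the variable `t = -i τ`. -/
noncomputable def th (B : Matrix (Fin 24) (Fin 24) ℤ) (t : ℂ) : ℂ :=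
  ∑' x : Fin 24 → ℤ, cexp (-π * t * ((x ⬝ᵥ B *ᵥ x : ℤ) : ℂ))

namespace EU

variable {B : Matrix (Fin 24) (Fin 24) ℤ} (h : EU B)
include h

theorem nonneg (x : Fin 24 → ℤ) : 0 ≤ x ⬝ᵥ B *ᵥ x := by
  by_cases hx : x = 0
  · simp [hx]
  · exact (h.pos x hx).le

theorem pd : PD (qm B) := by
  refine ⟨fun i j => by simp only [qm, map_apply]; rw [← h.symm.apply i j], fun x hx => ?_⟩
  obtain ⟨⟨d, hd⟩, hy⟩ := IsLocalization.exist_integer_multiples_of_finite
    (M := nonZeroDivisors ℤ) (S := ℚ) x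
  choose y hy using hy
  have hd0 : (d : ℚ) ≠ 0 := by exact_mod_cast nonZeroDivisors.ne_zero hd
  have hy' : ∀ i, (y i : ℚ) = d * x i := fun i => by simpa using hy i
  have h1 := h.pos y (fun h0 => hx (funext fun i => by
    have := hy' i
    rw [h0] at this
    simpa [hd0] using this))
  have h2 : ((y ⬝ᵥ B *ᵥ y : ℤ) : ℚ) = d ^ 2 * (x ⬝ᵥ qm B *ᵥ x) := by
    simp only [dotProduct, mulVec, qm, map_apply, Int.cast_sum, Int.cast_mul, hy', Finset.mul_sum,
      eq_intCast]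
    exact Finset.sum_congr rfl fun i _ => Finset.sum_congr rfl fun j _ => by ring
  have h3 : (0 : ℚ) < d ^ 2 * (x ⬝ᵥ qm B *ᵥ x) := by rw [← h2]; exact_mod_cast h1
  exact (mul_pos_iff_of_pos_left (by positivity)).1 h3

theorem summable {t : ℂ} (ht : 0 < t.re) :
    Summable fun x : Fin 24 → ℤ => ‖cexp (-π * t * ((x ⬝ᵥ B *ᵥ x : ℤ) : ℂ))‖ := by
  simpa [qf_qm] using summable_lin h.pd ht 0

theorem th_one_ne : th B 1 ≠ 0 := by
  have hs := h.summable (t := 1) (by simp)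
  have e : ∀ x : Fin 24 → ℤ, cexp (-π * 1 * ((x ⬝ᵥ B *ᵥ x : ℤ) : ℂ)) =
      (‖cexp (-π * 1 * ((x ⬝ᵥ B *ᵥ x : ℤ) : ℂ))‖ : ℝ) := by
    intro x
    rw [norm_exp, ofReal_exp]
    simp
  rw [th, tsum_congr e, ← ofReal_tsum, ofReal_ne_zero]
  exact (hs.tsum_pos (fun _ => norm_nonneg _) 0 (norm_pos_iff.2 (exp_ne_zero _))).ne'

theorem th_inv {t : ℂ} (ht : 0 < t.re) : th B t⁻¹ = t ^ 12 * th B t := by
  obtain ⟨C, hC⟩ : ∃ C, B * C = 1 :=
    ((isUnit_iff_isUnit_det B).2 (by rw [h.det]; exact isUnit_one)).exists_right_inv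
  have hC' : C * B = 1 := mul_eq_one_comm.1 hC
  obtain ⟨κ, hκ⟩ := poisson 24 (qm B) (qm C) h.pd (by
    rw [qm, qm, ← Matrix.map_mul, hC, Matrix.map_one _ (map_zero _) (map_one _)])
  let e : (Fin 24 → ℤ) ≃ (Fin 24 → ℤ) :=
    ⟨fun x => B *ᵥ x, fun y => C *ᵥ y, fun x => by simp [hC'], fun x => by simp [hC]⟩
  have key : ∀ t : ℂ, 0 < t.re → th B t = κ / t ^ 12 * th B t⁻¹ := by
    intro t ht
    have := hκ t ht 0
    simp only [qf_qm, zero_dotProduct, mul_zero, add_zero, smul_zero] at this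
    rw [th, this, ← e.tsum_eq, th]
    congr 1
    · rw [show 24 = 2 * 12 from rfl, pow_mul, one_div, show (2 : ℂ) = ((2 : ℕ) : ℂ) from rfl,
        cpow_nat_inv_pow _ two_ne_zero]
    · refine tsum_congr fun x => ?_
      change cexp (_ * ((B *ᵥ x) ⬝ᵥ C *ᵥ (B *ᵥ x) : ℤ)) = _
      rw [mulVec_mulVec, hC', one_mulVec, dotProduct_comm, div_eq_mul_inv]
  have h1 := key 1 (by simp)
  rw [inv_one, one_pow, div_one] at h1
  have h2 : κ = 1 := by
    have := h.th_one_ne
    apply mul_right_cancel₀ this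
    rw [← h1, one_mul]
  have ht0 : t ≠ 0 := fun h0 => by simp [h0] at ht
  rw [key t ht, h2]
  field_simp

theorem th_T (t : ℂ) : th B (t - I) = th B t := by
  refine tsum_congr fun x => ?_
  obtain ⟨k, hk⟩ := h.even x
  rw [hk, ← mul_one (cexp (-π * t * _)), ← exp_int_mul_two_pi_mul_I k, ← exp_add]
  congr 1
  push_cast
  ring

theorem diff : DifferentiableOn ℂ (fun z => th B (-I * z)) {z | 0 < z.im} := by
  intro z hz
  have hz' : 0 < z.im := hz
  have := differentiableOn_tsum_of_summable_norm (U := {w : ℂ | z.im / 2 < w.im})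
    (F := fun (x : Fin 24 → ℤ) w => cexp (-π * (-I * w) * ((x ⬝ᵥ B *ᵥ x : ℤ) : ℂ)))
    (h.summable (t := ((z.im / 2 : ℝ) : ℂ)) (by rw [ofReal_re]; linarith))
    (fun x => by fun_prop) (isOpen_lt continuous_const continuous_im) (fun x w hw => by
      rw [norm_exp, norm_exp, Real.exp_le_exp]
      have h1 : (0 : ℝ) ≤ (x ⬝ᵥ B *ᵥ x : ℤ) := by exact_mod_cast h.nonneg x
      have hw' : z.im / 2 < w.im := hw
      generalize (x ⬝ᵥ B *ᵥ x : ℤ) = Q at h1
      simp only [mul_re, neg_re, ofReal_re, neg_im, ofReal_im, I_re, I_im, mul_im, intCast_re,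
        intCast_im]
      have := mul_nonneg (mul_nonneg Real.pi_pos.le (sub_pos.2 hw').le) h1
      nlinarith)
  exact (this.differentiableAt ((isOpen_lt continuous_const continuous_im).mem_nhds
    (by change z.im / 2 < z.im; linarith))).differentiableWithinAt

theorem finite (m : ℤ) : {x : Fin 24 → ℤ | x ⬝ᵥ B *ᵥ x = m}.Finite := by
  have h1 := (h.summable (t := 1) (by simp)).tendsto_cofinite_zero
  have h2 := h1.eventually_lt_const (u := ‖cexp (-π * 1 * (m : ℂ))‖)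
    (norm_pos_iff.2 (exp_ne_zero _))
  refine (Filter.eventually_cofinite.1 h2).subset fun x hx => ?_
  have hx' : x ⬝ᵥ B *ᵥ x = m := hx
  simp only [Set.mem_ofPred_eq, hx', lt_self_iff_false, not_false_eq_true]

theorem hasSum (τ : ℍ) : HasSum (fun m : ℕ =>
    (({x : Fin 24 → ℤ | x ⬝ᵥ B *ᵥ x = 2 * m}.ncard : ℕ) : ℂ) • Function.Periodic.qParam 1 τ ^ m)
    (th B (-I * τ)) := by
  let φ : (Fin 24 → ℤ) → ℕ := fun x => (x ⬝ᵥ B *ᵥ x / 2).toNat
  have hφ : ∀ x m, φ x = m ↔ x ⬝ᵥ B *ᵥ x = 2 * (m : ℤ) := by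
    intro x m
    have h1 := h.nonneg x
    have h2 := h.even x
    simp only [φ]
    omega
  have hs := (h.summable (t := -I * τ) (by simpa using τ.im_pos)).of_norm.hasSum
  rw [← (Equiv.sigmaFiberEquiv φ).hasSum_iff] at hs
  refine hs.sigma fun m => ?_
  have : Finite {x // φ x = m} := by
    have := h.finite (2 * m)
    simp only [hφ]
    exact this
  have := Fintype.ofFinite {x // φ x = m}
  have e : ∀ x : {x // φ x = m}, cexp (-π * (-I * τ) * ((x.1 ⬝ᵥ B *ᵥ x.1 : ℤ) : ℂ)) =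
      Function.Periodic.qParam 1 τ ^ m := by
    intro x
    rw [(hφ _ _).1 x.2, Function.Periodic.qParam, ← exp_nat_mul]
    congr 1
    push_cast
    ring
  convert hasSum_fintype _ using 1
  simp only [Function.comp, Equiv.sigmaFiberEquiv_apply, e, Finset.sum_const, card_univ,
    nsmul_eq_mul, smul_eq_mul]
  congr 2
  rw [← Nat.card_eq_fintype_card, ← Nat.card_coe_set_eq]
  exact Nat.card_congr (Equiv.subtypeEquivRight fun x => (hφ x m).symm)

theorem slash_S : (fun τ : ℍ => th B (-I * τ)) ∣[(12 : ℤ)] ModularGroup.S =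
    fun τ : ℍ => th B (-I * τ) := by
  funext z
  have h1 := h.th_inv (t := -I * z) (by simpa using z.im_pos)
  have h2 : -I * (-(z : ℂ))⁻¹ = (-I * z)⁻¹ := by
    rw [mul_inv, inv_neg, inv_neg, inv_I]; ring
  have h3 : (-I * z) ^ 12 = (z : ℂ) ^ 12 := by
    rw [mul_pow, show 12 = 4 * 3 from rfl, pow_mul, neg_pow, I_pow_four]; norm_num
  rw [SL_slash_apply, modular_S_smul, coe_mk, h2, h1, h3]
  have h4 : denom (ModularGroup.S : SL(2, ℤ)) z = z := ModularGroup.denom_S z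
  rw [h4]
  have := z.ne_zero
  rw [_root_.zpow_neg]
  field_simp

theorem slash_T : (fun τ : ℍ => th B (-I * τ)) ∣[(12 : ℤ)] ModularGroup.T =
    fun τ : ℍ => th B (-I * τ) := by
  funext z
  rw [SL_slash_apply, modular_T_smul, ← h.th_T (-I * z)]
  have h4 : denom (ModularGroup.T : SL(2, ℤ)) z = 1 := by
    rw [ModularGroup.denom_apply]; simp [ModularGroup.coe_T]
  rw [h4, _root_.one_zpow, mul_one, coe_vadd]
  congr 1
  push_cast
  ring

/-- the theta series as a modular form. -/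
noncomputable def mf : ModularForm 𝒮ℒ 12 where
  toFun τ := th B (-I * τ)
  slash_action_eq' A hA := by
    obtain ⟨A, rfl⟩ := hA
    exact SlashInvariantForm.slash_action_generators_SL2Z h.slash_S h.slash_T A
  holo' := by
    rw [UpperHalfPlane.mdifferentiable_iff]
    exact h.diff.congr fun z hz => by simp [ofComplex_apply_of_im_pos hz]
  bdd_at_cusps' hc := by
    rw [Subgroup.IsArithmetic.isCusp_iff_isCusp_SL2Z] at hc
    rw [OnePoint.isBoundedAt_iff_forall_SL2Z hc]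
    intro γ _
    rw [SlashInvariantForm.slash_action_generators_SL2Z h.slash_S h.slash_T]
    exact isBoundedAtImInfty_of_hasSum_qExpansion one_pos h.hasSum

theorem coeff (m : ℕ) : (qExpansion 1 h.mf).coeff m =
    (({x : Fin 24 → ℤ | x ⬝ᵥ B *ᵥ x = 2 * m}.ncard : ℕ) : ℂ) :=
  (ModularFormClass.qExpansion_coeff_unique one_pos one_mem_strictPeriods_SL (f := h.mf)
    h.hasSum m).symm

end EU

/-- the weight 12 form with expansion `1 + 0 q + …`. -/
noncomputable def leechForm : ModularForm 𝒮ℒ 12 :=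
  (7 / 12 : ℂ) • ModularForm.mcast (by decide) (E₄.pow 3) +
    (5 / 12 : ℂ) • ModularForm.mcast (by decide) (E₆.pow 2)

theorem leechForm_q : qExpansion 1 leechForm =
    (7 / 12 : ℂ) • (qExpansion 1 E₄ * qExpansion 1 E₄ * qExpansion 1 E₄) +
      (5 / 12 : ℂ) • (qExpansion 1 E₆ * qExpansion 1 E₆) := by
  rw [leechForm, FunLike.coe_add, ModularForm.qExpansion_add one_pos one_mem_strictPeriods_SL,
    FunLike.coe_smul, FunLike.coe_smul,
    ModularForm.qExpansion_smul one_pos one_mem_strictPeriods_SL,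
    ModularForm.qExpansion_smul one_pos one_mem_strictPeriods_SL]
  simp only [coe_mcast, ModularForm.qExpansion_pow one_pos one_mem_strictPeriods_SL]
  ring

theorem E4_coeff (m : ℕ) : (qExpansion 1 E₄).coeff m =
    if m = 0 then 1 else 240 * (ArithmeticFunction.sigma 3 m : ℂ) := by
  rw [EisensteinSeries.E_qExpansion_coeff _ ⟨2, rfl⟩, show bernoulli 4 = -1 / 30 by decide +kernel]
  norm_num

theorem E6_coeff (m : ℕ) : (qExpansion 1 E₆).coeff m =
    if m = 0 then 1 else -504 * (ArithmeticFunction.sigma 5 m : ℂ) := by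
  rw [EisensteinSeries.E_qExpansion_coeff _ ⟨3, rfl⟩, show bernoulli 6 = 1 / 42 by decide +kernel]
  norm_num

theorem leechForm_coeff : (qExpansion 1 leechForm).coeff 0 = 1 ∧
    (qExpansion 1 leechForm).coeff 1 = 0 ∧ (qExpansion 1 leechForm).coeff 2 = 196560 ∧
    (qExpansion 1 leechForm).coeff 3 = 16773120 ∧ (qExpansion 1 leechForm).coeff 4 = 398034000 := by
  have a1 : ArithmeticFunction.sigma 3 1 = 1 := by decide
  have a2 : ArithmeticFunction.sigma 3 2 = 9 := by decide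
  have a3 : ArithmeticFunction.sigma 3 3 = 28 := by decide
  have a4 : ArithmeticFunction.sigma 3 4 = 73 := by decide
  have b1 : ArithmeticFunction.sigma 5 1 = 1 := by decide
  have b2 : ArithmeticFunction.sigma 5 2 = 33 := by decide
  have b3 : ArithmeticFunction.sigma 5 3 = 244 := by decide
  have b4 : ArithmeticFunction.sigma 5 4 = 1057 := by decide
  rw [leechForm_q]
  refine ⟨?_, ?_, ?_, ?_, ?_⟩ <;>
  norm_num [-PowerSeries.coeff_zero_eq_constantCoeff, PowerSeries.coeff_mul,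
    Finset.Nat.antidiagonal_succ, E4_coeff, E6_coeff, a1, a2, a3, a4, b1, b2, b3, b4]

theorem EU.counts {B : Matrix (Fin 24) (Fin 24) ℤ} (h : EU B)
    (h2 : ∀ x : Fin 24 → ℤ, x ⬝ᵥ (B *ᵥ x) ≠ 2) :
    {x : Fin 24 → ℤ | x ⬝ᵥ (B *ᵥ x) = 4}.ncard = 196560 ∧
    {x : Fin 24 → ℤ | x ⬝ᵥ (B *ᵥ x) = 6}.ncard = 16773120 ∧
    {x : Fin 24 → ℤ | x ⬝ᵥ (B *ᵥ x) = 8}.ncard = 398034000 := by
  obtain ⟨c0, c1, c2, c3, c4⟩ := leechForm_coeff
  have e : h.mf - leechForm = 0 := by
    apply sturm_bound_levelOne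
    refine lt_of_lt_of_le (b := ((2 : ℕ) : ℕ∞)) (by decide) (PowerSeries.nat_le_order _ _ ?_)
    intro i hi
    rw [FunLike.coe_sub, ModularForm.qExpansion_sub one_pos one_mem_strictPeriods_SL, map_sub,
      h.coeff]
    interval_cases i
    · have : {x : Fin 24 → ℤ | x ⬝ᵥ B *ᵥ x = 2 * (0 : ℕ)} = {0} := by
        ext x
        constructor
        · intro hx
          by_contra h0
          have := h.pos x h0
          have hx' : x ⬝ᵥ B *ᵥ x = 2 * (0 : ℕ) := hx
          omega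
        · rintro rfl; simp
      rw [this, c0]; simp
    · have : {x : Fin 24 → ℤ | x ⬝ᵥ B *ᵥ x = 2 * (1 : ℕ)} = ∅ :=
        Set.eq_empty_of_forall_notMem fun x hx => h2 x hx
      rw [this, c1]; simp
  rw [← sub_eq_zero.1 e, h.coeff] at c2 c3 c4
  exact ⟨by exact_mod_cast c2, by exact_mod_cast c3, by exact_mod_cast c4⟩

end H10.Th
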