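import Mathlib
import Cfsg.Agent.H29.Ext

set_option autoImplicit false
set_option maxRecDepth 100000
set_option Elab.async false
set_option linter.all false

namespace H10.U35T0

open H29

noncomputable def n0 : Net := ben 7 [(nat_lit 0xa3698105a9a0447a558fd69938c73c),
 (nat_lit 0xaba06f0a386e2b4899301a302305722),
 (nat_lit 0x71331ed761045a00c84e65cf130e04),
 (nat_lit 0x303862a028ee8434282e53fd0aa28090),
 (nat_lit 0x30a9206e4265936f4770d75a00002380),
 (nat_lit 0x1802466c08aeb46f400000008f3c2880),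
 (nat_lit 0x3802d77ec4410000)]
noncomputable def t0 : List ℕ := [(nat_lit 0x3ca2205006545e4cac1f002481001200),
 (nat_lit 0x119e707ff64c556eae96b1a5db0300d8),
 (nat_lit 0x19a6bd1506555484e6a48025db000000),
 (nat_lit 0x1f612fc8009180e00432c00148000000),
 (nat_lit 0x2d800a0000a3c0880820402013000000),
 (nat_lit 0x800200010c0110404004a0400000000),
 (nat_lit 0x16e787dc0610c460e016800040000000)]
noncomputable def d0 : ℕ := (nat_lit 0x90020111140044220808004)
noncomputable def n1 : Net := ben 7 [(nat_lit 0x343b94c3910e47b8644bc4cb92217ff4),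
 (nat_lit 0xbf01bac25228bf3a6dd088f720bbcc2),
 (nat_lit 0x12c00cb0825af2a4d8bdd843e9ccb8e),
 (nat_lit 0x1a1ace3fd43979180265480712794018),
 (nat_lit 0x11a319ee12cfc6fdfe00c41d0000f200),
 (nat_lit 0x82662ac03883abd000000004eb63100),
 (nat_lit 0x1024eebd4c530000)]
noncomputable def t1 : List ℕ := [(nat_lit 0xb0e45e21b821004c68660010045080),
 (nat_lit 0x202131458c7404e0d934860400000000),
 (nat_lit 0x1081b55405760440dd40860490844000),
 (nat_lit 0xc20274820b2b8710934802000040000),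
 (nat_lit 0x3d810240208228000824002010800000),
 (nat_lit 0x100204020c015010904060400004000),
 (nat_lit 0x3ca1871c0510a078d010800000040000)]
noncomputable def d1 : ℕ := (nat_lit 0x24e08a0520142022201188041010248)
noncomputable def n2 : Net := n1.rev
noncomputable def t2 : List ℕ := mapPull n2 t1
noncomputable def d2 : ℕ := (nat_lit 0x101102a46688244408210482021090)
noncomputable def n3 : Net := ben 7 [(nat_lit 0x330d3c03cff10f0cfc0ccffcc30f3c00),
 (nat_lit 0x85c724ff023af0f50051a5520000faa),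
 (nat_lit 0x2097ff0e5eb87f6da493d60aa6e4280a),
 (nat_lit 0x210d2426c1584ce0d678115762464076),
 (nat_lit 0x12c3ff7edb1657d3ea0182c0000ca20),
 (nat_lit 0x248890010000d037400000007cfd8300),
 (nat_lit 0x25809013492e0000)]
noncomputable def t3 : List ℕ := [(nat_lit 0x2a17af06a4c7a902542d1b2500004000),
 (nat_lit 0x209a01925d0122193261040104004000),
 (nat_lit 0x1c91090d506201f5865138390000000),
 (nat_lit 0x1033e0002a780184805182180000000),
 (nat_lit 0x38c20fa0d1c1801a06000fa410004000),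
 (nat_lit 0x1031800d183001e4604078610004000),
 (nat_lit 0x3acc87b42664a1003820100084000000)]
noncomputable def d3 : ℕ := (nat_lit 0x4204049001814c08092401808282520)
noncomputable def n4 : Net := ben 7 [(nat_lit 0xff3cfc03f00433fff3f3cfc0d3f03c1),
 (nat_lit 0x5aafa27a005f0a0000000250afa0050),
 (nat_lit 0xfdb90a02880066aab98a0031aa8a88),
 (nat_lit 0x21310e0e86d68a8bf0f61557808400c0),
 (nat_lit 0x3b321f6899669dfea20280188000a338),
 (nat_lit 0x82801162835db2c80000000c605bc00),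
 (nat_lit 0x39b8011f80420000)]
noncomputable def t4 : List ℕ := [(nat_lit 0x45c59a8df49fc34f0495c8a68000004),
 (nat_lit 0x6401c2da492617d1014c8a23000000),
 (nat_lit 0x3409800b090c00804858d8c8000000),
 (nat_lit 0x63a586b6c42da2220490850eb000000),
 (nat_lit 0x44008428c0000010100488080000000),
 (nat_lit 0x485000d04032020000408080000000),
 (nat_lit 0x62601a92709c424e040100840000000)]
noncomputable def d4 : ℕ := (nat_lit 0x3981a614008001080824822114544802)
def ivl : List ℕ := [0, 2, 1, 3, 4]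
def cols : List ℕ := [0, 1, 2, 3, 4]
def hcols : List ℕ := [0, 1, 2, 3]
def G0 : List (List ℕ) := [[0, 1, 1, 1, 1],
 [0, 3, 2, 2, 3, 1, 1, 3],
 [0, 1, 3, 1, 3, 1, 3, 2, 3, 2, 3, 0, 2, 3],
 [0, 4, 0, 4, 0, 4],
 [1, 1, 3, 2, 4, 1, 3, 2, 2, 4, 3, 4],
 [0, 3, 1, 4, 1, 3, 0, 4, 2, 2, 3, 4],
 [1, 1, 3, 4, 1, 1, 3, 4, 1, 1, 3, 4],
 [0, 2, 3, 1, 4, 3, 2, 3, 0, 2, 4, 3, 1, 0, 4, 3]]
def R0 : List (List ℕ) := G0
theorem hii : ∀ c, ivOf ivl (ivOf ivl c) = c := ivOf_ivOf (by decide +kernel)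
theorem der : Derives (ivOf ivl) R0 R0 := Derives.refl _ _
noncomputable def nl : List Net := [n0, n1, n2, n3, n4]
noncomputable def T : TCData := ⟨126, 126, 7, 7, nth Net.nil nl, ivOf ivl, cols, hcols, R0,
  nth [] [t0, t1, t2, t3, t4], nth 0 [d0, d1, d2, d3, d4]⟩
theorem hn : NetsOK 126 (nth Net.nil nl) := netsOK_of_all (by decide +kernel)
theorem hiv : IvOK (sg (nth Net.nil nl)) (ivOf ivl) :=
  ivOK_of_chk (k := 7) hn (by decide) (n := 5) (by decide) (by decide) (allN_true.1 (by decide +kernel))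
theorem hb : T.Basic := TCData.basic_of_chk hn hiv (by decide +kernel)
theorem hG0 : ∀ r ∈ G0, ev (sg (nth Net.nil nl)) r = 1 :=
  rels_of_chk (k := 7) hn (by decide) hiv (allN_true.1 (by decide +kernel))
noncomputable def s0 : List TCData.Step := [.all 0 0 0,
 .pts 1 0 0 39 [66],
 .pts 1 0 0 70 [98],
 .pts 1 0 0 72 [112],
 .pts 1 0 0 75 [49],
 .pts 1 0 0 77 [84],
 .all 3 0 0]
noncomputable def s1 : List TCData.Step := [.all 1 2 0,
 .all 1 3 0,
 .pts 4 3 0 20 [23],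
 .pts 4 3 0 48 [120]]
noncomputable def s2 : List TCData.Step := [.all 0 1 0,
 .pts 0 2 0 1 [6, 44, 94, 115],
 .pts 0 2 0 79 [118],
 .all 0 3 0,
 .all 0 4 0,
 .pts 4 0 0 4 [18],
 .all 5 2 0,
 .pts 5 4 0 46 [109],
 .pts 5 4 0 64 [22],
 .pts 6 0 0 37 [11]]
noncomputable def s3 : List TCData.Step := [.all 1 1 0,
 .pts 1 4 0 1 [51],
 .pts 1 4 0 3 [97],
 .pts 1 4 0 50 [42],
 .pts 1 4 0 53 [40],
 .pts 1 4 0 84 [118],
 .pts 2 13 0 49 [58],
 .pts 4 2 0 25 [37],
 .pts 4 2 0 59 [80],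
 .pts 4 10 0 9 [109],
 .pts 4 10 0 62 [67],
 .all 5 5 0,
 .pts 6 2 0 65 [93, 114, 121],
 .pts 7 11 0 45 [50, 112]]
noncomputable def s4 : List TCData.Step := [.pts 3 1 0 1 [2],
 .pts 3 1 0 3 [33, 42],
 .pts 3 1 0 35 [77],
 .pts 3 1 0 42 [65],
 .pts 4 4 0 8 [81],
 .pts 4 4 0 60 [31],
 .pts 4 9 0 26 [97],
 .all 5 3 0,
 .pts 5 7 0 11 [29],
 .pts 5 7 0 12 [36],
 .pts 5 7 0 29 [107],
 .pts 5 7 0 77 [54],
 .pts 5 7 0 78 [117],
 .pts 5 11 0 31 [43],
 .pts 6 3 0 13 [27, 116],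
 .pts 6 3 0 18 [64],
 .pts 6 3 0 67 [66],
 .pts 6 3 0 71 [35],
 .pts 6 3 0 72 [121],
 .pts 6 3 0 73 [61]]
theorem hR0 : ∀ r ∈ R0, ev (sg (nth Net.nil nl)) r = 1 := hG0
theorem col0 : T.ColOK 0 := TCData.colOK_of_chk (U := (T.stepsMask 0 s0 (T.mask0 0))) (V := (T.stepsMask 0 s0 (T.mask0 0))) hb (TCData.cov_stepsMask hb (by decide) s0 _ (T.cov_mask0 0)) (TCData.cov_stepsMask hb (by decide) s0 _ (T.cov_mask0 0)) (by decide +kernel)
theorem col1 : T.ColOK 1 := TCData.colOK_of_chk (U := (T.stepsMask 1 s1 (T.mask0 1))) (V := (T.stepsMask 2 s2 (T.mask0 2))) hb (TCData.cov_stepsMask hb (by decide) s1 _ (T.cov_mask0 1)) (TCData.cov_stepsMask hb (by decide) s2 _ (T.cov_mask0 2)) (by decide +kernel)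
theorem col2 : T.ColOK 2 := TCData.colOK_of_chk (U := (T.stepsMask 2 s2 (T.mask0 2))) (V := (T.stepsMask 1 s1 (T.mask0 1))) hb (TCData.cov_stepsMask hb (by decide) s2 _ (T.cov_mask0 2)) (TCData.cov_stepsMask hb (by decide) s1 _ (T.cov_mask0 1)) (by decide +kernel)
theorem col3 : T.ColOK 3 := TCData.colOK_of_chk (U := (T.stepsMask 3 s3 (T.mask0 3))) (V := (T.stepsMask 3 s3 (T.mask0 3))) hb (TCData.cov_stepsMask hb (by decide) s3 _ (T.cov_mask0 3)) (TCData.cov_stepsMask hb (by decide) s3 _ (T.cov_mask0 3)) (by decide +kernel)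
theorem col4 : T.ColOK 4 := TCData.colOK_of_chk (U := (T.stepsMask 4 s4 (T.mask0 4))) (V := (T.stepsMask 4 s4 (T.mask0 4))) hb (TCData.cov_stepsMask hb (by decide) s4 _ (T.cov_mask0 4)) (TCData.cov_stepsMask hb (by decide) s4 _ (T.cov_mask0 4)) (by decide +kernel)
theorem ok : T.OK := ⟨hb, TCData.treeOK_of_chk hn (by decide +kernel), (List.forall_mem_cons.2 ⟨col0, (List.forall_mem_cons.2 ⟨col1, (List.forall_mem_cons.2 ⟨col2, (List.forall_mem_cons.2 ⟨col3, (List.forall_mem_cons.2 ⟨col4, (fun _ h => absurd h List.not_mem_nil)⟩)⟩)⟩)⟩)⟩), der _ _ hiv hR0⟩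
theorem bd {G : Type} [Group G] {e : ℕ → G} (h1 : IvOK e (ivOf ivl)) (h2 : ∀ r ∈ R0, ev e r = 1)
    {m : ℕ} (h : Bd (gen e hcols) m) : Bd (gen e cols) (126 * m) := ok.bd h1 (der G e h1 h2) h
theorem cm {G : Type} [Group G] {e : ℕ → G} (h1 : IvOK e (ivOf ivl)) (h2 : ∀ r ∈ R0, ev e r = 1)
    (h3 : gen e cols = ⊤) {ρ : G →* Equiv.Perm ℕ} (h4 : ∀ c, ρ (e c) = sg (nth Net.nil nl) c) :
    CosetModel ρ (gen e hcols) 126 := ok.cosetModel h1 (der G e h1 h2) h3 fun c _ => h4 c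

end H10.U35T0
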