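import Mathlib
import Cfsg.Agent.H29.Ext

set_option autoImplicit false
set_option maxRecDepth 100000
set_option Elab.async false
set_option linter.all false

namespace H10.U35T1

open H29

noncomputable def n0 : Net := ben 7 [(nat_lit 0x2fa9698de2566a6f71979379000c3fc),
 (nat_lit 0xa712c733d3c28b578ccd8d2cd8dd272),
 (nat_lit 0x7638369ca5d8e18d1856c022201b04),
 (nat_lit 0x11116aac4314294e10d2044664cc0010),
 (nat_lit 0xef0986a26e72b3603fa4bf8000ed00),
 (nat_lit 0xa40092f13eff97fc0000000d0bf8000),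
 (nat_lit 0xa40292fc0000000)]
noncomputable def t0 : List ℕ := [(nat_lit 0x1e07900da020100a0800040450000000),
 (nat_lit 0x1bf062e45af0066a18c0b5d70fb6c2f8),
 (nat_lit 0x180e1110010cd0010010000000000000),
 (nat_lit 0xc000110012c400b0810000000000000),
 (nat_lit 0x26140a20021000c200000000000000)]
noncomputable def d0 : ℕ := (nat_lit 0x800040129142428000000492004)
noncomputable def n1 : Net := ben 7 [(nat_lit 0x53873b04c52023748311f7d631c7c6b),
 (nat_lit 0xf0ba2bc51391043359f92112f3cb101),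
 (nat_lit 0x17b9a187fc88ad91f445939272fa709),
 (nat_lit 0x181116a710e0ee5c0018075a98a40020),
 (nat_lit 0x11250d83dd270131807bd57f00009e00),
 (nat_lit 0xf00d0771ee77cff0000000000ff0000),
 (nat_lit 0xf00d07f00000000)]
noncomputable def t1 : List ℕ := [(nat_lit 0x31d47286210800c200085904c000280),
 (nat_lit 0x1d2805842181800c2000208620000040),
 (nat_lit 0x1c260c01200000832008000000000000),
 (nat_lit 0x5012001800f2008000020000000),
 (nat_lit 0x1c660808000000808000000000000000)]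
noncomputable def d1 : ℕ := (nat_lit 0x80b052886a42204850104112924028)
noncomputable def n2 : Net := n1.rev
noncomputable def t2 : List ℕ := mapPull n2 t1
noncomputable def d2 : ℕ := (nat_lit 0x34f4281728494489080a49245248250)
noncomputable def n3 : Net := ben 7 [(nat_lit 0x33002d48f0380245ccc03303cc033c1),
 (nat_lit 0xf0dfeff058205b06f055ffff550af00),
 (nat_lit 0x1155dbb32a2848e68019b319805d1126),
 (nat_lit 0x31b2db5bfa7a3bf029f61ed40cc40da),
 (nat_lit 0xc0b38a260b3b433307f40006140),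
 (nat_lit 0x88013221bfccbf660000000f63f4000),
 (nat_lit 0x880333260000000)]
noncomputable def t3 : List ℕ := [(nat_lit 0x34eb8118a8c5d089040841050400200),
 (nat_lit 0x343b88122e10b000cd0941050400000),
 (nat_lit 0x10d22906848de181cd0100000000000),
 (nat_lit 0x8902806048881004c0100000000000),
 (nat_lit 0x61002848411008000000000000000)]
noncomputable def d3 : ℕ := (nat_lit 0x1c30052c0110008303074b2ca8001d82)
def ivl : List ℕ := [0, 2, 1, 3, 4]
def cols : List ℕ := [0, 1, 2, 3]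
def hcols : List ℕ := [0, 1, 2]
def G0 : List (List ℕ) := [[0, 1, 1, 1, 1],
 [0, 3, 2, 2, 3, 1, 1, 3],
 [0, 1, 3, 1, 3, 1, 3, 2, 3, 2, 3, 0, 2, 3]]
def R0 : List (List ℕ) := G0
theorem hii : ∀ c, ivOf ivl (ivOf ivl c) = c := ivOf_ivOf (by decide +kernel)
theorem der : Derives (ivOf ivl) R0 R0 := Derives.refl _ _
noncomputable def nl : List Net := [n0, n1, n2, n3]
noncomputable def T : TCData := ⟨125, 125, 7, 5, nth Net.nil nl, ivOf ivl, cols, hcols, R0,
  nth [] [t0, t1, t2, t3], nth 0 [d0, d1, d2, d3]⟩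
theorem hn : NetsOK 125 (nth Net.nil nl) := netsOK_of_all (by decide +kernel)
theorem hiv : IvOK (sg (nth Net.nil nl)) (ivOf ivl) :=
  ivOK_of_chk (k := 7) hn (by decide) (n := 5) (by decide) (by decide) (allN_true.1 (by decide +kernel))
theorem hb : T.Basic := TCData.basic_of_chk hn hiv (by decide +kernel)
theorem hG0 : ∀ r ∈ G0, ev (sg (nth Net.nil nl)) r = 1 :=
  rels_of_chk (k := 7) hn (by decide) hiv (allN_true.1 (by decide +kernel))
noncomputable def s0 : List TCData.Step := [.all 0 0 0,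
 .all 1 0 0]
noncomputable def s1 : List TCData.Step := [.pts 1 2 0 1 [7, 27, 40, 84, 101, 116],
 .pts 1 2 0 2 [34, 88, 98],
 .pts 1 2 0 15 [61, 93, 106],
 .pts 1 2 0 20 [107, 113],
 .pts 1 3 0 11 [79],
 .pts 1 3 0 16 [63],
 .pts 1 3 0 20 [71]]
noncomputable def s2 : List TCData.Step := [.pts 0 1 0 12 [65],
 .pts 0 1 0 17 [97],
 .all 0 2 0,
 .all 0 3 0,
 .all 0 4 0,
 .pts 2 5 0 10 [41, 104],
 .pts 2 5 0 22 [117, 122, 123, 124]]
noncomputable def s3 : List TCData.Step := [.all 1 1 0,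
 .pts 1 4 0 1 [9],
 .pts 1 4 0 3 [30, 36, 89, 96],
 .pts 1 4 0 13 [83],
 .pts 1 4 0 21 [76],
 .pts 2 4 0 5 [78, 91, 100],
 .pts 2 4 0 14 [44, 58, 86, 103],
 .pts 2 4 0 19 [87, 108],
 .pts 2 6 0 6 [52, 73]]
theorem hR0 : ∀ r ∈ R0, ev (sg (nth Net.nil nl)) r = 1 := hG0
theorem col0 : T.ColOK 0 := TCData.colOK_of_chk (U := (T.stepsMask 0 s0 (T.mask0 0))) (V := (T.stepsMask 0 s0 (T.mask0 0))) hb (TCData.cov_stepsMask hb (by decide) s0 _ (T.cov_mask0 0)) (TCData.cov_stepsMask hb (by decide) s0 _ (T.cov_mask0 0)) (by decide +kernel)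
theorem col1 : T.ColOK 1 := TCData.colOK_of_chk (U := (T.stepsMask 1 s1 (T.mask0 1))) (V := (T.stepsMask 2 s2 (T.mask0 2))) hb (TCData.cov_stepsMask hb (by decide) s1 _ (T.cov_mask0 1)) (TCData.cov_stepsMask hb (by decide) s2 _ (T.cov_mask0 2)) (by decide +kernel)
theorem col2 : T.ColOK 2 := TCData.colOK_of_chk (U := (T.stepsMask 2 s2 (T.mask0 2))) (V := (T.stepsMask 1 s1 (T.mask0 1))) hb (TCData.cov_stepsMask hb (by decide) s2 _ (T.cov_mask0 2)) (TCData.cov_stepsMask hb (by decide) s1 _ (T.cov_mask0 1)) (by decide +kernel)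
theorem col3 : T.ColOK 3 := TCData.colOK_of_chk (U := (T.stepsMask 3 s3 (T.mask0 3))) (V := (T.stepsMask 3 s3 (T.mask0 3))) hb (TCData.cov_stepsMask hb (by decide) s3 _ (T.cov_mask0 3)) (TCData.cov_stepsMask hb (by decide) s3 _ (T.cov_mask0 3)) (by decide +kernel)
theorem ok : T.OK := ⟨hb, TCData.treeOK_of_chk hn (by decide +kernel), (List.forall_mem_cons.2 ⟨col0, (List.forall_mem_cons.2 ⟨col1, (List.forall_mem_cons.2 ⟨col2, (List.forall_mem_cons.2 ⟨col3, (fun _ h => absurd h List.not_mem_nil)⟩)⟩)⟩)⟩), der _ _ hiv hR0⟩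
theorem bd {G : Type} [Group G] {e : ℕ → G} (h1 : IvOK e (ivOf ivl)) (h2 : ∀ r ∈ R0, ev e r = 1)
    {m : ℕ} (h : Bd (gen e hcols) m) : Bd (gen e cols) (125 * m) := ok.bd h1 (der G e h1 h2) h
theorem cm {G : Type} [Group G] {e : ℕ → G} (h1 : IvOK e (ivOf ivl)) (h2 : ∀ r ∈ R0, ev e r = 1)
    (h3 : gen e cols = ⊤) {ρ : G →* Equiv.Perm ℕ} (h4 : ∀ c, ρ (e c) = sg (nth Net.nil nl) c) :
    CosetModel ρ (gen e hcols) 125 := ok.cosetModel h1 (der G e h1 h2) h3 fun c _ => h4 c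

end H10.U35T1
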