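import Mathlib
import Cfsg.Agent.H29.Ext

set_option autoImplicit false
set_option maxRecDepth 100000
set_option Elab.async false
set_option linter.all false

namespace H10.U35T3

open H29

noncomputable def n0 : Net := ben 1 [(nat_lit 0x1)]
noncomputable def t0 : List ℕ := [(nat_lit 0x0)]
noncomputable def d0 : ℕ := (nat_lit 0x2)
def ivl : List ℕ := [0, 2, 1, 3, 4]
def cols : List ℕ := [0]
def hcols : List ℕ := []
def R0 : List (List ℕ) := []
theorem hii : ∀ c, ivOf ivl (ivOf ivl c) = c := ivOf_ivOf (by decide +kernel)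
theorem der : Derives (ivOf ivl) R0 R0 := Derives.refl _ _
noncomputable def nl : List Net := [n0]
noncomputable def T : TCData := ⟨2, 2, 1, 1, nth Net.nil nl, ivOf ivl, cols, hcols, R0,
  nth [] [t0], nth 0 [d0]⟩
theorem hn : NetsOK 2 (nth Net.nil nl) := netsOK_of_all (by decide +kernel)
theorem hiv : IvOK (sg (nth Net.nil nl)) (ivOf ivl) :=
  ivOK_of_chk (k := 1) hn (by decide) (n := 5) (by decide) (by decide) (allN_true.1 (by decide +kernel))
theorem hb : T.Basic := TCData.basic_of_chk hn hiv (by decide +kernel)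
noncomputable def s0 : List TCData.Step := []
theorem hR0 : ∀ r ∈ R0, ev (sg (nth Net.nil nl)) r = 1 := (fun _ h => absurd h (by simp [R0]))
theorem col0 : T.ColOK 0 := TCData.colOK_of_chk (U := (T.stepsMask 0 s0 (T.mask0 0))) (V := (T.stepsMask 0 s0 (T.mask0 0))) hb (TCData.cov_stepsMask hb (by decide) s0 _ (T.cov_mask0 0)) (TCData.cov_stepsMask hb (by decide) s0 _ (T.cov_mask0 0)) (by decide +kernel)
theorem ok : T.OK := ⟨hb, TCData.treeOK_of_chk hn (by decide +kernel), (List.forall_mem_cons.2 ⟨col0, (fun _ h => absurd h List.not_mem_nil)⟩), der _ _ hiv hR0⟩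
theorem bd {G : Type} [Group G] {e : ℕ → G} (h1 : IvOK e (ivOf ivl)) (h2 : ∀ r ∈ R0, ev e r = 1)
    {m : ℕ} (h : Bd (gen e hcols) m) : Bd (gen e cols) (2 * m) := ok.bd h1 (der G e h1 h2) h
theorem cm {G : Type} [Group G] {e : ℕ → G} (h1 : IvOK e (ivOf ivl)) (h2 : ∀ r ∈ R0, ev e r = 1)
    (h3 : gen e cols = ⊤) {ρ : G →* Equiv.Perm ℕ} (h4 : ∀ c, ρ (e c) = sg (nth Net.nil nl) c) :
    CosetModel ρ (gen e hcols) 2 := ok.cosetModel h1 (der G e h1 h2) h3 fun c _ => h4 c

end H10.U35T3
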