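import Mathlib
import Cfsg.Agent.H10.U35T0
import Cfsg.Agent.H29.Cert

set_option autoImplicit false
set_option maxRecDepth 100000
set_option Elab.async false
set_option linter.all false

namespace H10.U35X

open H29

noncomputable def x5 : Net := ben 7 [(nat_lit 0x13f8aaff661de954b14bf8fadf1eee04),
 (nat_lit 0xf7449b80764a1539dff8a00794e62f1),
 (nat_lit 0x2146c5a88e13d8a0db6d3820a078009),
 (nat_lit 0x1122280eeadea050955801c126a98098),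
 (nat_lit 0x2313ce5c9c2f48742c6c70000000f13),
 (nat_lit 0x114807169b0cba00000000c23ba1d2),
 (nat_lit 0x2c98dc3790ef0728)]
noncomputable def ly : List Net := [x5]
noncomputable def nx : ℕ → Net := nth Net.nil (U35T0.nl ++ dbl ly)
def ivx : List ℕ := [0, 2, 1, 3, 4, 6, 5]
def defs : List (List ℕ) := [[3, 2, 2, 4, 0]]
theorem hext : chkExt 5 defs U35T0.ivl ivx = true := by decide +kernel
theorem hn : NetsOK 126 nx := netsOK_ext U35T0.hn (by decide +kernel)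
theorem hiv : IvOK (sg nx) (ivOf ivx) := ivOK_ext U35T0.hiv hext rfl rfl
theorem hdef : ∀ r ∈ defRels defs 5, ev (sg nx) r = 1 :=
  rels_of_chk (k := 7) hn (by decide) hiv (allN_true.1 (by decide +kernel))
theorem ch : chkChain 126 7 nx [(0, 4, 126, [0, 1, 2, 3]),
 (124, 4, 125, [0, 1, 2]),
 (120, 2, 4, [0]),
 (1, 1, 2, [])] [0, 1, 2, 3, 4] = true := by decide +kernel
theorem prim : Prim nx 126 [0, 1, 2, 3] [4] := prim_of_chk (r1 := 4) (r2 := 3) hn (by decide +kernel)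
theorem wit : ∀ r ∈ [powW 7 [5], powW 2 [0], powW 3 [5, 0]], ev (sg nx) r = 1 :=
  rels_of_chk (k := 7) hn (by decide) hiv (allN_true.1 (by decide +kernel))
def KR : List (List ℕ) := [[3, 0, 3, 3, 4, 0, 4, 3, 1, 3, 0, 3, 3, 4, 0, 4, 3, 1, 3, 0, 3, 3, 4, 0, 4, 3, 1, 3, 0, 3, 3, 4, 0, 4, 3, 1, 3, 0, 3, 3, 4, 0, 4, 3, 1, 3, 0, 3, 3, 4, 0, 4, 3, 1, 3, 0, 3, 3, 4, 0, 4, 3, 1, 3, 0, 3, 3, 4, 0, 4, 3, 1, 3, 0, 3, 3, 4, 0, 4, 3, 1, 3, 0, 3, 3, 4, 0, 4, 3, 1, 3, 0, 3, 3, 4, 0, 4, 3, 1, 3, 0, 3, 3, 4, 0, 4, 3, 1, 3, 0, 3, 3, 4, 0, 4, 3, 1, 3, 0, 3, 3, 4, 0, 4, 3, 1, 3, 0, 3, 3, 4, 0, 4, 3, 1, 3, 0, 3, 3, 4, 0, 4, 3, 1, 3, 0, 3, 3, 4, 0, 4, 3, 1, 3, 0, 3, 3, 4, 0, 4, 3, 1, 3, 0, 3, 3, 4, 0, 4, 3, 1, 3, 0, 3, 3, 4, 0, 4, 3, 1, 3, 0, 3, 3, 4, 0, 4, 3, 1, 3, 0, 3, 3, 4, 0, 4, 3, 1, 3, 0, 3, 3, 4, 0, 4, 3, 1, 3, 0, 3, 3,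 4, 0, 4, 3, 1, 3, 0, 3, 3, 4, 0, 4, 3, 1, 2, 2, 2, 2, 2, 2, 2, 2, 2, 2, 2, 2, 2, 2, 2, 2, 2, 2, 2, 2, 2, 2, 2, 2], [1, 1, 3, 0, 3, 2, 2, 3], [0, 4, 0, 4, 0, 4]]
theorem hKR : ∀ r ∈ KR, ev (sg nx) r = 1 :=
  rels_of_chk (k := 7) hn (by decide) hiv (allN_true.1 (by decide +kernel))
theorem map {G : Type} [Group G] {e : ℕ → G} {ρ : G →* Equiv.Perm ℕ}
    (h : ∀ c, ρ (e c) = sg (nth Net.nil U35T0.nl) c) : ∀ c, ρ (extE e 5 defs c) = sg nx c :=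
  map_ext hext hiv hdef rfl rfl h

end H10.U35X
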