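import Mathlib
import Cfsg.Agent.H29.Ext

set_option autoImplicit false
set_option maxRecDepth 100000
set_option Elab.async false
set_option linter.all false

namespace H10.U43T1

open H29

noncomputable def n0 : Net := ben 8 [(nat_lit 0x1b68b16c3b067490549b7a0bb0659705aa7eacd60295ab06ffb4f7a80aeac),
 (nat_lit 0x5e81af8721fe506a261492364e6f0d84ce9b05a72af86971195e981b97b12),
 (nat_lit 0x2120896ebbece05a135c226f3b44999e23157868fe45b6770864d2156b04),
 (nat_lit 0x683ca8ad0260a1b9c41add704824fb69a0b781d4810683c07a986e90020),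
 (nat_lit 0x5000231a9612b0642fede01c9800b8aa2f8f6142175e404a4242b0000cf00),
 (nat_lit 0x104800005119ba219434253f84e825000c6996049ffbf0020000020e50000),
 (nat_lit 0x630460799c3800007b4ee37fbc3ecb120000000000000fb30c69900200000),
 (nat_lit 0x630460799c384b120000000000000)]
noncomputable def t0 : List ℕ := [(nat_lit 0x28ebad0b56c9de50a5001b44abec48c80d508004da5823780680893438842),
 (nat_lit 0x40390466f2d06e908918cc78c83c40cd602e0480200ea11d81010b242c428),
 (nat_lit 0x1d192ed20028400d40990caa2d4dce2d0b01444145819100d2aa2080000),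
 (nat_lit 0x690c2900800e800012dc70c80000e404600000300001000000022000000),
 (nat_lit 0x6ec4b80db164d83140004c010028108450041000000000408000001002000),
 (nat_lit 0x7efc6d0db17486e24840037948d91042016b0007301200100100000000000)]
noncomputable def d0 : ℕ := (nat_lit 0x10002900802010c12a020021402221080004000002008021020008240084)
noncomputable def n1 : Net := n0.rev
noncomputable def t1 : List ℕ := mapPull n1 t0
noncomputable def d1 : ℕ := (nat_lit 0xa100040000a01240a40042000042100009100090122042040010480400)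
noncomputable def n2 : Net := ben 8 [(nat_lit 0x3b14489400486f79af3c54f825b02609b7942b891aca6627b30ce26f04bb0),
 (nat_lit 0x180d9bdc1b236b59b1066226f9ce3ecb92a36d34574da4225462b5d703642),
 (nat_lit 0x427679d4177b1c787ba2c8d523294f73ef0f3084118a770d9c0edbc33f06),
 (nat_lit 0xfe6630d6a5e0b7c2497e820bb71002a421f9bd5411bd2b86487c408b01b1),
 (nat_lit 0x30001e11ab8aa8b95d2747490f94140b44a2789d87775807d4caf40000c11),
 (nat_lit 0xe9880002b45df838d00e862d29c81e00d158f3b4d78e00000000f0ef0000),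
 (nat_lit 0x200200423dcea00008ca83d73bfeed088000000000000de98d1df00000000),
 (nat_lit 0x200202433deeed088000000000000)]
noncomputable def t2 : List ℕ := [(nat_lit 0x5400269528918a08c94f4dc65721140077c052c20401000031301000c2c40),
 (nat_lit 0x2269868150a4dfbdc58c0d8411220cc220342000200000000100002c40),
 (nat_lit 0x10c4239c48150b45779c1086da000425cb02c0c0040000800000902002000),
 (nat_lit 0x1080329984850a01513c5d80d828162048e082000e0000100010100002000),
 (nat_lit 0x454e1d4568188b0823933d01018805202800b200050008009800048000000),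
 (nat_lit 0x558e3edd68058145dc4c4087dac90005d7626080080300100130000000000)]
noncomputable def d2 : ℕ := (nat_lit 0x2a31c02212605412000080180014484a00110411d048016902822a0808128)
noncomputable def n3 : Net := n2.rev
noncomputable def t3 : List ℕ := mapPull n3 t2
noncomputable def d3 : ℕ := (nat_lit 0x54c0250484090060401110404148918420620042221200908d04941010850)
noncomputable def n4 : Net := ben 8 [(nat_lit 0x330fc03c0c67f030b4cfc0c3fcc8c88f30fc24f03003330c13c0c3fcc0001),
 (nat_lit 0x1ac2276306ae186c7c837280de1ab3d6602f632770ba5c00b250ab1e0a1aa),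
 (nat_lit 0xab8b384507594d1c42eb39af620d360380dd0400ef98f7ff15cd63412222),
 (nat_lit 0x22f22a4a30208c65bfd2d91f03668395080df036442a0b0c066004a302f0),
 (nat_lit 0x26dc579f5b06446f7ff707f108440f6ba6d00fe52075ef82900400f42),
 (nat_lit 0x502020005fdf3880430b309e009927b9005968c60f8b181200000833d0042),
 (nat_lit 0x20840709feff300022a4f8feffff78338000000000000f7f8f5bf83200000),
 (nat_lit 0x70a4078dffff38338000000000000)]
noncomputable def t4 : List ℕ := [(nat_lit 0x7028680d0201e6d540a800a540224278003c000080128060060039600000),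
 (nat_lit 0x7b7a87a09a000c382282800e0002223480420000000008060060038200004),
 (nat_lit 0x18a311494000b64061ad01e7042263700230000080128000000028000000),
 (nat_lit 0x62f064260e4800120010b012204c000400600000000008000000028000000),
 (nat_lit 0x7f73c422da6b560a40202010444c010480000000000008000000001400000),
 (nat_lit 0x7f7b8520da6b5474402a0018044c010200430000000020000000000000000)]
noncomputable def d4 : ℕ := (nat_lit 0x408492194a08089440fa18aa100005f8c2aac0484d4004019406127202)
def ivl : List ℕ := [1, 0, 3, 2, 4, 5]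
def cols : List ℕ := [0, 1, 2, 3, 4]
def hcols : List ℕ := [0, 1, 2, 3]
def G0 : List (List ℕ) := [[0, 0, 2, 1, 2],
 [0, 2, 2, 2, 0, 3],
 [0, 0, 4, 1, 1, 4],
 [0, 4, 0, 4, 0, 4],
 [0, 2, 4, 3, 4, 2, 1, 4, 2, 0, 4],
 [0, 2, 4, 2, 0, 4, 3, 4, 3, 0, 4, 2, 4, 2, 4]]
def R0 : List (List ℕ) := G0
theorem hii : ∀ c, ivOf ivl (ivOf ivl c) = c := ivOf_ivOf (by decide +kernel)
theorem der : Derives (ivOf ivl) R0 R0 := Derives.refl _ _
noncomputable def nl : List Net := [n0, n1, n2, n3, n4]
noncomputable def T : TCData := ⟨243, 243, 8, 6, nth Net.nil nl, ivOf ivl, cols, hcols, R0,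
  nth [] [t0, t1, t2, t3, t4], nth 0 [d0, d1, d2, d3, d4]⟩
theorem hn : NetsOK 243 (nth Net.nil nl) := netsOK_of_all (by decide +kernel)
theorem hiv : IvOK (sg (nth Net.nil nl)) (ivOf ivl) :=
  ivOK_of_chk (k := 8) hn (by decide) (n := 6) (by decide) (by decide) (allN_true.1 (by decide +kernel))
theorem hb : T.Basic := TCData.basic_of_chk hn hiv (by decide +kernel)
theorem hG0 : ∀ r ∈ G0, ev (sg (nth Net.nil nl)) r = 1 :=
  rels_of_chk (k := 8) hn (by decide) hiv (allN_true.1 (by decide +kernel))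
noncomputable def s0 : List TCData.Step := [.all 0 3 0,
 .pts 4 6 0 14 [29, 163, 217]]
noncomputable def s1 : List TCData.Step := [.all 0 0 0,
 .all 0 1 0,
 .all 1 0 0,
 .all 1 4 0,
 .all 2 0 0,
 .all 2 1 0,
 .all 3 0 0]
noncomputable def s2 : List TCData.Step := [.all 1 5 0,
 .all 4 3 0]
noncomputable def s3 : List TCData.Step := [.all 0 2 0,
 .all 0 4 0,
 .all 1 1 0,
 .all 1 2 0,
 .all 1 3 0,
 .pts 4 1 0 9 [145, 167, 176],
 .pts 4 5 0 22 [108, 132, 200],
 .pts 5 1 0 27 [98, 188],
 .pts 5 1 0 29 [116, 120]]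
noncomputable def s4 : List TCData.Step := [.all 2 2 0,
 .all 2 5 0,
 .all 3 1 0,
 .pts 4 2 0 24 [161, 213],
 .pts 4 2 0 60 [138, 152],
 .pts 4 4 0 12 [160, 168, 225, 235]]
theorem hR0 : ∀ r ∈ R0, ev (sg (nth Net.nil nl)) r = 1 := hG0
theorem col0 : T.ColOK 0 := TCData.colOK_of_chk (U := (T.stepsMask 0 s0 (T.mask0 0))) (V := (T.stepsMask 1 s1 (T.mask0 1))) hb (TCData.cov_stepsMask hb (by decide) s0 _ (T.cov_mask0 0)) (TCData.cov_stepsMask hb (by decide) s1 _ (T.cov_mask0 1)) (by decide +kernel)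
theorem col1 : T.ColOK 1 := TCData.colOK_of_chk (U := (T.stepsMask 1 s1 (T.mask0 1))) (V := (T.stepsMask 0 s0 (T.mask0 0))) hb (TCData.cov_stepsMask hb (by decide) s1 _ (T.cov_mask0 1)) (TCData.cov_stepsMask hb (by decide) s0 _ (T.cov_mask0 0)) (by decide +kernel)
theorem col2 : T.ColOK 2 := TCData.colOK_of_chk (U := (T.stepsMask 2 s2 (T.mask0 2))) (V := (T.stepsMask 3 s3 (T.mask0 3))) hb (TCData.cov_stepsMask hb (by decide) s2 _ (T.cov_mask0 2)) (TCData.cov_stepsMask hb (by decide) s3 _ (T.cov_mask0 3)) (by decide +kernel)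
theorem col3 : T.ColOK 3 := TCData.colOK_of_chk (U := (T.stepsMask 3 s3 (T.mask0 3))) (V := (T.stepsMask 2 s2 (T.mask0 2))) hb (TCData.cov_stepsMask hb (by decide) s3 _ (T.cov_mask0 3)) (TCData.cov_stepsMask hb (by decide) s2 _ (T.cov_mask0 2)) (by decide +kernel)
theorem col4 : T.ColOK 4 := TCData.colOK_of_chk (U := (T.stepsMask 4 s4 (T.mask0 4))) (V := (T.stepsMask 4 s4 (T.mask0 4))) hb (TCData.cov_stepsMask hb (by decide) s4 _ (T.cov_mask0 4)) (TCData.cov_stepsMask hb (by decide) s4 _ (T.cov_mask0 4)) (by decide +kernel)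
theorem ok : T.OK := ⟨hb, TCData.treeOK_of_chk hn (by decide +kernel), (List.forall_mem_cons.2 ⟨col0, (List.forall_mem_cons.2 ⟨col1, (List.forall_mem_cons.2 ⟨col2, (List.forall_mem_cons.2 ⟨col3, (List.forall_mem_cons.2 ⟨col4, (fun _ h => absurd h List.not_mem_nil)⟩)⟩)⟩)⟩)⟩), der _ _ hiv hR0⟩
theorem bd {G : Type} [Group G] {e : ℕ → G} (h1 : IvOK e (ivOf ivl)) (h2 : ∀ r ∈ R0, ev e r = 1)
    {m : ℕ} (h : Bd (gen e hcols) m) : Bd (gen e cols) (243 * m) := ok.bd h1 (der G e h1 h2) h
theorem cm {G : Type} [Group G] {e : ℕ → G} (h1 : IvOK e (ivOf ivl)) (h2 : ∀ r ∈ R0, ev e r = 1)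
    (h3 : gen e cols = ⊤) {ρ : G →* Equiv.Perm ℕ} (h4 : ∀ c, ρ (e c) = sg (nth Net.nil nl) c) :
    CosetModel ρ (gen e hcols) 243 := ok.cosetModel h1 (der G e h1 h2) h3 fun c _ => h4 c

end H10.U43T1
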