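import Mathlib
import Cfsg.Agent.H10.U43T0
import Cfsg.Agent.H29.Cert

set_option autoImplicit false
set_option maxRecDepth 100000
set_option Elab.async false
set_option linter.all false

namespace H10.U43X

open H29

noncomputable def x6 : Net := ben 9 [(nat_lit 0x54338e71482a536ca006169a9c3b5c9fcbdc9c1e325802778f472f8cc243dcf82c23c0),
 (nat_lit 0xbed52335c1954cd55f5b83121e303cc32705f6211b0c2ceb3af4ed8d43f65302e30270),
 (nat_lit 0x739d5f90be0439800a83ae0df05037a62092ea64ef267ce48e1606bee456c9c5920201),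
 (nat_lit 0x2b7abf8557be8c38454a8829656c4050cab2a0399ea8c95934f4a0caf261007088a9),
 (nat_lit 0x75000aa1c6d99560392bf3d03addbdf92343185916649728acc74b1c0465cf0100c3a0),
 (nat_lit 0x1871c0da5f5e497052813c5106d0a2522382a6facdf1af7000d00000633f208),
 (nat_lit 0x2812d503effc80c4c3a8947272b37de00000000003288772a8802605037a977),
 (nat_lit 0xbff30801c5e9592e48018802000600108d7b7c),
 (nat_lit 0xbffb7f)]
noncomputable def x8 : Net := ben 9 [(nat_lit 0xd278891ebd5c46b144df9c1ff671c764482070bffd39b9926a43faccc80a6968c33f84),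
 (nat_lit 0x9de2fe378843f970f34be0cd49fe19d9168a10f48e983b6f823f685158a88fc9b82b51),
 (nat_lit 0xa9063fda811f1a5edeb42204144d20b91952f139968325734abe46f3135a9a08d00606),
 (nat_lit 0x7c7802a4925005e7617ef9322455baa8667229cfc53d684186fe51ffbb44e21808b6),
 (nat_lit 0xc4006bc54fc0163f3bf4614d1952fdbacbcca7fe0d7b4ba612c6178ac406042600b548),
 (nat_lit 0x893cd01d9f8c6151414363032c8ab661d2f0b92382e8caa50040062cdd4cbd70),
 (nat_lit 0x22249180249be460ac2a80bf4713f7b000000000004180805c0fb1d0e2be9fae),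
 (nat_lit 0x9c7d77e250a53e04c0711d11ad5082eaefff63),
 (nat_lit 0xffffff)]
noncomputable def ly : List Net := [x6, x8]
noncomputable def nx : ℕ → Net := nth Net.nil (U43T0.nl ++ dbl ly)
def ivx : List ℕ := [1, 0, 3, 2, 4, 5, 7, 6, 9, 8]
def defs : List (List ℕ) := [[5, 0, 5],
 [0, 5, 4, 2, 4]]
theorem hext : chkExt 6 defs U43T0.ivl ivx = true := by decide +kernel
theorem hn : NetsOK 280 nx := netsOK_ext U43T0.hn (by decide +kernel)
theorem hiv : IvOK (sg nx) (ivOf ivx) := ivOK_ext U43T0.hiv hext rfl rfl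
theorem hdef : ∀ r ∈ defRels defs 6, ev (sg nx) r = 1 :=
  rels_of_chk (k := 9) hn (by decide) hiv (allN_true.1 (by decide +kernel))
theorem ch : chkChain 280 9 nx [(0, 5, 280, [0, 1, 2, 3, 4]),
 (9, 5, 243, [0, 1, 2, 3]),
 (74, 3, 48, [])] [0, 1, 2, 3, 4, 5] = true := by decide +kernel
theorem prim : Prim nx 280 [0, 1, 2, 3, 4] [5, 6] := prim_of_chk (r1 := 5) (r2 := 4) hn (by decide +kernel)
theorem wit : ∀ r ∈ [powW 7 [8], powW 2 [4], powW 5 [8, 4]], ev (sg nx) r = 1 :=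
  rels_of_chk (k := 9) hn (by decide) hiv (allN_true.1 (by decide +kernel))
def KR : List (List ℕ) := [[4, 2, 4, 3, 4, 3, 5, 4, 5, 2, 0, 4, 2, 4, 3, 4, 3, 5, 4, 5, 2, 0, 4, 2, 4, 3, 4, 3, 5, 4, 5, 2, 0, 4, 2, 4, 3, 4, 3, 5, 4, 5, 2, 0, 4, 2, 4, 3, 4, 3, 5, 4, 5, 2, 0, 4, 2, 4, 3, 4, 3, 5, 4, 5, 2, 0, 4, 2, 4, 3, 4, 3, 5, 4, 5, 2, 0, 1, 1, 1, 1, 1, 1], [5, 1, 5, 4, 2, 5, 1, 5, 4, 2, 5, 1, 5, 4, 2, 5, 1, 5, 4, 2, 5, 1, 5, 4, 2, 5, 1, 5, 4, 2, 5, 1, 5, 4, 2, 5, 1, 5, 4, 2, 5, 1, 5, 4, 2, 3, 3, 3, 3, 3, 3, 3, 3], [4, 5, 4, 5, 4, 5]]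
theorem hKR : ∀ r ∈ KR, ev (sg nx) r = 1 :=
  rels_of_chk (k := 9) hn (by decide) hiv (allN_true.1 (by decide +kernel))
theorem map {G : Type} [Group G] {e : ℕ → G} {ρ : G →* Equiv.Perm ℕ}
    (h : ∀ c, ρ (e c) = sg (nth Net.nil U43T0.nl) c) : ∀ c, ρ (extE e 6 defs c) = sg nx c :=
  map_ext hext hiv hdef rfl rfl h

end H10.U43X
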