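import Mathlib
import Cfsg.Agent.H29.Ext

set_option autoImplicit false
set_option maxRecDepth 100000
set_option Elab.async false
set_option linter.all false

namespace H10.U62T2

open H29

noncomputable def n0 : Net := ben 7 [(nat_lit 0xc0003fc091004fcc303f0003c0ccc),
 (nat_lit 0xa00500a540a54510a00fbf00002),
 (nat_lit 0xa8bbffbf0042532226880088880000),
 (nat_lit 0x496d6666c3a4b5b9666718190004),
 (nat_lit 0x58c16ac76a1a061b1701001b40),
 (nat_lit 0x4000a50062c9a519000000fd07e100),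
 (nat_lit 0xc012a719080000)]
noncomputable def t0 : List ℕ := [(nat_lit 0x271e4d3c4062e5c215003281543450),
 (nat_lit 0xcfc6403c0326844104000a41000130),
 (nat_lit 0xd7d00e00e022454619441ac0882000),
 (nat_lit 0x60e5194147684c104402401441040),
 (nat_lit 0xfec196a84c1b68c49a002000000000),
 (nat_lit 0xf8cfd7ac4b2d6c0192000000000000)]
noncomputable def d0 : ℕ := (nat_lit 0x20204300801228400b8008200804)
noncomputable def n1 : Net := ben 7 [(nat_lit 0x330cc30c414c47310fccf530f0330),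
 (nat_lit 0xf1f0f2a0a055200b001a500b5a0b50),
 (nat_lit 0xbb08bf4c1155008800003788158804),
 (nat_lit 0x7273717180c10282123302820080),
 (nat_lit 0x8000e806000602020a020a00000210),
 (nat_lit 0x4001010041079132000000320a1000),
 (nat_lit 0x40010332000000)]
noncomputable def t1 : List ℕ := [(nat_lit 0xe79bbf3d8f33e3efc91779c9b8079a),
 (nat_lit 0xd8200081b28c0e0038ac003e600018),
 (nat_lit 0xe00061a3704001100743c00000e000),
 (nat_lit 0x404122820013000c590500450800),
 (nat_lit 0x6842200502c0130840018000000000),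
 (nat_lit 0x782660470180002840000000000000)]
noncomputable def d1 : ℕ := (nat_lit 0x200020020)
noncomputable def n2 : Net := ben 7 [(nat_lit 0xc3f0fc0cf0c03cc0c003333c33300),
 (nat_lit 0xaf0aafa5a000f50a550555000aa00),
 (nat_lit 0x9999ff33eebb99dd55000011229904),
 (nat_lit 0x96c756773222c4f5405042520018),
 (nat_lit 0x4000e6080148879601869b000023a0),
 (nat_lit 0xe01101007fa9dfad000000fd114000),
 (nat_lit 0xe01791ad000000)]
noncomputable def t2 : List ℕ := [(nat_lit 0x608a324bced8162098426cbae6f12),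
 (nat_lit 0xa5613dd1cafc8cd816395b11008500),
 (nat_lit 0x20681e040ad900d02001122c000000),
 (nat_lit 0x80104aad608c0043b0c800e0000),
 (nat_lit 0x21f13e4b0e41a0a080000000000000),
 (nat_lit 0x25f93e5f00a1a04880000000000000)]
noncomputable def d2 : ℕ := (nat_lit 0x580640000100000000400000411040)
noncomputable def n3 : Net := ben 7 [(nat_lit 0x276e8f0002e7cd6e2cfacb0e941090),
 (nat_lit 0x1b65a0707087a510ab044a748a922),
 (nat_lit 0x24a2aa3622ad0272993257039c1804),
 (nat_lit 0xb8bb2560eaa623204a64097f0490),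
 (nat_lit 0x3000663c33585e7d106b7300000b04),
 (nat_lit 0x2d63000348ef121000000bd390000),
 (nat_lit 0x2ff3121000000)]
noncomputable def t3 : List ℕ := [(nat_lit 0xaed7b49550498aa721821a259be930),
 (nat_lit 0xc4205d4fe8a7c3872a1a98ac59ee12),
 (nat_lit 0x44e478e3f8cd81060d401888398800),
 (nat_lit 0x252040028881d3060c5c8040401040),
 (nat_lit 0xfb93b93969401f204280c000008000),
 (nat_lit 0xdeb7f9fb818d8c2648804000004000)]
noncomputable def d3 : ℕ := (nat_lit 0x802000610204080000400040088)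
noncomputable def n4 : Net := n3.rev
noncomputable def t4 : List ℕ := mapPull n4 t3
noncomputable def d4 : ℕ := (nat_lit 0x5004040820408100000000000100)
noncomputable def n5 : Net := ben 7 [(nat_lit 0xee3d3c0bc7262818ec7719aef021f4),
 (nat_lit 0xda492519580e20268f7d7325f2f810),
 (nat_lit 0xe045ecba26379cb5ff0fd15e801906),
 (nat_lit 0x3d8d200500b34b0d08c0185d005c),
 (nat_lit 0x200a4c850a9596f58cf10e00072c0),
 (nat_lit 0x14004800fcf06d7c000000fd786000),
 (nat_lit 0x178f487d000000)]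
noncomputable def t5 : List ℕ := [(nat_lit 0xe56050d6429c2ecdaa8892bc524420),
 (nat_lit 0x803956132c1f2205a8dac0ad418102),
 (nat_lit 0xc17c66234e2c20c18003209820c008),
 (nat_lit 0x20204182ac1122c180190410448000),
 (nat_lit 0xf84326e52eb04ec00a01e01000c000),
 (nat_lit 0xdc7b67e7a18c6c0982004000000000)]
noncomputable def d5 : ℕ := (nat_lit 0x28088081040810205040840882210)
noncomputable def n6 : Net := n5.rev
noncomputable def t6 : List ℕ := mapPull n6 t5
noncomputable def d6 : ℕ := (nat_lit 0x250110100001000400001081100400)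
noncomputable def n7 : Net := ben 7 [(nat_lit 0xcc3c3fcc000300f0fcc0ff3000c001),
 (nat_lit 0x50050ff00f00050af050fa5f0a5000),
 (nat_lit 0x154037bb1515110c26aed9ae048c00),
 (nat_lit 0x6c6d0000cede8989a6f284d00018),
 (nat_lit 0x8e00ea30f0b2b41c121c1208004f80),
 (nat_lit 0x1000ef00df20ff09000000bd76e000),
 (nat_lit 0x1018ef19000800)]
noncomputable def t7 : List ℕ := [(nat_lit 0x4b655a100e51306b40008400030004),
 (nat_lit 0x7b1d3c570f10c3cf00000000030060),
 (nat_lit 0x62965e0a0e10610080010000000000),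
 (nat_lit 0x24e2001025001c780000400000000),
 (nat_lit 0x6bd5de060ee1e1c640000000000000),
 (nat_lit 0x6d9bfe1e0c81e001c0000000000000)]
noncomputable def d7 : ℕ := (nat_lit 0x800001a0e00e0c103ab0613600c002)
def ivl : List ℕ := [0, 1, 2, 4, 3, 6, 5, 7, 8, 9]
def cols : List ℕ := [0, 1, 2, 3, 4, 5, 6, 7]
def hcols : List ℕ := [0, 1, 2, 3, 4, 5, 6]
def G0 : List (List ℕ) := [[0, 1, 0, 1, 0, 1],
 [1, 5, 5],
 [1, 3, 3],
 [0, 5, 2, 6],
 [3, 5, 4, 5],
 [0, 2, 0, 4, 0, 3],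
 [1, 7, 1, 7],
 [2, 7, 2, 7],
 [0, 7, 0, 7, 0, 7],
 [0, 2, 4, 2, 7, 4, 2, 7, 0, 3, 7, 2, 5, 7],
 [0, 2, 0, 6, 7, 4, 0, 7, 4, 0, 7, 5, 3, 0, 7]]
def R0 : List (List ℕ) := G0
theorem hii : ∀ c, ivOf ivl (ivOf ivl c) = c := ivOf_ivOf (by decide +kernel)
theorem der : Derives (ivOf ivl) R0 R0 := Derives.refl _ _
noncomputable def nl : List Net := [n0, n1, n2, n3, n4, n5, n6, n7]
noncomputable def T : TCData := ⟨120, 120, 7, 6, nth Net.nil nl, ivOf ivl, cols, hcols, R0,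
  nth [] [t0, t1, t2, t3, t4, t5, t6, t7], nth 0 [d0, d1, d2, d3, d4, d5, d6, d7]⟩
theorem hn : NetsOK 120 (nth Net.nil nl) := netsOK_of_all (by decide +kernel)
theorem hiv : IvOK (sg (nth Net.nil nl)) (ivOf ivl) :=
  ivOK_of_chk (k := 7) hn (by decide) (n := 10) (by decide) (by decide) (allN_true.1 (by decide +kernel))
theorem hb : T.Basic := TCData.basic_of_chk hn hiv (by decide +kernel)
theorem hG0 : ∀ r ∈ G0, ev (sg (nth Net.nil nl)) r = 1 :=
  rels_of_chk (k := 7) hn (by decide) hiv (allN_true.1 (by decide +kernel))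
noncomputable def s0 : List TCData.Step := [.all 0 0 0,
 .all 3 0 0,
 .all 5 0 0,
 .all 5 4 0,
 .pts 8 0 0 4 [85, 87],
 .pts 8 0 0 56 [95]]
noncomputable def s1 : List TCData.Step := [.pts 0 1 0 3 [21],
 .pts 0 1 0 10 [22, 43],
 .pts 0 1 0 12 [50],
 .pts 0 1 0 44 [89],
 .all 1 0 0,
 .all 2 0 0,
 .all 6 0 0]
noncomputable def s2 : List TCData.Step := [.all 3 2 0,
 .all 5 1 0,
 .all 7 0 0,
 .pts 9 1 0 14 [40],
 .pts 9 1 0 17 [61],
 .pts 9 1 0 45 [107],
 .pts 9 1 0 47 [62],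
 .pts 9 1 0 54 [98]]
noncomputable def s3 : List TCData.Step := [.all 4 2 0,
 .all 5 3 0,
 .pts 9 5 0 18 [49],
 .pts 9 5 0 22 [85],
 .pts 9 5 0 37 [75, 95, 106],
 .pts 9 5 0 51 [119],
 .pts 9 5 0 55 [88]]
noncomputable def s4 : List TCData.Step := [.all 2 1 0,
 .all 2 2 0,
 .all 4 0 0,
 .pts 9 9 0 23 [15, 68],
 .pts 10 12 0 46 [51, 57, 58, 71, 87, 113]]
noncomputable def s5 : List TCData.Step := []
noncomputable def s6 : List TCData.Step := [.all 1 1 0,
 .all 1 2 0,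
 .all 3 1 0,
 .all 4 1 0,
 .all 4 3 0,
 .pts 9 12 0 19 [51, 73],
 .pts 9 12 0 40 [87, 96],
 .pts 9 12 0 58 [85]]
noncomputable def s7 : List TCData.Step := [.all 6 1 0,
 .all 7 1 0,
 .all 8 1 0]
theorem hR0 : ∀ r ∈ R0, ev (sg (nth Net.nil nl)) r = 1 := hG0
theorem col0 : T.ColOK 0 := TCData.colOK_of_chk (U := (T.stepsMask 0 s0 (T.mask0 0))) (V := (T.stepsMask 0 s0 (T.mask0 0))) hb (TCData.cov_stepsMask hb (by decide) s0 _ (T.cov_mask0 0)) (TCData.cov_stepsMask hb (by decide) s0 _ (T.cov_mask0 0)) (by decide +kernel)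
theorem col1 : T.ColOK 1 := TCData.colOK_of_chk (U := (T.stepsMask 1 s1 (T.mask0 1))) (V := (T.stepsMask 1 s1 (T.mask0 1))) hb (TCData.cov_stepsMask hb (by decide) s1 _ (T.cov_mask0 1)) (TCData.cov_stepsMask hb (by decide) s1 _ (T.cov_mask0 1)) (by decide +kernel)
theorem col2 : T.ColOK 2 := TCData.colOK_of_chk (U := (T.stepsMask 2 s2 (T.mask0 2))) (V := (T.stepsMask 2 s2 (T.mask0 2))) hb (TCData.cov_stepsMask hb (by decide) s2 _ (T.cov_mask0 2)) (TCData.cov_stepsMask hb (by decide) s2 _ (T.cov_mask0 2)) (by decide +kernel)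
theorem col3 : T.ColOK 3 := TCData.colOK_of_chk (U := (T.stepsMask 3 s3 (T.mask0 3))) (V := (T.stepsMask 4 s4 (T.mask0 4))) hb (TCData.cov_stepsMask hb (by decide) s3 _ (T.cov_mask0 3)) (TCData.cov_stepsMask hb (by decide) s4 _ (T.cov_mask0 4)) (by decide +kernel)
theorem col4 : T.ColOK 4 := TCData.colOK_of_chk (U := (T.stepsMask 4 s4 (T.mask0 4))) (V := (T.stepsMask 3 s3 (T.mask0 3))) hb (TCData.cov_stepsMask hb (by decide) s4 _ (T.cov_mask0 4)) (TCData.cov_stepsMask hb (by decide) s3 _ (T.cov_mask0 3)) (by decide +kernel)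
theorem col5 : T.ColOK 5 := TCData.colOK_of_chk (U := (T.stepsMask 5 s5 (T.mask0 5))) (V := (T.stepsMask 6 s6 (T.mask0 6))) hb (TCData.cov_stepsMask hb (by decide) s5 _ (T.cov_mask0 5)) (TCData.cov_stepsMask hb (by decide) s6 _ (T.cov_mask0 6)) (by decide +kernel)
theorem col6 : T.ColOK 6 := TCData.colOK_of_chk (U := (T.stepsMask 6 s6 (T.mask0 6))) (V := (T.stepsMask 5 s5 (T.mask0 5))) hb (TCData.cov_stepsMask hb (by decide) s6 _ (T.cov_mask0 6)) (TCData.cov_stepsMask hb (by decide) s5 _ (T.cov_mask0 5)) (by decide +kernel)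
theorem col7 : T.ColOK 7 := TCData.colOK_of_chk (U := (T.stepsMask 7 s7 (T.mask0 7))) (V := (T.stepsMask 7 s7 (T.mask0 7))) hb (TCData.cov_stepsMask hb (by decide) s7 _ (T.cov_mask0 7)) (TCData.cov_stepsMask hb (by decide) s7 _ (T.cov_mask0 7)) (by decide +kernel)
theorem ok : T.OK := ⟨hb, TCData.treeOK_of_chk hn (by decide +kernel), (List.forall_mem_cons.2 ⟨col0, (List.forall_mem_cons.2 ⟨col1, (List.forall_mem_cons.2 ⟨col2, (List.forall_mem_cons.2 ⟨col3, (List.forall_mem_cons.2 ⟨col4, (List.forall_mem_cons.2 ⟨col5, (List.forall_mem_cons.2 ⟨col6, (List.forall_mem_cons.2 ⟨col7, (fun _ h => absurd h List.not_mem_nil)⟩)⟩)⟩)⟩)⟩)⟩)⟩)⟩), der _ _ hiv hR0⟩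
theorem bd {G : Type} [Group G] {e : ℕ → G} (h1 : IvOK e (ivOf ivl)) (h2 : ∀ r ∈ R0, ev e r = 1)
    {m : ℕ} (h : Bd (gen e hcols) m) : Bd (gen e cols) (120 * m) := ok.bd h1 (der G e h1 h2) h
theorem cm {G : Type} [Group G] {e : ℕ → G} (h1 : IvOK e (ivOf ivl)) (h2 : ∀ r ∈ R0, ev e r = 1)
    (h3 : gen e cols = ⊤) {ρ : G →* Equiv.Perm ℕ} (h4 : ∀ c, ρ (e c) = sg (nth Net.nil nl) c) :
    CosetModel ρ (gen e hcols) 120 := ok.cosetModel h1 (der G e h1 h2) h3 fun c _ => h4 c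

end H10.U62T2
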