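import Mathlib
import Cfsg.Agent.H29.Ext

set_option autoImplicit false
set_option maxRecDepth 100000
set_option Elab.async false
set_option linter.all false

namespace H10.U62T3

open H29

noncomputable def n0 : Net := ben 6 [(nat_lit 0xccc030030),
 (nat_lit 0xaa00a00),
 (nat_lit 0xee77888a),
 (nat_lit 0x4840084),
 (nat_lit 0xe385e),
 (nat_lit 0xe)]
noncomputable def t0 : List ℕ := [(nat_lit 0x128500980),
 (nat_lit 0x223b10b08),
 (nat_lit 0x33aa15880),
 (nat_lit 0x104402000)]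
noncomputable def d0 : ℕ := (nat_lit 0xc40060410)
noncomputable def n1 : Net := ben 6 [(nat_lit 0x30f33140),
 (nat_lit 0xf0a0000),
 (nat_lit 0xc60a0c02),
 (nat_lit 0x8c10010),
 (nat_lit 0x8800),
 (nat_lit 0x0)]
noncomputable def t1 : List ℕ := [(nat_lit 0xb3999d7c0),
 (nat_lit 0x2e064540c),
 (nat_lit 0x760240000),
 (nat_lit 0x984420000)]
noncomputable def d1 : ℕ := (nat_lit 0x2002020)
noncomputable def n2 : Net := ben 6 [(nat_lit 0x3c0cccc01),
 (nat_lit 0x110a15000),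
 (nat_lit 0x7700ab00),
 (nat_lit 0x696c0004),
 (nat_lit 0x76a87),
 (nat_lit 0x7)]
noncomputable def t2 : List ℕ := [(nat_lit 0xe158cd508),
 (nat_lit 0x802000010),
 (nat_lit 0x453144070),
 (nat_lit 0x80c000000)]
noncomputable def d2 : ℕ := (nat_lit 0x1a0600802)
noncomputable def n3 : Net := ben 6 [(nat_lit 0x6ac16b4b0),
 (nat_lit 0x967f13b33),
 (nat_lit 0x9ca08e0a),
 (nat_lit 0xcb950028),
 (nat_lit 0xcc30c),
 (nat_lit 0xc)]
noncomputable def t3 : List ℕ := [(nat_lit 0xc1659a4a1),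
 (nat_lit 0x8a2219718),
 (nat_lit 0xd63a40000),
 (nat_lit 0x398460000)]
noncomputable def d3 : ℕ := (nat_lit 0x4044)
noncomputable def n4 : Net := n3.rev
noncomputable def t4 : List ℕ := mapPull n4 t3
noncomputable def d4 : ℕ := (nat_lit 0x4000080)
noncomputable def n5 : Net := ben 6 [(nat_lit 0xa3e69763c),
 (nat_lit 0x911196823),
 (nat_lit 0x285a2811),
 (nat_lit 0x1018008b),
 (nat_lit 0x334e3),
 (nat_lit 0x3)]
noncomputable def t5 : List ℕ := [(nat_lit 0x5d6252225),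
 (nat_lit 0x160760084),
 (nat_lit 0xc41044000),
 (nat_lit 0x984020000)]
noncomputable def d5 : ℕ := (nat_lit 0x208889108)
noncomputable def n6 : Net := n5.rev
noncomputable def t6 : List ℕ := mapPull n6 t5
noncomputable def d6 : ℕ := (nat_lit 0x11110200)
def ivl : List ℕ := [0, 1, 2, 4, 3, 6, 5, 7, 8, 9]
def cols : List ℕ := [0, 1, 2, 3, 4, 5, 6]
def hcols : List ℕ := [0, 1]
def G0 : List (List ℕ) := [[0, 1, 0, 1, 0, 1],
 [1, 5, 5],
 [1, 3, 3],
 [0, 5, 2, 6],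
 [3, 5, 4, 5],
 [0, 2, 0, 4, 0, 3]]
def R0 : List (List ℕ) := G0
theorem hii : ∀ c, ivOf ivl (ivOf ivl c) = c := ivOf_ivOf (by decide +kernel)
theorem der : Derives (ivOf ivl) R0 R0 := Derives.refl _ _
noncomputable def nl : List Net := [n0, n1, n2, n3, n4, n5, n6]
noncomputable def T : TCData := ⟨36, 36, 6, 4, nth Net.nil nl, ivOf ivl, cols, hcols, R0,
  nth [] [t0, t1, t2, t3, t4, t5, t6], nth 0 [d0, d1, d2, d3, d4, d5, d6]⟩
theorem hn : NetsOK 36 (nth Net.nil nl) := netsOK_of_all (by decide +kernel)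
theorem hiv : IvOK (sg (nth Net.nil nl)) (ivOf ivl) :=
  ivOK_of_chk (k := 6) hn (by decide) (n := 10) (by decide) (by decide) (allN_true.1 (by decide +kernel))
theorem hb : T.Basic := TCData.basic_of_chk hn hiv (by decide +kernel)
theorem hG0 : ∀ r ∈ G0, ev (sg (nth Net.nil nl)) r = 1 :=
  rels_of_chk (k := 6) hn (by decide) hiv (allN_true.1 (by decide +kernel))
noncomputable def s0 : List TCData.Step := [.all 0 0 0,
 .all 3 0 0,
 .pts 5 0 0 6 [23],
 .pts 5 0 0 13 [32],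
 .all 5 4 0]
noncomputable def s1 : List TCData.Step := [.pts 0 1 0 4 [34],
 .pts 0 1 0 6 [18],
 .pts 0 1 0 7 [33],
 .all 1 0 0,
 .all 2 0 0]
noncomputable def s2 : List TCData.Step := [.all 3 2 0,
 .all 5 1 0]
noncomputable def s3 : List TCData.Step := [.all 4 2 0,
 .all 5 3 0]
noncomputable def s4 : List TCData.Step := [.all 2 1 0,
 .all 2 2 0,
 .all 4 0 0]
noncomputable def s5 : List TCData.Step := []
noncomputable def s6 : List TCData.Step := [.pts 1 1 0 1 [5, 13, 25],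
 .pts 1 1 0 2 [7],
 .all 1 2 0,
 .all 3 1 0,
 .pts 4 1 0 3 [12],
 .pts 4 1 0 7 [29],
 .pts 4 3 0 4 [14]]
theorem hR0 : ∀ r ∈ R0, ev (sg (nth Net.nil nl)) r = 1 := hG0
theorem col0 : T.ColOK 0 := TCData.colOK_of_chk (U := (T.stepsMask 0 s0 (T.mask0 0))) (V := (T.stepsMask 0 s0 (T.mask0 0))) hb (TCData.cov_stepsMask hb (by decide) s0 _ (T.cov_mask0 0)) (TCData.cov_stepsMask hb (by decide) s0 _ (T.cov_mask0 0)) (by decide +kernel)
theorem col1 : T.ColOK 1 := TCData.colOK_of_chk (U := (T.stepsMask 1 s1 (T.mask0 1))) (V := (T.stepsMask 1 s1 (T.mask0 1))) hb (TCData.cov_stepsMask hb (by decide) s1 _ (T.cov_mask0 1)) (TCData.cov_stepsMask hb (by decide) s1 _ (T.cov_mask0 1)) (by decide +kernel)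
theorem col2 : T.ColOK 2 := TCData.colOK_of_chk (U := (T.stepsMask 2 s2 (T.mask0 2))) (V := (T.stepsMask 2 s2 (T.mask0 2))) hb (TCData.cov_stepsMask hb (by decide) s2 _ (T.cov_mask0 2)) (TCData.cov_stepsMask hb (by decide) s2 _ (T.cov_mask0 2)) (by decide +kernel)
theorem col3 : T.ColOK 3 := TCData.colOK_of_chk (U := (T.stepsMask 3 s3 (T.mask0 3))) (V := (T.stepsMask 4 s4 (T.mask0 4))) hb (TCData.cov_stepsMask hb (by decide) s3 _ (T.cov_mask0 3)) (TCData.cov_stepsMask hb (by decide) s4 _ (T.cov_mask0 4)) (by decide +kernel)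
theorem col4 : T.ColOK 4 := TCData.colOK_of_chk (U := (T.stepsMask 4 s4 (T.mask0 4))) (V := (T.stepsMask 3 s3 (T.mask0 3))) hb (TCData.cov_stepsMask hb (by decide) s4 _ (T.cov_mask0 4)) (TCData.cov_stepsMask hb (by decide) s3 _ (T.cov_mask0 3)) (by decide +kernel)
theorem col5 : T.ColOK 5 := TCData.colOK_of_chk (U := (T.stepsMask 5 s5 (T.mask0 5))) (V := (T.stepsMask 6 s6 (T.mask0 6))) hb (TCData.cov_stepsMask hb (by decide) s5 _ (T.cov_mask0 5)) (TCData.cov_stepsMask hb (by decide) s6 _ (T.cov_mask0 6)) (by decide +kernel)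
theorem col6 : T.ColOK 6 := TCData.colOK_of_chk (U := (T.stepsMask 6 s6 (T.mask0 6))) (V := (T.stepsMask 5 s5 (T.mask0 5))) hb (TCData.cov_stepsMask hb (by decide) s6 _ (T.cov_mask0 6)) (TCData.cov_stepsMask hb (by decide) s5 _ (T.cov_mask0 5)) (by decide +kernel)
theorem ok : T.OK := ⟨hb, TCData.treeOK_of_chk hn (by decide +kernel), (List.forall_mem_cons.2 ⟨col0, (List.forall_mem_cons.2 ⟨col1, (List.forall_mem_cons.2 ⟨col2, (List.forall_mem_cons.2 ⟨col3, (List.forall_mem_cons.2 ⟨col4, (List.forall_mem_cons.2 ⟨col5, (List.forall_mem_cons.2 ⟨col6, (fun _ h => absurd h List.not_mem_nil)⟩)⟩)⟩)⟩)⟩)⟩)⟩), der _ _ hiv hR0⟩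
theorem bd {G : Type} [Group G] {e : ℕ → G} (h1 : IvOK e (ivOf ivl)) (h2 : ∀ r ∈ R0, ev e r = 1)
    {m : ℕ} (h : Bd (gen e hcols) m) : Bd (gen e cols) (36 * m) := ok.bd h1 (der G e h1 h2) h
theorem cm {G : Type} [Group G] {e : ℕ → G} (h1 : IvOK e (ivOf ivl)) (h2 : ∀ r ∈ R0, ev e r = 1)
    (h3 : gen e cols = ⊤) {ρ : G →* Equiv.Perm ℕ} (h4 : ∀ c, ρ (e c) = sg (nth Net.nil nl) c) :
    CosetModel ρ (gen e hcols) 36 := ok.cosetModel h1 (der G e h1 h2) h3 fun c _ => h4 c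

end H10.U62T3
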