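import Mathlib
import Cfsg.Agent.H10.MaxN
import Cfsg.Agent.H9.UniqDesign

/-! Uniqueness of the Leech lattice. -/

set_option autoImplicit false

namespace H10

open Cfsg Finset H9
open scoped symmDiff Pointwise

theorem goodCode_ncard_le {C : Set (Finset GolayPt)} (hC : GoodCode C) : C.ncard ≤ 4096 := by
  classical
  obtain ⟨R, hR, hRc⟩ : ∃ R : Finset (Finset GolayPt),
      (∀ u, u ∈ R ↔ u.card = 1 ∨ u.card = 3) ∧ R.card = 2048 := by
    refine ⟨powersetCard 1 univ ∪ powersetCard 3 univ, fun u => by simp [mem_powersetCard], ?_⟩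
    rw [card_union_of_disjoint (Finset.pairwise_disjoint_powersetCard univ (by norm_num)),
      card_powersetCard, card_powersetCard, card_univ, card_golayPt]
    decide +kernel
  let E : Finset (Finset GolayPt) := {∅, {pt 0}}
  have hE' : ∀ e ∈ E, ∀ e' ∈ E, e.card % 2 = e'.card % 2 → e = e' := by
    simp [E]
  have hEc : E.card = 2 := card_pair (singleton_ne_empty _).symm
  have par : ∀ s t : Finset GolayPt, (s ∆ t).card % 2 = (s.card + t.card) % 2 := fun s t => by
    have := card_symmDiff_add s t; omega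
  let D := R ×ˢ (C.toFinite.toFinset ×ˢ E)
  let f : Finset GolayPt × Finset GolayPt × Finset GolayPt → Finset GolayPt :=
    fun x => x.1 ∆ x.2.1 ∆ x.2.2
  have hinj : Set.InjOn f D := by
    rintro ⟨u, c, e⟩ h ⟨u', c', e'⟩ h' hf
    simp only [D, coe_product, Set.mem_prod, mem_coe, Set.Finite.mem_toFinset, hR] at h h'
    simp only [f] at hf
    have h1 := hC.wt c h.2.1
    have h2 := hC.wt c' h'.2.1
    have he : e = e' := by
      apply hE' e h.2.2 e' h'.2.2
      have := congrArg (fun s => s.card % 2) hf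
      have p1 := par (u ∆ c) e
      have p2 := par u c
      have p3 := par (u' ∆ c') e'
      have p4 := par u' c'
      omega
    subst he
    have hf' : u ∆ c = u' ∆ c' := symmDiff_left_injective e hf
    have h3 : u ∆ u' = c ∆ c' := by
      calc u ∆ u' = (u ∆ c) ∆ (u' ∆ c) := by
            rw [symmDiff_symmDiff_symmDiff_comm, symmDiff_self, symmDiff_bot]
        _ = c ∆ c' := by
            rw [hf', symmDiff_symmDiff_symmDiff_comm, symmDiff_self, bot_symmDiff, symmDiff_comm]
    have h4 := hC.wt _ (hC.add _ h.2.1 _ h'.2.1)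
    have h5 := card_symmDiff_add u u'
    rw [← h3] at h4
    have h6 : (u ∆ u').card = 0 := by omega
    have hu : u = u' := symmDiff_eq_bot.1 (card_eq_zero.1 h6)
    subst hu
    rw [symmDiff_right_injective u hf']
  have hcard := Finset.card_le_univ (D.image f)
  rw [card_image_of_injOn hinj, card_product, card_product, hRc,
      ← Set.ncard_eq_toFinset_card C, Fintype.card_finset, card_golayPt, hEc] at hcard
  omega

theorem goodCode_octads_le {C : Set (Finset GolayPt)} (hC : GoodCode C) (O : Finset (Finset GolayPt))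
    (hO : ∀ c ∈ O, c ∈ C ∧ c.card = 8) : O.card ≤ 759 := by
  classical
  have h1 : (O.biUnion (powersetCard 5)).card = ∑ c ∈ O, 56 := by
    rw [card_biUnion]
    · exact sum_congr rfl fun c hc => by rw [card_powersetCard, (hO c hc).2]; rfl
    · intro c hc d hd hcd
      rw [Function.onFun, Finset.disjoint_left]
      intro s h1 h2
      rw [mem_powersetCard] at h1 h2
      have h3 := card_le_card (subset_inter h1.1 h2.1)
      have h4 := card_symmDiff_add c d
      have h5 := hC.wt _ (hC.add _ (hO c hc).1 _ (hO d hd).1)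
      rw [(hO c hc).2, (hO d hd).2] at h4
      have h6 : (c ∆ d).card = 0 := by omega
      exact hcd (symmDiff_eq_bot.1 (card_eq_zero.1 h6))
  have h2 : O.biUnion (powersetCard 5) ⊆ powersetCard 5 univ := by
    intro s hs
    obtain ⟨c, -, h⟩ := mem_biUnion.1 hs
    exact mem_powersetCard.2 ⟨subset_univ _, (mem_powersetCard.1 h).2⟩
  have h3 := card_le_card h2
  rw [h1, card_powersetCard, card_univ, card_golayPt, sum_const, smul_eq_mul,
    show Nat.choose 24 5 = 42504 by decide +kernel] at h3
  omega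

theorem odd_shape {x : V} (hn : sqNorm x = 32) (ho : ∀ i, x i % 2 = 1) :
    ∃ j, x j ^ 2 = 9 ∧ ∀ i, i ≠ j → x i ^ 2 = 1 := by
  have h1 : ∀ i, 1 ≤ x i ^ 2 := fun i => one_le_sq_of_odd (ho i)
  have : ∃ j, x j ^ 2 ≠ 1 := by
    by_contra h
    push Not at h
    simp only [sqNorm, h, sum_const24] at hn
    norm_num at hn
  obtain ⟨j, hj⟩ := this
  have h9 : 9 ≤ x j ^ 2 := by
    have := ho j
    have : 3 ≤ x j ∨ x j ≤ -3 := by
      by_contra h
      have : x j = 1 ∨ x j = -1 := by omega
      rcases this with h | h <;> rw [h] at hj <;> norm_num at hj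
    rcases this with h | h <;> nlinarith
  have hs : ∑ i, (x i ^ 2 - 1) = 8 := by
    rw [Finset.sum_sub_distrib, sum_const24]; unfold sqNorm at hn; rw [hn]; norm_num
  rw [← Finset.add_sum_erase _ _ (mem_univ j)] at hs
  have h2 : 0 ≤ ∑ i ∈ univ.erase j, (x i ^ 2 - 1) :=
    Finset.sum_nonneg fun i _ => sub_nonneg.2 (h1 i)
  have h3 : ∑ i ∈ univ.erase j, (x i ^ 2 - 1) = 0 := by
    generalize ∑ i ∈ univ.erase j, (x i ^ 2 - 1) = S at *
    omega
  refine ⟨j, by rw [h3] at hs; omega, fun i hi => ?_⟩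
  have := (Finset.sum_eq_zero_iff_of_nonneg fun i _ => sub_nonneg.2 (h1 i)).1 h3 i
    (mem_erase.2 ⟨hi, mem_univ i⟩)
  omega

theorem even_shape {x : V} {c : Finset GolayPt} (hx : ∀ i, (4 : ℤ) ∣ x i - res 0 c i) :
    4 * (c.card : ℤ) ≤ sqNorm x ∧
      (sqNorm x = 4 * c.card → ∀ i, x i ^ 2 = if i ∈ c then 4 else 0) := by
  have h1 : ∀ i, (if i ∈ c then 4 else 0) ≤ x i ^ 2 := by
    intro i
    have := hx i
    unfold res at this
    split_ifs at this ⊢
    · exact four_le_sq (by omega)
    · exact sq_nonneg _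
  have h2 : ∑ i, (if i ∈ c then (4 : ℤ) else 0) = 4 * c.card := by rw [sum_ite_mem_const]
  refine ⟨h2 ▸ Finset.sum_le_sum fun i _ => h1 i, fun h i => ?_⟩
  rw [← h2] at h
  exact ((Finset.sum_eq_sum_iff_of_le fun i _ => h1 i).1 h.symm i (mem_univ i)).symm

/-- a lattice in coordinates with respect to a frame. -/
structure PreL (M : AddSubgroup V) : Prop where
  n16 : ∀ x ∈ M, (16 : ℤ) ∣ sqNorm x
  no16 : ∀ x ∈ M, sqNorm x ≠ 16
  four : ∀ x : V, (∀ i, (4 : ℤ) ∣ x i) → (8 : ℤ) ∣ ∑ i, x i → x ∈ M

/-- the code attached to a lattice. -/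
def codeOf (M : AddSubgroup V) : Set (Finset GolayPt) :=
  {c | ∃ x ∈ M, ∀ i, (4 : ℤ) ∣ x i - res 0 c i}

theorem sum_single' (j : GolayPt) (a : ℤ) : ∑ i, (Pi.single j a : V) i = a := by simp

namespace PreL

variable {M : AddSubgroup V} (h : PreL M)
include h

theorem dot8 {x y : V} (hx : x ∈ M) (hy : y ∈ M) : (8 : ℤ) ∣ dotInt x y := by
  have h1 := h.n16 _ (add_mem hx hy)
  have h2 := h.n16 _ hx
  have h3 := h.n16 _ hy
  rw [sqNorm_add] at h1
  omega

theorem parity {x : V} (hx : x ∈ M) (i j : GolayPt) : x i % 2 = x j % 2 := by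
  have := h.dot8 hx (h.four (Pi.single i 4 + Pi.single j 4)
    (fun k => by simp only [Pi.add_apply, Pi.single_apply]; split_ifs <;> omega)
    (by simp only [Pi.add_apply, Finset.sum_add_distrib, sum_single']; norm_num))
  rw [dot_add_right, dot_single_right, dot_single_right] at this
  omega

theorem sum8 {x : V} (hx : x ∈ M) (h4 : ∀ i, (4 : ℤ) ∣ x i) : (8 : ℤ) ∣ ∑ i, x i := by
  by_contra hne
  have h1 : (4 : ℤ) ∣ ∑ i, x i := Finset.dvd_sum fun i _ => h4 i
  have := h.four (x - Pi.single none 4)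
    (fun k => by have := h4 k; simp only [Pi.sub_apply, Pi.single_apply]; split_ifs <;> omega)
    (by
      simp only [Pi.sub_apply, Finset.sum_sub_distrib, sum_single']
      generalize ∑ i, x i = S at *
      omega)
  have := h.no16 _ (sub_mem hx this)
  rw [sub_sub_cancel, sqNorm_single] at this
  norm_num at this

theorem good : GoodCode (codeOf M) := by
  refine ⟨⟨0, zero_mem _, by simp [res]⟩, ?_, ?_⟩
  · rintro s ⟨x, hx, h1⟩ t ⟨y, hy, h2⟩
    refine ⟨x + y, add_mem hx hy, fun i => ?_⟩
    have a := h1 i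
    have b := h2 i
    simp only [res, Finset.mem_symmDiff, Pi.add_apply] at a b ⊢
    by_cases e : i ∈ s <;> by_cases e' : i ∈ t <;> simp only [e, e', if_true, if_false] at a b <;>
      simp [e, e'] <;> omega
  · rintro c ⟨x, hx, h1⟩
    rcases c.eq_empty_or_nonempty with rfl | ⟨j, hj⟩
    · simp
    have h4 : ∀ i, (4 : ℤ) ∣ (x - two c) i := by
      intro i
      have := h1 i
      simp only [res, two, Pi.sub_apply] at this ⊢
      split_ifs at this ⊢ <;> omega
    have : ∃ y ∈ M, sqNorm y = 4 * c.card := by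
      by_cases h8 : (8 : ℤ) ∣ ∑ i, (x - two c) i
      · have := sub_mem hx (h.four _ h4 h8)
        rw [sub_sub_cancel] at this
        exact ⟨_, this, sqNorm_two c⟩
      · have h5 : (4 : ℤ) ∣ ∑ i, (x - two c) i := Finset.dvd_sum fun i _ => h4 i
        have := sub_mem hx (h.four (x - two c + Pi.single j 4)
          (fun k => by have := h4 k; simp only [Pi.add_apply, Pi.single_apply]; split_ifs <;> omega)
          (by
            simp only [Pi.add_apply, Finset.sum_add_distrib, sum_single']
            generalize ∑ i, (x - two c) i = S at *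
            omega))
        refine ⟨_, this, ?_⟩
        rw [show x - (x - two c + Pi.single j 4) = two c - Pi.single j 4 by abel, sqNorm_sub,
          sqNorm_two, sqNorm_single, dot_single_right, two, if_pos hj]
        ring
    obtain ⟨y, hy, e⟩ := this
    have a := h.n16 y hy
    have b := h.no16 y hy
    omega

theorem supp_mem {x : V} (hx : x ∈ M) (he : x none % 2 = 0) :
    ∀ i, (4 : ℤ) ∣ x i - res 0 (univ.filter fun i => x i % 4 = 2) i := by
  intro i
  have := h.parity hx i none
  simp only [res, mem_filter, mem_univ, true_and]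
  split_ifs <;> omega

theorem card_odd (S : Finset V) (hS : ∀ x ∈ S, x ∈ M ∧ sqNorm x = 32 ∧ x none % 2 = 1) :
    S.card ≤ 24 * (codeOf M).ncard := by
  classical
  rcases S.eq_empty_or_nonempty with rfl | ⟨x0, h0⟩
  · simp
  have hsh : ∀ x ∈ S, ∃ j, x j ^ 2 = 9 ∧ ∀ i, i ≠ j → x i ^ 2 = 1 := fun x hx =>
    odd_shape (hS x hx).2.1 fun i => (h.parity (hS x hx).1 i none).trans (hS x hx).2.2
  choose! j hj using hsh
  have hev : ∀ x ∈ S, (x - x0) none % 2 = 0 := by
    intro x hx
    have := (hS x hx).2.2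
    have := (hS x0 h0).2.2
    simp only [Pi.sub_apply]
    omega
  rw [Set.ncard_eq_toFinset_card _ (codeOf M).toFinite, ← card_golayPt, ← card_univ,
    ← card_product]
  apply Finset.card_le_card_of_injOn fun x => (j x, univ.filter fun i => (x - x0) i % 4 = 2)
  · intro x hx
    simp only [coe_product, Set.mem_prod, mem_coe, mem_univ, true_and, Set.Finite.mem_toFinset]
    exact ⟨_, sub_mem (hS x hx).1 (hS x0 h0).1,
      h.supp_mem (sub_mem (hS x hx).1 (hS x0 h0).1) (hev x hx)⟩
  · intro x hx y hy e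
    obtain ⟨e1, e2⟩ := Prod.mk.inj e
    funext i
    have a := h.supp_mem (sub_mem (hS x hx).1 (hS x0 h0).1) (hev x hx) i
    have b := h.supp_mem (sub_mem (hS y hy).1 (hS x0 h0).1) (hev y hy) i
    rw [e2] at a
    simp only [Pi.sub_apply] at a b
    have c : x i ^ 2 = y i ^ 2 := by
      by_cases hi : i = j x
      · rw [hi, (hj x hx).1, e1, (hj y hy).1]
      · rw [(hj x hx).2 i hi, (hj y hy).2 i (e1 ▸ hi)]
    have d := (h.parity (hS x hx).1 i none).trans (hS x hx).2.2
    rcases sq_eq_sq_iff_eq_or_eq_neg.1 c with c | c <;> omega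

theorem card_oct (S : Finset V)
    (hS : ∀ x ∈ S, x ∈ M ∧ sqNorm x = 32 ∧ x none % 2 = 0 ∧ ¬ ∀ i, (4 : ℤ) ∣ x i) :
    S.card ≤ 128 * 759 := by
  classical
  let s : V → Finset GolayPt := fun x => univ.filter fun i => x i % 4 = 2
  have h8 : ∀ x ∈ S, s x ∈ codeOf M ∧ (s x).card = 8 := by
    intro x hx
    obtain ⟨a, b, c, d⟩ := hS x hx
    have e := h.supp_mem a c
    have f : s x ∈ codeOf M := ⟨x, a, e⟩
    have g1 := (even_shape e).1
    have g2 := h.good.wt _ f
    have g3 : (s x).card ≠ 0 := by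
      intro h0
      apply d
      intro i
      have := e i
      change _ ∣ _ - res 0 (s x) i at this
      rw [card_eq_zero.1 h0] at this
      simpa [res] using this
    change 4 * ((s x).card : ℤ) ≤ _ at g1
    exact ⟨f, by omega⟩
  have hsq : ∀ x ∈ S, ∀ i, x i ^ 2 = if i ∈ s x then 4 else 0 := by
    intro x hx
    obtain ⟨a, b, c, d⟩ := hS x hx
    exact (even_shape (h.supp_mem a c)).2 (by
      change _ = 4 * ((s x).card : ℤ)
      rw [b, (h8 x hx).2]; norm_num)
  refine (Finset.card_le_mul_card_image (f := s) S 128 ?_).trans (Nat.mul_le_mul_left _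
    (goodCode_octads_le h.good _ fun c hc => ?_))
  · intro c hc
    obtain ⟨x0, h0, rfl⟩ := mem_image.1 hc
    obtain ⟨j, hj⟩ := card_pos.1 (show 0 < (s x0).card by rw [(h8 x0 h0).2]; norm_num)
    have : (powerset ((s x0).erase j)).card = 128 := by
      rw [card_powerset, card_erase_of_mem hj, (h8 x0 h0).2]; norm_num
    rw [← this]
    apply Finset.card_le_card_of_injOn fun x => ((s x0).erase j).filter fun i => x i < 0
    · intro x _
      exact mem_coe.2 (mem_powerset.2 (filter_subset _ _))
    · intro x hx y hy e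
      simp only [coe_filter, Set.mem_ofPred_eq] at hx hy
      have hv : ∀ z ∈ S, s z = s x0 → ∀ i, (i ∈ s x0 → z i = 2 ∨ z i = -2) ∧ (i ∉ s x0 → z i = 0) := by
        intro z hz e i
        have := hsq z hz i
        rw [e] at this
        constructor
        · intro hi
          rw [if_pos hi] at this
          exact sq_eq_sq_iff_eq_or_eq_neg.1 (this.trans (by norm_num))
        · intro hi
          rw [if_neg hi] at this
          exact pow_eq_zero_iff (two_ne_zero) |>.1 this
      have h1 : ∀ i, i ≠ j → x i = y i := by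
        intro i hi
        obtain ⟨a1, a2⟩ := hv x hx.1 hx.2 i
        obtain ⟨b1, b2⟩ := hv y hy.1 hy.2 i
        by_cases hi' : i ∈ s x0
        · have := Finset.ext_iff.1 e i
          simp only [mem_filter, mem_erase, ne_eq, hi, not_false_eq_true, hi', and_self,
            true_and] at this
          have := a1 hi'
          have := b1 hi'
          omega
        · rw [a2 hi', b2 hi']
      have a := (hv x hx.1 hx.2 j).1 hj
      have b := (hv y hy.1 hy.2 j).1 hj
      have h2 : x - y = Pi.single j (x j - y j) := by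
        funext i
        by_cases hi : i = j
        · simp [hi]
        · simp [hi, h1 i hi]
      have h3 := h.sum8 (sub_mem (hS x hx.1).1 (hS y hy.1).1) fun i => by
        rw [h2, Pi.single_apply]; split_ifs <;> omega
      rw [h2, sum_single'] at h3
      funext i
      by_cases hi : i = j
      · rw [hi]; omega
      · exact h1 i hi
  · obtain ⟨x, hx, rfl⟩ := mem_image.1 hc
    exact h8 x hx

theorem card_four (S : Finset V) (hS : ∀ x ∈ S, x ∈ M ∧ sqNorm x = 32 ∧ ∀ i, (4 : ℤ) ∣ x i) :
    S.card ≤ 1104 := by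
  rw [← ncard_shp0, ncard_L fun x => sqNorm x = 32 ∧ shp x = 0, ← Set.ncard_coe_finset]
  refine Set.ncard_le_ncard (fun x hx => ?_) ((finite_norm 32).subset fun x hx => hx.2.1)
  obtain ⟨a, b, c⟩ := hS x hx
  exact ⟨mem_L_of_four c (h.sum8 a c), b, shp_eq_zero.2 fun i => Int.emod_eq_zero_of_dvd (c i)⟩

theorem count (hc : {x | x ∈ M ∧ sqNorm x = 32}.ncard = 196560) :
    (codeOf M).ncard = 4096 ∧ ∃ x ∈ M, sqNorm x = 32 ∧ x none % 2 = 1 := by
  classical
  have hf : {x | x ∈ M ∧ sqNorm x = 32}.Finite := (finite_norm 32).subset fun x hx => hx.2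
  rw [Set.ncard_eq_toFinset_card _ hf] at hc
  have e1 := Finset.card_filter_add_card_filter_not (s := hf.toFinset) fun x => x none % 2 = 1
  have e2 := Finset.card_filter_add_card_filter_not
    (s := hf.toFinset.filter fun x => ¬ x none % 2 = 1) fun x => ∀ i, (4 : ℤ) ∣ x i
  have a1 := h.card_odd (hf.toFinset.filter fun x => x none % 2 = 1) fun x hx => by
    simp only [mem_filter, Set.Finite.mem_toFinset, Set.mem_ofPred_eq] at hx
    exact ⟨hx.1.1, hx.1.2, hx.2⟩
  have a2 := h.card_four ((hf.toFinset.filter fun x => ¬ x none % 2 = 1).filter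
      fun x => ∀ i, (4 : ℤ) ∣ x i) fun x hx => by
    simp only [mem_filter, Set.Finite.mem_toFinset, Set.mem_ofPred_eq] at hx
    exact ⟨hx.1.1.1, hx.1.1.2, hx.2⟩
  have a3 := h.card_oct ((hf.toFinset.filter fun x => ¬ x none % 2 = 1).filter
      fun x => ¬ ∀ i, (4 : ℤ) ∣ x i) fun x hx => by
    simp only [mem_filter, Set.Finite.mem_toFinset, Set.mem_ofPred_eq] at hx
    exact ⟨hx.1.1.1, hx.1.1.2, by omega, hx.2⟩
  have a4 := goodCode_ncard_le h.good
  have a5 : 0 < (hf.toFinset.filter fun x => x none % 2 = 1).card := by omega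
  obtain ⟨x, hx⟩ := card_pos.1 a5
  simp only [mem_filter, Set.Finite.mem_toFinset, Set.mem_ofPred_eq] at hx
  exact ⟨by omega, x, hx.1.1, hx.1.2, hx.2⟩

theorem eq_L (hc : ∀ c, c ∈ GC ↔ c ∈ codeOf M) {j : GolayPt} (hj : odd3 j ∈ M) :
    M = leechLattice := by
  have hev : ∀ x ∈ M, ∀ c, (∀ i, (4 : ℤ) ∣ x i - res 0 c i) → LD x 0 c := by
    intro x hx c h1
    refine ⟨(hc c).2 ⟨x, hx, h1⟩, h1, ?_⟩
    have h2 := h.dot8 hx hj
    have : odd3 j = (fun _ => 1) - Pi.single j 4 := by
      funext i; simp only [odd3, Pi.sub_apply, Pi.single_apply]; split_ifs <;> rfl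
    rw [this, dot_sub_right, dot_single_right] at h2
    simp only [dotInt, mul_one] at h2
    have h3 := h1 j
    unfold res at h3
    generalize ∑ i, x i = S at *
    split_ifs at h3 <;> omega
  have hD : ∀ x, LD x 0 ∅ → x ∈ M := fun x hx =>
    h.four x (fun i => by simpa [res] using hx.2.1 i) (by simpa using hx.2.2)
  apply le_antisymm
  · intro x hx
    rcases Int.emod_two_eq_zero_or_one (x none) with h0 | h0
    · exact (hev x hx _ (h.supp_mem hx h0)).mem
    · have h1 := sub_mem hx hj
      have := (hev _ h1 _ (h.supp_mem h1 (by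
        simp only [Pi.sub_apply, odd3]; split_ifs <;> omega))).mem
      simpa using add_mem this (odd3_LD j).mem
  · apply L_le_of_gens
    · have e := (odd3_LD none).add (odd3_LD j).neg
      have e2 := add_mem (hD _ (by simpa using e)) hj
      have e3 : odd3 none + -odd3 j + odd3 j = odd3 none := by abel
      exact e3 ▸ e2
    · intro b hb
      obtain ⟨x, hx, h1⟩ := (hc _).1 (basL_mem b hb)
      have e := (hev x hx _ h1).add (two_LD (basL_mem b hb)).neg
      rw [symmDiff_self] at e
      have e2 := sub_mem hx (hD _ (by simpa using e))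
      have e3 : ∀ y : V, x - (x + -y) = y := fun y => by abel
      rwa [e3] at e2
    · intro i
      exact h.four _ (fun k => by simp only [Pi.add_apply, Pi.single_apply]; split_ifs <;> omega)
        (by simp only [Pi.add_apply, Finset.sum_add_distrib, sum_single']; norm_num)

end PreL

/-- a signed permutation as an additive map. -/
def spHom (σ : Equiv.Perm GolayPt) (d : Finset GolayPt) : V →+ V :=
  AddMonoidHom.mk' (signedPerm σ d) fun x y => funext fun i => by
    simp only [signedPerm, Pi.add_apply]; split_ifs <;> ring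

theorem spHom_apply (σ : Equiv.Perm GolayPt) (d : Finset GolayPt) (x : V) (i : GolayPt) :
    spHom σ d x (σ i) = if σ i ∈ d then -x i else x i := by
  simp [spHom, signedPerm]

theorem spHom_inj (σ : Equiv.Perm GolayPt) (d : Finset GolayPt) :
    Function.Injective (spHom σ d) := by
  intro x y e
  funext i
  have := congrFun e (σ i)
  rw [spHom_apply, spHom_apply] at this
  split_ifs at this <;> omega

theorem spHom_surj (σ : Equiv.Perm GolayPt) (d : Finset GolayPt) :
    Function.Surjective (spHom σ d) := by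
  intro y
  refine ⟨fun i => if σ i ∈ d then -y (σ i) else y (σ i), funext fun i => ?_⟩
  obtain ⟨k, rfl⟩ := σ.surjective i
  rw [spHom_apply]
  split_ifs <;> simp

theorem PreL.comap {M : AddSubgroup V} (h : PreL M) (σ : Equiv.Perm GolayPt) (d : Finset GolayPt) :
    PreL (M.comap (spHom σ d)) := by
  refine ⟨fun x hx => sqNorm_signedPerm σ d x ▸ h.n16 _ hx,
    fun x hx => sqNorm_signedPerm σ d x ▸ h.no16 _ hx, fun x h4 h8 => h.four _ (fun i => ?_) ?_⟩
  · obtain ⟨k, rfl⟩ := σ.surjective i
    have := h4 k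
    rw [spHom_apply]
    split_ifs <;> omega
  · rw [← Equiv.sum_comp σ]
    have : (8 : ℤ) ∣ ∑ i, (spHom σ d x (σ i) - x i) := Finset.dvd_sum fun i _ => by
      have := h4 i
      rw [spHom_apply]
      split_ifs <;> omega
    rw [Finset.sum_sub_distrib] at this
    exact (dvd_sub_left h8).1 this

theorem PreL.exists_sp {M : AddSubgroup V} (h : PreL M)
    (hc : {x | x ∈ M ∧ sqNorm x = 32}.ncard = 196560) :
    ∃ σ d, M.comap (spHom σ d) = leechLattice := by
  obtain ⟨h1, x, hx, hn, ho⟩ := h.count hc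
  obtain ⟨σ, hσ⟩ := golay_unique_sets h.good h1
  have hodd : ∀ i, x i % 2 = 1 := fun i => (h.parity hx i none).trans ho
  obtain ⟨j, hj, hj'⟩ := odd_shape hn hodd
  refine ⟨σ, univ.filter fun i => x i % 4 = 3, (h.comap σ _).eq_L (j := σ.symm j) (fun c => ?_) ?_⟩
  · rw [hσ]
    have e : ∀ y : V, (∀ i, (4 : ℤ) ∣ spHom σ (univ.filter fun i => x i % 4 = 3) y i -
        res 0 (σ • c) i) ↔ ∀ i, (4 : ℤ) ∣ y i - res 0 c i := by
      intro y
      rw [← σ.forall_congr_right]
      refine forall_congr' fun i => ?_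
      have : σ i ∈ σ • c ↔ i ∈ c := Finset.smul_mem_smul_finset_iff σ
      rw [spHom_apply]
      simp only [res, this]
      split_ifs <;> omega
    constructor
    · rintro ⟨y, hy, h2⟩
      obtain ⟨y, rfl⟩ := spHom_surj σ (univ.filter fun i => x i % 4 = 3) y
      exact ⟨y, hy, (e y).1 h2⟩
    · rintro ⟨y, hy, h2⟩
      exact ⟨_, hy, (e y).2 h2⟩
  · rw [AddSubgroup.mem_comap]
    convert hx using 1
    funext i
    obtain ⟨k, rfl⟩ := σ.surjective i
    rw [spHom_apply]
    simp only [mem_filter, mem_univ, true_and, odd3, Equiv.eq_symm_apply]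
    by_cases e : σ k = j
    · rw [← e] at hj
      have := sq_eq_sq_iff_eq_or_eq_neg.1 (hj.trans (show (9 : ℤ) = 3 ^ 2 by norm_num))
      simp only [e, if_true] at this ⊢
      split_ifs <;> omega
    · have := sq_eq_sq_iff_eq_or_eq_neg.1 ((hj' _ e).trans (show (1 : ℤ) = 1 ^ 2 by norm_num))
      simp only [e, if_false]
      split_ifs <;> omega

theorem four_of_pairs (K : AddSubgroup V)
    (h3 : ∀ i, (Pi.single i 4 + Pi.single none 4 : V) ∈ K) (x : V) (h4 : ∀ i, (4 : ℤ) ∣ x i)
    (h8 : (8 : ℤ) ∣ ∑ i, x i) : x ∈ K := by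
  have h8' : (Pi.single none 8 : V) ∈ K := by
    have := h3 none
    rwa [← Pi.single_add] at this
  choose z hz using h4
  obtain ⟨t, ht⟩ := h8
  have hs : ∑ i, z i = 2 * t := by
    have : ∑ i, x i = 4 * ∑ i, z i := by
      rw [Finset.mul_sum]; exact Finset.sum_congr rfl fun i _ => hz i
    omega
  have : x = ∑ i, z i • (Pi.single i 4 + Pi.single none 4 : V) - t • (Pi.single none 8 : V) := by
    ext k
    simp only [Pi.sub_apply, Finset.sum_apply, Pi.smul_apply, Pi.add_apply, smul_eq_mul, mul_add,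
      Finset.sum_add_distrib]
    rw [← Finset.sum_mul, hs]
    simp only [Pi.single_apply, mul_ite, mul_zero]
    rw [Finset.sum_ite_eq]
    simp only [mem_univ, if_true, hz k]
    split_ifs <;> ring
  rw [this]
  exact sub_mem (sum_mem fun i _ => zsmul_mem (h3 i) _) (zsmul_mem h8' _)

namespace EL

variable {Λ : Type*} [AddCommGroup Λ] (E : EL Λ) [Module.Free ℤ Λ] [Module.Finite ℤ Λ]

theorem exists_frame (hr : Module.finrank ℤ Λ = 24)
    (h4 : {x | E.β x x = 4}.ncard = 196560) (h6 : {x | E.β x x = 6}.ncard = 16773120)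
    (h8 : {x | E.β x x = 8}.ncard = 398034000) :
    ∃ f : GolayPt → Λ, (∀ i j, E.β (f i) (f j) = if i = j then 8 else 0) ∧
      ∀ i j, ∃ z, f i - f j = 2 • z := by
  classical
  obtain ⟨x0, hx0⟩ := Set.nonempty_of_ncard_ne_zero (h8.trans_ne (by norm_num))
  have h48 := (E.main hr h4 h6 h8).1 x0 hx0
  have hf := Set.finite_of_ncard_ne_zero (h48.trans_ne (by norm_num))
  rw [Set.ncard_eq_toFinset_card _ hf] at h48
  set F := hf.toFinset with hF
  have hm : ∀ y, y ∈ F ↔ E.β y y = 8 ∧ ∃ z, x0 - y = 2 • z := fun y => hf.mem_toFinset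
  have hcong : ∀ x ∈ F, ∀ y ∈ F, ∃ z, x - y = 2 • z := by
    intro x hx y hy
    obtain ⟨-, z, hz⟩ := (hm x).1 hx
    obtain ⟨-, w, hw⟩ := (hm y).1 hy
    exact ⟨w - z, by rw [smul_sub, ← hz, ← hw]; abel⟩
  have h0 : ∀ x ∈ F, x ≠ 0 := by
    rintro x hx rfl
    simpa using ((hm 0).1 hx).1
  have hneg : ∀ x ∈ F, -x ∈ F := by
    intro x hx
    obtain ⟨a, z, hz⟩ := (hm x).1 hx
    exact (hm _).2 ⟨by rwa [E.norm_neg], z + x, by rw [smul_add, ← hz, two_nsmul]; abel⟩
  let : LinearOrder Λ := linearOrderOfSTO WellOrderingRel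
  set P := F.filter fun x => x < -x with hP
  have horth : ∀ x ∈ P, ∀ y ∈ P, x ≠ y → E.β x y = 0 := by
    intro x hx y hy hxy
    rw [mem_filter] at hx hy
    obtain ⟨z, hz⟩ := hcong x hx.1 y hy.1
    refine (E.short ((hm x).1 hx.1).1.le ((hm y).1 hy.1).1.le hz hxy.symm ?_).2.2
    rintro rfl
    rw [neg_neg] at hy
    exact lt_asymm hx.2 hy.2
  have h1 := E.card_orth_le P (fun x hx => h0 x (mem_filter.1 hx).1) horth
  have h2 : F ⊆ P ∪ P.image fun x => -x := by
    intro x hx
    rw [mem_union, mem_image]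
    rcases lt_trichotomy x (-x) with h' | h' | h'
    · exact Or.inl (mem_filter.2 ⟨hx, h'⟩)
    · exact absurd h' (E.ne_neg (h0 x hx))
    · exact Or.inr ⟨-x, mem_filter.2 ⟨hneg x hx, by rwa [neg_neg]⟩, neg_neg x⟩
  have h3 := (card_le_card h2).trans (card_union_le _ _)
  have h5 : (P.image fun x => -x).card ≤ P.card := card_image_le
  have h24 : Fintype.card GolayPt = Fintype.card P := by
    rw [card_golayPt, Fintype.card_coe]; omega
  let e := Fintype.equivOfCardEq h24
  refine ⟨fun i => e i, fun i j => ?_,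
    fun i j => hcong _ (mem_filter.1 (e i).2).1 _ (mem_filter.1 (e j).2).1⟩
  split_ifs with hij
  · subst hij
    exact ((hm _).1 (mem_filter.1 (e i).2).1).1
  · exact horth _ (e i).2 _ (e j).2 fun h => hij (e.injective (Subtype.ext h))

omit [Module.Free ℤ Λ] in
theorem parseval (hr : Module.finrank ℤ Λ = 24) {f : GolayPt → Λ}
    (hf : ∀ i j, E.β (f i) (f j) = if i = j then 8 else 0) (x : Λ) :
    sqNorm (fun i => E.β (f i) x) = 8 * E.β x x := by
  classical
  have hy : (8 : ℤ) • x - ∑ i, E.β (f i) x • f i = 0 := by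
    by_contra hne
    have ho : ∀ j, E.β (f j) ((8 : ℤ) • x - ∑ i, E.β (f i) x • f i) = 0 := by
      intro j
      simp only [map_sub, map_sum, map_zsmul, hf, smul_eq_mul, mul_ite, mul_zero]
      rw [Finset.sum_ite_eq]
      simp only [mem_univ, if_true]
      ring
    generalize (8 : ℤ) • x - ∑ i, E.β (f i) x • f i = y at hne ho
    have hinj : Function.Injective f := by
      intro i j e
      by_contra hij
      have := hf i j
      rw [if_neg hij, e, hf, if_pos rfl] at this
      norm_num at this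
    have hnm : y ∉ univ.image f := by
      intro h
      obtain ⟨j, -, rfl⟩ := mem_image.1 h
      have := ho j
      rw [hf, if_pos rfl] at this
      norm_num at this
    have := E.card_orth_le (insert y (univ.image f)) (by
      intro z hz
      rcases mem_insert.1 hz with rfl | hz
      · exact hne
      · obtain ⟨j, -, rfl⟩ := mem_image.1 hz
        intro h
        have := hf j j
        rw [h, if_pos rfl] at this
        simp at this) (by
      intro z hz w hw hzw
      rcases mem_insert.1 hz with hz | hz <;> rcases mem_insert.1 hw with hw | hw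
      · exact absurd (hz.trans hw.symm) hzw
      · obtain ⟨j, -, hj⟩ := mem_image.1 hw
        rw [hz, ← hj, E.symm, ho]
      · obtain ⟨j, -, hj⟩ := mem_image.1 hz
        rw [hw, ← hj, ho]
      · obtain ⟨j, -, hj⟩ := mem_image.1 hz
        obtain ⟨k, -, hk⟩ := mem_image.1 hw
        rw [← hj, ← hk] at hzw ⊢
        rw [hf, if_neg fun h => hzw (congrArg f h)])
    rw [card_insert_of_notMem hnm, card_image_of_injective _ hinj, card_univ, card_golayPt,
      hr] at this
    omega
  have := congrArg (fun v => E.β v x) (sub_eq_zero.1 hy)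
  simp only [map_zsmul, map_sum, AddMonoidHom.smul_apply, AddMonoidHom.finsetSum_apply,
    smul_eq_mul] at this
  rw [this, sqNorm]
  exact Finset.sum_congr rfl fun i _ => pow_two _

theorem leech_unique (hr : Module.finrank ℤ Λ = 24)
    (h4 : {x | E.β x x = 4}.ncard = 196560) (h6 : {x | E.β x x = 6}.ncard = 16773120)
    (h8 : {x | E.β x x = 8}.ncard = 398034000) :
    ∃ g : Λ ≃+ L, ∀ x, sqNorm (g x : V) = 8 * E.β x x := by
  obtain ⟨f, hf, hz⟩ := E.exists_frame hr h4 h6 h8
  let φ : Λ →+ V := AddMonoidHom.mk' (fun x i => E.β (f i) x) fun x y => funext fun i => map_add _ x y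
  have hφ : ∀ x, sqNorm (φ x) = 8 * E.β x x := E.parseval hr hf
  have hinj : Function.Injective φ := by
    rw [injective_iff_map_eq_zero]
    intro x hx
    by_contra h0
    have h1 := E.pos x h0
    have h2 := hφ x
    rw [hx] at h2
    simp only [sqNorm, Pi.zero_apply, ne_eq, OfNat.ofNat_ne_zero, not_false_eq_true, zero_pow,
      sum_const_zero] at h2
    omega
  have hP : PreL φ.range := by
    refine ⟨?_, ?_, four_of_pairs _ fun i => ?_⟩
    · rintro _ ⟨x, rfl⟩
      have := E.even x
      rw [hφ]; omega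
    · rintro _ ⟨x, rfl⟩
      have := E.no2 x
      rw [hφ]; omega
    · obtain ⟨z, e⟩ := hz i none
      refine ⟨z + f none, funext fun k => ?_⟩
      have := congrArg (E.β (f k)) e
      rw [map_sub, two_nsmul, map_add, hf, hf] at this
      change E.β (f k) (z + f none) = _
      rw [map_add, hf]
      simp only [Pi.add_apply, Pi.single_apply]
      split_ifs at this ⊢ <;> omega
  obtain ⟨σ, d, e⟩ := hP.exists_sp (by
    rw [← h4, ← Set.ncard_image_of_injective _ hinj]
    apply congrArg Set.ncard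
    ext y
    constructor
    · rintro ⟨⟨x, rfl⟩, h⟩
      exact ⟨x, by rw [hφ] at h; change _ = (4 : ℤ); omega, rfl⟩
    · rintro ⟨x, h, rfl⟩
      exact ⟨⟨x, rfl⟩, by rw [hφ, show E.β x x = 4 from h]; norm_num⟩)
  let ψ : L →+ V := (spHom σ d).comp leechLattice.subtype
  have hψ : Function.Injective ψ := (spHom_inj σ d).comp Subtype.val_injective
  have hr : φ.range = ψ.range := by
    ext y
    obtain ⟨y, rfl⟩ := spHom_surj σ d y
    rw [← AddSubgroup.mem_comap, e]
    exact ⟨fun h => ⟨⟨y, h⟩, rfl⟩, fun ⟨z, hz⟩ => spHom_inj σ d hz ▸ z.2⟩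
  refine ⟨((AddMonoidHom.ofInjective hinj).trans (AddEquiv.addSubgroupCongr hr)).trans
    (AddMonoidHom.ofInjective hψ).symm, fun x => ?_⟩
  rw [← hφ, ← sqNorm_signedPerm σ d]
  apply congrArg
  exact congrArg Subtype.val ((AddMonoidHom.ofInjective hψ).apply_symm_apply _)

end EL

end H10
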